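import Groth.Agent.H47.EtaleNormal

/-!
# Smooth algebras over normal rings are normal
-/

set_option autoImplicit false
universe u
open TensorProduct

namespace Groth.Agent.H47.EtaleNormal

theorem isIntegrallyClosed_mvPolynomial (R : Type u) [CommRing R] [IsDomain R]
    [IsIntegrallyClosed R] (n : ℕ) : IsIntegrallyClosed (MvPolynomial (Fin n) R) := by
  induction n with
  | zero =>
    exact IsIntegrallyClosed.of_equiv (MvPolynomial.isEmptyAlgEquiv R (Fin 0)).symm.toRingEquiv
  | succ n ih =>
    haveI := ih
    exact IsIntegrallyClosed.of_equiv (MvPolynomial.finSuccEquiv R n).symm.toRingEquiv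

/-- A localization at a prime is also a localization of any intermediate localization. -/
theorem isLocalization_atPrime_of_tower (S S' B : Type*) [CommRing S] [CommRing S'] [CommRing B]
    [Algebra S S'] [Algebra S' B] [Algebra S B] [IsScalarTower S S' B] [IsLocalRing B]
    (q : Ideal S) [q.IsPrime] [IsLocalization.AtPrime B q] (M : Submonoid S)
    (hM : M ≤ q.primeCompl) [IsLocalization M S'] (q' : Ideal S') [q'.IsPrime]
    (hq' : q' = Ideal.comap (algebraMap S' B) (IsLocalRing.maximalIdeal B)) :
    IsLocalization.AtPrime B q' := by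
  haveI h1 : IsLocalization (q.primeCompl.map (algebraMap S S')) B :=
    IsLocalization.isLocalization_of_submonoid_le S' B M q.primeCompl hM
  have hunit : ∀ s : S, s ∉ q → IsUnit (algebraMap S B s) := fun s hs =>
    IsLocalization.map_units B (⟨s, hs⟩ : q.primeCompl)
  refine IsLocalization.isLocalization_of_is_exists_mul_mem B
    (q.primeCompl.map (algebraMap S S')) q'.primeCompl ?_ ?_
  · rintro _ ⟨s, hs, rfl⟩
    show algebraMap S S' s ∉ q'
    rw [hq', Ideal.mem_comap, ← IsScalarTower.algebraMap_apply]
    intro h
    exact (IsLocalRing.mem_maximalIdeal _).mp h (hunit s hs)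
  · rintro ⟨x, hx⟩
    obtain ⟨s, m, rfl⟩ := IsLocalization.exists_mk'_eq M x
    refine ⟨algebraMap S S' m, ?_⟩
    rw [mul_comm, IsLocalization.mk'_spec]
    refine ⟨s, ?_, rfl⟩
    intro hs
    apply hx
    show IsLocalization.mk' S' s m ∈ q'
    rw [hq', Ideal.mem_comap]
    have h2 : algebraMap S' B (IsLocalization.mk' S' s m) * algebraMap S B m = algebraMap S B s := by
      rw [IsScalarTower.algebraMap_apply S S' B m, ← map_mul, IsLocalization.mk'_spec,
        ← IsScalarTower.algebraMap_apply]
    have h3 : algebraMap S B s ∈ IsLocalRing.maximalIdeal B :=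
      (IsLocalization.AtPrime.to_map_mem_maximal_iff B q s).mpr hs
    rw [← h2] at h3
    have hmu : IsUnit (algebraMap S B m) := hunit m (hM m.2)
    exact (Ideal.mul_unit_mem_iff_mem _ hmu).mp h3

/-- The localization of a smooth algebra over an integrally closed domain at a prime is an
integrally closed domain. -/
theorem isDomain_isIntegrallyClosed_atPrime_of_smooth (R S : Type u) [CommRing R] [IsDomain R]
    [IsIntegrallyClosed R] [CommRing S] [Algebra R S] [Algebra.Smooth R S] (q : Ideal S)
    [q.IsPrime] (B : Type u) [CommRing B] [Algebra S B] [IsLocalization.AtPrime B q] [Algebra R B]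
    [IsScalarTower R S B] : IsDomain B ∧ IsIntegrallyClosed B := by
  obtain ⟨f, hf, n, _, _, _⟩ :=
    Algebra.IsSmoothAt.exists_isStandardEtale_mvPolynomial (R := R) (p := q)
  haveI : IsLocalRing B := IsLocalization.AtPrime.isLocalRing B q
  have hfu : IsUnit (algebraMap S B f) := IsLocalization.map_units B (⟨f, hf⟩ : q.primeCompl)
  letI : Algebra (Localization.Away f) B := (IsLocalization.Away.lift f hfu).toAlgebra
  haveI : IsScalarTower S (Localization.Away f) B :=
    IsScalarTower.of_algebraMap_eq (fun s => (IsLocalization.Away.lift_eq f hfu s).symm)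
  have hM : Submonoid.powers f ≤ q.primeCompl := by
    rintro _ ⟨k, rfl⟩
    exact fun h => hf (Ideal.IsPrime.mem_of_pow_mem ‹q.IsPrime› k h)
  obtain ⟨q', hq'⟩ : ∃ q' : Ideal (Localization.Away f),
      q' = Ideal.comap (algebraMap (Localization.Away f) B) (IsLocalRing.maximalIdeal B) :=
    ⟨_, rfl⟩
  haveI : q'.IsPrime := by
    rw [hq']
    exact Ideal.comap_isPrime _ _
  haveI : IsLocalization.AtPrime B q' :=
    isLocalization_atPrime_of_tower S (Localization.Away f) B q (Submonoid.powers f) hM q' hq'
  letI : Algebra (MvPolynomial (Fin n) R) B :=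
    ((algebraMap (Localization.Away f) B).comp
      (algebraMap (MvPolynomial (Fin n) R) (Localization.Away f))).toAlgebra
  haveI : IsScalarTower (MvPolynomial (Fin n) R) (Localization.Away f) B :=
    IsScalarTower.of_algebraMap_eq (fun _ => rfl)
  haveI := isIntegrallyClosed_mvPolynomial R n
  exact isDomain_isIntegrallyClosed_atPrime (MvPolynomial (Fin n) R) (Localization.Away f) q' B

attribute [local instance] Algebra.TensorProduct.rightAlgebra in
/-- Normality ascends along smooth maps, at a prime. -/
theorem isDomain_isIntegrallyClosed_atPrime_of_smooth_of_under (A B : Type u) [CommRing A]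
    [CommRing B] [Algebra A B] [Algebra.Smooth A B] (P : Ideal B) [P.IsPrime] (p : Ideal A)
    [p.IsPrime] (hp : p = P.comap (algebraMap A B)) [IsDomain (Localization.AtPrime p)]
    [IsIntegrallyClosed (Localization.AtPrime p)] :
    IsDomain (Localization.AtPrime P) ∧ IsIntegrallyClosed (Localization.AtPrime P) := by
  have hf0 : ∀ a, Localization.localRingHom p P (algebraMap A B) hp
      (algebraMap A (Localization.AtPrime p) a) =
      algebraMap B (Localization.AtPrime P) (algebraMap A B a) := fun a =>
    Localization.localRingHom_to_map _ _ _ hp a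
  let f : Localization.AtPrime p →ₐ[A] Localization.AtPrime P :=
    { toRingHom := Localization.localRingHom p P (algebraMap A B) hp
      commutes' := fun a =>
        (hf0 a).trans (IsScalarTower.algebraMap_apply A B (Localization.AtPrime P) a).symm }
  let φ : Localization.AtPrime p ⊗[A] B →ₐ[A] Localization.AtPrime P :=
    Algebra.TensorProduct.lift f (IsScalarTower.toAlgHom A B (Localization.AtPrime P))
      (fun _ _ => Commute.all _ _)
  letI : Algebra (Localization.AtPrime p ⊗[A] B) (Localization.AtPrime P) :=
    φ.toRingHom.toAlgebra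
  letI : Algebra (Localization.AtPrime p) (Localization.AtPrime P) :=
    (Localization.localRingHom p P (algebraMap A B) hp).toAlgebra
  haveI : IsScalarTower (Localization.AtPrime p) (Localization.AtPrime p ⊗[A] B)
      (Localization.AtPrime P) := IsScalarTower.of_algebraMap_eq (fun a => by
    show f a = φ (a ⊗ₜ 1)
    rw [Algebra.TensorProduct.lift_tmul, map_one, mul_one])
  haveI : IsScalarTower B (Localization.AtPrime p ⊗[A] B) (Localization.AtPrime P) :=
    IsScalarTower.of_algebraMap_eq (fun b => by
      show algebraMap B (Localization.AtPrime P) b = φ (1 ⊗ₜ b)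
      rw [Algebra.TensorProduct.lift_tmul, map_one, one_mul]
      rfl)
  haveI : IsLocalization (Algebra.algebraMapSubmonoid B p.primeCompl)
      (Localization.AtPrime p ⊗[A] B) := inferInstance
  have hM : Algebra.algebraMapSubmonoid B p.primeCompl ≤ P.primeCompl := by
    rintro _ ⟨a, ha, rfl⟩
    intro h
    apply ha
    rw [hp]
    exact h
  obtain ⟨q', hq'⟩ : ∃ q' : Ideal (Localization.AtPrime p ⊗[A] B),
      q' = Ideal.comap (algebraMap (Localization.AtPrime p ⊗[A] B) (Localization.AtPrime P))
        (IsLocalRing.maximalIdeal (Localization.AtPrime P)) := ⟨_, rfl⟩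
  haveI : q'.IsPrime := by
    rw [hq']
    exact Ideal.comap_isPrime _ _
  haveI : IsLocalization.AtPrime (Localization.AtPrime P) q' :=
    isLocalization_atPrime_of_tower B (Localization.AtPrime p ⊗[A] B) (Localization.AtPrime P) P
      (Algebra.algebraMapSubmonoid B p.primeCompl) hM q' hq'
  exact isDomain_isIntegrallyClosed_atPrime_of_smooth (Localization.AtPrime p)
    (Localization.AtPrime p ⊗[A] B) q' (Localization.AtPrime P)

end Groth.Agent.H47.EtaleNormal
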