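import Groth.Agent.H47.Hens3

/-!
# Properties of the henselization: flatness, residue field, transfer to any henselization
-/

set_option autoImplicit false
universe u
open CategoryTheory CategoryTheory.Limits TensorProduct

namespace Groth.Agent.H47.Hens

open EtPt

section General

variable (R : Type u) [CommRing R] (p : Ideal R) [p.IsPrime]

theorem ιₐ_comp {X Z : EtPt R p} (u : X ⟶ Z) : (ιₐ R p Z).comp u.f = ιₐ R p X :=
  AlgHom.ext (ι_map R p u)

theorem lift_lsmul_natural {R : Type*} [CommRing R] (I : Ideal R) {M N : Type*} [AddCommGroup M]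
    [Module R M] [AddCommGroup N] [Module R N] (φ : M →ₗ[R] N) (z : I ⊗[R] M) :
    TensorProduct.lift ((LinearMap.lsmul R N).comp I.subtype) (φ.lTensor I z) =
      φ (TensorProduct.lift ((LinearMap.lsmul R M).comp I.subtype) z) := by
  induction z using TensorProduct.induction_on with
  | zero => simp
  | tmul i m => simp
  | add x y hx hy => simp only [map_add, hx, hy]

theorem exists_rep_tensor {N : Type u} [AddCommGroup N] [Module R N] (z : N ⊗[R] H R p) :
    ∃ (X : EtPt R p) (zX : N ⊗[R] X.A), (ιₐ R p X).toLinearMap.lTensor N zX = z := by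
  induction z using TensorProduct.induction_on with
  | zero => exact ⟨Classical.arbitrary _, 0, map_zero _⟩
  | tmul n h =>
    obtain ⟨X, a, rfl⟩ := exists_rep R p h
    exact ⟨X, n ⊗ₜ a, rfl⟩
  | add x y hx hy =>
    obtain ⟨X, zX, rfl⟩ := hx
    obtain ⟨Y, zY, rfl⟩ := hy
    obtain ⟨Z, u, v, -⟩ := cocone_objs X Y
    refine ⟨Z, u.f.toLinearMap.lTensor N zX + v.f.toLinearMap.lTensor N zY, ?_⟩
    rw [map_add, ← LinearMap.lTensor_comp_apply, ← LinearMap.lTensor_comp_apply,
      ← AlgHom.comp_toLinearMap, ← AlgHom.comp_toLinearMap, ιₐ_comp, ιₐ_comp]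

instance flat : Module.Flat R (H R p) := by
  rw [Module.Flat.iff_lift_lsmul_comp_subtype_injective]
  intro I hI
  rw [injective_iff_map_eq_zero]
  intro z hz
  obtain ⟨X, zX, rfl⟩ := exists_rep_tensor R p z
  rw [lift_lsmul_natural I (ιₐ R p X).toLinearMap zX] at hz
  have hz' : ι R p X (TensorProduct.lift ((LinearMap.lsmul R X.A).comp I.subtype) zX) =
      ι R p X 0 := by
    rw [map_zero]
    exact hz
  obtain ⟨Z, u, v, huv⟩ := (ι_eq_iff R p _ _).mp hz'
  rw [map_zero] at huv
  have h2 := lift_lsmul_natural I u.f.toLinearMap zX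
  have hflat : Function.Injective
      (TensorProduct.lift ((LinearMap.lsmul R Z.A).comp I.subtype)) :=
    (Module.Flat.iff_lift_lsmul_comp_subtype_injective.mp inferInstance) hI
  have h3 : u.f.toLinearMap.lTensor I zX = 0 := by
    apply hflat
    rw [h2, map_zero]
    exact huv
  rw [← ιₐ_comp R p u, AlgHom.comp_toLinearMap, LinearMap.lTensor_comp_apply, h3, map_zero]

end General

section Local

variable (R : Type u) [CommRing R] [IsLocalRing R]

theorem exists_sub_mem_maximalIdeal (x : Hloc R) :
    ∃ r : R, x - algebraMap R (Hloc R) r ∈ IsLocalRing.maximalIdeal (Hloc R) := by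
  obtain ⟨r, hr⟩ := Ideal.algebraMap_residueField_surjective (IsLocalRing.maximalIdeal R)
    (ε R (IsLocalRing.maximalIdeal R) x)
  refine ⟨r, ?_⟩
  rw [mem_maximalIdeal_iff, map_sub, ε_algebraMap, hr, sub_self]

variable (S : Type u) [CommRing S] [IsLocalRing S] [Algebra R S] [IsLocalHom (algebraMap R S)]
  [Hensel.IsHenselization R S]

/-- Any henselization is isomorphic to `Hloc R`. -/
theorem exists_algEquiv : Nonempty (Hloc R ≃ₐ[R] S) := by
  haveI : HenselianLocalRing S := Hensel.IsHenselization.henselian (R := R)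
  obtain ⟨g, hg, -⟩ := (isHenselization R).universal S (algebraMap R S) inferInstance
  obtain ⟨g', hg', -⟩ := Hensel.IsHenselization.universal (R := R) (S := S) (Hloc R)
    (algebraMap R (Hloc R)) inferInstance
  have h1 : g'.comp g = RingHom.id _ := by
    obtain ⟨k, -, hk⟩ := (isHenselization R).universal (Hloc R) (algebraMap R (Hloc R))
      inferInstance
    have e1 : g'.comp g = k := hk (g'.comp g) (by
      show (g'.comp g).comp (algebraMap R (Hloc R)) = algebraMap R (Hloc R)
      rw [RingHom.comp_assoc, hg, hg'])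
    have e2 : RingHom.id _ = k := hk (RingHom.id _) (RingHom.id_comp _)
    rw [e1, e2]
  have h2 : g.comp g' = RingHom.id _ := by
    obtain ⟨k, -, hk⟩ := Hensel.IsHenselization.universal (R := R) (S := S) S (algebraMap R S)
      inferInstance
    have e1 : g.comp g' = k := hk (g.comp g') (by
      show (g.comp g').comp (algebraMap R S) = algebraMap R S
      rw [RingHom.comp_assoc, hg', hg])
    have e2 : RingHom.id _ = k := hk (RingHom.id _) (RingHom.id_comp _)
    rw [e1, e2]
  let gₐ : Hloc R →ₐ[R] S := { g with commutes' := fun r => RingHom.congr_fun hg r }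
  let g'ₐ : S →ₐ[R] Hloc R := { g' with commutes' := fun r => RingHom.congr_fun hg' r }
  exact ⟨AlgEquiv.ofAlgHom gₐ g'ₐ (AlgHom.ext fun x => RingHom.congr_fun h2 x)
    (AlgHom.ext fun x => RingHom.congr_fun h1 x)⟩

theorem map_maximalIdeal_eq :
    Ideal.map (algebraMap R S) (IsLocalRing.maximalIdeal R) = IsLocalRing.maximalIdeal S := by
  obtain ⟨e⟩ := exists_algEquiv R S
  apply le_antisymm
  · exact ((IsLocalRing.local_hom_TFAE (algebraMap R S)).out 0 2).mp ‹IsLocalHom (algebraMap R S)›
  · intro y hy
    have hx : e.symm y ∈ IsLocalRing.maximalIdeal (Hloc R) := by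
      rw [IsLocalRing.mem_maximalIdeal, mem_nonunits_iff] at hy ⊢
      intro h
      apply hy
      have := h.map e
      rwa [AlgEquiv.apply_symm_apply] at this
    rw [maximalIdeal_eq_map] at hx
    have := Ideal.mem_map_of_mem e.toAlgHom.toRingHom hx
    rw [Ideal.map_map] at this
    have hc : e.toAlgHom.toRingHom.comp (algebraMap R (Hloc R)) = algebraMap R S :=
      RingHom.ext fun r => e.commutes r
    rw [hc] at this
    simpa using this

theorem exists_sub_mem_maximalIdeal' (y : S) :
    ∃ r : R, y - algebraMap R S r ∈ IsLocalRing.maximalIdeal S := by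
  obtain ⟨e⟩ := exists_algEquiv R S
  obtain ⟨r, hr⟩ := exists_sub_mem_maximalIdeal R (e.symm y)
  refine ⟨r, ?_⟩
  rw [IsLocalRing.mem_maximalIdeal, mem_nonunits_iff] at hr ⊢
  intro h
  apply hr
  have := h.map e.symm
  rwa [map_sub, AlgEquiv.commutes] at this

theorem residueField_map_bijective :
    Function.Bijective (IsLocalRing.ResidueField.map (algebraMap R S)) := by
  refine ⟨RingHom.injective _, fun y' => ?_⟩
  obtain ⟨y, rfl⟩ := IsLocalRing.residue_surjective y'
  obtain ⟨r, hr⟩ := exists_sub_mem_maximalIdeal' R S y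
  refine ⟨IsLocalRing.residue R r, ?_⟩
  rw [IsLocalRing.ResidueField.map_residue]
  symm
  rw [← sub_eq_zero, ← map_sub, IsLocalRing.residue_eq_zero_iff]
  exact hr

theorem faithfullyFlat : Module.FaithfullyFlat R S := by
  obtain ⟨e⟩ := exists_algEquiv R S
  haveI : Module.Flat R S := Module.Flat.of_linearEquiv e.symm.toLinearEquiv
  exact Module.FaithfullyFlat.of_flat_of_isLocalHom

theorem range_sup_pow_smul_top (n : ℕ) :
    LinearMap.range (Algebra.linearMap R S) ⊔ (IsLocalRing.maximalIdeal R ^ n) • ⊤ = ⊤ := by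
  have h1 : LinearMap.range (Algebra.linearMap R S) ⊔ (IsLocalRing.maximalIdeal R) • ⊤ = ⊤ := by
    rw [eq_top_iff]
    intro y _
    obtain ⟨r, hr⟩ := exists_sub_mem_maximalIdeal' R S y
    rw [← map_maximalIdeal_eq R S] at hr
    have hr' : y - algebraMap R S r ∈ (IsLocalRing.maximalIdeal R) • (⊤ : Submodule R S) := by
      rw [Ideal.smul_top_eq_map]
      exact hr
    have : y = algebraMap R S r + (y - algebraMap R S r) := by ring
    rw [this]
    exact Submodule.add_mem_sup ⟨r, rfl⟩ hr'
  induction n with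
  | zero => rw [pow_zero, Ideal.one_eq_top, Submodule.top_smul, sup_top_eq]
  | succ k ih =>
    rw [eq_top_iff]
    have hstep : (IsLocalRing.maximalIdeal R ^ k) • (⊤ : Submodule R S) ≤
        LinearMap.range (Algebra.linearMap R S) ⊔
          (IsLocalRing.maximalIdeal R ^ (k + 1)) • (⊤ : Submodule R S) := by
      calc (IsLocalRing.maximalIdeal R ^ k) • (⊤ : Submodule R S)
          = (IsLocalRing.maximalIdeal R ^ k) • (LinearMap.range (Algebra.linearMap R S) ⊔
              (IsLocalRing.maximalIdeal R) • (⊤ : Submodule R S)) := by rw [h1]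
        _ = (IsLocalRing.maximalIdeal R ^ k) • LinearMap.range (Algebra.linearMap R S) ⊔
              (IsLocalRing.maximalIdeal R ^ (k + 1)) • (⊤ : Submodule R S) := by
            rw [Submodule.smul_sup, ← Submodule.mul_smul, pow_succ]
        _ ≤ _ := sup_le_sup_right Submodule.smul_le_right _
    calc (⊤ : Submodule R S)
        = LinearMap.range (Algebra.linearMap R S) ⊔
            (IsLocalRing.maximalIdeal R ^ k) • (⊤ : Submodule R S) := ih.symm
      _ ≤ _ := sup_le le_sup_left hstep

theorem quotientMap_pow_bijective (n : ℕ) :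
    Function.Bijective (Ideal.quotientMap
      (Ideal.map (algebraMap R S) (IsLocalRing.maximalIdeal R ^ n)) (algebraMap R S)
      Ideal.le_comap_map) := by
  haveI := faithfullyFlat R S
  constructor
  · rw [injective_iff_map_eq_zero]
    intro x hx
    obtain ⟨r, rfl⟩ := Ideal.Quotient.mk_surjective x
    rw [Ideal.quotientMap_mk, Ideal.Quotient.eq_zero_iff_mem] at hx
    rw [Ideal.Quotient.eq_zero_iff_mem, ← Ideal.comap_map_eq_self_of_faithfullyFlat (B := S)
      (IsLocalRing.maximalIdeal R ^ n)]
    exact hx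
  · intro y
    obtain ⟨y, rfl⟩ := Ideal.Quotient.mk_surjective y
    have hy : y ∈ LinearMap.range (Algebra.linearMap R S) ⊔
        (IsLocalRing.maximalIdeal R ^ n) • ⊤ := by
      rw [range_sup_pow_smul_top]
      trivial
    obtain ⟨_, ⟨r, rfl⟩, t, ht, rfl⟩ := Submodule.mem_sup.mp hy
    refine ⟨Ideal.Quotient.mk _ r, ?_⟩
    rw [Ideal.quotientMap_mk, Ideal.Quotient.eq]
    rw [Ideal.smul_top_eq_map] at ht
    have : algebraMap R S r - (Algebra.linearMap R S r + t) = -t := by
      simp [Algebra.linearMap_apply]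
    rw [this]
    exact neg_mem ht

end Local

end Groth.Agent.H47.Hens
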