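import Groth.Agent.H47.HensK2
import Groth.Prelude.Def_Hensel

/-!
# Strict henselization of a local ring

For a local ring `R` and `K` a separable closure of its residue field, `H R K` is a strict
henselization of `R`; any strict henselization is isomorphic to it.
-/

set_option autoImplicit false
universe u
open CategoryTheory CategoryTheory.Limits TensorProduct

namespace Groth.Agent.H47.HensK

open EtPt IsLocalRing

section Local

variable (R : Type u) [CommRing R] [IsLocalRing R] (K : Type u) [Field K] [Algebra R K]
  [Algebra (ResidueField R) K] [IsScalarTower R (ResidueField R) K]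

theorem algebraMap_eq_zero_iff (r : R) : algebraMap R K r = 0 ↔ r ∈ maximalIdeal R := by
  rw [IsScalarTower.algebraMap_apply R (ResidueField R) K,
    map_eq_zero_iff _ (algebraMap (ResidueField R) K).injective]
  exact residue_eq_zero_iff r

theorem ker_algebraMap : RingHom.ker (algebraMap R K) = maximalIdeal R := by
  ext r
  rw [RingHom.mem_ker, algebraMap_eq_zero_iff]

instance isLocalHom_algebraMap : IsLocalHom (algebraMap R (H R K)) where
  map_nonunit r hr := by
    have h := (hr.map (ε R K)).ne_zero
    rw [ε_algebraMap, Ne, algebraMap_eq_zero_iff] at h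
    by_contra hr'
    exact h ((mem_maximalIdeal r).mpr hr')

theorem map_maximalIdeal_H :
    (maximalIdeal R).map (algebraMap R (H R K)) = maximalIdeal (H R K) := by
  rw [maximalIdeal_eq_map, ker_algebraMap]

theorem faithfullyFlat_H : Module.FaithfullyFlat R (H R K) :=
  Module.FaithfullyFlat.of_flat_of_isLocalHom

/-- The universal property of `H R K`. -/
theorem existsUnique_desc {T : Type u} [CommRing T] [HenselianLocalRing T] (f : R →+* T)
    [IsLocalHom f] (τ : ResidueField (H R K) →+* ResidueField T)
    (hτ : τ.comp (ResidueField.map (algebraMap R (H R K))) = ResidueField.map f) :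
    ∃! g : H R K →+* T, g.comp (algebraMap R (H R K)) = f ∧
      ∀ x : H R K, residue T (g x) = τ (residue (H R K) x) := by
  classical
  letI : Algebra R T := f.toAlgebra
  let ρ : ∀ X : EtPt R K, X.A →ₐ[R] ResidueField T := fun X =>
    { toRingHom := (τ.comp (residue (H R K))).comp (ι R K X)
      commutes' := fun r => by
        show τ (residue (H R K) (ι R K X (algebraMap R X.A r))) =
          algebraMap R (ResidueField T) r
        rw [ι_algebraMap]
        have h := RingHom.congr_fun hτ (residue R r)
        rw [RingHom.comp_apply, ResidueField.map_residue, ResidueField.map_residue] at h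
        rw [h]
        rfl }
  have hφ : ∀ X : EtPt R K, ∃ φ : X.A →ₐ[R] T, ∀ c, residue T (φ c) = ρ X c :=
    fun X => Groth.Agent.H14.exists_lift_of_etale (ρ X)
  choose φ hφ using hφ
  have huniq : ∀ (X : EtPt R K) (ψ : X.A →ₐ[R] T),
      (∀ c, residue T (ψ c) = ρ X c) → ψ = φ X := fun X ψ hψ =>
    Groth.Agent.S2782.algHom_eq_of_residue_eq ψ (φ X) (fun x => (hψ x).trans (hφ X x).symm)
  have hnat : ∀ (X Y : EtPt R K) (u : X ⟶ Y),
      ((φ Y).toRingHom).comp u.f.toRingHom = (φ X).toRingHom := by
    intro X Y u
    have := huniq X ((φ Y).comp u.f) (fun c => by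
      show residue T (φ Y (u.f c)) = τ (residue (H R K) (ι R K X c))
      rw [hφ Y]
      show τ (residue (H R K) (ι R K Y (u.f c))) = _
      rw [ι_map])
    exact congrArg AlgHom.toRingHom this
  refine ⟨desc R K (fun X => (φ X).toRingHom) hnat, ⟨?_, ?_⟩, ?_⟩
  · refine RingHom.ext fun r => ?_
    show desc R K _ hnat (algebraMap R (H R K) r) = f r
    rw [← ι_algebraMap R K (X₀ R K) r, desc_ι]
    exact (φ _).commutes r
  · intro x
    obtain ⟨X, a, rfl⟩ := exists_rep R K x
    rw [desc_ι]
    exact hφ X a
  · rintro g' ⟨hg'1, hg'2⟩
    apply hom_ext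
    intro X a
    rw [desc_ι]
    let ψ : X.A →ₐ[R] T :=
      { toRingHom := g'.comp (ι R K X)
        commutes' := fun r => by
          show g' (ι R K X (algebraMap R X.A r)) = f r
          rw [ι_algebraMap]
          exact RingHom.congr_fun hg'1 r }
    exact AlgHom.congr_fun (huniq X ψ (fun c => hg'2 (ι R K X c))) a

/-- The residue field of `H R K` maps to `K`. -/
noncomputable def εres : ResidueField (H R K) →+* K := ResidueField.lift (ε R K)

theorem εres_residue (x : H R K) : εres R K (residue (H R K) x) = ε R K x := rfl

theorem εres_algebraMap (z : ResidueField R) :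
    εres R K (algebraMap (ResidueField R) (ResidueField (H R K)) z) =
      algebraMap (ResidueField R) K z := by
  obtain ⟨r, rfl⟩ := residue_surjective z
  show εres R K (residue (H R K) (algebraMap R (H R K) r)) = _
  rw [εres_residue, ε_algebraMap, IsScalarTower.algebraMap_apply R (ResidueField R) K]
  rfl

/-- `εres` as a map of algebras over the residue field of `R`. -/
noncomputable def εresₐ : ResidueField (H R K) →ₐ[ResidueField R] K :=
  { εres R K with commutes' := εres_algebraMap R K }

theorem ε_surjective [Algebra.IsSeparable (ResidueField R) K] :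
    Function.Surjective (ε R K) := by
  intro z
  classical
  have hsep : (minpoly (ResidueField R) z).Separable :=
    Algebra.IsSeparable.isSeparable (ResidueField R) z
  have hmonic : (minpoly (ResidueField R) z).Monic :=
    minpoly.monic (Algebra.IsSeparable.isIntegral (ResidueField R) z)
  have hlift : minpoly (ResidueField R) z ∈ Polynomial.lifts (residue R) := by
    rw [Polynomial.lifts_iff_coeffs_subset_range]
    intro c _
    exact residue_surjective c
  obtain ⟨G, hG, -, hGm⟩ := Polynomial.lifts_and_natDegree_eq_and_monic hlift hmonic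
  let P : StandardEtalePair R :=
    { f := G, monic_f := hGm, g := Polynomial.derivative G, cond := ⟨1, 0, 1, by simp⟩ }
  have haeval : ∀ q : Polynomial R,
      Polynomial.aeval z q = Polynomial.aeval z (q.map (residue R)) := fun q =>
    (Polynomial.aeval_map_algebraMap (A := ResidueField R) z q).symm
  have hmap : P.HasMap z := by
    constructor
    · show Polynomial.aeval z G = 0
      rw [haeval, hG, minpoly.aeval]
    · show IsUnit (Polynomial.aeval z (Polynomial.derivative G))
      rw [haeval, ← Polynomial.derivative_map, hG]
      exact IsUnit.mk0 _ (hsep.aeval_derivative_ne_zero (minpoly.aeval (ResidueField R) z))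
  obtain ⟨X, e, he⟩ := exists_obj (K := K) P.Ring (P.lift z hmap)
  refine ⟨ι R K X (e P.X), ?_⟩
  rw [ε_ι]
  have h := AlgHom.congr_fun he P.X
  rw [P.lift_X] at h
  exact h

theorem εres_bijective [Algebra.IsSeparable (ResidueField R) K] :
    Function.Bijective (εres R K) :=
  ⟨(εres R K).injective, fun z => by
    obtain ⟨x, hx⟩ := ε_surjective R K z
    exact ⟨residue _ x, by rw [εres_residue, hx]⟩⟩

theorem isSepClosed_of_ringEquiv {k k' : Type*} [Field k] [Field k'] (e : k ≃+* k')
    [IsSepClosed k] : IsSepClosed k' := by
  refine ⟨fun q hq => ?_⟩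
  have h1 : (q.map e.symm.toRingHom).Splits := IsSepClosed.splits_of_separable _ hq.map
  have h2 := h1.map e.toRingHom
  rw [Polynomial.map_map] at h2
  have h3 : e.toRingHom.comp e.symm.toRingHom = RingHom.id k' :=
    RingHom.ext fun x => e.apply_symm_apply x
  rw [h3, Polynomial.map_id] at h2
  exact h2

theorem isSepClosure_H [IsSepClosure (ResidueField R) K] :
    IsSepClosure (ResidueField R) (ResidueField (H R K)) := by
  haveI : IsSepClosed K := IsSepClosure.sep_closed (ResidueField R)
  refine ⟨?_, Algebra.IsSeparable.of_algHom (ResidueField R) K (εresₐ R K)⟩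
  exact isSepClosed_of_ringEquiv (RingEquiv.ofBijective (εres R K) (εres_bijective R K)).symm

/-- `H R K` is a strict henselization when `K` is a separable closure. -/
theorem isStrictHenselization_H [IsSepClosure (ResidueField R) K] :
    Hensel.IsStrictHenselization R (H R K) where
  henselian := inferInstance
  isSepClosure := isSepClosure_H R K
  universal T _ _ f _ τ hτ := existsUnique_desc R K f τ hτ

end Local

section Unique

variable (R : Type u) [CommRing R] [IsLocalRing R]
  (S : Type u) [CommRing S] [IsLocalRing S] [Algebra R S] [IsLocalHom (algebraMap R S)]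
  [Hensel.IsStrictHenselization R S]
  (S' : Type u) [CommRing S'] [IsLocalRing S'] [Algebra R S'] [IsLocalHom (algebraMap R S')]
  [Hensel.IsStrictHenselization R S']

/-- Two strict henselizations are isomorphic. -/
theorem nonempty_algEquiv_of_isStrictHenselization : Nonempty (S ≃ₐ[R] S') := by
  haveI : HenselianLocalRing S := Hensel.IsStrictHenselization.henselian (R := R)
  haveI : HenselianLocalRing S' := Hensel.IsStrictHenselization.henselian (R := R)
  haveI : IsSepClosure (ResidueField R) (ResidueField S) :=
    Hensel.IsStrictHenselization.isSepClosure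
  haveI : IsSepClosure (ResidueField R) (ResidueField S') :=
    Hensel.IsStrictHenselization.isSepClosure
  let τ : ResidueField S ≃ₐ[ResidueField R] ResidueField S' :=
    IsSepClosure.equiv (ResidueField R) (ResidueField S) (ResidueField S')
  have hτ : τ.toAlgHom.toRingHom.comp (ResidueField.map (algebraMap R S)) =
      ResidueField.map (algebraMap R S') := by
    refine RingHom.ext fun z => ?_
    obtain ⟨r, rfl⟩ := residue_surjective z
    exact τ.commutes (residue R r)
  have hτ' : τ.symm.toAlgHom.toRingHom.comp (ResidueField.map (algebraMap R S')) =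
      ResidueField.map (algebraMap R S) := by
    refine RingHom.ext fun z => ?_
    obtain ⟨r, rfl⟩ := residue_surjective z
    exact τ.symm.commutes (residue R r)
  obtain ⟨g, ⟨hg1, hg2⟩, -⟩ := Hensel.IsStrictHenselization.universal (R := R) (S := S) S'
    (algebraMap R S') τ.toAlgHom.toRingHom hτ
  obtain ⟨g', ⟨hg'1, hg'2⟩, -⟩ := Hensel.IsStrictHenselization.universal (R := R) (S := S') S
    (algebraMap R S) τ.symm.toAlgHom.toRingHom hτ'
  have h1 : g'.comp g = RingHom.id S := by
    obtain ⟨k, -, hk⟩ := Hensel.IsStrictHenselization.universal (R := R) (S := S) S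
      (algebraMap R S) (RingHom.id _) (RingHom.id_comp _)
    have e1 : g'.comp g = k := hk _ ⟨by rw [RingHom.comp_assoc, hg1, hg'1], fun x => by
      show residue S (g' (g x)) = residue S x
      rw [hg'2, hg2]
      exact τ.symm_apply_apply _⟩
    have e2 : RingHom.id S = k := hk _ ⟨RingHom.id_comp _, fun x => rfl⟩
    rw [e1, e2]
  have h2 : g.comp g' = RingHom.id S' := by
    obtain ⟨k, -, hk⟩ := Hensel.IsStrictHenselization.universal (R := R) (S := S') S'
      (algebraMap R S') (RingHom.id _) (RingHom.id_comp _)
    have e1 : g.comp g' = k := hk _ ⟨by rw [RingHom.comp_assoc, hg'1, hg1], fun x => by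
      show residue S' (g (g' x)) = residue S' x
      rw [hg2, hg'2]
      exact τ.apply_symm_apply _⟩
    have e2 : RingHom.id S' = k := hk _ ⟨RingHom.id_comp _, fun x => rfl⟩
    rw [e1, e2]
  exact ⟨AlgEquiv.ofRingEquiv (f := RingEquiv.ofRingHom g g' h2 h1)
    (fun r => RingHom.congr_fun hg1 r)⟩

end Unique

section Transfer

variable (R : Type u) [CommRing R] [IsLocalRing R]

/-- The separable closure of the residue field, as a type synonym carrying the `R`-algebra
structure through the residue field. -/
def Ksep : Type u := SeparableClosure (ResidueField R)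

noncomputable instance : Field (Ksep R) := inferInstanceAs (Field (SeparableClosure _))

noncomputable instance : Algebra (ResidueField R) (Ksep R) :=
  inferInstanceAs (Algebra (ResidueField R) (SeparableClosure (ResidueField R)))

noncomputable instance : Algebra R (Ksep R) :=
  ((algebraMap (ResidueField R) (Ksep R)).comp (residue R)).toAlgebra

instance : IsScalarTower R (ResidueField R) (Ksep R) :=
  IsScalarTower.of_algebraMap_eq (fun _ => rfl)

instance : IsSepClosure (ResidueField R) (Ksep R) :=
  inferInstanceAs (IsSepClosure (ResidueField R) (SeparableClosure (ResidueField R)))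

/-- The strict henselization. -/
abbrev Hsh : Type u := H R (Ksep R)

instance isStrictHenselization_Hsh : Hensel.IsStrictHenselization R (Hsh R) :=
  isStrictHenselization_H R (Ksep R)

variable (S : Type u) [CommRing S] [IsLocalRing S] [Algebra R S] [IsLocalHom (algebraMap R S)]
  [Hensel.IsStrictHenselization R S]

theorem exists_algEquiv_Hsh : Nonempty (Hsh R ≃ₐ[R] S) :=
  nonempty_algEquiv_of_isStrictHenselization R (Hsh R) S

end Transfer

end Groth.Agent.H47.HensK
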