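import Mathlib
import Groth.Agent.H25.DirLimNoeth
import Groth.Agent.H47.Hens4
import Groth.Agent.H47.HensK3

/-!
# Noetherianity, dimension and embedding dimension of (strict) henselizations

A generic interface `IsIndEtaleLocal R S` (a flat local `R`-algebra `S` with `𝔪_R S = 𝔪_S` which is
exhausted by étale `R`-algebras) covering both the henselization and the strict henselization, and:

* `IsIndEtaleLocal.isNoetherianRing`: `R` Noetherian ⇒ `S` Noetherian;
* `IsIndEtaleLocal.ringKrullDim_eq`: `dim S = dim R` (no Noetherian hypothesis);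
* `spanFinrank_maximalIdeal_le`: for a flat local homomorphism of Noetherian local rings with
  `𝔪_R S = 𝔪_S`, the embedding dimension of `R` is at most that of `S`;
* `isRegularLocalRing_iff`.
-/

set_option autoImplicit false
universe u

open IsLocalRing TensorProduct Module

namespace Groth.Agent.H47.HensNoeth

/-- A local `R`-algebra `S` which is flat, with `𝔪_R S = 𝔪_S`, and in which every finite subset
comes from an étale `R`-algebra mapping to `S`. -/
structure IsIndEtaleLocal (R S : Type u) [CommRing R] [CommRing S] [Algebra R S] [IsLocalRing R]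
    [IsLocalRing S] : Prop where
  flat : Module.Flat R S
  map_max : (maximalIdeal R).map (algebraMap R S) = maximalIdeal S
  rep : ∀ Y : Finset S, ∃ (A : Type u) (_ : CommRing A) (_ : Algebra R A) (_ : Algebra.Etale R A)
    (φ : A →ₐ[R] S), ∀ y ∈ Y, ∃ a, φ a = y

theorem isNoetherianRing_of_faithfullyFlat (A B : Type*) [CommRing A] [CommRing B] [Algebra A B]
    [Module.FaithfullyFlat A B] [IsNoetherianRing B] : IsNoetherianRing A := by
  rw [isNoetherianRing_iff_ideal_fg]
  intro I
  exact Ideal.FG.of_FG_map_of_faithfullyFlat (S := B)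
    ((isNoetherianRing_iff_ideal_fg B).mp inferInstance _)

section Stage

variable {R S : Type u} [CommRing R] [CommRing S] [Algebra R S] [IsLocalRing R] [IsLocalRing S]
  [IsLocalHom (algebraMap R S)]

theorem exists_stage [IsNoetherianRing R] [Module.Flat R S]
    (hmax : (maximalIdeal R).map (algebraMap R S) = maximalIdeal S)
    (A : Type u) [CommRing A] [Algebra R A] [Algebra.Etale R A] (φ : A →ₐ[R] S) :
    ∃ (B' : Type u) (_ : CommRing B') (_ : IsNoetherianRing B') (_ : IsLocalRing B')
      (g : B' →+* S),
      (∀ a : A, ∃ y', g y' = φ a) ∧ (∀ 𝔞 : Ideal B', (𝔞.map g).comap g ≤ 𝔞) ∧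
        (maximalIdeal B').map g = maximalIdeal S := by
  classical
  let q : Ideal A := (maximalIdeal S).comap φ.toRingHom
  haveI hq : q.IsPrime := Ideal.comap_isPrime φ.toRingHom (maximalIdeal S)
  have hqmem : ∀ a : A, a ∈ q ↔ ¬ IsUnit (φ a) := fun a => by
    show φ a ∈ maximalIdeal S ↔ _
    rw [mem_maximalIdeal, mem_nonunits_iff]
  have hunit : ∀ y : q.primeCompl, IsUnit (φ.toRingHom y) := fun y => by
    by_contra h
    exact y.2 ((hqmem (y : A)).mpr h)
  let B' := Localization.AtPrime q
  let g : B' →+* S := IsLocalization.lift (M := q.primeCompl) (S := B') (g := φ.toRingHom) hunit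
  have hg : ∀ a : A, g (algebraMap A B' a) = φ a := fun a => IsLocalization.lift_eq hunit a
  haveI : Algebra.FiniteType R A := inferInstance
  haveI : IsNoetherianRing A := Algebra.FiniteType.isNoetherianRing R A
  haveI : IsNoetherianRing B' := IsLocalization.isNoetherianRing q.primeCompl B' inferInstance
  letI : Algebra B' S := g.toAlgebra
  haveI : IsScalarTower R B' S := IsScalarTower.of_algebraMap_eq fun r => by
    show algebraMap R S r = g (algebraMap R B' r)
    rw [IsScalarTower.algebraMap_apply R A B', hg, φ.commutes]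
  haveI : Algebra.FormallyUnramified A B' :=
    Algebra.FormallyUnramified.of_isLocalization q.primeCompl
  haveI : Algebra.FormallyUnramified R B' := Algebra.FormallyUnramified.comp R A B'
  haveI : Algebra.EssFiniteType A B' := Algebra.EssFiniteType.of_isLocalization B' q.primeCompl
  haveI : Algebra.EssFiniteType R B' := Algebra.EssFiniteType.comp R A B'
  haveI : Module.Flat B' S := Algebra.FormallyUnramified.flat_of_restrictScalars R B' S
  haveI hloc : IsLocalHom (algebraMap B' S) := ⟨fun x hx => by
    obtain ⟨⟨a, s⟩, hxs⟩ := IsLocalization.surj q.primeCompl x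
    have hx' : IsUnit (g x) := hx
    have h1 : g x * φ s = φ a := by
      rw [← hg, ← hg, ← map_mul]
      exact congrArg g hxs
    have h2 : IsUnit (φ a) := by
      rw [← h1]
      exact hx'.mul (hunit s)
    have h3 : a ∉ q := fun h => (hqmem a).mp h h2
    have h4 : IsUnit (algebraMap A B' a) := IsLocalization.map_units B' (⟨a, h3⟩ : q.primeCompl)
    rw [← hxs] at h4
    exact isUnit_of_mul_isUnit_left h4⟩
  haveI : Module.FaithfullyFlat B' S := Module.FaithfullyFlat.of_flat_of_isLocalHom
  haveI : IsLocalHom (algebraMap R B') := ⟨fun r hr => by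
    have h1 : IsUnit (algebraMap B' S (algebraMap R B' r)) := hr.map _
    rw [← IsScalarTower.algebraMap_apply R B' S] at h1
    exact isUnit_of_map_unit (algebraMap R S) r h1⟩
  refine ⟨B', inferInstance, inferInstance, inferInstance, g,
    fun a => ⟨algebraMap A B' a, hg a⟩, fun 𝔞 => ?_, ?_⟩
  · exact (Ideal.comap_map_eq_self_of_faithfullyFlat (B := S) 𝔞).le
  · have h1 : (maximalIdeal R).map (algebraMap R B') = maximalIdeal B' :=
      Algebra.FormallyUnramified.map_maximalIdeal
    rw [← h1, Ideal.map_map, ← hmax]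
    congr 1
    exact (IsScalarTower.algebraMap_eq R B' S).symm

theorem IsIndEtaleLocal.isNoetherianRing (h : IsIndEtaleLocal R S) [IsNoetherianRing R] :
    IsNoetherianRing S := by
  haveI := h.flat
  have hfg : (maximalIdeal S).FG := by
    rw [← h.map_max]
    exact Ideal.FG.map (maximalIdeal R).fg_of_isNoetherianRing _
  haveI : IsNoetherianRing (S ⧸ maximalIdeal S) :=
    inferInstanceAs (IsNoetherianRing (ResidueField S))
  refine Groth.Agent.H25.DirLimNoeth.isNoetherianRing_of_stages (maximalIdeal S) hfg fun Y => ?_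
  obtain ⟨A, _, _, _, φ, hφ⟩ := h.rep Y
  obtain ⟨B', i1, i2, i3, g, hg1, hg2, hg3⟩ := exists_stage h.map_max A φ
  refine ⟨B', i1, i2, i3, g, fun y hy => ?_, hg2, hg3⟩
  obtain ⟨a, rfl⟩ := hφ y hy
  exact hg1 a

theorem IsIndEtaleLocal.faithfullyFlat (h : IsIndEtaleLocal R S) : Module.FaithfullyFlat R S := by
  haveI := h.flat
  exact Module.FaithfullyFlat.of_flat_of_isLocalHom

theorem IsIndEtaleLocal.ringKrullDim_eq (h : IsIndEtaleLocal R S) :
    ringKrullDim S = ringKrullDim R := by
  haveI := h.flat
  haveI : Module.FaithfullyFlat R S := h.faithfullyFlat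
  apply le_antisymm
  · refine Order.krullDim_le_of_strictMono
      (fun P : PrimeSpectrum S =>
        (⟨P.asIdeal.comap (algebraMap R S), inferInstance⟩ : PrimeSpectrum R)) ?_
    intro P Q hPQ
    have hle : P.asIdeal ≤ Q.asIdeal := (PrimeSpectrum.asIdeal_le_asIdeal P Q).mpr hPQ.le
    have hlt : P.asIdeal < Q.asIdeal := (PrimeSpectrum.asIdeal_lt_asIdeal P Q).mpr hPQ
    refine lt_of_le_of_ne ?_ ?_
    · exact (PrimeSpectrum.asIdeal_le_asIdeal _ _).mp (Ideal.comap_mono hle)
    · intro heq
      have heq' : P.asIdeal.comap (algebraMap R S) = Q.asIdeal.comap (algebraMap R S) :=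
        congrArg PrimeSpectrum.asIdeal heq
      obtain ⟨s, hsQ, hsP⟩ := SetLike.exists_of_lt hlt
      obtain ⟨A, _, _, _, φ, hφ⟩ := h.rep {s}
      obtain ⟨a, rfl⟩ := hφ s (Finset.mem_singleton_self s)
      haveI : Algebra.QuasiFinite R A := inferInstance
      have hund : ∀ I : Ideal S, (I.comap φ.toRingHom).under R = I.comap (algebraMap R S) :=
        fun I => by
          ext r
          rw [Ideal.under_def, Ideal.mem_comap, Ideal.mem_comap, Ideal.mem_comap]
          show φ (algebraMap R A r) ∈ I ↔ _
          rw [φ.commutes]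
      have hPQ' : P.asIdeal.comap φ.toRingHom = Q.asIdeal.comap φ.toRingHom :=
        Algebra.QuasiFinite.eq_of_le_of_under_eq (R := R) (P.asIdeal.comap φ.toRingHom)
          (Q.asIdeal.comap φ.toRingHom) (Ideal.comap_mono hle) (by rw [hund, hund, heq'])
      have ha : a ∈ P.asIdeal.comap φ.toRingHom := by
        rw [hPQ']
        exact hsQ
      exact hsP ha
  · show Order.krullDim (PrimeSpectrum R) ≤ Order.krullDim (PrimeSpectrum S)
    unfold Order.krullDim
    refine iSup_le fun l => ?_
    obtain ⟨P, hP, hPl⟩ :=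
      Ideal.exists_isPrime_liesOver_of_faithfullyFlat (B := S) l.last.asIdeal
    obtain ⟨L, hlen, -, -⟩ := Ideal.exists_ltSeries_of_hasGoingDown l P
    rw [← hlen]
    exact le_iSup (fun p : LTSeries (PrimeSpectrum S) => (p.length : WithBot ℕ∞)) L

end Stage

section Cotangent

variable {R S : Type u} [CommRing R] [CommRing S] [Algebra R S]

theorem tmul_one_eq_zero_of_mem_map (I : Ideal R) {w : S} (hw : w ∈ I.map (algebraMap R S)) :
    w ⊗ₜ[R] (1 : R ⧸ I) = 0 := by
  have h1 : w ∈ (I • ⊤ : Submodule R S) := by
    rw [Ideal.smul_top_eq_map]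
    exact hw
  have h2 : (Submodule.Quotient.mk w : S ⧸ (I • ⊤ : Submodule R S)) = 0 :=
    (Submodule.Quotient.mk_eq_zero _).mpr h1
  have h3 := congrArg (TensorProduct.tensorQuotEquivQuotSMul S I).symm h2
  rwa [TensorProduct.tensorQuotEquivQuotSMul_symm_mk, map_zero] at h3

theorem mem_map_of_tmul_one_eq_zero (I : Ideal R) {c : S} (hc : c ⊗ₜ[R] (1 : R ⧸ I) = 0) :
    c ∈ I.map (algebraMap R S) := by
  have h0 : c ⊗ₜ[R] (Ideal.Quotient.mk I (1 : R)) = 0 := by
    rw [map_one]
    exact hc
  have h1 := congrArg (TensorProduct.tensorQuotEquivQuotSMul S I) h0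
  rw [TensorProduct.tensorQuotEquivQuotSMul_tmul_mk, one_smul, map_zero,
    Submodule.Quotient.mk_eq_zero, Ideal.smul_top_eq_map] at h1
  exact h1

variable [IsLocalRing R] [IsLocalRing S] [IsLocalHom (algebraMap R S)]

/-- Along a flat local homomorphism of Noetherian local rings with `𝔪_R S = 𝔪_S`, the embedding
dimension does not drop. -/
theorem spanFinrank_maximalIdeal_le [Module.Flat R S] [IsNoetherianRing R] [IsNoetherianRing S]
    (hmax : (maximalIdeal R).map (algebraMap R S) = maximalIdeal S) :
    (maximalIdeal R).spanFinrank ≤ (maximalIdeal S).spanFinrank := by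
  classical
  rw [IsLocalRing.spanFinrank_maximalIdeal_eq_finrank_cotangentSpace R,
    IsLocalRing.spanFinrank_maximalIdeal_eq_finrank_cotangentSpace S]
  let b : Basis (Fin (finrank (ResidueField R) (CotangentSpace R))) (ResidueField R)
      (CotangentSpace R) := Module.finBasis _ _
  have hsurj := Ideal.toCotangent_surjective (maximalIdeal R)
  choose x hx using fun i => hsurj (b i)
  have hxS : ∀ i, algebraMap R S (x i : R) ∈ maximalIdeal S := fun i => by
    rw [← hmax]
    exact Ideal.mem_map_of_mem _ (x i).2
  let u : Fin (finrank (ResidueField R) (CotangentSpace R)) → maximalIdeal S :=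
    fun i => ⟨algebraMap R S (x i), hxS i⟩
  let y : Fin (finrank (ResidueField R) (CotangentSpace R)) → CotangentSpace S :=
    fun i => (maximalIdeal S).toCotangent (u i)
  have hli : LinearIndependent (ResidueField S) y := by
    rw [Fintype.linearIndependent_iff]
    intro gcoef hsum j
    choose c hc using fun i => residue_surjective (gcoef i)
    have h1 : ∀ i, gcoef i • y i = (maximalIdeal S).toCotangent (c i • u i) := fun i => by
      rw [map_smul, ← hc i]
      exact algebraMap_smul (ResidueField S) (c i) ((maximalIdeal S).toCotangent (u i))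
    have h2 : (maximalIdeal S).toCotangent (∑ i, c i • u i) = 0 := by
      rw [map_sum, ← hsum]
      exact Finset.sum_congr rfl fun i _ => (h1 i).symm
    rw [Ideal.toCotangent_eq_zero] at h2
    have hcoe : ((∑ i, c i • u i : maximalIdeal S) : S) = ∑ i, c i * algebraMap R S (x i) := by
      rw [Submodule.coe_sum]
      exact Finset.sum_congr rfl fun i _ => rfl
    rw [hcoe, ← hmax, ← Ideal.map_pow] at h2
    -- the tensor element
    let z : S ⊗[R] (maximalIdeal R).Cotangent :=
      ∑ i, c i ⊗ₜ[R] (maximalIdeal R).toCotangent (x i)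
    have key : ∀ (s : S) (r : R), s ⊗ₜ[R] ((maximalIdeal R ^ 2).mkQ r) =
        (s * algebraMap R S r) ⊗ₜ[R] (1 : R ⧸ maximalIdeal R ^ 2) := by
      intro s r
      have e1 : (maximalIdeal R ^ 2).mkQ r = r • (1 : R ⧸ maximalIdeal R ^ 2) := by
        rw [← Algebra.algebraMap_eq_smul_one]
        rfl
      rw [e1, ← TensorProduct.smul_tmul, Algebra.smul_def, mul_comm]
    have hΦ : Function.Injective
        (LinearMap.lTensor S (maximalIdeal R).cotangentToQuotientSquare) :=
      Module.Flat.lTensor_preserves_injective_linearMap _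
        (Ideal.cotangentToQuotientSquare_injective _)
    have hz : z = 0 := by
      apply hΦ
      rw [map_zero, map_sum]
      have e2 : ∀ i, (LinearMap.lTensor S (maximalIdeal R).cotangentToQuotientSquare)
          (c i ⊗ₜ[R] (maximalIdeal R).toCotangent (x i)) =
          (c i * algebraMap R S (x i)) ⊗ₜ[R] (1 : R ⧸ maximalIdeal R ^ 2) := fun i => by
        rw [LinearMap.lTensor_tmul, Ideal.toCotangent_to_quotient_square, key]
      rw [Finset.sum_congr rfl fun i _ => e2 i, ← TensorProduct.sum_tmul]
      exact tmul_one_eq_zero_of_mem_map _ h2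
    -- apply the coordinate functional
    have h3 := congrArg (LinearMap.lTensor S ((b.coord j).restrictScalars R)) hz
    rw [map_zero, map_sum] at h3
    have e3 : ∀ i, (LinearMap.lTensor S ((b.coord j).restrictScalars R))
        (c i ⊗ₜ[R] (maximalIdeal R).toCotangent (x i)) =
        c i ⊗ₜ[R] (if i = j then (1 : ResidueField R) else 0) := fun i => by
      rw [LinearMap.lTensor_tmul, hx i]
      congr 1
      show b.coord j (b i) = _
      rw [Basis.coord_apply, Basis.repr_self, Finsupp.single_apply]
    rw [Finset.sum_congr rfl fun i _ => e3 i, Finset.sum_eq_single j] at h3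
    · rw [if_pos rfl] at h3
      have h4 : c j ∈ (maximalIdeal R).map (algebraMap R S) :=
        mem_map_of_tmul_one_eq_zero (maximalIdeal R) h3
      rw [hmax] at h4
      rw [← hc j]
      exact (residue_eq_zero_iff _).mpr h4
    · intro i _ hij
      rw [if_neg hij, TensorProduct.tmul_zero]
    · intro hj
      exact absurd (Finset.mem_univ j) hj
  have := hli.fintype_card_le_finrank
  simpa using this

theorem isRegularLocalRing_iff_of_flat [Module.Flat R S] [IsNoetherianRing R] [IsNoetherianRing S]
    (hmax : (maximalIdeal R).map (algebraMap R S) = maximalIdeal S)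
    (hdim : ringKrullDim S = ringKrullDim R) :
    IsRegularLocalRing R ↔ IsRegularLocalRing S := by
  constructor
  · intro hR
    apply IsRegularLocalRing.of_spanFinrank_maximalIdeal_le
    rw [hdim, ← hR.spanFinrank_maximalIdeal, ← hmax]
    exact_mod_cast Ideal.spanFinrank_map_le_of_fg (algebraMap R S)
      (maximalIdeal R).fg_of_isNoetherianRing
  · intro hS
    apply IsRegularLocalRing.of_spanFinrank_maximalIdeal_le
    rw [← hdim, ← hS.spanFinrank_maximalIdeal]
    exact_mod_cast spanFinrank_maximalIdeal_le hmax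

end Cotangent

section Instances

open Groth.Agent.H47

theorem isIndEtaleLocal_Hloc (R : Type u) [CommRing R] [IsLocalRing R] :
    IsIndEtaleLocal R (Hens.Hloc R) where
  flat := inferInstance
  map_max := (Hens.maximalIdeal_eq_map R (maximalIdeal R)).symm
  rep Y := by
    obtain ⟨X, hX⟩ := Hens.exists_rep_finset R (maximalIdeal R) Y
    exact ⟨X.A, inferInstance, inferInstance, inferInstance, Hens.ιₐ R (maximalIdeal R) X, hX⟩

theorem isIndEtaleLocal_Hsh (R : Type u) [CommRing R] [IsLocalRing R] :
    IsIndEtaleLocal R (HensK.Hsh R) where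
  flat := inferInstance
  map_max := HensK.map_maximalIdeal_H R (HensK.Ksep R)
  rep Y := by
    obtain ⟨X, hX⟩ := HensK.exists_rep_finset R (HensK.Ksep R) Y
    exact ⟨X.A, inferInstance, inferInstance, inferInstance, HensK.ιₐ R (HensK.Ksep R) X, hX⟩

end Instances

end Groth.Agent.H47.HensNoeth
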