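import Mathlib
import Groth.Agent.H47.HensNoeth
import Groth.Agent.H29.FlatDepth
import Groth.Prelude.Def_CAlg

/-!
# Consequences: transfer of the ind-étale-local interface to arbitrary (strict) henselizations,
embedding dimension, discrete valuation rings, Cohen–Macaulayness.
-/

set_option autoImplicit false
universe u

open IsLocalRing TensorProduct Module

namespace Groth.Agent.H47.HensNoeth

theorem IsIndEtaleLocal.of_algEquiv {R H S : Type u} [CommRing R] [CommRing H] [CommRing S]
    [Algebra R H] [Algebra R S] [IsLocalRing R] [IsLocalRing H] [IsLocalRing S]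
    (h : IsIndEtaleLocal R H) (e : H ≃ₐ[R] S) : IsIndEtaleLocal R S where
  flat := by
    haveI := h.flat
    exact Module.Flat.of_linearEquiv e.symm.toLinearEquiv
  map_max := by
    have h1 : (maximalIdeal H).map e.toAlgHom.toRingHom = maximalIdeal S :=
      IsLocalRing.map_maximalIdeal_of_surjective _ e.surjective
    rw [← h1, ← h.map_max, Ideal.map_map]
    congr 1
    exact (e.toAlgHom.comp_algebraMap).symm
  rep Y := by
    classical
    obtain ⟨A, i1, i2, i3, φ, hφ⟩ := h.rep (Y.image e.symm)
    refine ⟨A, i1, i2, i3, e.toAlgHom.comp φ, fun y hy => ?_⟩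
    obtain ⟨a, ha⟩ := hφ (e.symm y) (Finset.mem_image_of_mem _ hy)
    refine ⟨a, ?_⟩
    show e (φ a) = y
    rw [ha, AlgEquiv.apply_symm_apply]

section Abstract

variable (R S : Type u) [CommRing R] [IsLocalRing R] [CommRing S] [IsLocalRing S] [Algebra R S]
  [IsLocalHom (algebraMap R S)]

theorem isIndEtaleLocal_of_isHenselization [Hensel.IsHenselization R S] : IsIndEtaleLocal R S := by
  obtain ⟨e⟩ := Groth.Agent.H47.Hens.exists_algEquiv R S
  exact (isIndEtaleLocal_Hloc R).of_algEquiv e

theorem isIndEtaleLocal_of_isStrictHenselization [Hensel.IsStrictHenselization R S] :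
    IsIndEtaleLocal R S := by
  obtain ⟨e⟩ := Groth.Agent.H47.HensK.exists_algEquiv_Hsh R S
  exact (isIndEtaleLocal_Hsh R).of_algEquiv e

end Abstract

section Flat

variable {R S : Type u} [CommRing R] [CommRing S] [Algebra R S] [IsLocalRing R] [IsLocalRing S]
  [IsLocalHom (algebraMap R S)] [Module.Flat R S] [IsNoetherianRing R] [IsNoetherianRing S]

theorem spanFinrank_maximalIdeal_eq
    (hmax : (maximalIdeal R).map (algebraMap R S) = maximalIdeal S) :
    (maximalIdeal S).spanFinrank = (maximalIdeal R).spanFinrank := by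
  apply le_antisymm
  · rw [← hmax]
    exact Ideal.spanFinrank_map_le_of_fg (algebraMap R S) (maximalIdeal R).fg_of_isNoetherianRing
  · exact spanFinrank_maximalIdeal_le hmax

theorem isDVR_iff_of_flat [IsDomain R] [IsDomain S]
    (hmax : (maximalIdeal R).map (algebraMap R S) = maximalIdeal S) :
    IsDiscreteValuationRing R ↔ IsDiscreteValuationRing S := by
  rw [← IsLocalRing.finrank_CotangentSpace_eq_one_iff,
    ← IsLocalRing.finrank_CotangentSpace_eq_one_iff,
    ← IsLocalRing.spanFinrank_maximalIdeal_eq_finrank_cotangentSpace,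
    ← IsLocalRing.spanFinrank_maximalIdeal_eq_finrank_cotangentSpace,
    spanFinrank_maximalIdeal_eq hmax]

theorem isCM_iff_of_flat (hmax : (maximalIdeal R).map (algebraMap R S) = maximalIdeal S)
    (hdim : ringKrullDim S = ringKrullDim R) :
    LocCoh.IsCohenMacaulayLocalRing S ↔ LocCoh.IsCohenMacaulayLocalRing R := by
  have hdepth : LocCoh.depth R R = LocCoh.depth S S :=
    Groth.Agent.H29.FlatDepth.depth_eq_depth_of_map_maximalIdeal hmax
  constructor
  · intro hS
    have h1 := hS.supportDim_eq_depth
    rw [Module.supportDim_self_eq_ringKrullDim, hdim, ← hdepth] at h1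
    exact { supportDim_eq_depth := by rw [Module.supportDim_self_eq_ringKrullDim]; exact h1 }
  · intro hR
    have h1 := hR.supportDim_eq_depth
    rw [Module.supportDim_self_eq_ringKrullDim, ← hdim, hdepth] at h1
    exact { supportDim_eq_depth := by rw [Module.supportDim_self_eq_ringKrullDim]; exact h1 }

end Flat

end Groth.Agent.H47.HensNoeth
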