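import Groth.Agent.H47.HensTensor2

/-!
# Tools for `Bsh ⊗[Ash] Csh → Dsh`

* the universal property of a strict henselization of `R_p`, phrased with maps out of `R`;
* a tensor product `Csh ⊗[Ash] Bsh` with `Bsh` integral over `Ash` and purely inseparable residue
  field extension has at most one maximal ideal.
-/

set_option autoImplicit false
set_option linter.style.haveILetI false
set_option linter.unusedSectionVars false
universe u
open TensorProduct IsLocalRing

namespace Groth.Agent.H47.HensTensor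

section At

variable {R : Type u} [CommRing R] (p : Ideal R) [p.IsPrime]

theorem isLocalHom_lift_of_comap_eq {T : Type*} [CommRing T] [IsLocalRing T] (u : R →+* T)
    (hu : (maximalIdeal T).comap u = p) (hunit : ∀ s : p.primeCompl, IsUnit (u s)) :
    IsLocalHom (IsLocalization.lift (M := p.primeCompl) (S := Localization.AtPrime p) hunit) := by
  constructor
  intro x hx
  obtain ⟨r, s, rfl⟩ := IsLocalization.exists_mk'_eq (S := Localization.AtPrime p) p.primeCompl x
  have h1 : IsLocalization.lift hunit (IsLocalization.mk' (Localization.AtPrime p) r s) * u s =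
      u r := by
    rw [← IsLocalization.lift_eq (S := Localization.AtPrime p) hunit (s : R), ← map_mul,
      IsLocalization.mk'_spec, IsLocalization.lift_eq]
  have h2 : IsUnit (u r) := by
    rw [← h1]
    exact hx.mul (hunit s)
  have h3 : r ∉ p := by
    rw [← hu, Ideal.mem_comap]
    exact IsLocalRing.notMem_maximalIdeal.mpr h2
  exact (IsLocalization.AtPrime.isUnit_mk'_iff _ p r s).mpr h3

variable (Rh : Type u) [CommRing Rh] [IsLocalRing Rh] [Algebra (Localization.AtPrime p) Rh]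
  [IsLocalHom (algebraMap (Localization.AtPrime p) Rh)] [Algebra R Rh]
  [IsScalarTower R (Localization.AtPrime p) Rh]
  [Hensel.IsStrictHenselization (Localization.AtPrime p) Rh]

/-- The universal property of a strict henselization of `R_p` in terms of maps out of `R`. -/
theorem existsUnique_of_comap_eq {T : Type u} [CommRing T] [HenselianLocalRing T] (u : R →+* T)
    (hu : (maximalIdeal T).comap u = p) (τ : ResidueField Rh →+* ResidueField T)
    (hτ : ∀ r : R, τ (residue Rh (algebraMap R Rh r)) = residue T (u r)) :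
    ∃! g : Rh →+* T, g.comp (algebraMap R Rh) = u ∧
      ∀ x : Rh, residue T (g x) = τ (residue Rh x) := by
  have hunit : ∀ s : p.primeCompl, IsUnit (u s) := fun s =>
    IsLocalRing.notMem_maximalIdeal.mp
      (fun h => s.2 (hu.le (show (s : R) ∈ Ideal.comap u _ from h)))
  haveI := isLocalHom_lift_of_comap_eq p u hu hunit
  have hτ' : τ.comp (ResidueField.map (algebraMap (Localization.AtPrime p) Rh)) =
      ResidueField.map (IsLocalization.lift hunit) := by
    have h1 : (τ.comp (ResidueField.map (algebraMap (Localization.AtPrime p) Rh))).comp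
        (residue (Localization.AtPrime p)) =
        (ResidueField.map (IsLocalization.lift hunit)).comp
          (residue (Localization.AtPrime p)) := by
      apply IsLocalization.ringHom_ext p.primeCompl
      refine RingHom.ext fun r => ?_
      simp only [RingHom.comp_apply, ResidueField.map_residue, IsLocalization.lift_eq]
      rw [← IsScalarTower.algebraMap_apply R (Localization.AtPrime p) Rh]
      exact hτ r
    refine RingHom.ext fun z => ?_
    obtain ⟨x, rfl⟩ := residue_surjective z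
    exact RingHom.congr_fun h1 x
  obtain ⟨g, ⟨hg1, hg2⟩, hguniq⟩ := Hensel.IsStrictHenselization.universal
    (R := Localization.AtPrime p) (S := Rh) T (IsLocalization.lift hunit) τ hτ'
  refine ⟨g, ⟨?_, hg2⟩, ?_⟩
  · refine RingHom.ext fun r => ?_
    rw [RingHom.comp_apply, IsScalarTower.algebraMap_apply R (Localization.AtPrime p) Rh,
      ← RingHom.comp_apply g, hg1, IsLocalization.lift_eq]
  · intro g' hg'
    apply hguniq
    refine ⟨?_, hg'.2⟩
    apply IsLocalization.ringHom_ext p.primeCompl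
    refine RingHom.ext fun r => ?_
    simp only [RingHom.comp_apply]
    rw [← IsScalarTower.algebraMap_apply R (Localization.AtPrime p) Rh, IsLocalization.lift_eq,
      ← hg'.1, RingHom.comp_apply]

end At

section SepBij

theorem bijective_algebraMap_residueField (R₀ M S : Type*) [CommRing R₀] [IsLocalRing R₀]
    [CommRing M] [IsLocalRing M] [CommRing S] [IsLocalRing S] [Algebra R₀ M] [Algebra M S]
    [Algebra R₀ S] [IsScalarTower R₀ M S] [IsLocalHom (algebraMap R₀ M)]
    [IsLocalHom (algebraMap M S)] [IsLocalHom (algebraMap R₀ S)]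
    [IsSepClosed (ResidueField M)] [Algebra.IsSeparable (ResidueField R₀) (ResidueField S)] :
    Function.Bijective (algebraMap (ResidueField M) (ResidueField S)) := by
  haveI : Algebra.IsSeparable (ResidueField M) (ResidueField S) :=
    Algebra.isSeparable_tower_top_of_isSeparable (ResidueField R₀) (ResidueField M)
      (ResidueField S)
  exact IsSepClosed.algebraMap_bijective (ResidueField M) (ResidueField S)

end SepBij

section LocalTensor

variable (Ash Bsh Csh : Type u) [CommRing Ash] [IsLocalRing Ash] [CommRing Bsh] [IsLocalRing Bsh]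
  [CommRing Csh] [IsLocalRing Csh] [Algebra Ash Bsh] [Algebra Ash Csh]
  [IsLocalHom (algebraMap Ash Bsh)] [IsLocalHom (algebraMap Ash Csh)]
  [Algebra.IsIntegral Ash Bsh]

theorem tmul_one_eq_one_tmul (a : Ash) :
    (algebraMap Ash Csh a) ⊗ₜ[Ash] (1 : Bsh) = (1 : Csh) ⊗ₜ[Ash] algebraMap Ash Bsh a := by
  rw [Algebra.algebraMap_eq_smul_one, Algebra.algebraMap_eq_smul_one (A := Bsh),
    TensorProduct.smul_tmul]

theorem algebraMap_left_apply (c : Csh) :
    algebraMap Csh (Csh ⊗[Ash] Bsh) c = c ⊗ₜ 1 := by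
  rw [Algebra.TensorProduct.algebraMap_apply, Algebra.algebraMap_self_apply]

theorem maximal_facts (P : Ideal (Csh ⊗[Ash] Bsh)) [P.IsMaximal] :
    P.comap (algebraMap Csh (Csh ⊗[Ash] Bsh)) = maximalIdeal Csh ∧
      ∀ b ∈ maximalIdeal Bsh, (1 : Csh) ⊗ₜ[Ash] b ∈ P := by
  have h1 : (P.comap (algebraMap Csh (Csh ⊗[Ash] Bsh))).IsMaximal :=
    Ideal.isMaximal_comap_of_isIntegral_of_isMaximal P
  have hc : P.comap (algebraMap Csh (Csh ⊗[Ash] Bsh)) = maximalIdeal Csh :=
    IsLocalRing.eq_maximalIdeal h1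
  refine ⟨hc, ?_⟩
  have hprime : (P.comap
      (Algebra.TensorProduct.includeRight : Bsh →ₐ[Ash] Csh ⊗[Ash] Bsh).toRingHom).IsPrime :=
    Ideal.comap_isPrime _ _
  have hcm : (maximalIdeal Csh).comap (algebraMap Ash Csh) = maximalIdeal Ash :=
    ((IsLocalRing.local_hom_TFAE (algebraMap Ash Csh)).out 0 4).mp
        ‹IsLocalHom (algebraMap Ash Csh)›
  have h2 : (P.comap
      (Algebra.TensorProduct.includeRight : Bsh →ₐ[Ash] Csh ⊗[Ash] Bsh).toRingHom).comap
        (algebraMap Ash Bsh) = maximalIdeal Ash := by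
    ext a
    rw [Ideal.mem_comap, Ideal.mem_comap]
    show (1 : Csh) ⊗ₜ[Ash] (algebraMap Ash Bsh a) ∈ P ↔ _
    rw [← tmul_one_eq_one_tmul, ← algebraMap_left_apply, ← Ideal.mem_comap, hc,
      ← Ideal.mem_comap, hcm]
  have h3 : (P.comap
      (Algebra.TensorProduct.includeRight : Bsh →ₐ[Ash] Csh ⊗[Ash] Bsh).toRingHom).IsMaximal :=
    Ideal.isMaximal_of_isIntegral_of_isMaximal_comap _ (by
      rw [h2]
      exact maximalIdeal.isMaximal Ash)
  have h5 := IsLocalRing.eq_maximalIdeal h3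
  intro b hb
  have hb' : b ∈ P.comap
      (Algebra.TensorProduct.includeRight : Bsh →ₐ[Ash] Csh ⊗[Ash] Bsh).toRingHom := by
    rw [h5]
    exact hb
  exact hb'

theorem eq_of_isMaximal_tensor [IsPurelyInseparable (ResidueField Ash) (ResidueField Bsh)]
    (P₁ P₂ : Ideal (Csh ⊗[Ash] Bsh)) [hP₁ : P₁.IsMaximal] [hP₂ : P₂.IsMaximal] : P₁ = P₂ := by
  classical
  obtain ⟨hc1, hb1⟩ := maximal_facts Ash Bsh Csh P₁
  obtain ⟨hc2, hb2⟩ := maximal_facts Ash Bsh Csh P₂
  have hI1 : P₁ ⊓ P₂ ≤ P₁ := inf_le_left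
  haveI : Nontrivial ((Csh ⊗[Ash] Bsh) ⧸ (P₁ ⊓ P₂)) :=
    Ideal.Quotient.nontrivial_iff.mpr (fun h => hP₁.ne_top (top_le_iff.mp (h ▸ hI1)))
  haveI hq : ExpChar (ResidueField Ash) (ringExpChar (ResidueField Ash)) :=
    ringExpChar.expChar _
  have hcmem : ∀ c ∈ maximalIdeal Csh, c ⊗ₜ[Ash] (1 : Bsh) ∈ P₁ ⊓ P₂ := by
    intro c hc
    constructor
    · have : c ∈ P₁.comap (algebraMap Csh (Csh ⊗[Ash] Bsh)) := by rw [hc1]; exact hc
      rw [Ideal.mem_comap, algebraMap_left_apply] at this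
      exact this
    · have : c ∈ P₂.comap (algebraMap Csh (Csh ⊗[Ash] Bsh)) := by rw [hc2]; exact hc
      rw [Ideal.mem_comap, algebraMap_left_apply] at this
      exact this
  have hkerA : ∀ a ∈ maximalIdeal Ash,
      algebraMap Ash ((Csh ⊗[Ash] Bsh) ⧸ (P₁ ⊓ P₂)) a = 0 := by
    intro a ha
    have hc : algebraMap Ash Csh a ∈ maximalIdeal Csh := by
      have hcm : (maximalIdeal Csh).comap (algebraMap Ash Csh) = maximalIdeal Ash :=
        ((IsLocalRing.local_hom_TFAE (algebraMap Ash Csh)).out 0 4).mp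
        ‹IsLocalHom (algebraMap Ash Csh)›
      rw [← hcm] at ha
      exact ha
    have h1 : algebraMap Ash (Csh ⊗[Ash] Bsh) a = (algebraMap Ash Csh a) ⊗ₜ 1 :=
      Algebra.TensorProduct.algebraMap_apply _
    show Ideal.Quotient.mk (P₁ ⊓ P₂) (algebraMap Ash (Csh ⊗[Ash] Bsh) a) = 0
    rw [h1, Ideal.Quotient.eq_zero_iff_mem]
    exact hcmem _ hc
  let ι : ResidueField Ash →+* (Csh ⊗[Ash] Bsh) ⧸ (P₁ ⊓ P₂) :=
    Ideal.Quotient.lift (maximalIdeal Ash) (algebraMap Ash _) hkerA
  haveI : ExpChar ((Csh ⊗[Ash] Bsh) ⧸ (P₁ ⊓ P₂)) (ringExpChar (ResidueField Ash)) :=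
    expChar_of_injective_ringHom ι.injective _
  have hmem : ∀ x : Csh ⊗[Ash] Bsh, Ideal.Quotient.mk (P₁ ⊓ P₂) x ∈
      Subalgebra.perfectClosure Csh ((Csh ⊗[Ash] Bsh) ⧸ (P₁ ⊓ P₂))
        (ringExpChar (ResidueField Ash)) := by
    intro x
    induction x using TensorProduct.induction_on with
    | zero => rw [map_zero]; exact zero_mem _
    | add x y hx hy => rw [map_add]; exact add_mem hx hy
    | tmul c b =>
      have h1 : c ⊗ₜ[Ash] b = c • ((1 : Csh) ⊗ₜ[Ash] b) := by
        rw [TensorProduct.smul_tmul', smul_eq_mul, mul_one]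
      have h2 : Ideal.Quotient.mk (P₁ ⊓ P₂) (c • ((1 : Csh) ⊗ₜ[Ash] b)) =
          c • Ideal.Quotient.mk (P₁ ⊓ P₂) ((1 : Csh) ⊗ₜ[Ash] b) := rfl
      rw [h1, h2]
      refine Subalgebra.smul_mem _ ?_ c
      obtain ⟨n, z, hz⟩ := IsPurelyInseparable.pow_mem (ResidueField Ash)
        (ringExpChar (ResidueField Ash)) (residue Bsh b)
      obtain ⟨a, rfl⟩ := residue_surjective z
      have h3 : algebraMap Ash Bsh a - b ^ (ringExpChar (ResidueField Ash)) ^ n ∈
          maximalIdeal Bsh := by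
        rw [← residue_eq_zero_iff, map_sub, map_pow, ← hz]
        exact sub_self _
      refine Subalgebra.mem_perfectClosure_iff.mpr ⟨n, algebraMap Ash Csh a, ?_⟩
      show Ideal.Quotient.mk (P₁ ⊓ P₂) (algebraMap Csh (Csh ⊗[Ash] Bsh) (algebraMap Ash Csh a)) =
        (Ideal.Quotient.mk (P₁ ⊓ P₂) ((1 : Csh) ⊗ₜ[Ash] b)) ^ (ringExpChar (ResidueField Ash)) ^ n
      rw [← map_pow, Algebra.TensorProduct.tmul_pow, one_pow, Ideal.Quotient.eq,
        algebraMap_left_apply, tmul_one_eq_one_tmul, ← TensorProduct.tmul_sub]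
      exact ⟨hb1 _ h3, hb2 _ h3⟩
  have key : ∀ (Q₁ Q₂ : Ideal (Csh ⊗[Ash] Bsh)), Q₁.IsPrime → Q₂.IsPrime → P₁ ⊓ P₂ ≤ Q₁ →
      P₁ ⊓ P₂ ≤ Q₂ → Q₁.comap (algebraMap Csh (Csh ⊗[Ash] Bsh)) = maximalIdeal Csh →
      Q₂.comap (algebraMap Csh (Csh ⊗[Ash] Bsh)) = maximalIdeal Csh → Q₁ ≤ Q₂ := by
    intro Q₁ Q₂ hQ₁ hQ₂ hle1 hle2 hcQ1 hcQ2 x hx
    obtain ⟨n, y, hy⟩ := Subalgebra.mem_perfectClosure_iff.mp (hmem x)
    have h6 : x ^ (ringExpChar (ResidueField Ash)) ^ n -
        algebraMap Csh (Csh ⊗[Ash] Bsh) y ∈ P₁ ⊓ P₂ := by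
      rw [← Ideal.Quotient.eq, map_pow]
      exact hy.symm
    have hpos : 0 < (ringExpChar (ResidueField Ash)) ^ n :=
      pow_pos (expChar_pos (ResidueField Ash) _) _
    have h7 : algebraMap Csh (Csh ⊗[Ash] Bsh) y ∈ Q₁ := by
      have h8 := Q₁.sub_mem (Q₁.pow_mem_of_mem hx _ hpos) (hle1 h6)
      rwa [sub_sub_cancel] at h8
    have h9 : y ∈ maximalIdeal Csh := by
      rw [← hcQ1]
      exact h7
    have h10 : algebraMap Csh (Csh ⊗[Ash] Bsh) y ∈ Q₂ := by
      rw [← hcQ2] at h9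
      exact h9
    have h11 : x ^ (ringExpChar (ResidueField Ash)) ^ n ∈ Q₂ := by
      have h12 := Q₂.add_mem (hle2 h6) h10
      rwa [sub_add_cancel] at h12
    exact hQ₂.mem_of_pow_mem _ h11
  exact le_antisymm (key P₁ P₂ hP₁.isPrime hP₂.isPrime inf_le_left inf_le_right hc1 hc2)
    (key P₂ P₁ hP₂.isPrime hP₁.isPrime inf_le_right inf_le_left hc2 hc1)

theorem isLocalRing_tensor [IsPurelyInseparable (ResidueField Ash) (ResidueField Bsh)]
    [Nontrivial (Csh ⊗[Ash] Bsh)] : IsLocalRing (Csh ⊗[Ash] Bsh) := by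
  obtain ⟨M₀, hM₀⟩ := Ideal.exists_maximal (Csh ⊗[Ash] Bsh)
  exact IsLocalRing.of_unique_max_ideal ⟨M₀, hM₀, fun M hM =>
    eq_of_isMaximal_tensor Ash Bsh Csh M M₀⟩

end LocalTensor

end Groth.Agent.H47.HensTensor
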