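import Groth.Agent.H47.HensTensor

/-!
# Main consequences: identification with `(Rh ⊗[R] S)_Q`, and finiteness in the quasi-finite case
-/

set_option autoImplicit false
set_option linter.style.haveILetI false
set_option linter.unusedSectionVars false
universe u
open TensorProduct IsLocalRing

namespace Groth.Agent.H47.HensTensor

section Main

variable (R : Type u) [CommRing R] (S : Type u) [CommRing S] [Algebra R S]
  (p : Ideal R) [p.IsPrime] (q : Ideal S) [q.IsPrime] [q.LiesOver p]
  (Rh : Type u) [CommRing Rh] [IsLocalRing Rh] [Algebra (Localization.AtPrime p) Rh]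
  [IsLocalHom (algebraMap (Localization.AtPrime p) Rh)] [Algebra R Rh]
  [IsScalarTower R (Localization.AtPrime p) Rh]
  (Sh : Type u) [CommRing Sh] [IsLocalRing Sh] [Algebra (Localization.AtPrime q) Sh]
  [IsLocalHom (algebraMap (Localization.AtPrime q) Sh)] [Algebra S Sh]
  [IsScalarTower S (Localization.AtPrime q) Sh] [Algebra R Sh] [IsScalarTower R S Sh]
  [Algebra Rh Sh] [IsScalarTower R Rh Sh]
  (Q : Ideal (Rh ⊗[R] S)) [Q.IsPrime]
  (hQ : Q = Ideal.comap (phi R S Rh Sh) (maximalIdeal Sh))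

include hQ in
theorem main_henselization [Hensel.IsHenselization (Localization.AtPrime p) Rh]
    [Hensel.IsHenselization (Localization.AtPrime q) Sh]
    (E : Type u) [CommRing E] [IsLocalRing E] [Algebra (Localization.AtPrime Q) E]
    [IsLocalHom (algebraMap (Localization.AtPrime Q) E)]
    [Hensel.IsHenselization (Localization.AtPrime Q) E] :
    ∃ e : E ≃+* Sh, ∀ d : Rh ⊗[R] S,
      e (algebraMap (Localization.AtPrime Q) E
        (algebraMap (Rh ⊗[R] S) (Localization.AtPrime Q) d)) = phi R S Rh Sh d := by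
  have hunit : ∀ t : Q.primeCompl, IsUnit ((phi R S Rh Sh).toRingHom t) := fun t =>
    isUnit_phi_of_notMem R S Rh Sh Q hQ t.2
  letI : Algebra (Localization.AtPrime Q) Sh := (IsLocalization.lift hunit).toAlgebra
  have hψ : ∀ d : Rh ⊗[R] S, algebraMap (Localization.AtPrime Q) Sh
      (algebraMap (Rh ⊗[R] S) (Localization.AtPrime Q) d) = phi R S Rh Sh d :=
    fun d => IsLocalization.lift_eq hunit d
  haveI := isLocalHom_algebraMap_loc R S Rh Sh Q hQ (Localization.AtPrime Q) hψ
  haveI := isHenselization_of_tensor R S p q Rh Sh Q hQ (Localization.AtPrime Q) hψ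
  obtain ⟨e⟩ := nonempty_algEquiv_of_isHenselization (Localization.AtPrime Q) E Sh
  exact ⟨e.toRingEquiv, fun d => by rw [← hψ d]; exact e.commutes _⟩

include hQ in
theorem main_strict [Hensel.IsStrictHenselization (Localization.AtPrime p) Rh]
    [Hensel.IsStrictHenselization (Localization.AtPrime q) Sh]
    (E : Type u) [CommRing E] [IsLocalRing E] [Algebra (Localization.AtPrime Q) E]
    [IsLocalHom (algebraMap (Localization.AtPrime Q) E)]
    [Hensel.IsStrictHenselization (Localization.AtPrime Q) E] :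
    ∃ e : E ≃+* Sh, ∀ d : Rh ⊗[R] S,
      e (algebraMap (Localization.AtPrime Q) E
        (algebraMap (Rh ⊗[R] S) (Localization.AtPrime Q) d)) = phi R S Rh Sh d := by
  have hunit : ∀ t : Q.primeCompl, IsUnit ((phi R S Rh Sh).toRingHom t) := fun t =>
    isUnit_phi_of_notMem R S Rh Sh Q hQ t.2
  letI : Algebra (Localization.AtPrime Q) Sh := (IsLocalization.lift hunit).toAlgebra
  have hψ : ∀ d : Rh ⊗[R] S, algebraMap (Localization.AtPrime Q) Sh
      (algebraMap (Rh ⊗[R] S) (Localization.AtPrime Q) d) = phi R S Rh Sh d :=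
    fun d => IsLocalization.lift_eq hunit d
  haveI := isLocalHom_algebraMap_loc R S Rh Sh Q hQ (Localization.AtPrime Q) hψ
  haveI := isStrictHenselization_of_tensor R S p q Rh Sh Q hQ (Localization.AtPrime Q) hψ
  obtain ⟨e⟩ := Groth.Agent.H47.HensK.nonempty_algEquiv_of_isStrictHenselization
    (Localization.AtPrime Q) E Sh
  exact ⟨e.toRingEquiv, fun d => by rw [← hψ d]; exact e.commutes _⟩

section Finite

variable [Algebra.FiniteType R S] [Algebra.QuasiFiniteAt R q]

include q hQ in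
theorem exists_idempotent_isLocalization [HenselianLocalRing Rh]
    (hloc : IsLocalHom (algebraMap Rh Sh)) :
    ∃ e : Rh ⊗[R] S, IsIdempotentElem e ∧ e ∉ Q ∧
      Module.Finite Rh ((Rh ⊗[R] S) ⧸ Ideal.span {1 - e}) ∧
      ∃ (_ : IsLocalRing ((Rh ⊗[R] S) ⧸ Ideal.span {1 - e})),
        IsLocalization.AtPrime ((Rh ⊗[R] S) ⧸ Ideal.span {1 - e}) Q := by
  have hcm : (maximalIdeal Sh).comap (algebraMap Rh Sh) = maximalIdeal Rh :=
    ((IsLocalRing.local_hom_TFAE (algebraMap Rh Sh)).out 0 4).mp hloc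
  haveI hQover : Q.LiesOver (maximalIdeal Rh) := ⟨by
    ext a
    rw [Ideal.under_def, Ideal.mem_comap, mem_Q_iff R S Rh Sh Q hQ,
      Algebra.TensorProduct.algebraMap_apply, Algebra.algebraMap_self_apply, phi_left,
      ← Ideal.mem_comap, hcm]⟩
  haveI : Algebra.QuasiFiniteAt Rh Q := Algebra.QuasiFiniteAt.baseChange q Q (by
    ext s
    rw [Ideal.mem_comap]
    show s ∈ q ↔ (1 : Rh) ⊗ₜ[R] s ∈ Q
    rw [mem_Q_iff R S Rh Sh Q hQ, phi_right, ← Ideal.mem_comap, comap_maximalIdeal_eq q Sh])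
  obtain ⟨e, he, heQ, hfin, huniq⟩ :=
    Groth.Agent.H3.exists_idempotent_finite_of_quasiFiniteAt (R := Rh) (S := Rh ⊗[R] S) Q
  have h1e : 1 - e ∈ Q := by
    have h : e * (1 - e) ∈ Q := by
      rw [mul_sub, mul_one, he.eq, sub_self]
      exact Q.zero_mem
    exact (‹Q.IsPrime›.mem_or_mem h).resolve_left heQ
  have hle : Ideal.span {1 - e} ≤ Q := (Ideal.span_singleton_le_iff_mem Q).mpr h1e
  haveI : Algebra.IsIntegral Rh ((Rh ⊗[R] S) ⧸ Ideal.span {1 - e}) :=
    Algebra.IsIntegral.of_finite Rh _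
  have hmaxc : ∀ M : Ideal ((Rh ⊗[R] S) ⧸ Ideal.span {1 - e}), M.IsMaximal →
      M.comap (Ideal.Quotient.mk (Ideal.span {1 - e})) = Q := by
    intro M hM
    have hprime : (M.comap (Ideal.Quotient.mk (Ideal.span {1 - e}))).IsPrime :=
      Ideal.comap_isPrime _ _
    refine huniq _ hprime ⟨?_⟩ ?_
    · have h1 : (M.comap (algebraMap Rh ((Rh ⊗[R] S) ⧸ Ideal.span {1 - e}))).IsMaximal :=
        Ideal.isMaximal_comap_of_isIntegral_of_isMaximal M
      have h2 : M.comap (algebraMap Rh ((Rh ⊗[R] S) ⧸ Ideal.span {1 - e})) = maximalIdeal Rh :=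
        IsLocalRing.eq_maximalIdeal h1
      rw [← h2]
      rfl
    · intro hmem
      have h1 : (1 - e) ∈ M.comap (Ideal.Quotient.mk (Ideal.span {1 - e})) := by
        rw [Ideal.mem_comap, Ideal.Quotient.eq_zero_iff_mem.mpr (Ideal.mem_span_singleton_self _)]
        exact M.zero_mem
      have h2 := Ideal.add_mem _ h1 hmem
      rw [sub_add_cancel] at h2
      exact hprime.ne_top ((Ideal.eq_top_iff_one _).mpr h2)
  haveI : Nontrivial ((Rh ⊗[R] S) ⧸ Ideal.span {1 - e}) :=
    Ideal.Quotient.nontrivial_iff.mpr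
      (fun h => ‹Q.IsPrime›.ne_top (top_le_iff.mp (h ▸ hle)))
  have hlocal : IsLocalRing ((Rh ⊗[R] S) ⧸ Ideal.span {1 - e}) := by
    obtain ⟨M₀, hM₀⟩ := Ideal.exists_maximal ((Rh ⊗[R] S) ⧸ Ideal.span {1 - e})
    refine IsLocalRing.of_unique_max_ideal ⟨M₀, hM₀, fun M hM => ?_⟩
    exact Ideal.comap_injective_of_surjective (Ideal.Quotient.mk (Ideal.span {1 - e}))
      Ideal.Quotient.mk_surjective ((hmaxc M hM).trans (hmaxc M₀ hM₀).symm)
  refine ⟨e, he, heQ, hfin, hlocal, ?_⟩
  have hcomap : (maximalIdeal ((Rh ⊗[R] S) ⧸ Ideal.span {1 - e})).comap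
      (Ideal.Quotient.mk (Ideal.span {1 - e})) = Q := hmaxc _ (maximalIdeal.isMaximal _)
  refine (isLocalization_iff (M := Q.primeCompl)
    (S := (Rh ⊗[R] S) ⧸ Ideal.span {1 - e})).mpr ⟨?_, ?_, ?_⟩
  · intro y
    refine IsLocalRing.notMem_maximalIdeal.mp (fun h => y.2 ?_)
    exact hcomap.le (show (y : Rh ⊗[R] S) ∈ Ideal.comap _ _ from h)
  · intro z
    obtain ⟨d, rfl⟩ := Ideal.Quotient.mk_surjective z
    exact ⟨(d, 1), by rw [Submonoid.coe_one, map_one, mul_one]; rfl⟩
  · intro x y hxy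
    have h1 : x - y ∈ Ideal.span {1 - e} := Ideal.Quotient.eq.mp hxy
    obtain ⟨c, hc⟩ := Ideal.mem_span_singleton'.mp h1
    refine ⟨⟨e, heQ⟩, ?_⟩
    show e * x = e * y
    have h2 : e * (x - y) = 0 := by
      rw [← hc]
      calc e * (c * (1 - e)) = c * (e * (1 - e)) := by ring
        _ = 0 := by rw [mul_sub, mul_one, he.eq, sub_self, mul_zero]
    rw [mul_sub, sub_eq_zero] at h2
    exact h2

include q hQ in
/-- Common part: the quotient `D' = (Rh ⊗[R] S) ⧸ (1 - e)` with its map to `Sh`. -/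
theorem exists_quotient_data [HenselianLocalRing Rh] (hloc : IsLocalHom (algebraMap Rh Sh)) :
    ∃ (D' : Type u) (_ : CommRing D') (_ : IsLocalRing D') (_ : Algebra (Rh ⊗[R] S) D')
      (_ : IsLocalization.AtPrime D' Q) (_ : Algebra Rh D') (_ : Module.Finite Rh D')
      (_ : Algebra D' Sh) (_ : IsScalarTower Rh D' Sh),
      ∀ d : Rh ⊗[R] S, algebraMap D' Sh (algebraMap (Rh ⊗[R] S) D' d) = phi R S Rh Sh d := by
  obtain ⟨e, he, heQ, hfin, hlocal, hLoc⟩ :=
    exists_idempotent_isLocalization R S q Rh Sh Q hQ hloc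
  have hφe : phi R S Rh Sh (1 - e) = 0 := by
    have hu : IsUnit (phi R S Rh Sh e) := isUnit_phi_of_notMem R S Rh Sh Q hQ heQ
    have h0 : phi R S Rh Sh e * phi R S Rh Sh (1 - e) = 0 := by
      rw [← map_mul, mul_sub, mul_one, he.eq, sub_self, map_zero]
    exact (hu.mul_right_eq_zero).mp h0
  have hker : ∀ a ∈ Ideal.span {1 - e}, (phi R S Rh Sh).toRingHom a = 0 := by
    intro a ha
    obtain ⟨c, rfl⟩ := Ideal.mem_span_singleton'.mp ha
    show phi R S Rh Sh (c * (1 - e)) = 0
    rw [map_mul, hφe, mul_zero]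
  letI : Algebra ((Rh ⊗[R] S) ⧸ Ideal.span {1 - e}) Sh :=
    (Ideal.Quotient.lift (Ideal.span {1 - e}) (phi R S Rh Sh).toRingHom hker).toAlgebra
  refine ⟨(Rh ⊗[R] S) ⧸ Ideal.span {1 - e}, inferInstance, hlocal, inferInstance, hLoc,
    inferInstance, hfin, inferInstance, ?_, fun d => rfl⟩
  refine IsScalarTower.of_algebraMap_eq (fun a => ?_)
  show algebraMap Rh Sh a = phi R S Rh Sh (algebraMap Rh (Rh ⊗[R] S) a)
  rw [Algebra.TensorProduct.algebraMap_apply, Algebra.algebraMap_self_apply, phi_left]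

include hQ in
theorem finite_of_quasiFiniteAt [Hensel.IsHenselization (Localization.AtPrime p) Rh]
    [Hensel.IsHenselization (Localization.AtPrime q) Sh] : Module.Finite Rh Sh := by
  haveI : HenselianLocalRing Rh :=
    Hensel.IsHenselization.henselian (R := Localization.AtPrime p)
  have hmaxR := (Groth.Agent.H47.HensNoeth.isIndEtaleLocal_of_isHenselization
    (Localization.AtPrime p) Rh).map_max
  have hloc : IsLocalHom (algebraMap Rh Sh) :=
    isLocalHom_algebraMap_of_map_eq R S p q Rh Sh hmaxR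
  obtain ⟨D', _, _, _, _, _, _, _, _, hψ⟩ := exists_quotient_data R S q Rh Sh Q hQ hloc
  haveI : Algebra.IsIntegral Rh D' := Algebra.IsIntegral.of_finite Rh D'
  haveI : HenselianLocalRing D' :=
    Groth.Agent.H3.henselianLocalRing_of_isIntegral_of_isLocalRing Rh D'
  haveI := isLocalHom_algebraMap_loc R S Rh Sh Q hQ D' hψ
  haveI := isHenselization_of_tensor R S p q Rh Sh Q hQ D' hψ
  exact finite_of_surjective_algebraMap Rh D' Sh
    (bijective_algebraMap_of_isHenselization D' Sh).2

include hQ in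
theorem finite_strict_of_quasiFiniteAt
    [Hensel.IsStrictHenselization (Localization.AtPrime p) Rh]
    [Hensel.IsStrictHenselization (Localization.AtPrime q) Sh]
    [IsLocalHom (algebraMap Rh Sh)] :
    Module.Finite Rh Sh ∧
      Module.Finite (ResidueField Rh) (ResidueField Sh) ∧
      IsPurelyInseparable (ResidueField Rh) (ResidueField Sh) := by
  haveI : HenselianLocalRing Rh :=
    Hensel.IsStrictHenselization.henselian (R := Localization.AtPrime p)
  haveI hsc : IsSepClosed (ResidueField Rh) :=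
    (Hensel.IsStrictHenselization.isSepClosure (R := Localization.AtPrime p) (S := Rh)).sep_closed
  have hloc : IsLocalHom (algebraMap Rh Sh) := inferInstance
  obtain ⟨D', _, _, _, _, _, _, _, _, hψ⟩ := exists_quotient_data R S q Rh Sh Q hQ hloc
  haveI : Algebra.IsIntegral Rh D' := Algebra.IsIntegral.of_finite Rh D'
  haveI : HenselianLocalRing D' :=
    Groth.Agent.H3.henselianLocalRing_of_isIntegral_of_isLocalRing Rh D'
  haveI : IsLocalHom (algebraMap Rh D') := isLocalHom_algebraMap_of_isIntegral Rh D'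
  haveI : Algebra.IsAlgebraic (ResidueField Rh) (ResidueField D') :=
    Algebra.IsAlgebraic.of_finite _ _
  haveI : IsSepClosed (ResidueField D') :=
    Algebra.IsAlgebraic.isSepClosed (F := ResidueField Rh) (E := ResidueField D')
  haveI := isLocalHom_algebraMap_loc R S Rh Sh Q hQ D' hψ
  haveI := isStrictHenselization_of_tensor R S p q Rh Sh Q hQ D' hψ
  haveI hfin : Module.Finite Rh Sh := finite_of_surjective_algebraMap Rh D' Sh
    (bijective_algebraMap_of_isStrictHenselization D' Sh).2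
  haveI : Algebra.IsAlgebraic (ResidueField Rh) (ResidueField Sh) :=
    Algebra.IsAlgebraic.of_finite _ _
  exact ⟨hfin, inferInstance, inferInstance⟩

end Finite

end Main

end Groth.Agent.H47.HensTensor
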