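import Mathlib
import Groth.Agent.H47.HensTensor2

/-!
# Transport of (strict) henselizations of a local ring `A` to `Localization.AtPrime (maximalIdeal A)`
and the abstract form of the tensor product theorems.
-/

set_option autoImplicit false
set_option linter.style.haveILetI false
set_option linter.unusedSectionVars false
universe u
open TensorProduct IsLocalRing

namespace Groth.Agent.H47.HensTransport

section Loc

variable (A : Type u) [CommRing A] [IsLocalRing A]

theorem primeCompl_le_isUnit : (maximalIdeal A).primeCompl ≤ IsUnit.submonoid A := by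
  intro x hx
  exact IsLocalRing.notMem_maximalIdeal.mp hx

theorem bijective_algebraMap_loc :
    Function.Bijective (algebraMap A (Localization.AtPrime (maximalIdeal A))) := by
  have h := (IsLocalization.atUnits A (maximalIdeal A).primeCompl
    (S := Localization.AtPrime (maximalIdeal A)) (primeCompl_le_isUnit A)).bijective
  have h2 : ⇑(IsLocalization.atUnits A (maximalIdeal A).primeCompl
      (S := Localization.AtPrime (maximalIdeal A)) (primeCompl_le_isUnit A)) =
      ⇑(algebraMap A (Localization.AtPrime (maximalIdeal A))) := by
    funext a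
    exact AlgEquiv.commutes _ a
  rw [← h2]
  exact h

theorem isLocalHom_algebraMap_loc_self :
    IsLocalHom (algebraMap A (Localization.AtPrime (maximalIdeal A))) := by
  constructor
  intro a ha
  have h := (IsLocalization.AtPrime.isUnit_to_map_iff (Localization.AtPrime (maximalIdeal A))
    (maximalIdeal A) a).mp ha
  exact IsLocalRing.notMem_maximalIdeal.mp h

variable (S : Type u) [CommRing S] [IsLocalRing S] [Algebra A S] [IsLocalHom (algebraMap A S)]

theorem isUnit_algebraMap_primeCompl (y : (maximalIdeal A).primeCompl) :
    IsUnit (algebraMap A S y) :=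
  (IsLocalRing.notMem_maximalIdeal.mp y.2).map _

/-- The algebra structure over `A_m` on a local `A`-algebra (with local structure map). -/
@[reducible] noncomputable def algLoc : Algebra (Localization.AtPrime (maximalIdeal A)) S :=
  (IsLocalization.lift (M := (maximalIdeal A).primeCompl) (g := algebraMap A S)
    (isUnit_algebraMap_primeCompl A S)).toAlgebra

theorem isScalarTower_algLoc :
    letI := algLoc A S
    IsScalarTower A (Localization.AtPrime (maximalIdeal A)) S := by
  letI := algLoc A S
  exact IsScalarTower.of_algebraMap_eq (fun a =>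
    (IsLocalization.lift_eq (isUnit_algebraMap_primeCompl A S) a).symm)

variable [Algebra (Localization.AtPrime (maximalIdeal A)) S]
  [IsScalarTower A (Localization.AtPrime (maximalIdeal A)) S]

theorem isLocalHom_loc : IsLocalHom (algebraMap (Localization.AtPrime (maximalIdeal A)) S) := by
  constructor
  intro x hx
  obtain ⟨a, rfl⟩ := (bijective_algebraMap_loc A).2 x
  rw [← IsScalarTower.algebraMap_apply A (Localization.AtPrime (maximalIdeal A)) S] at hx
  exact (isUnit_of_map_unit (algebraMap A S) a hx).map _

variable [IsLocalHom (algebraMap (Localization.AtPrime (maximalIdeal A)) S)]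

theorem isHenselization_loc [Hensel.IsHenselization A S] :
    Hensel.IsHenselization (Localization.AtPrime (maximalIdeal A)) S where
  henselian := Hensel.IsHenselization.henselian (R := A)
  universal T _ _ f hf := by
    haveI := hf
    haveI := isLocalHom_algebraMap_loc_self A
    have hf₀ : IsLocalHom (f.comp (algebraMap A (Localization.AtPrime (maximalIdeal A)))) :=
      RingHom.isLocalHom_comp _ _
    obtain ⟨g, hg, hguniq⟩ := Hensel.IsHenselization.universal (R := A) (S := S) T _ hf₀
    refine ⟨g, ?_, ?_⟩
    · apply IsLocalization.ringHom_ext (maximalIdeal A).primeCompl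
      rw [RingHom.comp_assoc,
        ← IsScalarTower.algebraMap_eq A (Localization.AtPrime (maximalIdeal A)) S]
      exact hg
    · intro g' hg'
      apply hguniq
      rw [← hg', RingHom.comp_assoc,
        ← IsScalarTower.algebraMap_eq A (Localization.AtPrime (maximalIdeal A)) S]

theorem isStrictHenselization_loc [Hensel.IsStrictHenselization A S] :
    Hensel.IsStrictHenselization (Localization.AtPrime (maximalIdeal A)) S where
  henselian := Hensel.IsStrictHenselization.henselian (R := A)
  isSepClosure := by
    haveI := isLocalHom_algebraMap_loc_self A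
    haveI hsc : IsSepClosure (ResidueField A) (ResidueField S) :=
      Hensel.IsStrictHenselization.isSepClosure
    haveI : IsSepClosed (ResidueField S) := hsc.sep_closed
    haveI : Algebra.IsSeparable (ResidueField A) (ResidueField S) := hsc.separable
    exact ⟨inferInstance, Algebra.isSeparable_tower_top_of_isSeparable (ResidueField A)
      (ResidueField (Localization.AtPrime (maximalIdeal A))) (ResidueField S)⟩
  universal T _ _ f _ τ hτ := by
    haveI := isLocalHom_algebraMap_loc_self A
    haveI hf₀ : IsLocalHom (f.comp (algebraMap A (Localization.AtPrime (maximalIdeal A)))) :=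
      RingHom.isLocalHom_comp _ _
    have hτ₀ : τ.comp (ResidueField.map (algebraMap A S)) =
        ResidueField.map (f.comp (algebraMap A (Localization.AtPrime (maximalIdeal A)))) := by
      refine RingHom.ext fun x => ?_
      obtain ⟨a, rfl⟩ := residue_surjective x
      rw [RingHom.comp_apply, ResidueField.map_residue, ResidueField.map_residue,
        RingHom.comp_apply,
        IsScalarTower.algebraMap_apply A (Localization.AtPrime (maximalIdeal A)) S]
      have h := RingHom.congr_fun hτ (residue (Localization.AtPrime (maximalIdeal A))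
        (algebraMap A (Localization.AtPrime (maximalIdeal A)) a))
      rwa [RingHom.comp_apply, ResidueField.map_residue, ResidueField.map_residue] at h
    obtain ⟨g, ⟨hg1, hg2⟩, hguniq⟩ := Hensel.IsStrictHenselization.universal (R := A) (S := S) T
      (f.comp (algebraMap A (Localization.AtPrime (maximalIdeal A)))) τ hτ₀
    refine ⟨g, ⟨?_, hg2⟩, ?_⟩
    · apply IsLocalization.ringHom_ext (maximalIdeal A).primeCompl
      rw [RingHom.comp_assoc,
        ← IsScalarTower.algebraMap_eq A (Localization.AtPrime (maximalIdeal A)) S]
      exact hg1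
    · intro g' hg'
      apply hguniq
      refine ⟨?_, hg'.2⟩
      rw [← hg'.1, RingHom.comp_assoc,
        ← IsScalarTower.algebraMap_eq A (Localization.AtPrime (maximalIdeal A)) S]

end Loc

/-- A compatible map between strict henselizations. -/
theorem exists_sigma (A B S T : Type u) [CommRing A] [IsLocalRing A] [CommRing B] [IsLocalRing B]
    [Algebra A B] [IsLocalHom (algebraMap A B)]
    [CommRing S] [IsLocalRing S] [Algebra A S] [IsLocalHom (algebraMap A S)]
    [Hensel.IsStrictHenselization A S]
    [CommRing T] [IsLocalRing T] [Algebra B T] [IsLocalHom (algebraMap B T)]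
    [Hensel.IsStrictHenselization B T] :
    ∃ σ : S →+* T, σ.comp (algebraMap A S) = (algebraMap B T).comp (algebraMap A B) := by
  letI : Algebra A T := ((algebraMap B T).comp (algebraMap A B)).toAlgebra
  haveI : IsScalarTower A B T := IsScalarTower.of_algebraMap_eq (fun _ => rfl)
  haveI : IsLocalHom (algebraMap A T) := by
    show IsLocalHom ((algebraMap B T).comp (algebraMap A B))
    infer_instance
  haveI hscS : IsSepClosure (ResidueField A) (ResidueField S) :=
    Hensel.IsStrictHenselization.isSepClosure
  haveI : Algebra.IsSeparable (ResidueField A) (ResidueField S) := hscS.separable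
  haveI hscT : IsSepClosure (ResidueField B) (ResidueField T) :=
    Hensel.IsStrictHenselization.isSepClosure
  haveI : IsSepClosed (ResidueField T) := hscT.sep_closed
  haveI : HenselianLocalRing T := Hensel.IsStrictHenselization.henselian (R := B)
  let τ₀ : ResidueField S →ₐ[ResidueField A] ResidueField T := IsSepClosed.lift
  have hτ : τ₀.toRingHom.comp (ResidueField.map (algebraMap A S)) =
      ResidueField.map (algebraMap A T) := by
    refine RingHom.ext fun x => ?_
    obtain ⟨a, rfl⟩ := residue_surjective x
    have h := τ₀.commutes (residue A a)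
    rw [ResidueField.algebraMap_residue, ResidueField.algebraMap_residue] at h
    rw [RingHom.comp_apply, ResidueField.map_residue, ResidueField.map_residue]
    exact h
  obtain ⟨σ, ⟨hσ1, -⟩, -⟩ := Hensel.IsStrictHenselization.universal (R := A) (S := S) T
    (algebraMap A T) τ₀.toRingHom hτ
  exact ⟨σ, hσ1⟩

section Abstract

open Groth.Agent.H47.HensTensor

variable (A B S T : Type u) [CommRing A] [IsLocalRing A] [CommRing B] [IsLocalRing B]
  [Algebra A B] [IsLocalHom (algebraMap A B)]
  [CommRing S] [IsLocalRing S] [Algebra A S] [IsLocalHom (algebraMap A S)]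
  [CommRing T] [IsLocalRing T] [Algebra B T] [IsLocalHom (algebraMap B T)]
  [Algebra A T] [IsScalarTower A B T] [Algebra S T] [IsScalarTower A S T]

theorem liesOver_maximalIdeal : (maximalIdeal B).LiesOver (maximalIdeal A) := by
  have h4 : (maximalIdeal B).comap (algebraMap A B) = maximalIdeal A :=
    ((IsLocalRing.local_hom_TFAE (algebraMap A B)).out 0 4).mp ‹IsLocalHom (algebraMap A B)›
  exact ⟨h4.symm⟩

theorem isLocalHom_algebraMap_strict [Hensel.IsStrictHenselization A S]
    [Hensel.IsStrictHenselization B T] : IsLocalHom (algebraMap S T) := by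
  letI := algLoc A S
  haveI := isScalarTower_algLoc A S
  haveI := isLocalHom_loc A S
  haveI := isStrictHenselization_loc A S
  letI := algLoc B T
  haveI := isScalarTower_algLoc B T
  haveI := isLocalHom_loc B T
  haveI := liesOver_maximalIdeal A B
  have hmaxR := (Groth.Agent.H47.HensNoeth.isIndEtaleLocal_of_isStrictHenselization
    (Localization.AtPrime (maximalIdeal A)) S).map_max
  exact isLocalHom_algebraMap_of_map_eq A B (maximalIdeal A) (maximalIdeal B) S T hmaxR

variable (Q : Ideal (S ⊗[A] B)) [Q.IsPrime]
  (hQ : Q = Ideal.comap (phi A B S T) (maximalIdeal T))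
  (L : Type u) [CommRing L] [IsLocalRing L] [Algebra (S ⊗[A] B) L] [IsLocalization.AtPrime L Q]
  [Algebra L T]
  (hψ : ∀ d : S ⊗[A] B, algebraMap L T (algebraMap (S ⊗[A] B) L d) = phi A B S T d)

include hQ hψ in
theorem isStrictHenselization_of_tensor_abstract [Hensel.IsStrictHenselization A S]
    [Hensel.IsStrictHenselization B T] [IsLocalHom (algebraMap L T)] :
    Hensel.IsStrictHenselization L T := by
  letI := algLoc A S
  haveI := isScalarTower_algLoc A S
  haveI := isLocalHom_loc A S
  haveI := isStrictHenselization_loc A S
  letI := algLoc B T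
  haveI := isScalarTower_algLoc B T
  haveI := isLocalHom_loc B T
  haveI := isStrictHenselization_loc B T
  haveI := liesOver_maximalIdeal A B
  exact isStrictHenselization_of_tensor A B (maximalIdeal A) (maximalIdeal B) S T Q hQ L hψ

include hQ in
theorem exists_quotient_data_strict_abstract [Module.Finite A B]
    [Hensel.IsStrictHenselization A S] [Hensel.IsStrictHenselization B T] :
    ∃ (D' : Type u) (_ : CommRing D') (_ : IsLocalRing D') (_ : Algebra (S ⊗[A] B) D')
      (_ : IsLocalization.AtPrime D' Q) (_ : Algebra D' T),
      (∀ d : S ⊗[A] B, algebraMap D' T (algebraMap (S ⊗[A] B) D' d) = phi A B S T d) ∧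
        Function.Bijective (algebraMap D' T) := by
  letI := algLoc A S
  haveI := isScalarTower_algLoc A S
  haveI := isLocalHom_loc A S
  haveI := isStrictHenselization_loc A S
  letI := algLoc B T
  haveI := isScalarTower_algLoc B T
  haveI := isLocalHom_loc B T
  haveI := isStrictHenselization_loc B T
  haveI := liesOver_maximalIdeal A B
  haveI : HenselianLocalRing S := Hensel.IsStrictHenselization.henselian (R := A)
  haveI hsc : IsSepClosed (ResidueField S) :=
    (Hensel.IsStrictHenselization.isSepClosure (R := A) (S := S)).sep_closed
  have hloc : IsLocalHom (algebraMap S T) := isLocalHom_algebraMap_strict A B S T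
  obtain ⟨D', _, _, _, _, _, _, _, _, hψ⟩ :=
    exists_quotient_data A B (maximalIdeal B) S T Q hQ hloc
  haveI : Algebra.IsIntegral S D' := Algebra.IsIntegral.of_finite S D'
  haveI : HenselianLocalRing D' :=
    Groth.Agent.H3.henselianLocalRing_of_isIntegral_of_isLocalRing S D'
  haveI : IsLocalHom (algebraMap S D') := isLocalHom_algebraMap_of_isIntegral S D'
  haveI : Algebra.IsAlgebraic (ResidueField S) (ResidueField D') :=
    Algebra.IsAlgebraic.of_finite _ _
  haveI : IsSepClosed (ResidueField D') :=
    Algebra.IsAlgebraic.isSepClosed (F := ResidueField S) (E := ResidueField D')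
  haveI := isLocalHom_algebraMap_loc A B S T Q hQ D' hψ
  haveI := isStrictHenselization_of_tensor A B (maximalIdeal A) (maximalIdeal B) S T Q hQ D' hψ
  exact ⟨D', inferInstance, inferInstance, inferInstance, inferInstance, inferInstance, hψ,
    bijective_algebraMap_of_isStrictHenselization D' T⟩

omit [Q.IsPrime] in
/-- `T` is the localization of `B ⊗[A] S` at a maximal ideal, for `B` finite over `A`. -/
theorem exists_maximal_equiv [Module.Finite A B]
    [Hensel.IsStrictHenselization A S] [Hensel.IsStrictHenselization B T] :
    ∃ (q : Ideal (B ⊗[A] S)) (_ : q.IsMaximal), Nonempty (Localization.AtPrime q ≃ₐ[B] T) := by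
  haveI hQprime : (Ideal.comap (phi A B S T) (maximalIdeal T)).IsPrime := Ideal.comap_isPrime _ _
  obtain ⟨D', _, _, _, _, _, hψ, hbij⟩ := exists_quotient_data_strict_abstract A B S T
    (Ideal.comap (phi A B S T) (maximalIdeal T)) rfl
  haveI hloc : IsLocalHom (algebraMap S T) := isLocalHom_algebraMap_strict A B S T
  haveI : Algebra.IsIntegral A B := Algebra.IsIntegral.of_finite A B
  have hcm : (Ideal.comap (phi A B S T) (maximalIdeal T)).comap (algebraMap S (S ⊗[A] B)) =
      maximalIdeal S := by
    ext a
    rw [Ideal.mem_comap, Ideal.mem_comap, Algebra.TensorProduct.algebraMap_apply,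
      Algebra.algebraMap_self_apply, phi_left, ← Ideal.mem_comap]
    have h4 : (maximalIdeal T).comap (algebraMap S T) = maximalIdeal S :=
      ((IsLocalRing.local_hom_TFAE (algebraMap S T)).out 0 4).mp hloc
    rw [h4]
  haveI hQmax : (Ideal.comap (phi A B S T) (maximalIdeal T)).IsMaximal :=
    Ideal.isMaximal_of_isIntegral_of_isMaximal_comap (R := S) _ (by
      rw [hcm]
      exact maximalIdeal.isMaximal S)
  have hqmax : (Ideal.comap (Algebra.TensorProduct.comm A B S)
      (Ideal.comap (phi A B S T) (maximalIdeal T))).IsMaximal :=
    Ideal.comap_isMaximal_of_surjective _ (Algebra.TensorProduct.comm A B S).surjective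
  haveI := hqmax.isPrime
  letI : Algebra (B ⊗[A] S) D' := ((algebraMap (S ⊗[A] B) D').comp
    ((Algebra.TensorProduct.comm A B S : B ⊗[A] S ≃ₐ[A] S ⊗[A] B) :
      B ⊗[A] S →+* S ⊗[A] B)).toAlgebra
  have hmap : ∀ x : B ⊗[A] S, algebraMap (B ⊗[A] S) D' x =
      algebraMap (S ⊗[A] B) D' (Algebra.TensorProduct.comm A B S x) := fun _ => rfl
  haveI hloc' : IsLocalization.AtPrime D' (Ideal.comap (Algebra.TensorProduct.comm A B S)
      (Ideal.comap (phi A B S T) (maximalIdeal T))) := by
    refine (isLocalization_iff (M := (Ideal.comap (Algebra.TensorProduct.comm A B S)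
      (Ideal.comap (phi A B S T) (maximalIdeal T))).primeCompl) (S := D')).mpr ⟨?_, ?_, ?_⟩
    · intro y
      have hy : Algebra.TensorProduct.comm A B S (y : B ⊗[A] S) ∉
          Ideal.comap (phi A B S T) (maximalIdeal T) := y.2
      rw [hmap]
      exact IsLocalization.map_units D'
        (⟨_, hy⟩ : (Ideal.comap (phi A B S T) (maximalIdeal T)).primeCompl)
    · intro z
      obtain ⟨⟨x', y'⟩, hxy⟩ :=
        IsLocalization.surj (Ideal.comap (phi A B S T) (maximalIdeal T)).primeCompl z
      have hy' : (Algebra.TensorProduct.comm A B S).symm (y' : S ⊗[A] B) ∈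
          (Ideal.comap (Algebra.TensorProduct.comm A B S)
            (Ideal.comap (phi A B S T) (maximalIdeal T))).primeCompl := by
        show ¬ (Algebra.TensorProduct.comm A B S
          ((Algebra.TensorProduct.comm A B S).symm (y' : S ⊗[A] B)) ∈
            Ideal.comap (phi A B S T) (maximalIdeal T))
        rw [AlgEquiv.apply_symm_apply]
        exact y'.2
      refine ⟨((Algebra.TensorProduct.comm A B S).symm x', ⟨_, hy'⟩), ?_⟩
      rw [hmap, hmap]
      show z * algebraMap (S ⊗[A] B) D' (Algebra.TensorProduct.comm A B S
        ((Algebra.TensorProduct.comm A B S).symm (y' : S ⊗[A] B))) =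
        algebraMap (S ⊗[A] B) D' (Algebra.TensorProduct.comm A B S
        ((Algebra.TensorProduct.comm A B S).symm x'))
      rw [AlgEquiv.apply_symm_apply, AlgEquiv.apply_symm_apply]
      exact hxy
    · intro x y hxy
      rw [hmap, hmap] at hxy
      obtain ⟨t, ht⟩ := (IsLocalization.eq_iff_exists
        (Ideal.comap (phi A B S T) (maximalIdeal T)).primeCompl D').mp hxy
      have ht' : (Algebra.TensorProduct.comm A B S).symm (t : S ⊗[A] B) ∈
          (Ideal.comap (Algebra.TensorProduct.comm A B S)
            (Ideal.comap (phi A B S T) (maximalIdeal T))).primeCompl := by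
        show ¬ (Algebra.TensorProduct.comm A B S
          ((Algebra.TensorProduct.comm A B S).symm (t : S ⊗[A] B)) ∈
            Ideal.comap (phi A B S T) (maximalIdeal T))
        rw [AlgEquiv.apply_symm_apply]
        exact t.2
      refine ⟨⟨_, ht'⟩, ?_⟩
      show (Algebra.TensorProduct.comm A B S).symm (t : S ⊗[A] B) * x =
        (Algebra.TensorProduct.comm A B S).symm (t : S ⊗[A] B) * y
      apply (Algebra.TensorProduct.comm A B S).injective
      rw [map_mul, map_mul, AlgEquiv.apply_symm_apply]
      exact ht
  refine ⟨_, hqmax, ⟨AlgEquiv.ofRingEquiv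
    (f := (IsLocalization.algEquiv (Ideal.comap (Algebra.TensorProduct.comm A B S)
      (Ideal.comap (phi A B S T) (maximalIdeal T))).primeCompl
      (Localization.AtPrime (Ideal.comap (Algebra.TensorProduct.comm A B S)
      (Ideal.comap (phi A B S T) (maximalIdeal T)))) D').toRingEquiv.trans
      (RingEquiv.ofBijective (algebraMap D' T) hbij)) ?_⟩⟩
  intro b
  show algebraMap D' T ((IsLocalization.algEquiv (Ideal.comap (Algebra.TensorProduct.comm A B S)
      (Ideal.comap (phi A B S T) (maximalIdeal T))).primeCompl
      (Localization.AtPrime (Ideal.comap (Algebra.TensorProduct.comm A B S)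
      (Ideal.comap (phi A B S T) (maximalIdeal T)))) D')
      (algebraMap B (Localization.AtPrime (Ideal.comap (Algebra.TensorProduct.comm A B S)
      (Ideal.comap (phi A B S T) (maximalIdeal T)))) b)) = algebraMap B T b
  rw [IsScalarTower.algebraMap_apply B (B ⊗[A] S) (Localization.AtPrime
    (Ideal.comap (Algebra.TensorProduct.comm A B S)
      (Ideal.comap (phi A B S T) (maximalIdeal T)))) b, AlgEquiv.commutes, hmap, hψ,
    Algebra.TensorProduct.algebraMap_apply, Algebra.algebraMap_self_apply,
    Algebra.TensorProduct.comm_tmul, phi_right]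

end Abstract

end Groth.Agent.H47.HensTransport
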