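import Mathlib
import Groth.Agent.H47.HensTransport
import Groth.Agent.H47.HensK3
import Groth.Agent.S13598

/-!
# The strict henselization of a quotient
-/

set_option autoImplicit false
set_option linter.style.haveILetI false
set_option linter.unusedSectionVars false
universe u
open TensorProduct IsLocalRing

namespace Groth.Agent.H47.StrictQuot

theorem isStrictHenselization_quotient {A S : Type u} [CommRing A] [IsLocalRing A] [CommRing S]
    [IsLocalRing S] [Algebra A S] [IsLocalHom (algebraMap A S)] [Hensel.IsStrictHenselization A S]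
    (I : Ideal A) [IsLocalRing (A ⧸ I)] [IsLocalRing (S ⧸ I.map (algebraMap A S))]
    [IsLocalHom (algebraMap (A ⧸ I) (S ⧸ I.map (algebraMap A S)))] :
    Hensel.IsStrictHenselization (A ⧸ I) (S ⧸ I.map (algebraMap A S)) := by
  haveI hS : HenselianLocalRing S := Hensel.IsStrictHenselization.henselian (R := A) (S := S)
  haveI hπA : IsLocalHom (Ideal.Quotient.mk I) :=
    IsLocalHom.of_surjective _ Ideal.Quotient.mk_surjective
  haveI hπS : IsLocalHom (Ideal.Quotient.mk (I.map (algebraMap A S))) :=
    IsLocalHom.of_surjective _ Ideal.Quotient.mk_surjective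
  have hρ : Function.Bijective
      (ResidueField.map (Ideal.Quotient.mk (I.map (algebraMap A S)))) := by
    refine ⟨RingHom.injective _, fun z => ?_⟩
    obtain ⟨x', rfl⟩ := residue_surjective z
    obtain ⟨x, rfl⟩ := Ideal.Quotient.mk_surjective x'
    exact ⟨residue S x, ResidueField.map_residue _ _⟩
  have hcomm : (algebraMap (ResidueField (A ⧸ I))
      (ResidueField (S ⧸ I.map (algebraMap A S)))).comp (ResidueField.map (Ideal.Quotient.mk I)) =
      (ResidueField.map (Ideal.Quotient.mk (I.map (algebraMap A S)))).comp
        (algebraMap (ResidueField A) (ResidueField S)) := by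
    refine RingHom.ext fun x => ?_
    obtain ⟨a, rfl⟩ := residue_surjective x
    rfl
  refine ⟨Groth.Agent.S13598.henselian_quotient _, ?_, ?_⟩
  · haveI hsc : IsSepClosure (ResidueField A) (ResidueField S) :=
      Hensel.IsStrictHenselization.isSepClosure
    haveI : IsSepClosed (ResidueField S) := hsc.sep_closed
    haveI : Algebra.IsSeparable (ResidueField A) (ResidueField S) := hsc.separable
    haveI : IsSepClosed (ResidueField (S ⧸ I.map (algebraMap A S))) :=
      Groth.Agent.H47.HensK.isSepClosed_of_ringEquiv (RingEquiv.ofBijective _ hρ)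
    refine ⟨inferInstance, ⟨fun z => ?_⟩⟩
    obtain ⟨w, rfl⟩ := hρ.2 z
    have hsep : (minpoly (ResidueField A) w).Separable :=
      Algebra.IsSeparable.isSeparable (ResidueField A) w
    have hroot : Polynomial.aeval
        (ResidueField.map (Ideal.Quotient.mk (I.map (algebraMap A S))) w)
        ((minpoly (ResidueField A) w).map (ResidueField.map (Ideal.Quotient.mk I))) = 0 := by
      rw [Polynomial.aeval_def, Polynomial.eval₂_map, hcomm, ← Polynomial.hom_eval₂,
        ← Polynomial.aeval_def, minpoly.aeval, map_zero]
    exact (hsep.map).of_dvd (minpoly.dvd _ _ hroot)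
  · intro T _ _ f _ τ hτ
    haveI hf₀ : IsLocalHom (f.comp (Ideal.Quotient.mk I)) := RingHom.isLocalHom_comp _ _
    have hτ₀ : (τ.comp (ResidueField.map (Ideal.Quotient.mk (I.map (algebraMap A S))))).comp
        (ResidueField.map (algebraMap A S)) = ResidueField.map (f.comp (Ideal.Quotient.mk I)) := by
      refine RingHom.ext fun x => ?_
      obtain ⟨a, rfl⟩ := residue_surjective x
      have h := RingHom.congr_fun hτ (residue (A ⧸ I) (Ideal.Quotient.mk I a))
      rw [RingHom.comp_apply, ResidueField.map_residue, ResidueField.map_residue] at h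
      rw [RingHom.comp_apply, RingHom.comp_apply, ResidueField.map_residue,
        ResidueField.map_residue, ResidueField.map_residue, RingHom.comp_apply]
      exact h
    obtain ⟨g, ⟨hg1, hg2⟩, hguniq⟩ := Hensel.IsStrictHenselization.universal (R := A) (S := S) T
      (f.comp (Ideal.Quotient.mk I))
      (τ.comp (ResidueField.map (Ideal.Quotient.mk (I.map (algebraMap A S))))) hτ₀
    have hgJ : ∀ s ∈ I.map (algebraMap A S), g s = 0 := by
      intro s hs
      have hle : I.map (algebraMap A S) ≤ RingHom.ker g := by
        rw [Ideal.map_le_iff_le_comap]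
        intro a ha
        rw [Ideal.mem_comap, RingHom.mem_ker]
        have h := RingHom.congr_fun hg1 a
        rw [RingHom.comp_apply, RingHom.comp_apply] at h
        rw [h, Ideal.Quotient.eq_zero_iff_mem.mpr ha, map_zero]
      exact hle hs
    refine ⟨Ideal.Quotient.lift _ g hgJ, ⟨?_, ?_⟩, ?_⟩
    · apply Ideal.Quotient.ringHom_ext
      ext a
      have h := RingHom.congr_fun hg1 a
      show (Ideal.Quotient.lift _ g hgJ) (Ideal.Quotient.mk _ (algebraMap A S a)) =
        f (Ideal.Quotient.mk I a)
      rw [Ideal.Quotient.lift_mk]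
      exact h
    · intro x
      obtain ⟨s, rfl⟩ := Ideal.Quotient.mk_surjective x
      rw [Ideal.Quotient.lift_mk, hg2 s, RingHom.comp_apply, ResidueField.map_residue]
    · rintro h ⟨hh1, hh2⟩
      apply Ideal.Quotient.ringHom_ext
      have hcomp : h.comp (Ideal.Quotient.mk (I.map (algebraMap A S))) = g := by
        apply hguniq
        refine ⟨?_, ?_⟩
        · ext a
          exact RingHom.congr_fun hh1 (Ideal.Quotient.mk I a)
        · intro s
          rw [RingHom.comp_apply, hh2, RingHom.comp_apply, ResidueField.map_residue]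
      rw [hcomp]
      exact RingHom.ext fun s => (Ideal.Quotient.lift_mk _ g hgJ).symm

end Groth.Agent.H47.StrictQuot
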