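import Mathlib
import Groth.Agent.H47.HensNoeth2
import Groth.Agent.H3.HenselSplit
import Groth.Agent.H3.HInt

/-!
# (Strict) henselization of a tensor product at a prime

For `R → S`, `q` over `p`, `Rh`, `Sh` (strict) henselizations of `R_p`, `S_q` and an `R`-algebra map
`Rh → Sh`, the ring `Sh` is a (strict) henselization of `(Rh ⊗[R] S)_Q`.
-/

set_option autoImplicit false
set_option linter.style.haveILetI false
set_option linter.unusedSectionVars false
universe u
open TensorProduct IsLocalRing

namespace Groth.Agent.H47.HensTensor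

theorem ringHom_ext_tensor {R A B T : Type*} [CommRing R] [CommRing A] [CommRing B]
    [Algebra R A] [Algebra R B] [CommRing T] (f g : A ⊗[R] B →+* T)
    (h1 : ∀ a, f (a ⊗ₜ 1) = g (a ⊗ₜ 1)) (h2 : ∀ b, f (1 ⊗ₜ b) = g (1 ⊗ₜ b)) : f = g := by
  refine RingHom.ext fun d => ?_
  induction d using TensorProduct.induction_on with
  | zero => rw [map_zero, map_zero]
  | tmul a b =>
    have h : a ⊗ₜ[R] b = (a ⊗ₜ 1) * (1 ⊗ₜ b) := by
      rw [Algebra.TensorProduct.tmul_mul_tmul, mul_one, one_mul]
    rw [h, map_mul, map_mul, h1, h2]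
  | add x y hx hy => rw [map_add, map_add, hx, hy]

theorem isLocalHom_of_comp_of_map_eq {S₀ Sh T : Type*} [CommRing S₀] [IsLocalRing S₀]
    [CommRing Sh] [IsLocalRing Sh] [Algebra S₀ Sh] [CommRing T] [IsLocalRing T]
    (hmax : (maximalIdeal S₀).map (algebraMap S₀ Sh) = maximalIdeal Sh) (g : Sh →+* T)
    (h : IsLocalHom (g.comp (algebraMap S₀ Sh))) : IsLocalHom g := by
  refine ((IsLocalRing.local_hom_TFAE g).out 0 2).mpr ?_
  rw [← hmax, Ideal.map_map]
  exact ((IsLocalRing.local_hom_TFAE _).out 0 2).mp h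

theorem nonempty_algEquiv_of_isHenselization (A : Type u) [CommRing A] [IsLocalRing A]
    (E : Type u) [CommRing E] [IsLocalRing E] [Algebra A E] [IsLocalHom (algebraMap A E)]
    [Hensel.IsHenselization A E]
    (E' : Type u) [CommRing E'] [IsLocalRing E'] [Algebra A E'] [IsLocalHom (algebraMap A E')]
    [Hensel.IsHenselization A E'] : Nonempty (E ≃ₐ[A] E') := by
  obtain ⟨e⟩ := Groth.Agent.H47.Hens.exists_algEquiv A E
  obtain ⟨e'⟩ := Groth.Agent.H47.Hens.exists_algEquiv A E'
  exact ⟨e.symm.trans e'⟩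

theorem isLocalHom_algebraMap_self (A : Type*) [CommRing A] : IsLocalHom (algebraMap A A) := by
  rw [Algebra.algebraMap_self]
  infer_instance

theorem isHenselization_self (A : Type u) [CommRing A] [HenselianLocalRing A]
    [IsLocalHom (algebraMap A A)] : Hensel.IsHenselization A A where
  henselian := inferInstance
  universal T _ _ f _ := ⟨f, RingHom.comp_id f, fun g hg => (RingHom.comp_id g).symm.trans hg⟩

theorem isSepClosure_of_surjective {k K : Type*} [Field k] [Field K] (inst : Algebra k K)
    [IsSepClosed K] (h : Function.Surjective (algebraMap k K)) : IsSepClosure k K :=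
  ⟨inferInstance, ⟨fun z => by
    obtain ⟨a, rfl⟩ := h z
    exact isSeparable_algebraMap a⟩⟩

theorem isStrictHenselization_self (A : Type u) [CommRing A] [HenselianLocalRing A]
    [IsSepClosed (ResidueField A)] [IsLocalHom (algebraMap A A)] :
    Hensel.IsStrictHenselization A A where
  henselian := inferInstance
  isSepClosure := isSepClosure_of_surjective _ (fun z => by
    obtain ⟨a, rfl⟩ := residue_surjective z
    exact ⟨residue A a, rfl⟩)
  universal T _ _ f _ τ hτ := by
    refine ⟨f, ⟨RingHom.comp_id f, fun x => ?_⟩, fun g hg => ?_⟩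
    · have := RingHom.congr_fun hτ (residue A x)
      rw [RingHom.comp_apply, ResidueField.map_residue, ResidueField.map_residue] at this
      exact this.symm
    · exact (RingHom.comp_id g).symm.trans hg.1

theorem bijective_algebraMap_of_isHenselization (A B : Type u) [CommRing A]
    [HenselianLocalRing A] [CommRing B] [IsLocalRing B] [Algebra A B]
    [IsLocalHom (algebraMap A B)] [Hensel.IsHenselization A B] :
    Function.Bijective (algebraMap A B) := by
  haveI := isLocalHom_algebraMap_self A
  haveI := isHenselization_self A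
  obtain ⟨e⟩ := nonempty_algEquiv_of_isHenselization A A B
  have h : (algebraMap A B : A → B) = e := by
    funext a
    exact (e.commutes a).symm
  rw [h]
  exact e.bijective

theorem bijective_algebraMap_of_isStrictHenselization (A B : Type u) [CommRing A]
    [HenselianLocalRing A] [IsSepClosed (ResidueField A)] [CommRing B] [IsLocalRing B]
    [Algebra A B] [IsLocalHom (algebraMap A B)] [Hensel.IsStrictHenselization A B] :
    Function.Bijective (algebraMap A B) := by
  haveI := isLocalHom_algebraMap_self A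
  haveI := isStrictHenselization_self A
  obtain ⟨e⟩ := Groth.Agent.H47.HensK.nonempty_algEquiv_of_isStrictHenselization A A B
  have h : (algebraMap A B : A → B) = e := by
    funext a
    exact (e.commutes a).symm
  rw [h]
  exact e.bijective

theorem finite_of_surjective_algebraMap (Rh D' Sh : Type*) [CommRing Rh] [CommRing D']
    [CommRing Sh] [Algebra Rh D'] [Algebra Rh Sh] [Algebra D' Sh] [IsScalarTower Rh D' Sh]
    [Module.Finite Rh D'] (h : Function.Surjective (algebraMap D' Sh)) : Module.Finite Rh Sh :=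
  haveI : Module.Finite D' Sh := Module.Finite.of_surjective (Algebra.linearMap D' Sh) h
  Module.Finite.trans D' Sh

theorem isLocalHom_algebraMap_of_isIntegral (A B : Type*) [CommRing A] [IsLocalRing A]
    [CommRing B] [IsLocalRing B] [Algebra A B] [Algebra.IsIntegral A B] :
    IsLocalHom (algebraMap A B) := by
  refine ((IsLocalRing.local_hom_TFAE (algebraMap A B)).out 0 4).mpr ?_
  have h1 : ((maximalIdeal B).comap (algebraMap A B)).IsMaximal :=
    Ideal.isMaximal_comap_of_isIntegral_of_isMaximal (maximalIdeal B)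
  exact IsLocalRing.eq_maximalIdeal h1

section Basic

variable {S : Type u} [CommRing S] (q : Ideal S) [q.IsPrime]
  (Sh : Type u) [CommRing Sh] [IsLocalRing Sh] [Algebra (Localization.AtPrime q) Sh]
  [IsLocalHom (algebraMap (Localization.AtPrime q) Sh)] [Algebra S Sh]
  [IsScalarTower S (Localization.AtPrime q) Sh]

theorem comap_maximalIdeal_eq : (maximalIdeal Sh).comap (algebraMap S Sh) = q := by
  ext s
  rw [Ideal.mem_comap, IsScalarTower.algebraMap_apply S (Localization.AtPrime q) Sh]
  have h1 : (maximalIdeal Sh).comap (algebraMap (Localization.AtPrime q) Sh) =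
      maximalIdeal (Localization.AtPrime q) :=
    ((IsLocalRing.local_hom_TFAE (algebraMap (Localization.AtPrime q) Sh)).out 0 4).mp
      ‹IsLocalHom (algebraMap (Localization.AtPrime q) Sh)›
  rw [← Ideal.mem_comap, h1, IsLocalization.AtPrime.to_map_mem_maximal_iff _ q]

theorem map_eq_maximalIdeal
    (hmax : (maximalIdeal (Localization.AtPrime q)).map
      (algebraMap (Localization.AtPrime q) Sh) = maximalIdeal Sh) :
    q.map (algebraMap S Sh) = maximalIdeal Sh := by
  rw [IsScalarTower.algebraMap_eq S (Localization.AtPrime q) Sh, ← Ideal.map_map,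
    Localization.AtPrime.map_eq_maximalIdeal, hmax]

end Basic

section Main

variable (R : Type u) [CommRing R] (S : Type u) [CommRing S] [Algebra R S]
  (p : Ideal R) [p.IsPrime] (q : Ideal S) [q.IsPrime] [q.LiesOver p]
  (Rh : Type u) [CommRing Rh] [IsLocalRing Rh] [Algebra (Localization.AtPrime p) Rh]
  [IsLocalHom (algebraMap (Localization.AtPrime p) Rh)] [Algebra R Rh]
  [IsScalarTower R (Localization.AtPrime p) Rh]
  (Sh : Type u) [CommRing Sh] [IsLocalRing Sh] [Algebra (Localization.AtPrime q) Sh]
  [IsLocalHom (algebraMap (Localization.AtPrime q) Sh)] [Algebra S Sh]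
  [IsScalarTower S (Localization.AtPrime q) Sh] [Algebra R Sh] [IsScalarTower R S Sh]
  [Algebra Rh Sh] [IsScalarTower R Rh Sh]

/-- The canonical map `Rh ⊗[R] S → Sh`. -/
noncomputable abbrev phi : Rh ⊗[R] S →ₐ[R] Sh :=
  Algebra.TensorProduct.lift (IsScalarTower.toAlgHom R Rh Sh) (IsScalarTower.toAlgHom R S Sh)
    (fun _ _ => Commute.all _ _)

theorem phi_left (a : Rh) : phi R S Rh Sh (a ⊗ₜ 1) = algebraMap Rh Sh a := by
  rw [Algebra.TensorProduct.lift_tmul, map_one, mul_one]
  rfl

theorem phi_right (s : S) : phi R S Rh Sh (1 ⊗ₜ s) = algebraMap S Sh s := by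
  rw [Algebra.TensorProduct.lift_tmul, map_one, one_mul]
  rfl

theorem tmul_algebraMap (r : R) :
    (algebraMap R Rh r) ⊗ₜ[R] (1 : S) = (1 : Rh) ⊗ₜ[R] algebraMap R S r := by
  rw [Algebra.algebraMap_eq_smul_one, Algebra.algebraMap_eq_smul_one, TensorProduct.smul_tmul]

include p q in
theorem isLocalHom_algebraMap_of_map_eq
    (hmax : (maximalIdeal (Localization.AtPrime p)).map
      (algebraMap (Localization.AtPrime p) Rh) = maximalIdeal Rh) :
    IsLocalHom (algebraMap Rh Sh) := by
  refine ((IsLocalRing.local_hom_TFAE (algebraMap Rh Sh)).out 0 2).mpr ?_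
  rw [← map_eq_maximalIdeal p Rh hmax, Ideal.map_map, ← IsScalarTower.algebraMap_eq R Rh Sh,
    Ideal.map_le_iff_le_comap, IsScalarTower.algebraMap_eq R S Sh, ← Ideal.comap_comap,
    comap_maximalIdeal_eq q Sh]
  exact (q.over_def p).le

variable (Q : Ideal (Rh ⊗[R] S)) [Q.IsPrime]
  (hQ : Q = Ideal.comap (phi R S Rh Sh) (maximalIdeal Sh))

include hQ in
theorem mem_Q_iff (d : Rh ⊗[R] S) : d ∈ Q ↔ phi R S Rh Sh d ∈ maximalIdeal Sh := by
  rw [hQ, Ideal.mem_comap]

include hQ in
theorem isUnit_phi_of_notMem {d : Rh ⊗[R] S} (hd : d ∉ Q) : IsUnit (phi R S Rh Sh d) :=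
  IsLocalRing.notMem_maximalIdeal.mp (fun h => hd ((mem_Q_iff R S Rh Sh Q hQ d).mpr h))

include hQ in
theorem one_tmul_notMem {s : S} (hs : s ∉ q) : (1 : Rh) ⊗ₜ[R] s ∉ Q := by
  rw [mem_Q_iff R S Rh Sh Q hQ, phi_right, ← Ideal.mem_comap, comap_maximalIdeal_eq q Sh]
  exact hs

variable (L : Type u) [CommRing L] [IsLocalRing L] [Algebra (Rh ⊗[R] S) L]
  [IsLocalization.AtPrime L Q] [Algebra L Sh]
  (hψ : ∀ d : Rh ⊗[R] S, algebraMap L Sh (algebraMap (Rh ⊗[R] S) L d) = phi R S Rh Sh d)

include hQ hψ in
theorem isLocalHom_algebraMap_loc : IsLocalHom (algebraMap L Sh) := by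
  constructor
  intro x hx
  obtain ⟨d, t, rfl⟩ := IsLocalization.exists_mk'_eq Q.primeCompl x
  have h1 : algebraMap L Sh (IsLocalization.mk' L d t) * phi R S Rh Sh (t : Rh ⊗[R] S) =
      phi R S Rh Sh d := by
    rw [← hψ, ← hψ, ← map_mul, IsLocalization.mk'_spec]
  have h2 : IsUnit (phi R S Rh Sh (t : Rh ⊗[R] S)) := isUnit_phi_of_notMem R S Rh Sh Q hQ t.2
  have h3 : IsUnit (phi R S Rh Sh d) := by
    rw [← h1]
    exact hx.mul h2
  have h4 : d ∉ Q := fun hd =>
    (IsLocalRing.notMem_maximalIdeal.mpr h3) ((mem_Q_iff R S Rh Sh Q hQ d).mp hd)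
  exact (IsLocalization.AtPrime.isUnit_mk'_iff L Q d t).mpr h4

include hQ hψ in
theorem exists_jmap : ∃ j : Localization.AtPrime q →+* L,
    (∀ s : S, j (algebraMap S (Localization.AtPrime q) s) =
      algebraMap (Rh ⊗[R] S) L (1 ⊗ₜ s)) ∧
    (algebraMap L Sh).comp j = algebraMap (Localization.AtPrime q) Sh ∧ IsLocalHom j := by
  have hu : ∀ s : q.primeCompl, IsUnit (((algebraMap (Rh ⊗[R] S) L).comp
      (Algebra.TensorProduct.includeRight : S →ₐ[R] Rh ⊗[R] S).toRingHom) s) := by
    intro s
    have hs : (1 : Rh) ⊗ₜ[R] (s : S) ∉ Q := one_tmul_notMem R S q Rh Sh Q hQ s.2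
    exact IsLocalization.map_units L (⟨_, hs⟩ : Q.primeCompl)
  have hj1 : ∀ s : S, IsLocalization.lift hu (algebraMap S (Localization.AtPrime q) s) =
      algebraMap (Rh ⊗[R] S) L (1 ⊗ₜ s) := fun s => IsLocalization.lift_eq hu s
  have hj2 : (algebraMap L Sh).comp (IsLocalization.lift hu) =
      algebraMap (Localization.AtPrime q) Sh := by
    apply IsLocalization.ringHom_ext q.primeCompl
    refine RingHom.ext fun s => ?_
    rw [RingHom.comp_apply, RingHom.comp_apply, hj1, hψ, phi_right, RingHom.comp_apply,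
      ← IsScalarTower.algebraMap_apply]
  refine ⟨IsLocalization.lift hu, hj1, hj2, ?_⟩
  haveI : IsLocalHom ((algebraMap L Sh).comp (IsLocalization.lift hu)) := by
    rw [hj2]
    infer_instance
  exact isLocalHom_of_comp (IsLocalization.lift hu) (algebraMap L Sh)

include hQ hψ in
theorem universal_of_tensor [Hensel.IsHenselization (Localization.AtPrime p) Rh]
    [Hensel.IsHenselization (Localization.AtPrime q) Sh]
    (T : Type u) [CommRing T] [HenselianLocalRing T] (f : L →+* T) (hf : IsLocalHom f) :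
    ∃! g : Sh →+* T, g.comp (algebraMap L Sh) = f := by
  obtain ⟨j, hj1, hj2, hj3⟩ := exists_jmap R S q Rh Sh Q hQ L hψ
  have hmaxR := (Groth.Agent.H47.HensNoeth.isIndEtaleLocal_of_isHenselization
    (Localization.AtPrime p) Rh).map_max
  have hmaxS := (Groth.Agent.H47.HensNoeth.isIndEtaleLocal_of_isHenselization
    (Localization.AtPrime q) Sh).map_max
  haveI hloc : IsLocalHom (algebraMap Rh Sh) :=
    isLocalHom_algebraMap_of_map_eq R S p q Rh Sh hmaxR
  haveI : IsLocalHom (f.comp j) := RingHom.isLocalHom_comp f j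
  obtain ⟨g, hg, hguniq⟩ := Hensel.IsHenselization.universal (R := Localization.AtPrime q)
    (S := Sh) T (f.comp j) inferInstance
  haveI hgloc : IsLocalHom g := isLocalHom_of_comp_of_map_eq hmaxS g (by rw [hg]; infer_instance)
  have hS : ∀ s : S, g (algebraMap S Sh s) = f (algebraMap (Rh ⊗[R] S) L (1 ⊗ₜ s)) := by
    intro s
    rw [IsScalarTower.algebraMap_apply S (Localization.AtPrime q) Sh, ← RingHom.comp_apply g,
      hg, RingHom.comp_apply, hj1]
  have hu : ((f.comp (algebraMap (Rh ⊗[R] S) L)).comp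
      (Algebra.TensorProduct.includeLeft : Rh →ₐ[R] Rh ⊗[R] S).toRingHom).comp
        (algebraMap (Localization.AtPrime p) Rh) =
      (g.comp (algebraMap Rh Sh)).comp (algebraMap (Localization.AtPrime p) Rh) := by
    apply IsLocalization.ringHom_ext p.primeCompl
    refine RingHom.ext fun r => ?_
    show f (algebraMap (Rh ⊗[R] S) L ((algebraMap (Localization.AtPrime p) Rh
      (algebraMap R (Localization.AtPrime p) r)) ⊗ₜ 1)) =
      g (algebraMap Rh Sh (algebraMap (Localization.AtPrime p) Rh
        (algebraMap R (Localization.AtPrime p) r)))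
    rw [← IsScalarTower.algebraMap_apply R (Localization.AtPrime p) Rh, tmul_algebraMap, ← hS,
      ← IsScalarTower.algebraMap_apply R S Sh, ← IsScalarTower.algebraMap_apply R Rh Sh]
  haveI hu₁ : IsLocalHom (g.comp (algebraMap Rh Sh)) := RingHom.isLocalHom_comp _ _
  obtain ⟨k, -, hk⟩ := Hensel.IsHenselization.universal (R := Localization.AtPrime p)
    (S := Rh) T ((g.comp (algebraMap Rh Sh)).comp (algebraMap (Localization.AtPrime p) Rh))
    (RingHom.isLocalHom_comp _ _)
  have e1 : g.comp (algebraMap Rh Sh) = k := hk _ rfl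
  have e2 : (f.comp (algebraMap (Rh ⊗[R] S) L)).comp
      (Algebra.TensorProduct.includeLeft : Rh →ₐ[R] Rh ⊗[R] S).toRingHom = k := hk _ hu
  have hRh : ∀ a : Rh, g (algebraMap Rh Sh a) = f (algebraMap (Rh ⊗[R] S) L (a ⊗ₜ 1)) :=
    fun a => RingHom.congr_fun (e1.trans e2.symm) a
  refine ⟨g, ?_, ?_⟩
  · apply IsLocalization.ringHom_ext Q.primeCompl
    apply ringHom_ext_tensor
    · intro a
      show g (algebraMap L Sh (algebraMap (Rh ⊗[R] S) L (a ⊗ₜ 1))) =
        f (algebraMap (Rh ⊗[R] S) L (a ⊗ₜ 1))
      rw [hψ, phi_left, hRh]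
    · intro s
      show g (algebraMap L Sh (algebraMap (Rh ⊗[R] S) L (1 ⊗ₜ s))) =
        f (algebraMap (Rh ⊗[R] S) L (1 ⊗ₜ s))
      rw [hψ, phi_right, hS]
  · intro g' hg'
    apply hguniq
    apply IsLocalization.ringHom_ext q.primeCompl
    refine RingHom.ext fun s => ?_
    show g' (algebraMap (Localization.AtPrime q) Sh (algebraMap S (Localization.AtPrime q) s)) =
      f (j (algebraMap S (Localization.AtPrime q) s))
    rw [hj1, ← hg', RingHom.comp_apply, hψ, phi_right, ← IsScalarTower.algebraMap_apply]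

include hQ hψ in
theorem isHenselization_of_tensor [Hensel.IsHenselization (Localization.AtPrime p) Rh]
    [Hensel.IsHenselization (Localization.AtPrime q) Sh] [IsLocalHom (algebraMap L Sh)] :
    Hensel.IsHenselization L Sh where
  henselian := Hensel.IsHenselization.henselian (R := Localization.AtPrime q)
  universal T _ _ f hf := universal_of_tensor R S p q Rh Sh Q hQ L hψ T f hf

include hQ hψ in
theorem strict_universal_of_tensor [Hensel.IsStrictHenselization (Localization.AtPrime p) Rh]
    [Hensel.IsStrictHenselization (Localization.AtPrime q) Sh] [IsLocalHom (algebraMap L Sh)]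
    (T : Type u) [CommRing T] [HenselianLocalRing T] (f : L →+* T) [IsLocalHom f]
    (τ : ResidueField Sh →+* ResidueField T)
    (hτ : τ.comp (ResidueField.map (algebraMap L Sh)) = ResidueField.map f) :
    ∃! g : Sh →+* T, g.comp (algebraMap L Sh) = f ∧
      ∀ x : Sh, residue T (g x) = τ (residue Sh x) := by
  obtain ⟨j, hj1, hj2, hj3⟩ := exists_jmap R S q Rh Sh Q hQ L hψ
  haveI := hj3
  have hmaxR := (Groth.Agent.H47.HensNoeth.isIndEtaleLocal_of_isStrictHenselization
    (Localization.AtPrime p) Rh).map_max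
  have hmaxS := (Groth.Agent.H47.HensNoeth.isIndEtaleLocal_of_isStrictHenselization
    (Localization.AtPrime q) Sh).map_max
  haveI hloc : IsLocalHom (algebraMap Rh Sh) :=
    isLocalHom_algebraMap_of_map_eq R S p q Rh Sh hmaxR
  haveI : IsLocalHom (f.comp j) := RingHom.isLocalHom_comp f j
  have hτ_apply : ∀ y : L, τ (residue Sh (algebraMap L Sh y)) = residue T (f y) := fun y => by
    have := RingHom.congr_fun hτ (residue L y)
    rwa [RingHom.comp_apply, ResidueField.map_residue, ResidueField.map_residue] at this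
  have hτq : τ.comp (ResidueField.map (algebraMap (Localization.AtPrime q) Sh)) =
      ResidueField.map (f.comp j) := by
    refine RingHom.ext fun z => ?_
    obtain ⟨x, rfl⟩ := residue_surjective z
    rw [RingHom.comp_apply, ResidueField.map_residue, ResidueField.map_residue,
      RingHom.comp_apply, ← hτ_apply, ← RingHom.comp_apply (algebraMap L Sh) j, hj2]
  obtain ⟨g, ⟨hg1, hg2⟩, hguniq⟩ := Hensel.IsStrictHenselization.universal
    (R := Localization.AtPrime q) (S := Sh) T (f.comp j) τ hτq
  haveI hgloc : IsLocalHom g :=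
    isLocalHom_of_comp_of_map_eq hmaxS g (by rw [hg1]; infer_instance)
  have hS : ∀ s : S, g (algebraMap S Sh s) = f (algebraMap (Rh ⊗[R] S) L (1 ⊗ₜ s)) := by
    intro s
    rw [IsScalarTower.algebraMap_apply S (Localization.AtPrime q) Sh, ← RingHom.comp_apply g,
      hg1, RingHom.comp_apply, hj1]
  have hu : ((f.comp (algebraMap (Rh ⊗[R] S) L)).comp
      (Algebra.TensorProduct.includeLeft : Rh →ₐ[R] Rh ⊗[R] S).toRingHom).comp
        (algebraMap (Localization.AtPrime p) Rh) =
      (g.comp (algebraMap Rh Sh)).comp (algebraMap (Localization.AtPrime p) Rh) := by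
    apply IsLocalization.ringHom_ext p.primeCompl
    refine RingHom.ext fun r => ?_
    show f (algebraMap (Rh ⊗[R] S) L ((algebraMap (Localization.AtPrime p) Rh
      (algebraMap R (Localization.AtPrime p) r)) ⊗ₜ 1)) =
      g (algebraMap Rh Sh (algebraMap (Localization.AtPrime p) Rh
        (algebraMap R (Localization.AtPrime p) r)))
    rw [← IsScalarTower.algebraMap_apply R (Localization.AtPrime p) Rh, tmul_algebraMap, ← hS,
      ← IsScalarTower.algebraMap_apply R S Sh, ← IsScalarTower.algebraMap_apply R Rh Sh]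
  haveI hu₁ : IsLocalHom (g.comp (algebraMap Rh Sh)) := RingHom.isLocalHom_comp _ _
  haveI hf₀ : IsLocalHom ((g.comp (algebraMap Rh Sh)).comp
      (algebraMap (Localization.AtPrime p) Rh)) := RingHom.isLocalHom_comp _ _
  have hτ' : (τ.comp (ResidueField.map (algebraMap Rh Sh))).comp
      (ResidueField.map (algebraMap (Localization.AtPrime p) Rh)) =
      ResidueField.map ((g.comp (algebraMap Rh Sh)).comp
        (algebraMap (Localization.AtPrime p) Rh)) := by
    refine RingHom.ext fun z => ?_
    obtain ⟨r, rfl⟩ := residue_surjective z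
    rw [RingHom.comp_apply, RingHom.comp_apply, ResidueField.map_residue,
      ResidueField.map_residue, ResidueField.map_residue]
    exact (hg2 _).symm
  obtain ⟨k, -, hk⟩ := Hensel.IsStrictHenselization.universal
    (R := Localization.AtPrime p) (S := Rh) T
    ((g.comp (algebraMap Rh Sh)).comp (algebraMap (Localization.AtPrime p) Rh))
    (τ.comp (ResidueField.map (algebraMap Rh Sh))) hτ'
  have e1 : g.comp (algebraMap Rh Sh) = k := hk _ ⟨rfl, fun x => by
    show residue T (g (algebraMap Rh Sh x)) =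
      τ (ResidueField.map (algebraMap Rh Sh) (residue Rh x))
    rw [ResidueField.map_residue]
    exact hg2 _⟩
  have e2 : (f.comp (algebraMap (Rh ⊗[R] S) L)).comp
      (Algebra.TensorProduct.includeLeft : Rh →ₐ[R] Rh ⊗[R] S).toRingHom = k :=
    hk _ ⟨hu, fun x => by
      show residue T (f (algebraMap (Rh ⊗[R] S) L (x ⊗ₜ 1))) =
        τ (ResidueField.map (algebraMap Rh Sh) (residue Rh x))
      rw [ResidueField.map_residue, ← hτ_apply, hψ, phi_left]⟩
  have hRh : ∀ a : Rh, g (algebraMap Rh Sh a) = f (algebraMap (Rh ⊗[R] S) L (a ⊗ₜ 1)) :=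
    fun a => RingHom.congr_fun (e1.trans e2.symm) a
  refine ⟨g, ⟨?_, hg2⟩, ?_⟩
  · apply IsLocalization.ringHom_ext Q.primeCompl
    apply ringHom_ext_tensor
    · intro a
      show g (algebraMap L Sh (algebraMap (Rh ⊗[R] S) L (a ⊗ₜ 1))) =
        f (algebraMap (Rh ⊗[R] S) L (a ⊗ₜ 1))
      rw [hψ, phi_left, hRh]
    · intro s
      show g (algebraMap L Sh (algebraMap (Rh ⊗[R] S) L (1 ⊗ₜ s))) =
        f (algebraMap (Rh ⊗[R] S) L (1 ⊗ₜ s))
      rw [hψ, phi_right, hS]
  · intro g' hg'
    apply hguniq
    refine ⟨?_, hg'.2⟩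
    apply IsLocalization.ringHom_ext q.primeCompl
    refine RingHom.ext fun s => ?_
    show g' (algebraMap (Localization.AtPrime q) Sh (algebraMap S (Localization.AtPrime q) s)) =
      f (j (algebraMap S (Localization.AtPrime q) s))
    rw [hj1, ← hg'.1, RingHom.comp_apply, hψ, phi_right, ← IsScalarTower.algebraMap_apply]

include hQ hψ in
theorem isStrictHenselization_of_tensor
    [Hensel.IsStrictHenselization (Localization.AtPrime p) Rh]
    [Hensel.IsStrictHenselization (Localization.AtPrime q) Sh] [IsLocalHom (algebraMap L Sh)] :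
    Hensel.IsStrictHenselization L Sh where
  henselian := Hensel.IsStrictHenselization.henselian (R := Localization.AtPrime q)
  isSepClosure := by
    obtain ⟨j, hj1, hj2, hj3⟩ := exists_jmap R S q Rh Sh Q hQ L hψ
    letI : Algebra (Localization.AtPrime q) L := j.toAlgebra
    haveI : IsLocalHom (algebraMap (Localization.AtPrime q) L) := hj3
    haveI : IsScalarTower (Localization.AtPrime q) L Sh :=
      IsScalarTower.of_algebraMap_eq (fun x => (RingHom.congr_fun hj2 x).symm)
    haveI hsc : IsSepClosure (ResidueField (Localization.AtPrime q)) (ResidueField Sh) :=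
      Hensel.IsStrictHenselization.isSepClosure
    haveI : IsSepClosed (ResidueField Sh) := hsc.sep_closed
    haveI : Algebra.IsSeparable (ResidueField (Localization.AtPrime q)) (ResidueField Sh) :=
      hsc.separable
    exact ⟨inferInstance, Algebra.isSeparable_tower_top_of_isSeparable
      (ResidueField (Localization.AtPrime q)) (ResidueField L) (ResidueField Sh)⟩
  universal T _ _ f _ τ hτ := strict_universal_of_tensor R S p q Rh Sh Q hQ L hψ T f τ hτ

end Main

end Groth.Agent.H47.HensTensor
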