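import Groth.Agent.H47.Hens4
import Groth.Agent.S9407

/-!
# Reducedness of the henselization
-/

set_option autoImplicit false
universe u
open CategoryTheory CategoryTheory.Limits TensorProduct

namespace Groth.Agent.H47.Hens

open EtPt

theorem isReduced_H (R : Type u) [CommRing R] (p : Ideal R) [p.IsPrime] [IsReduced R] :
    IsReduced (H R p) := by
  constructor
  rintro x ⟨n, hn⟩
  obtain ⟨X, a, rfl⟩ := exists_rep R p x
  have h0 : ι R p X (a ^ n) = ι R p X 0 := by rw [map_pow, hn, map_zero]
  obtain ⟨Z, u, v, huv⟩ := (ι_eq_iff R p _ _).mp h0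
  rw [map_zero, map_pow] at huv
  haveI : IsReduced Z.A := Groth.Agent.S9407.result R Z.A
  have : u.f a = 0 := IsNilpotent.eq_zero ⟨n, huv⟩
  rw [← ι_map R p u, this, map_zero]

theorem isReduced_iff (R : Type u) [CommRing R] [IsLocalRing R] (S : Type u) [CommRing S]
    [IsLocalRing S] [Algebra R S] [IsLocalHom (algebraMap R S)] [Hensel.IsHenselization R S] :
    IsReduced R ↔ IsReduced S := by
  obtain ⟨e⟩ := exists_algEquiv R S
  constructor
  · intro h
    haveI := isReduced_H R (IsLocalRing.maximalIdeal R)
    exact isReduced_of_injective e.symm.toAlgHom.toRingHom e.symm.injective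
  · intro h
    haveI := faithfullyFlat R S
    have hinj : Function.Injective (algebraMap R S) := by
      rw [RingHom.injective_iff_ker_eq_bot, RingHom.ker_eq_comap_bot,
        ← Ideal.map_bot (f := algebraMap R S), Ideal.comap_map_eq_self_of_faithfullyFlat]
    exact isReduced_of_injective (algebraMap R S) hinj

end Groth.Agent.H47.Hens
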