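import Groth.Agent.H47.EtaleNormal

/-!
# Normality of filtered colimits of étale algebras over a normal domain
-/

set_option autoImplicit false
universe u

namespace Groth.Agent.H47.EtaleNormal

/-- In an integrally closed domain, a root of a scaled monic polynomial is divisible. -/
theorem exists_mul_eq_of_scaleRoots {D : Type*} [CommRing D] [IsDomain D] [IsIntegrallyClosed D]
    (a b : D) (hb : b ≠ 0) (p : Polynomial D) (hp : p.Monic)
    (h : Polynomial.eval a (p.scaleRoots b) = 0) : ∃ c : D, c * b = a := by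
  let f := algebraMap D (FractionRing D)
  have hfb : f b ≠ 0 := by
    rwa [Ne, map_eq_zero_iff _ (IsFractionRing.injective D (FractionRing D))]
  have h1 := Polynomial.scaleRoots_eval₂_mul (p := p) f (f a / f b) b
  rw [mul_div_cancel₀ _ hfb, Polynomial.eval₂_at_apply, h, map_zero] at h1
  have h2 : Polynomial.eval₂ f (f a / f b) p = 0 := by
    rcases mul_eq_zero.mp h1.symm with h | h
    · exact absurd h (pow_ne_zero _ hfb)
    · exact h
  have hint : IsIntegral D (f a / f b) := ⟨p, hp, h2⟩
  obtain ⟨c, hc⟩ := IsIntegrallyClosed.algebraMap_eq_of_integral hint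
  refine ⟨c, IsFractionRing.injective D (FractionRing D) ?_⟩
  rw [map_mul, hc]
  exact div_mul_cancel₀ _ hfb

/-- A criterion for being integrally closed. -/
theorem isIntegrallyClosed_of_forall_scaleRoots {D : Type*} [CommRing D] [IsDomain D]
    (h : ∀ (a b : D) (p : Polynomial D), b ≠ 0 → p.Monic →
      Polynomial.eval a (p.scaleRoots b) = 0 → ∃ c : D, c * b = a) : IsIntegrallyClosed D := by
  rw [isIntegrallyClosed_iff (FractionRing D)]
  rintro z ⟨p, hp, hz⟩
  obtain ⟨a, b, hb, rfl⟩ := IsFractionRing.div_surjective D z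
  have h1 := Polynomial.scaleRoots_eval₂_eq_zero_of_eval₂_div_eq_zero
    (IsFractionRing.injective D (FractionRing D)) hz hb
  rw [Polynomial.eval₂_at_apply] at h1
  have h2 : Polynomial.eval a (p.scaleRoots b) = 0 :=
    IsFractionRing.injective D (FractionRing D) (by rw [h1, map_zero])
  have hb0 : b ≠ 0 := nonZeroDivisors.ne_zero hb
  obtain ⟨c, hc⟩ := h a b p hb0 hp h2
  refine ⟨c, ?_⟩
  have hfb : algebraMap D (FractionRing D) b ≠ 0 := by
    rwa [Ne, map_eq_zero_iff _ (IsFractionRing.injective D (FractionRing D))]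
  rw [eq_div_iff hfb, ← map_mul, hc]

theorem map_eval_scaleRoots {A B : Type*} [CommRing A] [CommRing B] [Nontrivial B] (ψ : A →+* B)
    (a b : A) (p : Polynomial A) (hp : p.Monic) :
    ψ (Polynomial.eval a (p.scaleRoots b)) =
      Polynomial.eval (ψ a) ((p.map ψ).scaleRoots (ψ b)) := by
  rw [← Polynomial.map_scaleRoots p b ψ (by rw [hp.leadingCoeff, map_one]; exact one_ne_zero),
    Polynomial.eval_map, Polynomial.eval₂_at_apply]

/-- A filtered colimit (presented elementwise) of étale algebras over an integrally closed domain,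
in which the elements outside chosen primes become invertible, is an integrally closed domain. -/
theorem isDomain_isIntegrallyClosed_of_filtered {R H : Type u} [CommRing R] [IsDomain R]
    [IsIntegrallyClosed R] [CommRing H] [Nontrivial H]
    {J : Type*} (A : J → Type u) [∀ j, CommRing (A j)] [∀ j, Algebra R (A j)]
    [∀ j, Algebra.Etale R (A j)] (q : ∀ j, Ideal (A j)) [∀ j, (q j).IsPrime]
    (ι : ∀ j, A j →+* H)
    (hrep : ∀ s : Finset H, ∃ j, ∀ x ∈ s, ∃ a, ι j a = x)
    (heq : ∀ j (a : A j), ι j a = 0 →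
      ∃ (k : J) (u : A j →ₐ[R] A k), (∀ x, ι k (u x) = ι j x) ∧ u a = 0)
    (hunit : ∀ j (a : A j), a ∉ q j → IsUnit (ι j a)) :
    IsDomain H ∧ IsIntegrallyClosed H := by
  classical
  have hN : ∀ j, IsDomain (Localization.AtPrime (q j)) ∧
      IsIntegrallyClosed (Localization.AtPrime (q j)) := fun j =>
    isDomain_isIntegrallyClosed_atPrime R (A j) (q j) (Localization.AtPrime (q j))
  let lam : ∀ j, Localization.AtPrime (q j) →+* H := fun j =>
    IsLocalization.lift (M := (q j).primeCompl) (g := ι j) (fun y => hunit j y y.2)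
  have hlam : ∀ j (a : A j), lam j (algebraMap (A j) (Localization.AtPrime (q j)) a) = ι j a :=
    fun j a => IsLocalization.lift_eq _ a
  have hdom : IsDomain H := by
    haveI : NoZeroDivisors H := by
      constructor
      intro a b hab
      obtain ⟨j, hj⟩ := hrep {a, b}
      obtain ⟨a', rfl⟩ := hj a (by simp)
      obtain ⟨b', rfl⟩ := hj b (by simp)
      rw [← map_mul] at hab
      obtain ⟨k, u, hu, hu0⟩ := heq j _ hab
      haveI := (hN k).1
      have h1 : algebraMap (A k) (Localization.AtPrime (q k)) (u a') *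
          algebraMap (A k) (Localization.AtPrime (q k)) (u b') = 0 := by
        rw [← map_mul, ← map_mul, hu0, map_zero]
      rcases mul_eq_zero.mp h1 with h | h
      · left
        rw [← hu, ← hlam, h, map_zero]
      · right
        rw [← hu, ← hlam, h, map_zero]
    exact NoZeroDivisors.to_isDomain H
  refine ⟨hdom, ?_⟩
  haveI := hdom
  apply isIntegrallyClosed_of_forall_scaleRoots
  intro a b p hb hp h
  obtain ⟨j, hj⟩ := hrep (insert a (insert b p.coeffs))
  obtain ⟨a', rfl⟩ := hj a (Finset.mem_insert_self _ _)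
  obtain ⟨b', rfl⟩ := hj b (Finset.mem_insert_of_mem (Finset.mem_insert_self _ _))
  have hlift : p ∈ Polynomial.lifts (ι j) := by
    rw [Polynomial.lifts_iff_coeffs_subset_range]
    intro c hc
    obtain ⟨d, hd⟩ := hj c (Finset.mem_insert_of_mem (Finset.mem_insert_of_mem hc))
    exact ⟨d, hd⟩
  obtain ⟨pj, rfl, -, hpj⟩ := Polynomial.lifts_and_natDegree_eq_and_monic hlift hp
  have h0 : ι j (Polynomial.eval a' (pj.scaleRoots b')) = 0 := by
    rw [map_eval_scaleRoots (ι j) a' b' pj hpj, h]
  obtain ⟨k, u, hu, hu0⟩ := heq j _ h0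
  haveI := (hN k).1
  haveI := (hN k).2
  let ψ : A j →+* Localization.AtPrime (q k) :=
    (algebraMap (A k) (Localization.AtPrime (q k))).comp u.toRingHom
  have hψ : ∀ x, lam k (ψ x) = ι j x := fun x => by
    show lam k (algebraMap (A k) _ (u x)) = ι j x
    rw [hlam, hu]
  have h1 : Polynomial.eval (ψ a') ((pj.map ψ).scaleRoots (ψ b')) = 0 := by
    rw [← map_eval_scaleRoots ψ a' b' pj hpj]
    show algebraMap (A k) _ (u (Polynomial.eval a' (pj.scaleRoots b'))) = 0
    rw [hu0, map_zero]
  have hb' : ψ b' ≠ 0 := by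
    intro h2
    apply hb
    rw [← hψ, h2, map_zero]
  obtain ⟨c, hc⟩ := exists_mul_eq_of_scaleRoots (ψ a') (ψ b') hb' (pj.map ψ) (hpj.map ψ) h1
  refine ⟨lam k c, ?_⟩
  rw [← hψ b', ← map_mul, hc, hψ]

end Groth.Agent.H47.EtaleNormal
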