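import Mathlib
import Groth.Agent.H47.HensNoeth2
import Groth.Agent.H47.HensTensor
import Groth.Agent.H3.HenselFinite
import Groth.Agent.S2801
import Groth.Agent.S13598
import Groth.Agent.S0515
import Groth.Agent.S1972
import Groth.Agent.S0514
import Groth.Prelude.Def_CAlg2
import Groth.Prelude.Def_CAlgX

/-!
# Unibranch local rings and the henselization

A local ring `A` is unibranch iff `nil(A) Aʰ` is a prime ideal of the henselization `Aʰ`, iff
`Aʰ` has a unique minimal prime.
-/

set_option autoImplicit false
set_option linter.style.haveILetI false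
set_option linter.unusedSectionVars false
universe u
open TensorProduct IsLocalRing

namespace Groth.Agent.H47.Unibranch

/-- A finite algebra over a henselian local ring which is a domain is local. -/
theorem isLocalRing_of_finite_of_isDomain (R : Type u) [CommRing R] [HenselianLocalRing R]
    (S : Type u) [CommRing S] [IsDomain S] [Algebra R S] [Module.Finite R S] : IsLocalRing S := by
  classical
  obtain ⟨ι, _, F, _, hF, ⟨e⟩⟩ := Groth.Agent.H3.exists_pi_isLocalRing_of_finite R S
  haveI := hF
  have hne : ∀ i : ι, e.symm (Pi.single i 1) ≠ 0 := by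
    intro i h
    have h' : (Pi.single i (1 : F i) : ∀ k, F k) = 0 := by
      have := congrArg e h
      rwa [e.apply_symm_apply, map_zero] at this
    have h2 := congrFun h' i
    rw [Pi.single_eq_same, Pi.zero_apply] at h2
    exact one_ne_zero h2
  have hsub : ∀ i j : ι, i = j := by
    intro i j
    by_contra hij
    have h0 : e.symm (Pi.single i 1) * e.symm (Pi.single j 1) = 0 := by
      rw [← map_mul]
      have : (Pi.single i (1 : F i) : ∀ k, F k) * Pi.single j 1 = 0 := by
        funext k
        rw [Pi.mul_apply, Pi.zero_apply]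
        by_cases hk : k = i
        · have hkj : k ≠ j := fun h => hij (hk.symm.trans h)
          rw [Pi.single_eq_of_ne hkj, mul_zero]
        · rw [Pi.single_eq_of_ne hk, zero_mul]
      rw [this, map_zero]
    rcases mul_eq_zero.mp h0 with h | h
    · exact hne i h
    · exact hne j h
  have hnonempty : Nonempty ι := by
    by_contra hemp
    rw [not_nonempty_iff] at hemp
    have h10 : e (1 : S) = e 0 := funext fun i => (hemp.false i).elim
    exact one_ne_zero (e.injective h10)
  obtain ⟨i₀⟩ := hnonempty
  have key : ∀ b : S, IsUnit (e b i₀) → IsUnit b := by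
    intro b hb
    have h1 : IsUnit (e b) := by
      rw [Pi.isUnit_iff]
      intro i
      have hi := hsub i i₀
      subst hi
      exact hb
    have h2 := h1.map e.symm
    rwa [e.symm_apply_apply] at h2
  refine IsLocalRing.of_isUnit_or_isUnit_one_sub_self fun a => ?_
  rcases IsLocalRing.isUnit_or_isUnit_one_sub_self (e a i₀) with h | h
  · exact Or.inl (key a h)
  · refine Or.inr (key (1 - a) ?_)
    rw [map_sub, map_one]
    exact h

/-- A domain integral over a henselian local ring is local. -/
theorem isLocalRing_of_isIntegral_of_isDomain (R : Type u) [CommRing R] [HenselianLocalRing R]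
    (B : Type u) [CommRing B] [IsDomain B] [Algebra R B] [Algebra.IsIntegral R B] :
    IsLocalRing B := by
  obtain ⟨M₀, hM₀⟩ := Ideal.exists_maximal B
  refine IsLocalRing.of_unique_max_ideal ⟨M₀, hM₀, fun M hM => ?_⟩
  by_contra hne
  have hnle : ¬ M ≤ M₀ := fun hle => hne (hM.eq_of_le hM₀.ne_top hle)
  obtain ⟨b, hbM, hbM₀⟩ := SetLike.not_le_iff_exists.mp hnle
  haveI : Module.Finite R (Algebra.adjoin R {b}) :=
    Algebra.finite_adjoin_simple_of_isIntegral (Algebra.IsIntegral.isIntegral b)
  haveI : IsLocalRing (Algebra.adjoin R {b}) :=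
    isLocalRing_of_finite_of_isDomain R (Algebra.adjoin R {b})
  haveI : Algebra.IsIntegral (Algebra.adjoin R {b}) B := Algebra.IsIntegral.tower_top R
  haveI := hM
  haveI := hM₀
  have h1 : (M.comap (algebraMap (Algebra.adjoin R {b}) B)).IsMaximal :=
    Ideal.isMaximal_comap_of_isIntegral_of_isMaximal M
  have h2 : (M₀.comap (algebraMap (Algebra.adjoin R {b}) B)).IsMaximal :=
    Ideal.isMaximal_comap_of_isIntegral_of_isMaximal M₀
  have h3 : M.comap (algebraMap (Algebra.adjoin R {b}) B) =
      M₀.comap (algebraMap (Algebra.adjoin R {b}) B) :=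
    (IsLocalRing.eq_maximalIdeal h1).trans (IsLocalRing.eq_maximalIdeal h2).symm
  have hb : (⟨b, Algebra.subset_adjoin (Set.mem_singleton b)⟩ : Algebra.adjoin R {b}) ∈
      M.comap (algebraMap (Algebra.adjoin R {b}) B) := hbM
  rw [h3] at hb
  exact hbM₀ hb

theorem isDomain_tensor_fractionRing (D : Type u) [CommRing D] [IsDomain D] (Dh : Type u)
    [CommRing Dh] [IsDomain Dh] [Algebra D Dh] (hinj : Function.Injective (algebraMap D Dh)) :
    IsDomain (Dh ⊗[D] FractionRing D) := by
  haveI : IsLocalization (Algebra.algebraMapSubmonoid Dh (nonZeroDivisors D))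
      (Dh ⊗[D] FractionRing D) := inferInstance
  refine IsLocalization.isDomain_of_le_nonZeroDivisors (Dh ⊗[D] FractionRing D)
    (M := Algebra.algebraMapSubmonoid Dh (nonZeroDivisors D)) ?_
  rintro _ ⟨d, hd, rfl⟩
  exact mem_nonZeroDivisors_of_ne_zero
    ((map_ne_zero_iff _ hinj).mpr (nonZeroDivisors.ne_zero hd))

theorem isDomain_tensor_subalgebra (D : Type u) [CommRing D] [IsDomain D] (Dh : Type u)
    [CommRing Dh] [IsDomain Dh] [Algebra D Dh] [Module.Flat D Dh]
    (hinj : Function.Injective (algebraMap D Dh)) (D' : Subalgebra D (FractionRing D)) :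
    IsDomain (Dh ⊗[D] D') := by
  haveI := isDomain_tensor_fractionRing D Dh hinj
  have h1 : Function.Injective (LinearMap.lTensor Dh D'.val.toLinearMap) :=
    Module.Flat.lTensor_preserves_injective_linearMap (M := Dh) D'.val.toLinearMap
      Subtype.val_injective
  have h2 : ∀ x : Dh ⊗[D] D', Algebra.TensorProduct.map (AlgHom.id D Dh) D'.val x =
      LinearMap.lTensor Dh D'.val.toLinearMap x := by
    intro x
    induction x using TensorProduct.induction_on with
    | zero => rw [map_zero, map_zero]
    | tmul a b => rfl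
    | add x y hx hy => rw [map_add, map_add, hx, hy]
  have h3 : Function.Injective (Algebra.TensorProduct.map (AlgHom.id D Dh) D'.val) := by
    intro x y hxy
    apply h1
    rw [← h2, ← h2, hxy]
  exact Function.Injective.isDomain (Algebra.TensorProduct.map (AlgHom.id D Dh) D'.val) h3

section Domain

variable (D : Type u) [CommRing D] [IsLocalRing D] [IsDomain D]
  (Dh : Type u) [CommRing Dh] [IsLocalRing Dh] [Algebra D Dh] [IsLocalHom (algebraMap D Dh)]
  [Hensel.IsHenselization D Dh]

theorem isDomain_of_isLocalRing_integralClosure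
    [IsLocalRing (integralClosure D (FractionRing D))] : IsDomain Dh := by
  haveI : IsLocalHom (algebraMap D (integralClosure D (FractionRing D))) :=
    Groth.Agent.H47.HensTensor.isLocalHom_algebraMap_of_isIntegral D _
  obtain ⟨hloc, hlh, hhens⟩ :=
    Groth.Agent.S2801.result D (integralClosure D (FractionRing D)) Dh
  haveI := hloc
  haveI := hlh
  haveI := hhens
  haveI : IsIntegrallyClosed (integralClosure D (FractionRing D)) :=
    integralClosure.isIntegrallyClosedOfFiniteExtension (FractionRing D)
  have hdom := ((Groth.Agent.S0515.result (integralClosure D (FractionRing D))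
    ((integralClosure D (FractionRing D)) ⊗[D] Dh)).mp ⟨inferInstance, inferInstance⟩).1
  haveI := hdom
  haveI : Module.Flat D Dh :=
    (Groth.Agent.H47.HensNoeth.isIndEtaleLocal_of_isHenselization D Dh).flat
  have hinjD : Function.Injective (algebraMap D (integralClosure D (FractionRing D))) := by
    intro x y hxy
    apply IsFractionRing.injective D (FractionRing D)
    exact congrArg Subtype.val hxy
  have hinj : Function.Injective (Algebra.TensorProduct.includeRight :
      Dh →ₐ[D] (integralClosure D (FractionRing D)) ⊗[D] Dh) :=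
    Algebra.TensorProduct.includeRight_injective hinjD
  exact Function.Injective.isDomain (Algebra.TensorProduct.includeRight :
      Dh →ₐ[D] (integralClosure D (FractionRing D)) ⊗[D] Dh) hinj

theorem isLocalRing_integralClosure_of_isDomain [IsDomain Dh] :
    IsLocalRing (integralClosure D (FractionRing D)) := by
  have hind := Groth.Agent.H47.HensNoeth.isIndEtaleLocal_of_isHenselization D Dh
  haveI : Module.Flat D Dh := hind.flat
  haveI : Module.FaithfullyFlat D Dh := hind.faithfullyFlat
  haveI : HenselianLocalRing Dh := Hensel.IsHenselization.henselian (R := D)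
  have hinj : Function.Injective (algebraMap D Dh) := FaithfulSMul.algebraMap_injective D Dh
  haveI : IsDomain (Dh ⊗[D] (integralClosure D (FractionRing D))) :=
    isDomain_tensor_subalgebra D Dh hinj _
  haveI : IsLocalRing (Dh ⊗[D] (integralClosure D (FractionRing D))) :=
    isLocalRing_of_isIntegral_of_isDomain Dh _
  haveI : IsLocalRing ((integralClosure D (FractionRing D)) ⊗[D] Dh) :=
    (Algebra.TensorProduct.comm D Dh (integralClosure D (FractionRing D))).toRingEquiv.isLocalRing
  exact Module.FaithfullyFlat.isLocalRing (integralClosure D (FractionRing D))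
    ((integralClosure D (FractionRing D)) ⊗[D] Dh)

end Domain

theorem isLocalRing_quotient {R : Type*} [CommRing R] [IsLocalRing R] (J : Ideal R)
    (hJ : J ≠ ⊤) : IsLocalRing (R ⧸ J) :=
  haveI : Nontrivial (R ⧸ J) := Ideal.Quotient.nontrivial_iff.mpr hJ
  IsLocalRing.of_surjective' (Ideal.Quotient.mk J) Ideal.Quotient.mk_surjective

theorem isPrime_nilradical_iff (R : Type u) [CommRing R] :
    (nilradical R).IsPrime ↔ CAlgX.HasUniqueMinimalPrime R := by
  constructor
  · intro h
    refine ⟨nilradical R, ⟨⟨h, bot_le⟩, fun q hq _ => @nilradical_le_prime _ _ q hq.1⟩, ?_⟩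
    intro Q hQ
    have h1 : nilradical R ≤ Q := @nilradical_le_prime _ _ Q hQ.1.1
    exact le_antisymm (hQ.2 ⟨h, bot_le⟩ h1) h1
  · rintro ⟨P, hP, huniq⟩
    have hset : (⊥ : Ideal R).minimalPrimes = {P} :=
      Set.eq_singleton_iff_unique_mem.mpr ⟨hP, huniq⟩
    have h1 : nilradical R = P := by
      have h2 := Ideal.sInf_minimalPrimes (I := (⊥ : Ideal R))
      rw [hset, sInf_singleton] at h2
      exact h2.symm
    rw [h1]
    exact hP.1.1

section General

variable (A Ah : Type u) [CommRing A] [IsLocalRing A] [CommRing Ah] [IsLocalRing Ah] [Algebra A Ah]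
  [IsLocalHom (algebraMap A Ah)]

theorem isLocalHom_quotient_map (I : Ideal A) [IsLocalRing (A ⧸ I)]
    [IsLocalRing (Ah ⧸ I.map (algebraMap A Ah))] :
    IsLocalHom (algebraMap (A ⧸ I) (Ah ⧸ I.map (algebraMap A Ah))) := by
  constructor
  intro x hx
  obtain ⟨a, rfl⟩ := Ideal.Quotient.mk_surjective x
  have h1 : IsUnit (Ideal.Quotient.mk (I.map (algebraMap A Ah)) (algebraMap A Ah a)) := hx
  haveI : IsLocalHom (Ideal.Quotient.mk (I.map (algebraMap A Ah))) :=
    IsLocalHom.of_surjective _ Ideal.Quotient.mk_surjective
  have h2 : IsUnit (algebraMap A Ah a) := isUnit_of_map_unit _ _ h1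
  have h3 : IsUnit a := isUnit_of_map_unit (algebraMap A Ah) a h2
  exact h3.map _

theorem map_le_maximalIdeal {I : Ideal A} (hI : I ≤ maximalIdeal A) :
    I.map (algebraMap A Ah) ≤ maximalIdeal Ah := by
  rw [Ideal.map_le_iff_le_comap]
  have h4 : (maximalIdeal Ah).comap (algebraMap A Ah) = maximalIdeal A :=
    ((IsLocalRing.local_hom_TFAE (algebraMap A Ah)).out 0 4).mp ‹IsLocalHom (algebraMap A Ah)›
  rw [h4]
  exact hI

variable [Hensel.IsHenselization A Ah]

theorem isUnibranch_iff_isPrime_map :
    CAlg2.IsUnibranch A ↔ ((nilradical A).map (algebraMap A Ah)).IsPrime := by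
  have hI : nilradical A ≤ maximalIdeal A := nilradical_le_prime _
  have hJ : (nilradical A).map (algebraMap A Ah) ≤ maximalIdeal Ah := map_le_maximalIdeal A Ah hI
  haveI : IsLocalRing (A ⧸ nilradical A) := isLocalRing_quotient _
    (fun h => (maximalIdeal.isMaximal A).ne_top (top_le_iff.mp (h ▸ hI)))
  haveI : IsLocalRing (Ah ⧸ (nilradical A).map (algebraMap A Ah)) := isLocalRing_quotient _
    (fun h => (maximalIdeal.isMaximal Ah).ne_top (top_le_iff.mp (h ▸ hJ)))
  haveI : IsLocalHom (algebraMap (A ⧸ nilradical A)
      (Ah ⧸ (nilradical A).map (algebraMap A Ah))) := isLocalHom_quotient_map A Ah _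
  haveI : Hensel.IsHenselization (A ⧸ nilradical A)
      (Ah ⧸ (nilradical A).map (algebraMap A Ah)) :=
    Groth.Agent.S13598.result (nilradical A) hI
  rw [← Ideal.Quotient.isDomain_iff_prime]
  show (IsDomain (A ⧸ nilradical A) ∧ IsLocalRing (integralClosure (A ⧸ nilradical A)
    (FractionRing (A ⧸ nilradical A)))) ↔ _
  constructor
  · rintro ⟨hdom, hloc⟩
    haveI : IsDomain (A ⧸ nilradical A) := hdom
    haveI : IsLocalRing (integralClosure (A ⧸ nilradical A)
      (FractionRing (A ⧸ nilradical A))) := hloc
    exact isDomain_of_isLocalRing_integralClosure (A ⧸ nilradical A)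
      (Ah ⧸ (nilradical A).map (algebraMap A Ah))
  · intro hdom
    haveI := hdom
    have hind := Groth.Agent.H47.HensNoeth.isIndEtaleLocal_of_isHenselization
      (A ⧸ nilradical A) (Ah ⧸ (nilradical A).map (algebraMap A Ah))
    haveI : Module.FaithfullyFlat (A ⧸ nilradical A)
      (Ah ⧸ (nilradical A).map (algebraMap A Ah)) := hind.faithfullyFlat
    haveI : IsDomain (A ⧸ nilradical A) :=
      Function.Injective.isDomain (algebraMap (A ⧸ nilradical A)
        (Ah ⧸ (nilradical A).map (algebraMap A Ah))) (FaithfulSMul.algebraMap_injective _ _)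
    exact ⟨inferInstance, isLocalRing_integralClosure_of_isDomain (A ⧸ nilradical A)
      (Ah ⧸ (nilradical A).map (algebraMap A Ah))⟩

theorem isUnibranch_iff_hasUniqueMinimalPrime :
    CAlg2.IsUnibranch A ↔ CAlgX.HasUniqueMinimalPrime Ah := by
  rw [isUnibranch_iff_isPrime_map A Ah, Groth.Agent.S1972.result A Ah (Or.inl inferInstance)]
  exact isPrime_nilradical_iff Ah

theorem reduced_isUnibranch_iff_isDomain :
    (IsReduced A ∧ CAlg2.IsUnibranch A) ↔ IsDomain Ah := by
  constructor
  · rintro ⟨hred, huni⟩
    have h1 := (isUnibranch_iff_isPrime_map A Ah).mp huni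
    rw [nilradical_eq_zero A, Ideal.zero_eq_bot, Ideal.map_bot] at h1
    exact IsDomain.of_bot_isPrime Ah
  · intro hdom
    haveI := hdom
    have hredR : IsReduced A := (Groth.Agent.S0514.result A Ah).mpr inferInstance
    refine ⟨hredR, (isUnibranch_iff_isPrime_map A Ah).mpr ?_⟩
    rw [nilradical_eq_zero A, Ideal.zero_eq_bot, Ideal.map_bot]
    exact Ideal.isPrime_bot

end General

end Groth.Agent.H47.Unibranch
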