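import Mathlib
import Groth.Agent.H47.Unibranch
import Groth.Agent.H47.StrictQuot
import Groth.Agent.H47.HensTensor3
import Groth.Agent.S0537
import Groth.Agent.S2748
import Groth.Agent.S2747

/-!
# Geometrically unibranch local rings and the strict henselization
-/

set_option autoImplicit false
set_option linter.style.haveILetI false
set_option linter.unusedSectionVars false
universe u
open TensorProduct IsLocalRing

namespace Groth.Agent.H47.UnibranchStrict

open Groth.Agent.H47.HensTensor

section Core

variable (D D' Dsh : Type u) [CommRing D] [IsLocalRing D]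
  [CommRing D'] [IsLocalRing D'] [Algebra D D'] [IsLocalHom (algebraMap D D')]
  [Algebra.IsIntegral D D']
  [CommRing Dsh] [IsLocalRing Dsh] [Algebra D Dsh] [IsLocalHom (algebraMap D Dsh)]
  [Hensel.IsStrictHenselization D Dsh]

theorem isAlgebraic_residueField : Algebra.IsAlgebraic (ResidueField D) (ResidueField D') := by
  haveI : Algebra.IsIntegral (ResidueField D) (ResidueField D') :=
    inferInstanceAs (Algebra.IsIntegral (D ⧸ maximalIdeal D) (D' ⧸ maximalIdeal D'))
  exact Algebra.IsIntegral.isAlgebraic

/-- Two embeddings of `κ(D')` into an algebraically closed field which agree on `κ(D)` are equal,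
provided `Dsh ⊗[D] D'` is local. -/
theorem eq_of_comp_eq [IsLocalRing (Dsh ⊗[D] D')] (Ω : Type u) [Field Ω] [IsAlgClosed Ω]
    (f₁ f₂ : ResidueField D' →+* Ω)
    (h' : f₁.comp (algebraMap (ResidueField D) (ResidueField D')) =
      f₂.comp (algebraMap (ResidueField D) (ResidueField D'))) : f₁ = f₂ := by
  classical
  haveI hsc : IsSepClosure (ResidueField D) (ResidueField Dsh) :=
    Hensel.IsStrictHenselization.isSepClosure
  haveI : IsSepClosed (ResidueField Dsh) := hsc.sep_closed
  haveI : Algebra.IsSeparable (ResidueField D) (ResidueField Dsh) := hsc.separable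
  haveI : Algebra.IsAlgebraic (ResidueField D) (ResidueField Dsh) :=
    Algebra.IsSeparable.isAlgebraic _ _
  haveI : IsLocalHom (algebraMap Dsh (Dsh ⊗[D] D')) :=
    isLocalHom_algebraMap_of_isIntegral Dsh _
  haveI : Algebra.IsAlgebraic (ResidueField Dsh) (ResidueField (Dsh ⊗[D] D')) :=
    isAlgebraic_residueField Dsh (Dsh ⊗[D] D')
  haveI : IsPurelyInseparable (ResidueField Dsh) (ResidueField (Dsh ⊗[D] D')) := inferInstance
  haveI hp : ExpChar (ResidueField Dsh) (ringExpChar (ResidueField Dsh)) := ringExpChar.expChar _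
  letI : Algebra (ResidueField D) Ω :=
    (f₁.comp (algebraMap (ResidueField D) (ResidueField D'))).toAlgebra
  let s : ResidueField Dsh →ₐ[ResidueField D] Ω := IsAlgClosed.lift
  letI : Algebra D Ω :=
    ((f₁.comp (algebraMap (ResidueField D) (ResidueField D'))).comp (residue D)).toAlgebra
  let U : Dsh →ₐ[D] Ω := { s.toRingHom.comp (residue Dsh) with
    commutes' := fun d => by
      show s (residue Dsh (algebraMap D Dsh d)) =
        f₁ (algebraMap (ResidueField D) (ResidueField D') (residue D d))
      rw [← ResidueField.algebraMap_residue]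
      exact s.commutes (residue D d) }
  have hU : ∀ a : Dsh, U a = s (residue Dsh a) := fun _ => rfl
  have hV : ∀ (f : ResidueField D' →+* Ω),
      f.comp (algebraMap (ResidueField D) (ResidueField D')) =
        f₁.comp (algebraMap (ResidueField D) (ResidueField D')) →
      ∃ V : D' →ₐ[D] Ω, ∀ b, V b = f (residue D' b) := by
    intro f hf
    refine ⟨{ f.comp (residue D') with commutes' := fun d => ?_ }, fun b => rfl⟩
    show f (residue D' (algebraMap D D' d)) =
      f₁ (algebraMap (ResidueField D) (ResidueField D') (residue D d))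
    rw [← ResidueField.algebraMap_residue]
    exact RingHom.congr_fun hf (residue D d)
  have key : ∀ (f : ResidueField D' →+* Ω),
      f.comp (algebraMap (ResidueField D) (ResidueField D')) =
        f₁.comp (algebraMap (ResidueField D) (ResidueField D')) → ∀ (a : Dsh) (b : D') (n : ℕ),
      ((a ⊗ₜ[D] (1 : D')) - ((1 : Dsh) ⊗ₜ[D] b) ^ (ringExpChar (ResidueField Dsh)) ^ n) ∈
        maximalIdeal (Dsh ⊗[D] D') →
      s (residue Dsh a) = (f (residue D' b)) ^ (ringExpChar (ResidueField Dsh)) ^ n := by
    intro f hf a b n hz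
    obtain ⟨V, hVb⟩ := hV f hf
    have hθl : ∀ a' : Dsh, Algebra.TensorProduct.lift U V (fun _ _ => Commute.all _ _)
        (a' ⊗ₜ[D] (1 : D')) = s (residue Dsh a') := fun a' => by
      rw [Algebra.TensorProduct.lift_tmul, map_one, mul_one, hU]
    have hθr : ∀ b' : D', Algebra.TensorProduct.lift U V (fun _ _ => Commute.all _ _)
        ((1 : Dsh) ⊗ₜ[D] b') = f (residue D' b') := fun b' => by
      rw [Algebra.TensorProduct.lift_tmul, map_one, one_mul, hVb]
    haveI hprime : (RingHom.ker (Algebra.TensorProduct.lift U V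
        (fun _ _ => Commute.all _ _)).toRingHom).IsPrime := RingHom.ker_isPrime _
    have hcm : (RingHom.ker (Algebra.TensorProduct.lift U V
        (fun _ _ => Commute.all _ _)).toRingHom).comap (algebraMap Dsh (Dsh ⊗[D] D')) =
        maximalIdeal Dsh := by
      ext a'
      rw [Ideal.mem_comap, RingHom.mem_ker, Algebra.TensorProduct.algebraMap_apply,
        Algebra.algebraMap_self_apply]
      show Algebra.TensorProduct.lift U V (fun _ _ => Commute.all _ _) (a' ⊗ₜ[D] (1 : D')) = 0 ↔ _
      rw [hθl, map_eq_zero, residue_eq_zero_iff]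
    have hmax : (RingHom.ker (Algebra.TensorProduct.lift U V
        (fun _ _ => Commute.all _ _)).toRingHom).IsMaximal :=
      Ideal.isMaximal_of_isIntegral_of_isMaximal_comap (R := Dsh) _ (by
        rw [hcm]
        exact maximalIdeal.isMaximal Dsh)
    have hker := IsLocalRing.eq_maximalIdeal hmax
    rw [← hker, RingHom.mem_ker] at hz
    have hz' : Algebra.TensorProduct.lift U V (fun _ _ => Commute.all _ _) (a ⊗ₜ[D] (1 : D')) -
        (Algebra.TensorProduct.lift U V (fun _ _ => Commute.all _ _) ((1 : Dsh) ⊗ₜ[D] b)) ^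
          (ringExpChar (ResidueField Dsh)) ^ n = 0 := by
      rw [← map_pow, ← map_sub]
      exact hz
    rw [hθl, hθr, sub_eq_zero] at hz'
    exact hz'
  refine RingHom.ext fun x => ?_
  obtain ⟨b, rfl⟩ := residue_surjective x
  obtain ⟨n, w, hw⟩ := IsPurelyInseparable.pow_mem (ResidueField Dsh)
    (ringExpChar (ResidueField Dsh)) (residue (Dsh ⊗[D] D') ((1 : Dsh) ⊗ₜ[D] b))
  obtain ⟨a, rfl⟩ := residue_surjective w
  have hz : (a ⊗ₜ[D] (1 : D')) - ((1 : Dsh) ⊗ₜ[D] b) ^ (ringExpChar (ResidueField Dsh)) ^ n ∈
      maximalIdeal (Dsh ⊗[D] D') := by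
    rw [← residue_eq_zero_iff, map_sub, map_pow, ← hw, ResidueField.algebraMap_residue,
      Algebra.TensorProduct.algebraMap_apply, Algebra.algebraMap_self_apply]
    exact sub_self _
  have e1 := key f₁ rfl a b n hz
  have e2 := key f₂ h'.symm a b n hz
  haveI : ExpChar Ω (ringExpChar (ResidueField Dsh)) :=
    expChar_of_injective_ringHom (f := s.toRingHom) s.toRingHom.injective _
  apply iterateFrobenius_inj Ω (ringExpChar (ResidueField Dsh)) n
  rw [iterateFrobenius_def, iterateFrobenius_def, ← e1, ← e2]

theorem isPurelyInseparable_of_isLocalRing_tensor [IsLocalRing (Dsh ⊗[D] D')] :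
    IsPurelyInseparable (ResidueField D) (ResidueField D') := by
  haveI := isAlgebraic_residueField D D'
  haveI hne : Nonempty (ResidueField D' →+* AlgebraicClosure (ResidueField D')) :=
    ⟨algebraMap (ResidueField D') (AlgebraicClosure (ResidueField D'))⟩
  refine IsPurelyInseparable.of_injective_comp_algebraMap (ResidueField D) (ResidueField D')
    (AlgebraicClosure (ResidueField D')) ?_
  intro f₁ f₂ h
  exact eq_of_comp_eq D D' Dsh (AlgebraicClosure (ResidueField D')) f₁ f₂ h

/-- If `D'` is a normal domain, integral over `D` with purely inseparable residue field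
extension, then the strict henselization of `D` is a domain. -/
theorem isDomain_strict_general [IsDomain D'] [IsIntegrallyClosed D']
    [IsPurelyInseparable (ResidueField D) (ResidueField D')]
    (hinj : Function.Injective (algebraMap D D')) : IsDomain Dsh := by
  have hind := Groth.Agent.H47.HensNoeth.isIndEtaleLocal_of_isStrictHenselization D Dsh
  haveI : Module.Flat D Dsh := hind.flat
  haveI : HenselianLocalRing Dsh := Hensel.IsStrictHenselization.henselian (R := D)
  haveI : IsSepClosed (ResidueField Dsh) :=
    (Hensel.IsStrictHenselization.isSepClosure (R := D) (S := Dsh)).sep_closed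
  have hinjL : Function.Injective (Algebra.TensorProduct.includeLeft : Dsh →ₐ[D] Dsh ⊗[D] D') :=
    Algebra.TensorProduct.includeLeft_injective hinj
  haveI : Nontrivial (Dsh ⊗[D] D') := hinjL.nontrivial
  haveI : IsLocalRing (Dsh ⊗[D] D') := isLocalRing_tensor D D' Dsh
  haveI : HenselianLocalRing (Dsh ⊗[D] D') :=
    Groth.Agent.H3.henselianLocalRing_of_isIntegral_of_isLocalRing Dsh _
  haveI : IsLocalHom (algebraMap Dsh (Dsh ⊗[D] D')) :=
    isLocalHom_algebraMap_of_isIntegral Dsh _
  haveI : Algebra.IsAlgebraic (ResidueField Dsh) (ResidueField (Dsh ⊗[D] D')) :=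
    isAlgebraic_residueField Dsh (Dsh ⊗[D] D')
  haveI : IsSepClosed (ResidueField (Dsh ⊗[D] D')) :=
    Algebra.IsAlgebraic.isSepClosed (F := ResidueField Dsh) (E := ResidueField (Dsh ⊗[D] D'))
  obtain ⟨T, _, _, _, _, hT⟩ := Groth.Agent.S0537.result D'
  haveI := hT
  obtain ⟨σ, hσ⟩ := Groth.Agent.H47.HensTransport.exists_sigma D D' Dsh T
  letI : Algebra D T := ((algebraMap D' T).comp (algebraMap D D')).toAlgebra
  haveI : IsScalarTower D D' T := IsScalarTower.of_algebraMap_eq (fun _ => rfl)
  letI : Algebra Dsh T := σ.toAlgebra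
  haveI : IsScalarTower D Dsh T :=
    IsScalarTower.of_algebraMap_eq (fun a => (RingHom.congr_fun hσ a).symm)
  haveI hQprime : (Ideal.comap (phi D D' Dsh T) (maximalIdeal T)).IsPrime :=
    Ideal.comap_isPrime _ _
  haveI hloc : IsLocalHom (algebraMap Dsh T) :=
    Groth.Agent.H47.HensTransport.isLocalHom_algebraMap_strict D D' Dsh T
  have hcm : (Ideal.comap (phi D D' Dsh T) (maximalIdeal T)).comap
      (algebraMap Dsh (Dsh ⊗[D] D')) = maximalIdeal Dsh := by
    ext a
    rw [Ideal.mem_comap, Ideal.mem_comap, Algebra.TensorProduct.algebraMap_apply,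
      Algebra.algebraMap_self_apply, phi_left, ← Ideal.mem_comap]
    have h4 : (maximalIdeal T).comap (algebraMap Dsh T) = maximalIdeal Dsh :=
      ((IsLocalRing.local_hom_TFAE (algebraMap Dsh T)).out 0 4).mp hloc
    rw [h4]
  have hQmax : (Ideal.comap (phi D D' Dsh T) (maximalIdeal T)).IsMaximal :=
    Ideal.isMaximal_of_isIntegral_of_isMaximal_comap (R := Dsh) _ (by
      rw [hcm]
      exact maximalIdeal.isMaximal Dsh)
  have hQeq : Ideal.comap (phi D D' Dsh T) (maximalIdeal T) = maximalIdeal (Dsh ⊗[D] D') :=
    IsLocalRing.eq_maximalIdeal hQmax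
  haveI hlocQ : IsLocalization.AtPrime (Dsh ⊗[D] D')
      (Ideal.comap (phi D D' Dsh T) (maximalIdeal T)) := by
    refine IsLocalization.of_le_isUnit ?_
    intro x hx
    have hx' : x ∉ Ideal.comap (phi D D' Dsh T) (maximalIdeal T) := hx
    rw [hQeq] at hx'
    exact IsLocalRing.notMem_maximalIdeal.mp hx'
  letI : Algebra (Dsh ⊗[D] D') T := (phi D D' Dsh T).toRingHom.toAlgebra
  have hψ : ∀ d : Dsh ⊗[D] D', algebraMap (Dsh ⊗[D] D') T
      (algebraMap (Dsh ⊗[D] D') (Dsh ⊗[D] D') d) = phi D D' Dsh T d := fun _ => rfl
  haveI : IsLocalHom (algebraMap (Dsh ⊗[D] D') T) :=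
    isLocalHom_algebraMap_loc D D' Dsh T _ rfl (Dsh ⊗[D] D') hψ
  haveI := Groth.Agent.H47.HensTransport.isStrictHenselization_of_tensor_abstract D D' Dsh T
    _ rfl (Dsh ⊗[D] D') hψ
  have hbij := bijective_algebraMap_of_isStrictHenselization (Dsh ⊗[D] D') T
  have hTdom : IsDomain T :=
    ((Groth.Agent.S2748.result D' T).mpr ⟨inferInstance, inferInstance⟩).1
  haveI := hTdom
  haveI : IsDomain (Dsh ⊗[D] D') :=
    Function.Injective.isDomain (algebraMap (Dsh ⊗[D] D') T) hbij.1
  exact Function.Injective.isDomain
    (Algebra.TensorProduct.includeLeft : Dsh →ₐ[D] Dsh ⊗[D] D') hinjL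

end Core

section Domain

variable (D : Type u) [CommRing D] [IsLocalRing D] [IsDomain D]
  (Dsh : Type u) [CommRing Dsh] [IsLocalRing Dsh] [Algebra D Dsh] [IsLocalHom (algebraMap D Dsh)]
  [Hensel.IsStrictHenselization D Dsh]

theorem injective_algebraMap_integralClosure :
    Function.Injective (algebraMap D (integralClosure D (FractionRing D))) := by
  intro x y hxy
  apply IsFractionRing.injective D (FractionRing D)
  exact congrArg Subtype.val hxy

theorem isDomain_strict_of_integralClosure
    [IsLocalRing (integralClosure D (FractionRing D))]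
    [IsLocalHom (algebraMap D (integralClosure D (FractionRing D)))]
    [IsPurelyInseparable (ResidueField D)
      (ResidueField (integralClosure D (FractionRing D)))] : IsDomain Dsh := by
  haveI : IsIntegrallyClosed (integralClosure D (FractionRing D)) :=
    integralClosure.isIntegrallyClosedOfFiniteExtension (FractionRing D)
  exact isDomain_strict_general D (integralClosure D (FractionRing D)) Dsh
    (injective_algebraMap_integralClosure D)

theorem strict_facts_of_isDomain [IsDomain Dsh] :
    ∃ (_ : IsLocalRing (integralClosure D (FractionRing D)))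
      (_ : IsLocalHom (algebraMap D (integralClosure D (FractionRing D)))),
      IsPurelyInseparable (ResidueField D)
        (ResidueField (integralClosure D (FractionRing D))) := by
  have hind := Groth.Agent.H47.HensNoeth.isIndEtaleLocal_of_isStrictHenselization D Dsh
  haveI : Module.Flat D Dsh := hind.flat
  haveI : Module.FaithfullyFlat D Dsh := hind.faithfullyFlat
  haveI : HenselianLocalRing Dsh := Hensel.IsStrictHenselization.henselian (R := D)
  have hinj : Function.Injective (algebraMap D Dsh) := FaithfulSMul.algebraMap_injective D Dsh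
  haveI : IsDomain (Dsh ⊗[D] (integralClosure D (FractionRing D))) :=
    Groth.Agent.H47.Unibranch.isDomain_tensor_subalgebra D Dsh hinj _
  haveI : IsLocalRing (Dsh ⊗[D] (integralClosure D (FractionRing D))) :=
    Groth.Agent.H47.Unibranch.isLocalRing_of_isIntegral_of_isDomain Dsh _
  haveI : IsLocalRing ((integralClosure D (FractionRing D)) ⊗[D] Dsh) :=
    (Algebra.TensorProduct.comm D Dsh (integralClosure D (FractionRing D))).toRingEquiv.isLocalRing
  haveI hD' : IsLocalRing (integralClosure D (FractionRing D)) :=
    Module.FaithfullyFlat.isLocalRing (integralClosure D (FractionRing D))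
      ((integralClosure D (FractionRing D)) ⊗[D] Dsh)
  haveI hlh : IsLocalHom (algebraMap D (integralClosure D (FractionRing D))) :=
    isLocalHom_algebraMap_of_isIntegral D _
  exact ⟨hD', hlh, isPurelyInseparable_of_isLocalRing_tensor D
    (integralClosure D (FractionRing D)) Dsh⟩

end Domain

section General

variable (A Ash : Type u) [CommRing A] [IsLocalRing A] [CommRing Ash] [IsLocalRing Ash]
  [Algebra A Ash] [IsLocalHom (algebraMap A Ash)] [Hensel.IsStrictHenselization A Ash]

theorem isGeomUnibranch_iff_isPrime_map :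
    CAlg2.IsGeomUnibranch A ↔ ((nilradical A).map (algebraMap A Ash)).IsPrime := by
  have hI : nilradical A ≤ maximalIdeal A := nilradical_le_prime _
  have hJ : (nilradical A).map (algebraMap A Ash) ≤ maximalIdeal Ash :=
    Groth.Agent.H47.Unibranch.map_le_maximalIdeal A Ash hI
  haveI : IsLocalRing (A ⧸ nilradical A) := Groth.Agent.H47.Unibranch.isLocalRing_quotient _
    (fun h => (maximalIdeal.isMaximal A).ne_top (top_le_iff.mp (h ▸ hI)))
  haveI : IsLocalRing (Ash ⧸ (nilradical A).map (algebraMap A Ash)) :=
    Groth.Agent.H47.Unibranch.isLocalRing_quotient _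
      (fun h => (maximalIdeal.isMaximal Ash).ne_top (top_le_iff.mp (h ▸ hJ)))
  haveI : IsLocalHom (algebraMap (A ⧸ nilradical A)
      (Ash ⧸ (nilradical A).map (algebraMap A Ash))) :=
    Groth.Agent.H47.Unibranch.isLocalHom_quotient_map A Ash _
  haveI : Hensel.IsStrictHenselization (A ⧸ nilradical A)
      (Ash ⧸ (nilradical A).map (algebraMap A Ash)) :=
    Groth.Agent.H47.StrictQuot.isStrictHenselization_quotient (nilradical A)
  rw [← Ideal.Quotient.isDomain_iff_prime]
  show ((IsDomain (A ⧸ nilradical A) ∧ IsLocalRing (integralClosure (A ⧸ nilradical A)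
    (FractionRing (A ⧸ nilradical A)))) ∧
    ∀ (m' : Ideal (integralClosure (A ⧸ nilradical A) (FractionRing (A ⧸ nilradical A))))
      [m'.IsMaximal],
      ∀ x : (integralClosure (A ⧸ nilradical A) (FractionRing (A ⧸ nilradical A))) ⧸ m',
        ∃ n : ℕ, x ^ (ringExpChar ((integralClosure (A ⧸ nilradical A)
          (FractionRing (A ⧸ nilradical A))) ⧸ m')) ^ n ∈
          ((Ideal.Quotient.mk m').comp ((algebraMap (A ⧸ nilradical A)
            (integralClosure (A ⧸ nilradical A) (FractionRing (A ⧸ nilradical A)))).comp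
              (Ideal.Quotient.mk (nilradical A)))).range) ↔ _
  constructor
  · rintro ⟨⟨hdom, hloc⟩, hres⟩
    haveI : IsDomain (A ⧸ nilradical A) := hdom
    haveI : IsLocalRing (integralClosure (A ⧸ nilradical A)
      (FractionRing (A ⧸ nilradical A))) := hloc
    haveI hlh : IsLocalHom (algebraMap (A ⧸ nilradical A)
        (integralClosure (A ⧸ nilradical A) (FractionRing (A ⧸ nilradical A)))) :=
      isLocalHom_algebraMap_of_isIntegral _ _
    haveI hq : ExpChar (ResidueField (integralClosure (A ⧸ nilradical A)
        (FractionRing (A ⧸ nilradical A))))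
        (ringExpChar (ResidueField (integralClosure (A ⧸ nilradical A)
        (FractionRing (A ⧸ nilradical A))))) := ringExpChar.expChar _
    haveI hq' : ExpChar (ResidueField (A ⧸ nilradical A))
        (ringExpChar (ResidueField (integralClosure (A ⧸ nilradical A)
        (FractionRing (A ⧸ nilradical A))))) :=
      RingHom.expChar (algebraMap (ResidueField (A ⧸ nilradical A))
        (ResidueField (integralClosure (A ⧸ nilradical A)
        (FractionRing (A ⧸ nilradical A))))) (RingHom.injective _) _
    haveI : IsPurelyInseparable (ResidueField (A ⧸ nilradical A))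
        (ResidueField (integralClosure (A ⧸ nilradical A)
        (FractionRing (A ⧸ nilradical A)))) := by
      refine (isPurelyInseparable_iff_pow_mem (ResidueField (A ⧸ nilradical A))
        (ringExpChar (ResidueField (integralClosure (A ⧸ nilradical A)
        (FractionRing (A ⧸ nilradical A)))))).mpr ?_
      intro x
      obtain ⟨n, a, ha⟩ := hres (maximalIdeal (integralClosure (A ⧸ nilradical A)
        (FractionRing (A ⧸ nilradical A)))) x
      exact ⟨n, residue (A ⧸ nilradical A) (Ideal.Quotient.mk (nilradical A) a), ha⟩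
    exact isDomain_strict_of_integralClosure (A ⧸ nilradical A)
      (Ash ⧸ (nilradical A).map (algebraMap A Ash))
  · intro hdom
    haveI := hdom
    have hind := Groth.Agent.H47.HensNoeth.isIndEtaleLocal_of_isStrictHenselization
      (A ⧸ nilradical A) (Ash ⧸ (nilradical A).map (algebraMap A Ash))
    haveI : Module.FaithfullyFlat (A ⧸ nilradical A)
      (Ash ⧸ (nilradical A).map (algebraMap A Ash)) := hind.faithfullyFlat
    haveI : IsDomain (A ⧸ nilradical A) :=
      Function.Injective.isDomain (algebraMap (A ⧸ nilradical A)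
        (Ash ⧸ (nilradical A).map (algebraMap A Ash))) (FaithfulSMul.algebraMap_injective _ _)
    obtain ⟨hloc, hlh, hPI⟩ := strict_facts_of_isDomain (A ⧸ nilradical A)
      (Ash ⧸ (nilradical A).map (algebraMap A Ash))
    haveI := hloc
    haveI := hlh
    haveI := hPI
    refine ⟨⟨inferInstance, hloc⟩, ?_⟩
    intro m' hm' x
    have hm : m' = maximalIdeal (integralClosure (A ⧸ nilradical A)
      (FractionRing (A ⧸ nilradical A))) := IsLocalRing.eq_maximalIdeal hm'
    subst hm
    haveI hq : ExpChar (ResidueField (integralClosure (A ⧸ nilradical A)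
        (FractionRing (A ⧸ nilradical A))))
        (ringExpChar (ResidueField (integralClosure (A ⧸ nilradical A)
        (FractionRing (A ⧸ nilradical A))))) := ringExpChar.expChar _
    haveI hq' : ExpChar (ResidueField (A ⧸ nilradical A))
        (ringExpChar (ResidueField (integralClosure (A ⧸ nilradical A)
        (FractionRing (A ⧸ nilradical A))))) :=
      RingHom.expChar (algebraMap (ResidueField (A ⧸ nilradical A))
        (ResidueField (integralClosure (A ⧸ nilradical A)
        (FractionRing (A ⧸ nilradical A))))) (RingHom.injective _) _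
    obtain ⟨n, y, hy⟩ := (isPurelyInseparable_iff_pow_mem (ResidueField (A ⧸ nilradical A))
      (ringExpChar (ResidueField (integralClosure (A ⧸ nilradical A)
      (FractionRing (A ⧸ nilradical A)))))).mp hPI x
    obtain ⟨d, rfl⟩ := residue_surjective y
    obtain ⟨a, rfl⟩ := Ideal.Quotient.mk_surjective d
    exact ⟨n, a, hy⟩

theorem isGeomUnibranch_iff_hasUniqueMinimalPrime :
    CAlg2.IsGeomUnibranch A ↔ CAlgX.HasUniqueMinimalPrime Ash := by
  rw [isGeomUnibranch_iff_isPrime_map A Ash,
    Groth.Agent.S1972.result A Ash (Or.inr inferInstance)]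
  exact Groth.Agent.H47.Unibranch.isPrime_nilradical_iff Ash

theorem reduced_isGeomUnibranch_iff_isDomain :
    (IsReduced A ∧ CAlg2.IsGeomUnibranch A) ↔ IsDomain Ash := by
  constructor
  · rintro ⟨hred, huni⟩
    have h1 := (isGeomUnibranch_iff_isPrime_map A Ash).mp huni
    rw [nilradical_eq_zero A, Ideal.zero_eq_bot, Ideal.map_bot] at h1
    exact IsDomain.of_bot_isPrime Ash
  · intro hdom
    haveI := hdom
    have hredR : IsReduced A := (Groth.Agent.S2747.result A Ash).mp inferInstance
    refine ⟨hredR, (isGeomUnibranch_iff_isPrime_map A Ash).mpr ?_⟩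
    rw [nilradical_eq_zero A, Ideal.zero_eq_bot, Ideal.map_bot]
    exact Ideal.isPrime_bot

end General

end Groth.Agent.H47.UnibranchStrict
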