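import Groth.Agent.H47.HensK3

/-!
# Maps from a strict henselization to strictly henselian local rings along non-local maps

For a local ring `A` with strict henselization `R`, and any ring map `h : A → T` to a strictly
henselian local ring `T` (not necessarily local), there is an `A`-algebra map `R → T`.
In particular for any ring map `f : A → B` of local rings there is a map of strict henselizations
`A^sh → B^sh` over `f`.
-/

set_option autoImplicit false
universe u
open CategoryTheory CategoryTheory.Limits TensorProduct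

namespace Groth.Agent.H47.HensSpecialize

open Groth.Agent.H47.HensK EtPt IsLocalRing

/-- A map from an étale algebra over a separably closed field to a field has image in the base
field. -/
theorem exists_algebraMap_eq_of_etale {k F L : Type u} [Field k] [IsSepClosed k] [CommRing F]
    [Algebra k F] [Algebra.Etale k F] [Field L] [Algebra k L] (ψ : F →ₐ[k] L) (w : F) :
    ∃ c : k, algebraMap k L c = ψ w := by
  haveI hfin : Module.Finite k F := Algebra.FormallyUnramified.finite_of_free (R := k) (S := F)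
  let 𝔭 : Ideal F := RingHom.ker ψ.toRingHom
  haveI hp : 𝔭.IsPrime := RingHom.ker_isPrime ψ.toRingHom
  haveI hint : Algebra.IsIntegral k (F ⧸ 𝔭) := inferInstance
  have hfield : IsField (F ⧸ 𝔭) :=
    isField_of_isIntegral_of_isField' (R := k) (S := F ⧸ 𝔭) (Field.toIsField k)
  haveI hmax : 𝔭.IsMaximal := Ideal.Quotient.maximal_of_isField _ hfield
  letI : Field (F ⧸ 𝔭) := Ideal.Quotient.field 𝔭
  haveI : Algebra.FormallyUnramified k (F ⧸ 𝔭) :=
    Algebra.FormallyUnramified.of_surjective (Ideal.Quotient.mkₐ k 𝔭)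
      (Ideal.Quotient.mkₐ_surjective k 𝔭)
  haveI hsep : Algebra.IsSeparable k (F ⧸ 𝔭) := Algebra.FormallyUnramified.isSeparable k (F ⧸ 𝔭)
  obtain ⟨c, hc⟩ := IsSepClosed.algebraMap_surjective k (F ⧸ 𝔭) (Ideal.Quotient.mk 𝔭 w)
  refine ⟨c, ?_⟩
  have h1 : algebraMap k F c - w ∈ 𝔭 := by
    rw [← Ideal.Quotient.eq]
    exact hc
  have h2 : ψ (algebraMap k F c - w) = 0 := h1
  rw [map_sub, sub_eq_zero] at h2
  rw [← h2]
  exact (ψ.commutes c).symm

section Local

variable (R : Type u) [CommRing R] [IsLocalRing R] (K : Type u) [Field K] [Algebra R K]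
  [Algebra (ResidueField R) K] [IsScalarTower R (ResidueField R) K]

/-- `H R K` has a point with values in any separably closed field under `R`. -/
theorem exists_point (k : Type u) [Field k] [IsSepClosed k] [Algebra R k] :
    ∃ σ : H R K →+* k, ∀ r : R, σ (algebraMap R (H R K) r) = algebraMap R k r := by
  classical
  haveI : Module.FaithfullyFlat R (H R K) := faithfullyFlat_H R K
  haveI : Nontrivial (k ⊗[R] H R K) := Module.FaithfullyFlat.rTensor_nontrivial R (H R K) k
  obtain ⟨𝔫, h𝔫⟩ := Ideal.exists_maximal (k ⊗[R] H R K)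
  letI : Field ((k ⊗[R] H R K) ⧸ 𝔫) := Ideal.Quotient.field 𝔫
  let L := (k ⊗[R] H R K) ⧸ 𝔫
  let σ₀ : H R K →+* L :=
    (Ideal.Quotient.mk 𝔫).comp
      (Algebra.TensorProduct.includeRight (R := R) (A := k) (B := H R K)).toRingHom
  have hσ₀ : ∀ x : H R K, ∃ c : k, algebraMap k L c = σ₀ x := by
    intro x
    obtain ⟨X, a, rfl⟩ := exists_rep R K x
    let ψ : k ⊗[R] X.A →ₐ[k] L :=
      (Ideal.Quotient.mkₐ k 𝔫).comp (Algebra.TensorProduct.map (AlgHom.id k k) (ιₐ R K X))
    obtain ⟨c, hc⟩ := exists_algebraMap_eq_of_etale ψ ((1 : k) ⊗ₜ[R] a)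
    refine ⟨c, hc.trans ?_⟩
    show Ideal.Quotient.mk 𝔫 (Algebra.TensorProduct.map (AlgHom.id k k) (ιₐ R K X) (1 ⊗ₜ a)) = _
    rw [Algebra.TensorProduct.map_tmul]
    rfl
  have hsurj : Function.Surjective (algebraMap k L) := by
    intro z
    obtain ⟨w, rfl⟩ := Ideal.Quotient.mk_surjective z
    induction w using TensorProduct.induction_on with
    | zero => exact ⟨0, by simp⟩
    | tmul c x =>
      obtain ⟨d, hd⟩ := hσ₀ x
      refine ⟨c * d, ?_⟩
      rw [map_mul, hd]
      have : (c ⊗ₜ[R] x : k ⊗[R] H R K) = algebraMap k (k ⊗[R] H R K) c * (1 ⊗ₜ x) := by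
        rw [Algebra.TensorProduct.algebraMap_apply, Algebra.TensorProduct.tmul_mul_tmul]
        simp
      rw [this, map_mul]
      rfl
    | add w₁ w₂ h₁ h₂ =>
      obtain ⟨c₁, h₁⟩ := h₁
      obtain ⟨c₂, h₂⟩ := h₂
      exact ⟨c₁ + c₂, by rw [map_add, h₁, h₂, map_add]⟩
  let e : k ≃+* L := RingEquiv.ofBijective (algebraMap k L)
    ⟨(algebraMap k L).injective, hsurj⟩
  refine ⟨e.symm.toRingHom.comp σ₀, fun r => ?_⟩
  show e.symm (σ₀ (algebraMap R (H R K) r)) = algebraMap R k r
  rw [RingEquiv.symm_apply_eq]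
  show Ideal.Quotient.mk 𝔫 ((1 : k) ⊗ₜ[R] algebraMap R (H R K) r) =
    Ideal.Quotient.mk 𝔫 (algebraMap k (k ⊗[R] H R K) (algebraMap R k r))
  congr 1
  rw [Algebra.TensorProduct.algebraMap_apply, Algebra.algebraMap_self_apply,
    Algebra.algebraMap_eq_smul_one r, Algebra.algebraMap_eq_smul_one r,
    TensorProduct.tmul_smul, TensorProduct.smul_tmul']

/-- For any ring map from `R` to a strictly henselian local ring `T` (not necessarily local) there
is an `R`-algebra map `H R K → T`. -/
theorem exists_desc_of_isSepClosed {T : Type u} [CommRing T] [HenselianLocalRing T]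
    [IsSepClosed (ResidueField T)] (f : R →+* T) :
    ∃ g : H R K →+* T, g.comp (algebraMap R (H R K)) = f := by
  classical
  let _ : Algebra R T := f.toAlgebra
  obtain ⟨σ, hσ⟩ := exists_point R K (ResidueField T)
  let ρ : ∀ X : EtPt R K, X.A →ₐ[R] ResidueField T := fun X =>
    { toRingHom := σ.comp (ι R K X)
      commutes' := fun r => by
        show σ (ι R K X (algebraMap R X.A r)) = algebraMap R (ResidueField T) r
        rw [ι_algebraMap, hσ] }
  have hφ : ∀ X : EtPt R K, ∃ φ : X.A →ₐ[R] T, ∀ c, residue T (φ c) = ρ X c :=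
    fun X => Groth.Agent.H14.exists_lift_of_etale (ρ X)
  choose φ hφ using hφ
  have huniq : ∀ (X : EtPt R K) (ψ : X.A →ₐ[R] T),
      (∀ c, residue T (ψ c) = ρ X c) → ψ = φ X := fun X ψ hψ =>
    Groth.Agent.S2782.algHom_eq_of_residue_eq ψ (φ X) (fun x => (hψ x).trans (hφ X x).symm)
  have hnat : ∀ (X Y : EtPt R K) (u : X ⟶ Y),
      ((φ Y).toRingHom).comp u.f.toRingHom = (φ X).toRingHom := by
    intro X Y u
    have := huniq X ((φ Y).comp u.f) (fun c => by
      show residue T (φ Y (u.f c)) = σ (ι R K X c)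
      rw [hφ Y]
      show σ (ι R K Y (u.f c)) = _
      rw [ι_map])
    exact congrArg AlgHom.toRingHom this
  refine ⟨desc R K (fun X => (φ X).toRingHom) hnat, ?_⟩
  refine RingHom.ext fun r => ?_
  show desc R K _ hnat (algebraMap R (H R K) r) = f r
  rw [← ι_algebraMap R K (X₀ R K) r, desc_ι]
  exact (φ _).commutes r

end Local

/-- For any ring map `f : A → B` of local rings there is a ring map between the strict
henselizations over `f`. -/
theorem exists_map_strictHenselization (A B : Type u) [CommRing A] [IsLocalRing A]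
    [CommRing B] [IsLocalRing B] (f : A →+* B)
    (R : Type u) [CommRing R] [IsLocalRing R] [Algebra A R] [IsLocalHom (algebraMap A R)]
    [Hensel.IsStrictHenselization A R]
    (R' : Type u) [CommRing R'] [IsLocalRing R'] [Algebra B R'] [IsLocalHom (algebraMap B R')]
    [Hensel.IsStrictHenselization B R'] :
    ∃ φ : R →+* R', φ.comp (algebraMap A R) = (algebraMap B R').comp f := by
  haveI : HenselianLocalRing R' := Hensel.IsStrictHenselization.henselian (R := B)
  haveI : IsSepClosure (ResidueField B) (ResidueField R') :=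
    Hensel.IsStrictHenselization.isSepClosure
  haveI : IsSepClosed (ResidueField R') := IsSepClosure.sep_closed (ResidueField B)
  obtain ⟨e⟩ := exists_algEquiv_Hsh A R
  obtain ⟨g, hg⟩ := exists_desc_of_isSepClosed A (Ksep A) ((algebraMap B R').comp f)
  refine ⟨g.comp e.symm.toAlgHom.toRingHom, RingHom.ext fun a => ?_⟩
  show g (e.symm (algebraMap A R a)) = _
  rw [e.symm.commutes]
  exact RingHom.congr_fun hg a

end Groth.Agent.H47.HensSpecialize
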