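import Mathlib
import Groth.Prelude.Def_CAlg2

/-!
# Minimal primes of `A' ⊗[A] C` for a flat `A`-algebra `C` and `A'` integral, "birational" over `A`
-/

set_option autoImplicit false
set_option linter.style.haveILetI false
set_option linter.unusedSectionVars false
universe u
open TensorProduct

namespace Groth.Agent.H47.MinPrimeTensor

attribute [local instance] Algebra.TensorProduct.rightAlgebra

section General

variable (A A' C : Type u) [CommRing A] [CommRing A'] [CommRing C] [Algebra A A'] [Algebra A C]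
  [Module.Flat A C] [Algebra.IsIntegral A A'] (T : Submonoid A)
  (H1 : ∀ a' : A', ∃ t ∈ T, ∃ a : A, t • a' = algebraMap A A' a)
  (H2 : ∀ t ∈ T, ∀ x : A', t • x = 0 → x = 0)
  (H3 : RingHom.ker (algebraMap A A') ≤ nilradical A)

theorem isIntegral_right : Algebra.IsIntegral C (A' ⊗[A] C) := by
  constructor
  intro b
  induction b using TensorProduct.induction_on with
  | zero => exact isIntegral_zero
  | add x y hx hy => exact hx.add hy
  | tmul a' c =>
    have h : a' ⊗ₜ[A] c = (a' ⊗ₜ[A] (1 : C)) * ((1 : A') ⊗ₜ[A] c) := by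
      rw [Algebra.TensorProduct.tmul_mul_tmul, mul_one, one_mul]
    rw [h]
    refine IsIntegral.mul ?_ ?_
    · have h1 : IsIntegral A a' := Algebra.IsIntegral.isIntegral a'
      have h2 : IsIntegral A ((Algebra.TensorProduct.includeLeft : A' →ₐ[A] A' ⊗[A] C) a') :=
        h1.map _
      exact h2.tower_top
    · exact isIntegral_algebraMap (x := c)

include H3 in
theorem ker_le_nilradical :
    RingHom.ker (algebraMap C (A' ⊗[A] C)) ≤ nilradical C := by
  intro c hc
  rw [RingHom.mem_ker] at hc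
  have hc' : (1 : A') ⊗ₜ[A] c = 0 := hc
  have hinj := Module.Flat.rTensor_preserves_injective_linearMap (M := C)
    (Ideal.kerLiftAlg (Algebra.ofId A A')).toLinearMap
    (Ideal.kerLiftAlg_injective (Algebra.ofId A A'))
  have h1 : (Ideal.Quotient.mk (RingHom.ker (Algebra.ofId A A')) (1 : A)) ⊗ₜ[A] c = 0 := by
    apply hinj
    rw [LinearMap.rTensor_tmul, map_zero]
    show (Ideal.kerLiftAlg (Algebra.ofId A A')) (Ideal.Quotient.mk _ (1 : A)) ⊗ₜ[A] c = 0
    rw [Ideal.kerLiftAlg_mk, map_one]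
    exact hc'
  have h2 := TensorProduct.quotTensorEquivQuotSMul_mk_tmul
    (RingHom.ker (Algebra.ofId A A')) (1 : A) c
  rw [h1, map_zero, one_smul] at h2
  have h3 : c ∈ (RingHom.ker (Algebra.ofId A A') • ⊤ : Submodule A C) :=
    (Submodule.Quotient.mk_eq_zero _).mp h2.symm
  refine Submodule.smul_induction_on h3 ?_ ?_
  · intro r hr n _
    rw [Algebra.smul_def]
    refine Ideal.mul_mem_right _ _ ?_
    have hr' : r ∈ nilradical A := H3 hr
    exact (mem_nilradical.mp hr').map (algebraMap A C)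
  · intro x y hx hy
    exact Ideal.add_mem _ hx hy

include H1 in
theorem exists_smul_eq (b : A' ⊗[A] C) : ∃ t ∈ T, ∃ c : C, t • b = (1 : A') ⊗ₜ[A] c := by
  induction b using TensorProduct.induction_on with
  | zero => exact ⟨1, T.one_mem, 0, by rw [smul_zero, tmul_zero]⟩
  | tmul a' c₀ =>
    obtain ⟨t, ht, a, hta⟩ := H1 a'
    refine ⟨t, ht, a • c₀, ?_⟩
    rw [TensorProduct.smul_tmul', hta, Algebra.algebraMap_eq_smul_one, TensorProduct.smul_tmul]
  | add x y hx hy =>
    obtain ⟨t₁, ht₁, c₁, h₁⟩ := hx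
    obtain ⟨t₂, ht₂, c₂, h₂⟩ := hy
    refine ⟨t₁ * t₂, T.mul_mem ht₁ ht₂, t₂ • c₁ + t₁ • c₂, ?_⟩
    rw [smul_add, mul_comm t₁ t₂, mul_smul, h₁, mul_comm t₂ t₁, mul_smul, h₂, tmul_add,
      tmul_smul, tmul_smul]

include H2 in
theorem smul_eq_zero_imp (t : A) (ht : t ∈ T) (b : A' ⊗[A] C) (hb : t • b = 0) : b = 0 := by
  have hinj : Function.Injective (LinearMap.lsmul A A' t) := by
    intro x y hxy
    rw [LinearMap.lsmul_apply, LinearMap.lsmul_apply] at hxy
    have h0 : t • (x - y) = 0 := by rw [smul_sub, hxy, sub_self]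
    exact sub_eq_zero.mp (H2 t ht _ h0)
  have h1 := Module.Flat.rTensor_preserves_injective_linearMap (M := C)
    (LinearMap.lsmul A A' t) hinj
  have h2 : ∀ x : A' ⊗[A] C, LinearMap.rTensor C (LinearMap.lsmul A A' t) x = t • x := by
    intro x
    induction x using TensorProduct.induction_on with
    | zero => rw [map_zero, smul_zero]
    | tmul a' c => rw [LinearMap.rTensor_tmul, LinearMap.lsmul_apply, TensorProduct.smul_tmul']
    | add x y hx hy => rw [map_add, hx, hy, smul_add]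
  apply h1
  rw [h2, hb, map_zero]

include H2 in
theorem algebraMap_notMem_of_mem_minimalPrimes (P' : Ideal (A' ⊗[A] C))
    (hP' : P' ∈ minimalPrimes (A' ⊗[A] C)) (t : A) (ht : t ∈ T) :
    algebraMap A (A' ⊗[A] C) t ∉ P' := by
  intro hmem
  have hnzd : algebraMap A (A' ⊗[A] C) t ∈ nonZeroDivisors (A' ⊗[A] C) := by
    rw [mem_nonZeroDivisors_iff_right]
    intro y hy
    apply smul_eq_zero_imp A A' C T H2 t ht y
    rw [Algebra.smul_def, mul_comm]
    exact hy
  exact Set.disjoint_left.mp (Ideal.disjoint_nonZeroDivisors_of_mem_minimalPrimes hP') hmem hnzd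

include H1 in
theorem mem_iff_of_avoid (P' : Ideal (A' ⊗[A] C)) [P'.IsPrime]
    (hav : ∀ t ∈ T, algebraMap A (A' ⊗[A] C) t ∉ P') (b : A' ⊗[A] C) :
    b ∈ P' ↔ ∃ t ∈ T, ∃ c : C, t • b = (1 : A') ⊗ₜ[A] c ∧
      c ∈ P'.comap (algebraMap C (A' ⊗[A] C)) := by
  constructor
  · intro hb
    obtain ⟨t, ht, c, htc⟩ := exists_smul_eq A A' C T H1 b
    refine ⟨t, ht, c, htc, ?_⟩
    rw [Ideal.mem_comap]
    show (1 : A') ⊗ₜ[A] c ∈ P'
    rw [← htc, Algebra.smul_def]
    exact Ideal.mul_mem_left _ _ hb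
  · rintro ⟨t, ht, c, htc, hc⟩
    rw [Ideal.mem_comap] at hc
    have hc' : (1 : A') ⊗ₜ[A] c ∈ P' := hc
    rw [← htc, Algebra.smul_def] at hc'
    exact (‹P'.IsPrime›.mem_or_mem hc').resolve_left (hav t ht)

include H1 H2 H3 in
theorem exists_minimalPrimes_comap_eq (P : Ideal C) (hP : P ∈ minimalPrimes C) :
    ∃ P' ∈ minimalPrimes (A' ⊗[A] C), P'.comap (algebraMap C (A' ⊗[A] C)) = P := by
  haveI : P.IsPrime := hP.1.1
  haveI := isIntegral_right A A' C
  have hker : (⊥ : Ideal (A' ⊗[A] C)).comap (algebraMap C (A' ⊗[A] C)) ≤ P := by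
    intro c hc
    have hc' : c ∈ RingHom.ker (algebraMap C (A' ⊗[A] C)) := by
      rw [RingHom.mem_ker]
      exact (Ideal.mem_bot).mp hc
    exact nilradical_le_prime P (ker_le_nilradical A A' C H3 hc')
  obtain ⟨Q', -, hQ'prime, hQ'⟩ := Ideal.exists_ideal_over_prime_of_isIntegral P
    (⊥ : Ideal (A' ⊗[A] C)) hker
  haveI := hQ'prime
  obtain ⟨p, hp, hpQ⟩ := Ideal.exists_minimalPrimes_le (I := (⊥ : Ideal (A' ⊗[A] C)))
    (J := Q') bot_le
  refine ⟨p, hp, ?_⟩
  haveI : p.IsPrime := hp.1.1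
  have hle : p.comap (algebraMap C (A' ⊗[A] C)) ≤ P := by
    rw [← hQ']
    exact Ideal.comap_mono hpQ
  exact le_antisymm hle (hP.2 ⟨Ideal.comap_isPrime _ _, bot_le⟩ hle)

include H1 H2 H3 in
theorem bijOn_minimalPrimes :
    Set.BijOn (fun P : Ideal (A' ⊗[A] C) => P.comap (algebraMap C (A' ⊗[A] C)))
      (minimalPrimes (A' ⊗[A] C)) (minimalPrimes C) := by
  refine ⟨?_, ?_, ?_⟩
  · intro P' hP'
    haveI : P'.IsPrime := hP'.1.1
    show P'.comap (algebraMap C (A' ⊗[A] C)) ∈ minimalPrimes C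
    haveI hprime : (P'.comap (algebraMap C (A' ⊗[A] C))).IsPrime := Ideal.comap_isPrime _ _
    obtain ⟨P₀, hP₀, hP₀le⟩ := Ideal.exists_minimalPrimes_le (I := (⊥ : Ideal C))
      (J := P'.comap (algebraMap C (A' ⊗[A] C))) bot_le
    obtain ⟨P'₀, hP'₀, hcomap⟩ := exists_minimalPrimes_comap_eq A A' C T H1 H2 H3 P₀ hP₀
    haveI : P'₀.IsPrime := hP'₀.1.1
    have hle : P'₀ ≤ P' := by
      intro b hb
      obtain ⟨t, ht, c, htc, hc⟩ := (mem_iff_of_avoid A A' C T H1 P'₀
        (algebraMap_notMem_of_mem_minimalPrimes A A' C T H2 P'₀ hP'₀) b).mp hb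
      refine (mem_iff_of_avoid A A' C T H1 P'
        (algebraMap_notMem_of_mem_minimalPrimes A A' C T H2 P' hP') b).mpr ⟨t, ht, c, htc, ?_⟩
      rw [hcomap] at hc
      exact hP₀le hc
    have heq : P'₀ = P' := le_antisymm hle (hP'.2 ⟨inferInstance, bot_le⟩ hle)
    rw [← heq, hcomap]
    exact hP₀
  · intro P'₁ hP'₁ P'₂ hP'₂ heq
    have heq' : P'₁.comap (algebraMap C (A' ⊗[A] C)) = P'₂.comap (algebraMap C (A' ⊗[A] C)) := heq
    haveI : P'₁.IsPrime := hP'₁.1.1
    haveI : P'₂.IsPrime := hP'₂.1.1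
    ext b
    rw [mem_iff_of_avoid A A' C T H1 P'₁
      (algebraMap_notMem_of_mem_minimalPrimes A A' C T H2 P'₁ hP'₁) b,
      mem_iff_of_avoid A A' C T H1 P'₂
      (algebraMap_notMem_of_mem_minimalPrimes A A' C T H2 P'₂ hP'₂) b, heq']
  · intro P hP
    obtain ⟨P', hP', hcomap⟩ := exists_minimalPrimes_comap_eq A A' C T H1 H2 H3 P hP
    exact ⟨P', hP', hcomap⟩

end General

section NormRed

variable (A : Type u) [CommRing A] (C : Type u) [CommRing C] [Algebra A C] [Module.Flat A C]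

theorem isIntegral_normRed : Algebra.IsIntegral A (CAlg2.normRed A) := by
  haveI : Algebra.IsIntegral A (CAlg2.red A) :=
    Algebra.IsIntegral.of_surjective (Ideal.Quotient.mkₐ A (nilradical A))
      Ideal.Quotient.mk_surjective
  exact Algebra.IsIntegral.trans (R := A) (CAlg2.red A)

/-- The multiplicative set of elements of `A` which are nonzerodivisors modulo the nilradical. -/
def T : Submonoid A := (nonZeroDivisors (CAlg2.red A)).comap (Ideal.Quotient.mk (nilradical A))

theorem coe_smul_normRed (t : A) (x : CAlg2.normRed A) :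
    ((t • x : CAlg2.normRed A) : FractionRing (CAlg2.red A)) =
      algebraMap (CAlg2.red A) (FractionRing (CAlg2.red A)) (Ideal.Quotient.mk (nilradical A) t) *
        (x : FractionRing (CAlg2.red A)) := by
  have h1 : ((t • x : CAlg2.normRed A) : FractionRing (CAlg2.red A)) =
      t • (x : FractionRing (CAlg2.red A)) := rfl
  rw [h1, Algebra.smul_def, IsScalarTower.algebraMap_apply A (CAlg2.red A)
    (FractionRing (CAlg2.red A))]
  rfl

theorem H1_normRed (a' : CAlg2.normRed A) :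
    ∃ t ∈ T A, ∃ a : A, t • a' = algebraMap A (CAlg2.normRed A) a := by
  obtain ⟨⟨r, s⟩, hrs⟩ := IsLocalization.surj (nonZeroDivisors (CAlg2.red A))
    (a' : FractionRing (CAlg2.red A))
  obtain ⟨t, ht⟩ := Ideal.Quotient.mk_surjective (s : CAlg2.red A)
  obtain ⟨a, ha⟩ := Ideal.Quotient.mk_surjective r
  refine ⟨t, ?_, a, ?_⟩
  · show Ideal.Quotient.mk (nilradical A) t ∈ nonZeroDivisors (CAlg2.red A)
    rw [ht]
    exact s.2
  · apply Subtype.ext
    rw [coe_smul_normRed, ht, mul_comm]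
    have h2 : ((algebraMap A (CAlg2.normRed A) a : CAlg2.normRed A) :
        FractionRing (CAlg2.red A)) =
        algebraMap (CAlg2.red A) (FractionRing (CAlg2.red A))
          (Ideal.Quotient.mk (nilradical A) a) := rfl
    rw [h2, ha]
    exact hrs

theorem H2_normRed (t : A) (ht : t ∈ T A) (x : CAlg2.normRed A) (hx : t • x = 0) : x = 0 := by
  have h1 := congrArg (Subtype.val) hx
  rw [coe_smul_normRed] at h1
  have hu : IsUnit (algebraMap (CAlg2.red A) (FractionRing (CAlg2.red A))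
      (Ideal.Quotient.mk (nilradical A) t)) :=
    IsLocalization.map_units (FractionRing (CAlg2.red A))
      (⟨_, ht⟩ : nonZeroDivisors (CAlg2.red A))
  apply Subtype.ext
  exact (hu.mul_right_eq_zero).mp h1

theorem H3_normRed : RingHom.ker (algebraMap A (CAlg2.normRed A)) ≤ nilradical A := by
  intro a ha
  rw [RingHom.mem_ker] at ha
  have h1 := congrArg (Subtype.val) ha
  have h2 : ((algebraMap A (CAlg2.normRed A) a : CAlg2.normRed A) :
      FractionRing (CAlg2.red A)) =
      algebraMap (CAlg2.red A) (FractionRing (CAlg2.red A))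
        (Ideal.Quotient.mk (nilradical A) a) := rfl
  rw [h2] at h1
  have hinj : Function.Injective (algebraMap (CAlg2.red A) (FractionRing (CAlg2.red A))) :=
    IsLocalization.injective _ (le_refl (nonZeroDivisors (CAlg2.red A)))
  have h3 : Ideal.Quotient.mk (nilradical A) a = 0 := hinj (by rw [h1]; exact (map_zero _).symm)
  exact Ideal.Quotient.eq_zero_iff_mem.mp h3

theorem bijOn_minimalPrimes_normRed :
    Set.BijOn (fun P : Ideal ((CAlg2.normRed A) ⊗[A] C) =>
        P.comap (Algebra.TensorProduct.includeRight.toRingHom :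
          C →+* (CAlg2.normRed A) ⊗[A] C))
      (minimalPrimes ((CAlg2.normRed A) ⊗[A] C))
      (minimalPrimes C) := by
  haveI := isIntegral_normRed A
  exact bijOn_minimalPrimes A (CAlg2.normRed A) C (T A) (H1_normRed A) (H2_normRed A)
    (H3_normRed A)

end NormRed

end Groth.Agent.H47.MinPrimeTensor
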