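import Groth.Agent.H47.HensTensor4

/-!
# Integrality of `Sh` over `Rh` in the ind-quasi-finite case
-/

set_option autoImplicit false
set_option linter.style.haveILetI false
set_option linter.unusedSectionVars false
set_option linter.unusedVariables false
universe u
open TensorProduct IsLocalRing

namespace Groth.Agent.H47.HensTensor

/-- Over a henselian local ring, a finite type algebra quasi-finite at a prime `Q` over the maximal
ideal splits off the local ring at `Q` as a finite direct factor. -/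
theorem exists_idempotent_isLocalization_general (Rh : Type u) [CommRing Rh]
    [HenselianLocalRing Rh] (N : Type u) [CommRing N] [Algebra Rh N] [Algebra.FiniteType Rh N]
    (Q : Ideal N) [Q.IsPrime] [Q.LiesOver (maximalIdeal Rh)] [Algebra.QuasiFiniteAt Rh Q] :
    ∃ e : N, IsIdempotentElem e ∧ e ∉ Q ∧ Module.Finite Rh (N ⧸ Ideal.span {1 - e}) ∧
      ∃ (_ : IsLocalRing (N ⧸ Ideal.span {1 - e})),
        IsLocalization.AtPrime (N ⧸ Ideal.span {1 - e}) Q := by
  obtain ⟨e, he, heQ, hfin, huniq⟩ :=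
    Groth.Agent.H3.exists_idempotent_finite_of_quasiFiniteAt (R := Rh) (S := N) Q
  have h1e : 1 - e ∈ Q := by
    have h : e * (1 - e) ∈ Q := by
      rw [mul_sub, mul_one, he.eq, sub_self]
      exact Q.zero_mem
    exact (‹Q.IsPrime›.mem_or_mem h).resolve_left heQ
  have hle : Ideal.span {1 - e} ≤ Q := (Ideal.span_singleton_le_iff_mem Q).mpr h1e
  haveI : Algebra.IsIntegral Rh (N ⧸ Ideal.span {1 - e}) := Algebra.IsIntegral.of_finite Rh _
  have hmaxc : ∀ M : Ideal (N ⧸ Ideal.span {1 - e}), M.IsMaximal →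
      M.comap (Ideal.Quotient.mk (Ideal.span {1 - e})) = Q := by
    intro M hM
    have hprime : (M.comap (Ideal.Quotient.mk (Ideal.span {1 - e}))).IsPrime :=
      Ideal.comap_isPrime _ _
    refine huniq _ hprime ⟨?_⟩ ?_
    · have h1 : (M.comap (algebraMap Rh (N ⧸ Ideal.span {1 - e}))).IsMaximal :=
        Ideal.isMaximal_comap_of_isIntegral_of_isMaximal M
      have h2 : M.comap (algebraMap Rh (N ⧸ Ideal.span {1 - e})) = maximalIdeal Rh :=
        IsLocalRing.eq_maximalIdeal h1
      rw [← h2]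
      rfl
    · intro hmem
      have h1 : (1 - e) ∈ M.comap (Ideal.Quotient.mk (Ideal.span {1 - e})) := by
        rw [Ideal.mem_comap, Ideal.Quotient.eq_zero_iff_mem.mpr (Ideal.mem_span_singleton_self _)]
        exact M.zero_mem
      have h2 := Ideal.add_mem _ h1 hmem
      rw [sub_add_cancel] at h2
      exact hprime.ne_top ((Ideal.eq_top_iff_one _).mpr h2)
  haveI : Nontrivial (N ⧸ Ideal.span {1 - e}) :=
    Ideal.Quotient.nontrivial_iff.mpr
      (fun h => ‹Q.IsPrime›.ne_top (top_le_iff.mp (h ▸ hle)))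
  have hlocal : IsLocalRing (N ⧸ Ideal.span {1 - e}) := by
    obtain ⟨M₀, hM₀⟩ := Ideal.exists_maximal (N ⧸ Ideal.span {1 - e})
    refine IsLocalRing.of_unique_max_ideal ⟨M₀, hM₀, fun M hM => ?_⟩
    exact Ideal.comap_injective_of_surjective (Ideal.Quotient.mk (Ideal.span {1 - e}))
      Ideal.Quotient.mk_surjective ((hmaxc M hM).trans (hmaxc M₀ hM₀).symm)
  refine ⟨e, he, heQ, hfin, hlocal, ?_⟩
  have hcomap : (maximalIdeal (N ⧸ Ideal.span {1 - e})).comap
      (Ideal.Quotient.mk (Ideal.span {1 - e})) = Q := hmaxc _ (maximalIdeal.isMaximal _)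
  refine (isLocalization_iff (M := Q.primeCompl)
    (S := N ⧸ Ideal.span {1 - e})).mpr ⟨?_, ?_, ?_⟩
  · intro y
    refine IsLocalRing.notMem_maximalIdeal.mp (fun h => y.2 ?_)
    exact hcomap.le (show (y : N) ∈ Ideal.comap _ _ from h)
  · intro z
    obtain ⟨d, rfl⟩ := Ideal.Quotient.mk_surjective z
    exact ⟨(d, 1), by rw [Submonoid.coe_one, map_one, mul_one]; rfl⟩
  · intro x y hxy
    have h1 : x - y ∈ Ideal.span {1 - e} := Ideal.Quotient.eq.mp hxy
    obtain ⟨c, hc⟩ := Ideal.mem_span_singleton'.mp h1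
    refine ⟨⟨e, heQ⟩, ?_⟩
    show e * x = e * y
    have h2 : e * (x - y) = 0 := by
      rw [← hc]
      calc e * (c * (1 - e)) = c * (e * (1 - e)) := by ring
        _ = 0 := by rw [mul_sub, mul_one, he.eq, sub_self, mul_zero]
    rw [mul_sub, sub_eq_zero] at h2
    exact h2

/-- A local `Rh`-algebra `L` generated (up to units) by the image of `Rh ⊗[R'] S'`, with `S'` a
directed union of quasi-finite `R'`-algebras of finite type, is integral over the henselian local
ring `Rh`. -/
theorem isIntegral_of_indQuasiFinite (Rh : Type u) [CommRing Rh] [HenselianLocalRing Rh]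
    (R' : Type u) [CommRing R'] [Algebra R' Rh] (S' : Type u) [CommRing S'] [Algebra R' S']
    (hB : ∀ s : Finset S', ∃ S₀ : Subalgebra R' S', (↑s : Set S') ⊆ ↑S₀ ∧
      Algebra.FiniteType R' ↥S₀ ∧ Algebra.QuasiFinite R' ↥S₀)
    (L : Type u) [CommRing L] [IsLocalRing L] [Algebra Rh L] [IsLocalHom (algebraMap Rh L)]
    (ν : Rh ⊗[R'] S' →+* L) (hν1 : ∀ a : Rh, ν (a ⊗ₜ 1) = algebraMap Rh L a)
    (hν : ∀ x : L, ∃ d t : Rh ⊗[R'] S', IsUnit (ν t) ∧ x * ν t = ν d) :
    Algebra.IsIntegral Rh L := by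
  classical
  constructor
  intro x
  obtain ⟨d, t, htu, hx⟩ := hν x
  obtain ⟨Fd, hFd⟩ := TensorProduct.exists_finset d
  obtain ⟨Ft, hFt⟩ := TensorProduct.exists_finset t
  obtain ⟨S₀, hS₀, hft, hqf⟩ := hB ((Fd.image Prod.snd) ∪ (Ft.image Prod.snd))
  haveI := hft
  haveI := hqf
  let ι₀ : Rh ⊗[R'] S₀ →ₐ[Rh] Rh ⊗[R'] S' :=
    Algebra.TensorProduct.map (AlgHom.id Rh Rh) S₀.val
  have hd : d ∈ ι₀.range := by
    rw [hFd]
    refine sum_mem fun i hi => ?_
    have hi' : i.2 ∈ S₀ := hS₀ (by
      rw [Finset.mem_coe, Finset.mem_union]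
      exact Or.inl (Finset.mem_image_of_mem _ hi))
    exact ⟨i.1 ⊗ₜ ⟨i.2, hi'⟩, by simp [ι₀]⟩
  have ht : t ∈ ι₀.range := by
    rw [hFt]
    refine sum_mem fun i hi => ?_
    have hi' : i.2 ∈ S₀ := hS₀ (by
      rw [Finset.mem_coe, Finset.mem_union]
      exact Or.inr (Finset.mem_image_of_mem _ hi))
    exact ⟨i.1 ⊗ₜ ⟨i.2, hi'⟩, by simp [ι₀]⟩
  obtain ⟨d₀, rfl⟩ := hd
  obtain ⟨t₀, rfl⟩ := ht
  let ν₀ : Rh ⊗[R'] S₀ →+* L := ν.comp ι₀.toRingHom
  have hν₀ : ∀ a : Rh, ν₀ (algebraMap Rh (Rh ⊗[R'] S₀) a) = algebraMap Rh L a := by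
    intro a
    show ν (ι₀ (algebraMap Rh (Rh ⊗[R'] S₀) a)) = _
    rw [AlgHom.commutes, Algebra.TensorProduct.algebraMap_apply, Algebra.algebraMap_self_apply,
      hν1]
  haveI hQ₀prime : ((maximalIdeal L).comap ν₀).IsPrime := Ideal.comap_isPrime _ _
  have hcm : (maximalIdeal L).comap (algebraMap Rh L) = maximalIdeal Rh :=
    ((IsLocalRing.local_hom_TFAE (algebraMap Rh L)).out 0 4).mp ‹IsLocalHom (algebraMap Rh L)›
  haveI : ((maximalIdeal L).comap ν₀).LiesOver (maximalIdeal Rh) := ⟨by
    ext a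
    rw [Ideal.under_def, Ideal.mem_comap, Ideal.mem_comap, hν₀, ← Ideal.mem_comap, hcm]⟩
  obtain ⟨e, he, heQ, hfin, hlocal, hLoc⟩ :=
    exists_idempotent_isLocalization_general Rh (Rh ⊗[R'] S₀) ((maximalIdeal L).comap ν₀)
  have hνe : ν₀ e = 1 := by
    have hu : IsUnit (ν₀ e) := IsLocalRing.notMem_maximalIdeal.mp (fun h => heQ h)
    have h0 : ν₀ e * (1 - ν₀ e) = 0 := by
      rw [mul_sub, mul_one, ← map_mul, he.eq, sub_self]
    exact (sub_eq_zero.mp (hu.mul_right_eq_zero.mp h0)).symm
  have hker : ∀ a ∈ Ideal.span {1 - e}, ν₀ a = 0 := by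
    intro a ha
    obtain ⟨c, rfl⟩ := Ideal.mem_span_singleton'.mp ha
    rw [map_mul, map_sub, map_one, hνe, sub_self, mul_zero]
  let γ : ((Rh ⊗[R'] S₀) ⧸ Ideal.span {1 - e}) →ₐ[Rh] L :=
    { toRingHom := Ideal.Quotient.lift (Ideal.span {1 - e}) ν₀ hker
      commutes' := fun a => hν₀ a }
  have hγ : ∀ n : Rh ⊗[R'] S₀, γ (Ideal.Quotient.mk (Ideal.span {1 - e}) n) = ν₀ n :=
    fun n => rfl
  have ht₀ : t₀ ∉ (maximalIdeal L).comap ν₀ := fun h =>
    (IsLocalRing.notMem_maximalIdeal.mpr htu) h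
  have hunit : IsUnit (Ideal.Quotient.mk (Ideal.span {1 - e}) t₀) :=
    IsLocalization.map_units (M := ((maximalIdeal L).comap ν₀).primeCompl)
      ((Rh ⊗[R'] S₀) ⧸ Ideal.span {1 - e}) ⟨t₀, ht₀⟩
  obtain ⟨v, hv⟩ := hunit.exists_right_inv
  have h3 : γ (Ideal.Quotient.mk _ t₀) * γ v = 1 := by rw [← map_mul, hv, map_one]
  have hxeq : x = γ (Ideal.Quotient.mk _ d₀ * v) := by
    calc x = x * (γ (Ideal.Quotient.mk _ t₀) * γ v) := by rw [h3, mul_one]
      _ = (x * ν (ι₀ t₀)) * γ v := by rw [hγ, mul_assoc]; rfl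
      _ = ν (ι₀ d₀) * γ v := by rw [show x * ν (ι₀ t₀) = ν (ι₀ d₀) from hx]
      _ = γ (Ideal.Quotient.mk _ d₀ * v) := by rw [map_mul, hγ]; rfl
  rw [hxeq]
  haveI := hfin
  haveI : Algebra.IsIntegral Rh ((Rh ⊗[R'] S₀) ⧸ Ideal.span {1 - e}) :=
    Algebra.IsIntegral.of_finite Rh _
  exact (Algebra.IsIntegral.isIntegral (R := Rh) (Ideal.Quotient.mk _ d₀ * v)).map γ

section Main

variable (R : Type u) [CommRing R] (S : Type u) [CommRing S] [Algebra R S]
  (p : Ideal R) [p.IsPrime] (q : Ideal S) [q.IsPrime] [q.LiesOver p]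
  (Rh : Type u) [CommRing Rh] [IsLocalRing Rh] [Algebra (Localization.AtPrime p) Rh]
  [IsLocalHom (algebraMap (Localization.AtPrime p) Rh)] [Algebra R Rh]
  [IsScalarTower R (Localization.AtPrime p) Rh]
  (Sh : Type u) [CommRing Sh] [IsLocalRing Sh] [Algebra (Localization.AtPrime q) Sh]
  [IsLocalHom (algebraMap (Localization.AtPrime q) Sh)] [Algebra S Sh]
  [IsScalarTower S (Localization.AtPrime q) Sh] [Algebra R Sh] [IsScalarTower R S Sh]
  [Algebra Rh Sh] [IsScalarTower R Rh Sh]
  [Hensel.IsStrictHenselization (Localization.AtPrime p) Rh]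
  [Hensel.IsStrictHenselization (Localization.AtPrime q) Sh]
  (Q : Ideal (Rh ⊗[R] S)) [Q.IsPrime]
  (hQ : Q = Ideal.comap (phi R S Rh Sh) (maximalIdeal Sh))

include p q hQ in
theorem isLocalHom_algebraMap_localization :
    IsLocalHom (algebraMap Rh (Localization.AtPrime Q)) := by
  have hmaxR := (Groth.Agent.H47.HensNoeth.isIndEtaleLocal_of_isStrictHenselization
    (Localization.AtPrime p) Rh).map_max
  have hloc : IsLocalHom (algebraMap Rh Sh) :=
    isLocalHom_algebraMap_of_map_eq R S p q Rh Sh hmaxR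
  have hcm : (maximalIdeal Sh).comap (algebraMap Rh Sh) = maximalIdeal Rh :=
    ((IsLocalRing.local_hom_TFAE (algebraMap Rh Sh)).out 0 4).mp hloc
  refine ((IsLocalRing.local_hom_TFAE (algebraMap Rh (Localization.AtPrime Q))).out 0 4).mpr ?_
  ext a
  rw [Ideal.mem_comap, IsScalarTower.algebraMap_apply Rh (Rh ⊗[R] S) (Localization.AtPrime Q),
    IsLocalization.AtPrime.to_map_mem_maximal_iff _ Q, mem_Q_iff R S Rh Sh Q hQ,
    Algebra.TensorProduct.algebraMap_apply, Algebra.algebraMap_self_apply, phi_left,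
    ← Ideal.mem_comap, hcm]

include p q hQ in
/-- If the local ring `(Rh ⊗[R] S)_Q` is integral over `Rh`, so is `Sh`. -/
theorem isIntegral_of_isIntegral_localization
    [Algebra.IsIntegral Rh (Localization.AtPrime Q)] : Algebra.IsIntegral Rh Sh := by
  have hunit : ∀ t : Q.primeCompl, IsUnit ((phi R S Rh Sh).toRingHom t) := fun t =>
    isUnit_phi_of_notMem R S Rh Sh Q hQ t.2
  letI : Algebra (Localization.AtPrime Q) Sh := (IsLocalization.lift hunit).toAlgebra
  have hψ : ∀ d : Rh ⊗[R] S, algebraMap (Localization.AtPrime Q) Sh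
      (algebraMap (Rh ⊗[R] S) (Localization.AtPrime Q) d) = phi R S Rh Sh d :=
    fun d => IsLocalization.lift_eq hunit d
  haveI := isLocalHom_algebraMap_loc R S Rh Sh Q hQ (Localization.AtPrime Q) hψ
  haveI := isStrictHenselization_of_tensor R S p q Rh Sh Q hQ (Localization.AtPrime Q) hψ
  haveI : HenselianLocalRing Rh :=
    Hensel.IsStrictHenselization.henselian (R := Localization.AtPrime p)
  haveI : IsSepClosed (ResidueField Rh) :=
    (Hensel.IsStrictHenselization.isSepClosure (R := Localization.AtPrime p)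
      (S := Rh)).sep_closed
  haveI : HenselianLocalRing (Localization.AtPrime Q) :=
    Groth.Agent.H3.henselianLocalRing_of_isIntegral_of_isLocalRing Rh (Localization.AtPrime Q)
  haveI : IsLocalHom (algebraMap Rh (Localization.AtPrime Q)) :=
    isLocalHom_algebraMap_of_isIntegral Rh _
  haveI : Algebra.IsAlgebraic (ResidueField Rh) (ResidueField (Localization.AtPrime Q)) := by
    haveI : Algebra.IsIntegral (ResidueField Rh) (ResidueField (Localization.AtPrime Q)) :=
      inferInstanceAs (Algebra.IsIntegral (Rh ⧸ maximalIdeal Rh)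
        ((Localization.AtPrime Q) ⧸ maximalIdeal (Localization.AtPrime Q)))
    exact Algebra.IsIntegral.isAlgebraic
  haveI : IsSepClosed (ResidueField (Localization.AtPrime Q)) :=
    Algebra.IsAlgebraic.isSepClosed (F := ResidueField Rh)
      (E := ResidueField (Localization.AtPrime Q))
  have hb := bijective_algebraMap_of_isStrictHenselization (Localization.AtPrime Q) Sh
  haveI : IsScalarTower Rh (Localization.AtPrime Q) Sh :=
    IsScalarTower.of_algebraMap_eq (fun a => by
      rw [IsScalarTower.algebraMap_apply Rh (Rh ⊗[R] S) (Localization.AtPrime Q), hψ,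
        Algebra.TensorProduct.algebraMap_apply, Algebra.algebraMap_self_apply, phi_left])
  constructor
  intro y
  obtain ⟨x, rfl⟩ := hb.2 y
  exact (Algebra.IsIntegral.isIntegral (R := Rh) x).map
    (IsScalarTower.toAlgHom Rh (Localization.AtPrime Q) Sh)

include p q hQ in
theorem isIntegral_sh_of_indQuasiFinite
    (hB : ∀ s : Finset S, ∃ S₀ : Subalgebra R S, (↑s : Set S) ⊆ ↑S₀ ∧
      Algebra.FiniteType R ↥S₀ ∧ Algebra.QuasiFinite R ↥S₀) : Algebra.IsIntegral Rh Sh := by
  haveI : HenselianLocalRing Rh :=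
    Hensel.IsStrictHenselization.henselian (R := Localization.AtPrime p)
  haveI := isLocalHom_algebraMap_localization R S p q Rh Sh Q hQ
  haveI : Algebra.IsIntegral Rh (Localization.AtPrime Q) :=
    isIntegral_of_indQuasiFinite Rh R S hB (Localization.AtPrime Q)
      (algebraMap (Rh ⊗[R] S) (Localization.AtPrime Q))
      (fun a => by
        rw [IsScalarTower.algebraMap_apply Rh (Rh ⊗[R] S) (Localization.AtPrime Q),
          Algebra.TensorProduct.algebraMap_apply, Algebra.algebraMap_self_apply])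
      (fun x => by
        obtain ⟨d, t, rfl⟩ := IsLocalization.exists_mk'_eq Q.primeCompl x
        exact ⟨d, t, IsLocalization.map_units _ t, IsLocalization.mk'_spec _ d t⟩)
  exact isIntegral_of_isIntegral_localization R S p q Rh Sh Q hQ

include p q hQ in
theorem isIntegral_sh_of_indQuasiFinite_localization
    [Algebra (Localization.AtPrime p) (Localization.AtPrime q)]
    [IsScalarTower R (Localization.AtPrime p) (Localization.AtPrime q)]
    (hB : ∀ s : Finset (Localization.AtPrime q),
      ∃ B₀ : Subalgebra (Localization.AtPrime p) (Localization.AtPrime q),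
        (↑s : Set (Localization.AtPrime q)) ⊆ ↑B₀ ∧
          Algebra.FiniteType (Localization.AtPrime p) ↥B₀ ∧
            Algebra.QuasiFinite (Localization.AtPrime p) ↥B₀) :
    Algebra.IsIntegral Rh Sh := by
  haveI : HenselianLocalRing Rh :=
    Hensel.IsStrictHenselization.henselian (R := Localization.AtPrime p)
  haveI := isLocalHom_algebraMap_localization R S p q Rh Sh Q hQ
  -- the map `j : S_q → L`
  have hunit : ∀ t : Q.primeCompl, IsUnit ((phi R S Rh Sh).toRingHom t) := fun t =>
    isUnit_phi_of_notMem R S Rh Sh Q hQ t.2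
  letI : Algebra (Localization.AtPrime Q) Sh := (IsLocalization.lift hunit).toAlgebra
  have hψ : ∀ d : Rh ⊗[R] S, algebraMap (Localization.AtPrime Q) Sh
      (algebraMap (Rh ⊗[R] S) (Localization.AtPrime Q) d) = phi R S Rh Sh d :=
    fun d => IsLocalization.lift_eq hunit d
  obtain ⟨j, hj1, -, -⟩ := exists_jmap R S q Rh Sh Q hQ (Localization.AtPrime Q) hψ
  have hjcomm : j.comp (algebraMap (Localization.AtPrime p) (Localization.AtPrime q)) =
      (algebraMap Rh (Localization.AtPrime Q)).comp (algebraMap (Localization.AtPrime p) Rh) := by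
    apply IsLocalization.ringHom_ext p.primeCompl
    refine RingHom.ext fun r => ?_
    simp only [RingHom.comp_apply]
    rw [← IsScalarTower.algebraMap_apply R (Localization.AtPrime p) (Localization.AtPrime q),
      IsScalarTower.algebraMap_apply R S (Localization.AtPrime q), hj1,
      ← IsScalarTower.algebraMap_apply R (Localization.AtPrime p) Rh,
      IsScalarTower.algebraMap_apply Rh (Rh ⊗[R] S) (Localization.AtPrime Q),
      Algebra.TensorProduct.algebraMap_apply, Algebra.algebraMap_self_apply, tmul_algebraMap]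
  have hcommL : ∀ x : Localization.AtPrime p,
      algebraMap Rh (Localization.AtPrime Q) (algebraMap (Localization.AtPrime p) Rh x) =
        algebraMap (Localization.AtPrime p) (Localization.AtPrime Q) x := by
    intro x
    rw [IsScalarTower.algebraMap_apply (Localization.AtPrime p) (Rh ⊗[R] S)
        (Localization.AtPrime Q), Algebra.TensorProduct.algebraMap_apply,
      IsScalarTower.algebraMap_apply Rh (Rh ⊗[R] S) (Localization.AtPrime Q),
      Algebra.TensorProduct.algebraMap_apply, Algebra.algebraMap_self_apply]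
  let f₁ : Rh →ₐ[Localization.AtPrime p] Localization.AtPrime Q :=
    { toRingHom := algebraMap Rh (Localization.AtPrime Q)
      commutes' := fun x => hcommL x }
  let f₂ : Localization.AtPrime q →ₐ[Localization.AtPrime p] Localization.AtPrime Q :=
    { toRingHom := j
      commutes' := fun x => (RingHom.congr_fun hjcomm x).trans (hcommL x) }
  let ν : Rh ⊗[Localization.AtPrime p] Localization.AtPrime q →+* Localization.AtPrime Q :=
    (Algebra.TensorProduct.lift f₁ f₂ (fun _ _ => Commute.all _ _)).toRingHom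
  have hνt : ∀ (a : Rh) (y : Localization.AtPrime q),
      ν (a ⊗ₜ y) = algebraMap Rh (Localization.AtPrime Q) a * j y := fun a y => by
    show Algebra.TensorProduct.lift f₁ f₂ _ (a ⊗ₜ y) = _
    rw [Algebra.TensorProduct.lift_tmul]
    rfl
  have hrange : ∀ n : Rh ⊗[R] S, ∃ n', ν n' = algebraMap (Rh ⊗[R] S) (Localization.AtPrime Q) n := by
    intro n
    induction n using TensorProduct.induction_on with
    | zero => exact ⟨0, by rw [map_zero, map_zero]⟩
    | add x y hx hy =>
      obtain ⟨x', hx'⟩ := hx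
      obtain ⟨y', hy'⟩ := hy
      exact ⟨x' + y', by rw [map_add, map_add, hx', hy']⟩
    | tmul a s =>
      refine ⟨a ⊗ₜ algebraMap S (Localization.AtPrime q) s, ?_⟩
      rw [hνt, hj1, IsScalarTower.algebraMap_apply Rh (Rh ⊗[R] S) (Localization.AtPrime Q),
        Algebra.TensorProduct.algebraMap_apply, Algebra.algebraMap_self_apply, ← map_mul,
        Algebra.TensorProduct.tmul_mul_tmul, mul_one, one_mul]
  haveI : Algebra.IsIntegral Rh (Localization.AtPrime Q) :=
    isIntegral_of_indQuasiFinite Rh (Localization.AtPrime p) (Localization.AtPrime q) hB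
      (Localization.AtPrime Q) ν
      (fun a => by rw [hνt, map_one, mul_one])
      (fun x => by
        obtain ⟨d, t, rfl⟩ := IsLocalization.exists_mk'_eq Q.primeCompl x
        obtain ⟨d', hd'⟩ := hrange d
        obtain ⟨t', ht'⟩ := hrange t
        refine ⟨d', t', ?_, ?_⟩
        · rw [ht']
          exact IsLocalization.map_units _ t
        · rw [ht', hd']
          exact IsLocalization.mk'_spec _ d t)
  exact isIntegral_of_isIntegral_localization R S p q Rh Sh Q hQ

end Main

end Groth.Agent.H47.HensTensor
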