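import Mathlib

/-!
# Localizations of the normalization of a reduced ring with finitely many minimal primes

For a reduced ring `R` with finitely many minimal primes, total ring of fractions `K` and
`R' = integralClosure R K`, the localization of `R'` at every prime ideal is an integrally closed
domain.
-/

set_option autoImplicit false
set_option linter.style.haveILetI false
set_option linter.unusedSectionVars false
universe u

namespace Groth.Agent.H47.NormRedLocal

section Basic

variable {R : Type*} [CommRing R] [IsReduced R]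

theorem mem_nonZeroDivisors_of_forall_notMem {r : R}
    (h : ∀ p ∈ minimalPrimes R, r ∉ p) : r ∈ nonZeroDivisors R := by
  rw [mem_nonZeroDivisors_iff_right]
  intro s hs
  have hs' : s ∈ nilradical R := by
    rw [nilradical_eq_sInf, Ideal.mem_sInf]
    intro P hP
    haveI : P.IsPrime := hP
    obtain ⟨p, hp, hpP⟩ := Ideal.exists_minimalPrimes_le (I := (⊥ : Ideal R)) (J := P) bot_le
    apply hpP
    have hp' : p.IsPrime := hp.1.1
    have hrs : s * r ∈ p := by
      rw [hs]
      exact p.zero_mem
    exact (hp'.mem_or_mem hrs).resolve_right (h p hp)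
  rw [nilradical_eq_zero] at hs'
  exact hs'

theorem exists_mul_eq_zero_add_mem_nonZeroDivisors (hfin : (minimalPrimes R).Finite) (r : R) :
    ∃ a : R, r * a = 0 ∧ r + a ∈ nonZeroDivisors R := by
  classical
  let P : Finset (Ideal R) := hfin.toFinset
  have hP : ∀ p, p ∈ P ↔ p ∈ minimalPrimes R := fun p => hfin.mem_toFinset
  let I : Finset (Ideal R) := P.filter (fun p => r ∈ p)
  let J : Finset (Ideal R) := P.filter (fun p => r ∉ p)
  have hI : ∀ p, p ∈ I ↔ p ∈ minimalPrimes R ∧ r ∈ p := fun p => by
    simp only [I, Finset.mem_filter, hP]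
  have hJ : ∀ p, p ∈ J ↔ p ∈ minimalPrimes R ∧ r ∉ p := fun p => by
    simp only [J, Finset.mem_filter, hP]
  let 𝔞 : Ideal R := J.inf id
  have h1 : ¬ ((𝔞 : Set R) ⊆ ⋃ p ∈ (I : Set (Ideal R)), (p : Set R)) := by
    intro hsub
    obtain ⟨p₀, hp₀I, hle⟩ := (Ideal.subset_union_prime (s := I) (f := id) ⊥ ⊥
      (fun p hp _ _ => ((hI p).mp hp).1.1.1)).mp hsub
    have hp₀ := (hI p₀).mp hp₀I
    have hp₀prime : p₀.IsPrime := hp₀.1.1.1
    obtain ⟨p, hpJ, hpp₀⟩ := (Ideal.IsPrime.inf_le' hp₀prime).mp hle
    have hp := (hJ p).mp hpJ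
    have hle' : p₀ ≤ p := hp₀.1.2 ⟨hp.1.1.1, bot_le⟩ hpp₀
    exact hp.2 (hle' hp₀.2)
  obtain ⟨a, ha𝔞, haI⟩ := Set.not_subset.mp h1
  have ha𝔞' : ∀ p ∈ J, a ∈ p := fun p hp => by
    have := (Finset.inf_le hp : J.inf id ≤ id p)
    exact this ha𝔞
  have haI' : ∀ p ∈ I, a ∉ p := fun p hp hap => by
    apply haI
    simp only [Set.mem_iUnion]
    exact ⟨p, hp, hap⟩
  refine ⟨a, ?_, ?_⟩
  · have h2 : r * a ∈ nilradical R := by
      rw [nilradical_eq_sInf, Ideal.mem_sInf]
      intro Q hQ
      haveI : Q.IsPrime := hQ
      obtain ⟨p, hp, hpQ⟩ := Ideal.exists_minimalPrimes_le (I := (⊥ : Ideal R)) (J := Q) bot_le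
      apply hpQ
      by_cases hr : r ∈ p
      · exact p.mul_mem_right a hr
      · exact p.mul_mem_left r (ha𝔞' p ((hJ p).mpr ⟨hp, hr⟩))
    rw [nilradical_eq_zero] at h2
    exact h2
  · apply mem_nonZeroDivisors_of_forall_notMem
    intro p hp hmem
    by_cases hr : r ∈ p
    · have : a ∈ p := by
        have := p.sub_mem hmem hr
        rwa [add_sub_cancel_left] at this
      exact haI' p ((hI p).mpr ⟨hp, hr⟩) this
    · have ha : a ∈ p := ha𝔞' p ((hJ p).mpr ⟨hp, hr⟩)
      have := p.sub_mem hmem ha
      rw [add_sub_cancel_right] at this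
      exact hr this

variable (K : Type*) [CommRing K] [Algebra R K] [IsFractionRing R K]

/-- In the total ring of fractions of a reduced ring with finitely many minimal primes every
element is the product of an idempotent and a unit. -/
theorem exists_idempotent_mul_unit (hfin : (minimalPrimes R).Finite) (x : K) :
    ∃ (e : K) (u : Kˣ), IsIdempotentElem e ∧ x = e * u := by
  obtain ⟨r, s, rfl⟩ := IsLocalization.exists_mk'_eq (nonZeroDivisors R) x
  obtain ⟨a, hra, hnzd⟩ := exists_mul_eq_zero_add_mem_nonZeroDivisors hfin r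
  have ht : IsUnit (algebraMap R K (r + a)) := IsLocalization.map_units K ⟨r + a, hnzd⟩
  have hs : IsUnit (algebraMap R K s) := IsLocalization.map_units K s
  have h1 : algebraMap R K r * algebraMap R K r = algebraMap R K r * algebraMap R K (r + a) := by
    rw [← map_mul, ← map_mul, mul_add, hra, add_zero]
  have ht' : algebraMap R K (r + a) * ↑ht.unit⁻¹ = 1 := ht.mul_val_inv
  have hs' : algebraMap R K s * ↑hs.unit⁻¹ = 1 := hs.mul_val_inv
  refine ⟨algebraMap R K r * ↑ht.unit⁻¹, ht.unit * hs.unit⁻¹, ?_, ?_⟩
  · show algebraMap R K r * ↑ht.unit⁻¹ * (algebraMap R K r * ↑ht.unit⁻¹) =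
      algebraMap R K r * ↑ht.unit⁻¹
    calc algebraMap R K r * ↑ht.unit⁻¹ * (algebraMap R K r * ↑ht.unit⁻¹)
        = (algebraMap R K r * algebraMap R K r) * ↑ht.unit⁻¹ * ↑ht.unit⁻¹ := by ring
      _ = algebraMap R K r * (algebraMap R K (r + a) * ↑ht.unit⁻¹) * ↑ht.unit⁻¹ := by
          rw [h1]; ring
      _ = algebraMap R K r * ↑ht.unit⁻¹ := by rw [ht', mul_one]
  · rw [IsLocalization.mk'_eq_iff_eq_mul, Units.val_mul, IsUnit.unit_spec]
    calc algebraMap R K r
        = algebraMap R K r * (↑ht.unit⁻¹ * algebraMap R K (r + a)) *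
            (↑hs.unit⁻¹ * algebraMap R K s) := by
          rw [mul_comm (↑ht.unit⁻¹ : K), ht', mul_comm (↑hs.unit⁻¹ : K), hs', mul_one, mul_one]
      _ = algebraMap R K r * ↑ht.unit⁻¹ * (algebraMap R K (r + a) * ↑hs.unit⁻¹) *
            algebraMap R K s := by ring

theorem isIntegral_of_isIdempotentElem {e : K} (he : IsIdempotentElem e) : IsIntegral R e := by
  refine ⟨Polynomial.X * (Polynomial.X - Polynomial.C 1), ?_, ?_⟩
  · exact Polynomial.monic_X.mul (Polynomial.monic_X_sub_C 1)
  · rw [Polynomial.eval₂_mul, Polynomial.eval₂_sub, Polynomial.eval₂_X, Polynomial.eval₂_C,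
      map_one, mul_sub, mul_one, he.eq, sub_self]

end Basic

section Loc

variable {R : Type*} [CommRing R] [IsReduced R] (K : Type*) [CommRing K] [Algebra R K]
  [IsFractionRing R K] (hfin : (minimalPrimes R).Finite)

include hfin in
theorem exists_idem (x : integralClosure R K) :
    ∃ (e : integralClosure R K) (u : Kˣ), IsIdempotentElem e ∧ (x : K) = (e : K) * u := by
  obtain ⟨e, u, he, hx⟩ := exists_idempotent_mul_unit K hfin (x : K)
  refine ⟨⟨e, isIntegral_of_isIdempotentElem K he⟩, u, ?_, hx⟩
  apply Subtype.ext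
  exact he

include hfin in
/-- Splitting of an element by an idempotent. -/
theorem exists_idem_split (x : integralClosure R K) :
    ∃ e : integralClosure R K, IsIdempotentElem e ∧ (1 - e) * x = 0 ∧
      (∀ y : integralClosure R K, x * y = 0 → e * y = 0) ∧
      ∃ u : Kˣ, (x : K) = (e : K) * u := by
  obtain ⟨e, u, he, hx⟩ := exists_idem K hfin x
  have he' : (e : K) * (e : K) = (e : K) := congrArg Subtype.val he
  refine ⟨e, he, ?_, ?_, u, hx⟩
  · apply Subtype.ext
    show ((1 : K) - (e : K)) * (x : K) = 0
    rw [hx, ← mul_assoc, sub_mul, one_mul, he', sub_self, zero_mul]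
  · intro y hy
    apply Subtype.ext
    show (e : K) * (y : K) = 0
    have h1 : (x : K) * (y : K) = 0 := congrArg Subtype.val hy
    rw [hx] at h1
    calc (e : K) * (y : K) = ((e : K) * ↑u * (y : K)) * ↑u⁻¹ := by
          rw [mul_right_comm (e : K) ↑u (y : K), mul_assoc, Units.mul_inv, mul_one]
      _ = 0 := by rw [h1, zero_mul]

variable (M' : Ideal (integralClosure R K)) [M'.IsPrime]

omit [IsReduced R] [IsFractionRing R K] in
theorem one_sub_notMem {e : integralClosure R K} (he : e ∈ M') : 1 - e ∉ M' := fun h =>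
  ‹M'.IsPrime›.ne_top ((Ideal.eq_top_iff_one _).mpr (by
    have := M'.add_mem h he
    rwa [sub_add_cancel] at this))

include hfin in
theorem isDomain_localization : IsDomain (Localization.AtPrime M') := by
  haveI : NoZeroDivisors (Localization.AtPrime M') := by
    refine ⟨fun {a b} hab => ?_⟩
    obtain ⟨x, s, rfl⟩ := IsLocalization.exists_mk'_eq M'.primeCompl a
    obtain ⟨y, t, rfl⟩ := IsLocalization.exists_mk'_eq M'.primeCompl b
    rw [← IsLocalization.mk'_mul, IsLocalization.mk'_eq_zero_iff] at hab
    obtain ⟨c, hc⟩ := hab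
    obtain ⟨e, he, h1e, hey, -⟩ := exists_idem_split K hfin ((c : integralClosure R K) * x)
    have hey' : e * y = 0 := hey y (by rw [mul_assoc]; exact hc)
    by_cases heM : e ∈ M'
    · left
      rw [IsLocalization.mk'_eq_zero_iff]
      refine ⟨⟨(1 - e) * c, M'.primeCompl.mul_mem (one_sub_notMem K M' heM) c.2⟩, ?_⟩
      show (1 - e) * c * x = 0
      rw [mul_assoc]
      exact h1e
    · right
      rw [IsLocalization.mk'_eq_zero_iff]
      exact ⟨⟨e, heM⟩, hey'⟩
  exact NoZeroDivisors.to_isDomain _

/-- The localization of the total ring of fractions. -/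
noncomputable abbrev KM : Type _ := Localization (Algebra.algebraMapSubmonoid K M'.primeCompl)

omit [IsReduced R] [IsFractionRing R K] in
theorem isScalarTower_KM :
    IsScalarTower (integralClosure R K) (Localization.AtPrime M') (KM K M') :=
  isScalarTower_localizationAlgebra M'.primeCompl K

omit [IsReduced R] [IsFractionRing R K] in
theorem injective_KM : Function.Injective (algebraMap (Localization.AtPrime M') (KM K M')) :=
  localizationAlgebra_injective (Localization.AtPrime M') (KM K M') (M := M'.primeCompl) (S := K)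
    Subtype.val_injective

omit [IsReduced R] [IsFractionRing R K] in
theorem algebraMap_KM (x : integralClosure R K) :
    algebraMap (Localization.AtPrime M') (KM K M') (algebraMap _ (Localization.AtPrime M') x) =
      algebraMap K (KM K M') (x : K) := by
  haveI := isScalarTower_KM K M'
  rw [← IsScalarTower.algebraMap_apply (integralClosure R K) (Localization.AtPrime M') (KM K M'),
    IsScalarTower.algebraMap_apply (integralClosure R K) K (KM K M')]
  rfl

omit [IsReduced R] [IsFractionRing R K] in
theorem isUnit_algebraMap_KM_of_notMem {s : integralClosure R K} (hs : s ∉ M') :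
    IsUnit (algebraMap K (KM K M') (s : K)) :=
  IsLocalization.map_units (KM K M')
    (⟨(s : K), ⟨s, hs, rfl⟩⟩ : Algebra.algebraMapSubmonoid K M'.primeCompl)

include hfin in
theorem isUnit_algebraMap_KM {d : Localization.AtPrime M'} (hd : d ≠ 0) :
    IsUnit (algebraMap (Localization.AtPrime M') (KM K M') d) := by
  obtain ⟨x, s, rfl⟩ := IsLocalization.exists_mk'_eq M'.primeCompl d
  have h1 : algebraMap (Localization.AtPrime M') (KM K M') (IsLocalization.mk' _ x s) *
      algebraMap K (KM K M') ((s : integralClosure R K) : K) = algebraMap K (KM K M') (x : K) := by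
    rw [← algebraMap_KM, ← algebraMap_KM, ← map_mul, IsLocalization.mk'_spec]
  have hs : IsUnit (algebraMap K (KM K M') ((s : integralClosure R K) : K)) :=
    isUnit_algebraMap_KM_of_notMem K M' s.2
  obtain ⟨e, he, h1e, -, u, hxu⟩ := exists_idem_split K hfin x
  have heM : e ∉ M' := by
    intro heM
    apply hd
    rw [IsLocalization.mk'_eq_zero_iff]
    exact ⟨⟨1 - e, one_sub_notMem K M' heM⟩, h1e⟩
  have hx : IsUnit (algebraMap K (KM K M') (x : K)) := by
    rw [hxu, map_mul]
    exact (isUnit_algebraMap_KM_of_notMem K M' heM).mul (u.isUnit.map _)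
  rw [← h1] at hx
  exact isUnit_of_mul_isUnit_left hx

include hfin in
theorem isFractionRing_KM : IsFractionRing (Localization.AtPrime M') (KM K M') := by
  haveI := isDomain_localization K hfin M'
  haveI : Nontrivial (KM K M') := (injective_KM K M').nontrivial
  refine (isLocalization_iff (M := nonZeroDivisors (Localization.AtPrime M'))
    (S := KM K M')).mpr ⟨?_, ?_, ?_⟩
  · intro d
    exact isUnit_algebraMap_KM K hfin M' (nonZeroDivisors.ne_zero d.2)
  · intro z
    obtain ⟨k, σ, rfl⟩ := IsLocalization.exists_mk'_eq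
      (Algebra.algebraMapSubmonoid K M'.primeCompl) z
    obtain ⟨s', hs', hσ⟩ := σ.2
    obtain ⟨r, s₀, rfl⟩ := IsLocalization.exists_mk'_eq (nonZeroDivisors R) k
    have hs₀ : IsUnit (algebraMap R K s₀) := IsLocalization.map_units K s₀
    have hne : algebraMap _ (Localization.AtPrime M')
        (s' * algebraMap R (integralClosure R K) s₀) ≠ 0 := by
      intro h0
      have h2 := congrArg (algebraMap (Localization.AtPrime M') (KM K M')) h0
      rw [algebraMap_KM, map_zero] at h2
      have h3 : IsUnit (algebraMap K (KM K M')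
          ((s' * algebraMap R (integralClosure R K) s₀ : integralClosure R K) : K)) := by
        show IsUnit (algebraMap K (KM K M') ((s' : K) * algebraMap R K s₀))
        rw [map_mul]
        exact (isUnit_algebraMap_KM_of_notMem K M' hs').mul (hs₀.map _)
      rw [h2] at h3
      exact not_isUnit_zero h3
    refine ⟨(algebraMap _ (Localization.AtPrime M') (algebraMap R (integralClosure R K) r),
      ⟨_, mem_nonZeroDivisors_of_ne_zero hne⟩), ?_⟩
    show IsLocalization.mk' (KM K M') (IsLocalization.mk' K r s₀) σ *
      algebraMap (Localization.AtPrime M') (KM K M') (algebraMap _ (Localization.AtPrime M')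
        (s' * algebraMap R (integralClosure R K) s₀)) =
      algebraMap (Localization.AtPrime M') (KM K M') (algebraMap _ (Localization.AtPrime M')
        (algebraMap R (integralClosure R K) r))
    rw [algebraMap_KM, algebraMap_KM]
    show IsLocalization.mk' (KM K M') (IsLocalization.mk' K r s₀) σ *
      algebraMap K (KM K M') ((s' : K) * algebraMap R K s₀) = algebraMap K (KM K M') (algebraMap R K r)
    have hσ' : (s' : K) = (σ : K) := hσ
    rw [hσ', map_mul, ← mul_assoc, IsLocalization.mk'_spec, ← map_mul, IsLocalization.mk'_spec]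
  · intro x y hxy
    exact ⟨1, by rw [injective_KM K M' hxy]⟩

include hfin in
/-- The localization of the normalization at a prime is an integrally closed domain. -/
theorem isIntegrallyClosed_localization : IsIntegrallyClosed (Localization.AtPrime M') := by
  haveI := isFractionRing_KM K hfin M'
  haveI := isScalarTower_KM K M'
  rw [isIntegrallyClosed_iff (KM K M')]
  intro z hz
  obtain ⟨m, hm⟩ := IsIntegral.exists_multiple_integral_of_isLocalization M'.primeCompl z hz
  obtain ⟨k, σ, rfl⟩ := IsLocalization.exists_mk'_eq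
    (Algebra.algebraMapSubmonoid K M'.primeCompl) z
  obtain ⟨s', hs', hσ⟩ := σ.2
  have hσ' : (s' : K) = (σ : K) := hσ
  have e1 : ∀ a : integralClosure R K, algebraMap (integralClosure R K) (KM K M') a =
      algebraMap K (KM K M') (a : K) := fun a =>
    IsScalarTower.algebraMap_apply (integralClosure R K) K (KM K M') a
  -- the image of `m • k` is integral over `R'`
  have h1 : IsIntegral (integralClosure R K)
      (algebraMap K (KM K M') ((m : integralClosure R K) • k)) := by
    have h2 : algebraMap K (KM K M') ((m : integralClosure R K) • k) =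
        (m • IsLocalization.mk' (KM K M') k σ) *
          algebraMap (integralClosure R K) (KM K M') s' := by
      have hA : ((m : integralClosure R K) • k : K) = ((m : integralClosure R K) : K) * k := rfl
      have hB : (m • IsLocalization.mk' (KM K M') k σ) =
          algebraMap K (KM K M') ((m : integralClosure R K) : K) *
            IsLocalization.mk' (KM K M') k σ := by
        rw [Submonoid.smul_def, Algebra.smul_def, e1]
      rw [hA, hB, e1, hσ', map_mul, mul_assoc, IsLocalization.mk'_spec]
    rw [h2]
    exact hm.mul isIntegral_algebraMap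
  obtain ⟨m₃, hm₃, hint⟩ := IsLocalization.exists_isIntegral_smul_of_isIntegral_map
    (Sₘ := KM K M') M'.primeCompl h1
  obtain ⟨w, hw⟩ : ∃ w : integralClosure R K, (w : K) = m₃ • ((m : integralClosure R K) • k) :=
    ⟨⟨_, isIntegral_trans _ hint⟩, rfl⟩
  have hmem : m₃ * m * s' ∈ M'.primeCompl :=
    M'.primeCompl.mul_mem (M'.primeCompl.mul_mem hm₃ m.2) hs'
  refine ⟨IsLocalization.mk' _ w ⟨m₃ * m * s', hmem⟩, ?_⟩
  have hu : IsUnit (algebraMap K (KM K M') ((m₃ * m * s' : integralClosure R K) : K)) :=
    isUnit_algebraMap_KM_of_notMem K M' hmem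
  apply hu.mul_left_injective
  have hL : algebraMap (Localization.AtPrime M') (KM K M')
      (IsLocalization.mk' (Localization.AtPrime M') w ⟨m₃ * m * s', hmem⟩) *
      algebraMap K (KM K M') ((m₃ * m * s' : integralClosure R K) : K) =
      algebraMap K (KM K M') (w : K) := by
    rw [← algebraMap_KM, ← map_mul]
    have h5 : IsLocalization.mk' (Localization.AtPrime M') w ⟨m₃ * m * s', hmem⟩ *
        algebraMap _ (Localization.AtPrime M') (m₃ * m * s') = algebraMap _ _ w :=
      IsLocalization.mk'_spec _ w ⟨m₃ * m * s', hmem⟩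
    rw [h5, algebraMap_KM]
  have hR : IsLocalization.mk' (KM K M') k σ *
      algebraMap K (KM K M') ((m₃ * m * s' : integralClosure R K) : K) =
      algebraMap K (KM K M') (m₃ • ((m : integralClosure R K) • k)) := by
    show IsLocalization.mk' (KM K M') k σ *
      algebraMap K (KM K M') ((m₃ : K) * (m : K) * (s' : K)) = _
    rw [hσ', map_mul, ← mul_assoc, mul_comm (IsLocalization.mk' (KM K M') k σ), mul_assoc,
      IsLocalization.mk'_spec, ← map_mul, Algebra.smul_def, Algebra.smul_def]
    congr 1
    show (m₃ : K) * (m : K) * k = (m₃ : K) * ((m : K) * k)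
    ring
  show _ * algebraMap K (KM K M') ((m₃ * m * s' : integralClosure R K) : K) =
    _ * algebraMap K (KM K M') ((m₃ * m * s' : integralClosure R K) : K)
  rw [hL, hR, hw]

end Loc

end Groth.Agent.H47.NormRedLocal
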