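import Mathlib
import Groth.Prelude.Def_CAlg2
import Groth.Agent.H47.NormRedLocal
import Groth.Agent.H47.HensTensor5
import Groth.Agent.H47.HensTransport
import Groth.Agent.H47.Hens4
import Groth.Agent.S0515
import Groth.Agent.S2748

/-!
# Tensoring an integral algebra whose local rings are normal with a (strict) henselization

For a local ring `A` with (strict) henselization `Ah`, and an integral `A`-algebra `A'` all of
whose localizations at maximal ideals are integrally closed domains, the localizations of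
`Ah ⊗[A] A'` at maximal ideals are domains.
-/

set_option autoImplicit false
set_option linter.style.haveILetI false
set_option linter.unusedSectionVars false
universe u
open TensorProduct IsLocalRing

namespace Groth.Agent.H47.NormRedHens

open Groth.Agent.H47.HensTensor

section Core

variable (R : Type u) [CommRing R] (S : Type u) [CommRing S] [Algebra R S]
  (p : Ideal R) [p.IsPrime] (q : Ideal S) [q.IsPrime] [q.LiesOver p]
  (Rh : Type u) [CommRing Rh] [IsLocalRing Rh] [Algebra (Localization.AtPrime p) Rh]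
  [IsLocalHom (algebraMap (Localization.AtPrime p) Rh)] [Algebra R Rh]
  [IsScalarTower R (Localization.AtPrime p) Rh]
  (Sh : Type u) [CommRing Sh] [IsLocalRing Sh] [Algebra (Localization.AtPrime q) Sh]
  [IsLocalHom (algebraMap (Localization.AtPrime q) Sh)] [Algebra S Sh]
  [IsScalarTower S (Localization.AtPrime q) Sh] [Algebra R Sh] [IsScalarTower R S Sh]
  [Algebra Rh Sh] [IsScalarTower R Rh Sh]
  [Algebra.IsIntegral R S]
  (Q : Ideal (Rh ⊗[R] S)) [Q.IsPrime]
  (hQ : Q = Ideal.comap (phi R S Rh Sh) (maximalIdeal Sh))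

include hQ in
theorem isLocalHom_algebraMap_localization' (hloc : IsLocalHom (algebraMap Rh Sh)) :
    IsLocalHom (algebraMap Rh (Localization.AtPrime Q)) := by
  constructor
  intro a ha
  rw [IsScalarTower.algebraMap_apply Rh (Rh ⊗[R] S) (Localization.AtPrime Q),
    IsLocalization.AtPrime.isUnit_to_map_iff (Localization.AtPrime Q) Q,
    Algebra.TensorProduct.algebraMap_apply, Algebra.algebraMap_self_apply] at ha
  have h1 : IsUnit (phi R S Rh Sh (a ⊗ₜ 1)) := isUnit_phi_of_notMem R S Rh Sh Q hQ ha
  rw [phi_left] at h1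
  exact isUnit_of_map_unit (algebraMap Rh Sh) a h1

omit [IsLocalRing Rh] [q.IsPrime] [p.IsPrime] in
theorem exists_subalgebra_of_isIntegral (s : Finset S) :
    ∃ S₀ : Subalgebra R S, (↑s : Set S) ⊆ ↑S₀ ∧
      Algebra.FiniteType R ↥S₀ ∧ Algebra.QuasiFinite R ↥S₀ := by
  haveI : Module.Finite R (Algebra.adjoin R (↑s : Set S)) :=
    Algebra.finite_adjoin_of_finite_of_isIntegral s.finite_toSet
      (fun x _ => Algebra.IsIntegral.isIntegral x)
  exact ⟨Algebra.adjoin R (↑s : Set S), Algebra.subset_adjoin, inferInstance, inferInstance⟩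

include hQ in
theorem isIntegral_localization [HenselianLocalRing Rh] (hloc : IsLocalHom (algebraMap Rh Sh)) :
    Algebra.IsIntegral Rh (Localization.AtPrime Q) := by
  haveI := isLocalHom_algebraMap_localization' R S Rh Sh Q hQ hloc
  exact isIntegral_of_indQuasiFinite Rh R S (exists_subalgebra_of_isIntegral R S)
    (Localization.AtPrime Q) (algebraMap (Rh ⊗[R] S) (Localization.AtPrime Q))
    (fun a => by
      rw [IsScalarTower.algebraMap_apply Rh (Rh ⊗[R] S) (Localization.AtPrime Q),
        Algebra.TensorProduct.algebraMap_apply, Algebra.algebraMap_self_apply])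
    (fun x => by
      obtain ⟨d, t, rfl⟩ := IsLocalization.exists_mk'_eq Q.primeCompl x
      exact ⟨d, t, IsLocalization.map_units _ t, IsLocalization.mk'_spec _ d t⟩)

include hQ in
/-- Henselization case: the localization at `Q` is isomorphic to `Sh`. -/
theorem isDomain_localization_of_isHenselization
    [Hensel.IsHenselization (Localization.AtPrime p) Rh]
    [Hensel.IsHenselization (Localization.AtPrime q) Sh] [IsDomain Sh] :
    IsDomain (Localization.AtPrime Q) := by
  haveI : HenselianLocalRing Rh := Hensel.IsHenselization.henselian (R := Localization.AtPrime p)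
  have hmaxR := (Groth.Agent.H47.HensNoeth.isIndEtaleLocal_of_isHenselization
    (Localization.AtPrime p) Rh).map_max
  haveI hloc : IsLocalHom (algebraMap Rh Sh) :=
    isLocalHom_algebraMap_of_map_eq R S p q Rh Sh hmaxR
  have hunit : ∀ t : Q.primeCompl, IsUnit (phi R S Rh Sh t) := fun t =>
    isUnit_phi_of_notMem R S Rh Sh Q hQ t.2
  letI : Algebra (Localization.AtPrime Q) Sh := (IsLocalization.lift hunit).toAlgebra
  have hψ : ∀ d : Rh ⊗[R] S, algebraMap (Localization.AtPrime Q) Sh
      (algebraMap (Rh ⊗[R] S) (Localization.AtPrime Q) d) = phi R S Rh Sh d :=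
    fun d => IsLocalization.lift_eq hunit d
  haveI := isLocalHom_algebraMap_loc R S Rh Sh Q hQ (Localization.AtPrime Q) hψ
  haveI := isHenselization_of_tensor R S p q Rh Sh Q hQ (Localization.AtPrime Q) hψ
  haveI := isIntegral_localization R S Rh Sh Q hQ hloc
  haveI : HenselianLocalRing (Localization.AtPrime Q) :=
    Groth.Agent.H3.henselianLocalRing_of_isIntegral_of_isLocalRing Rh (Localization.AtPrime Q)
  have hbij := bijective_algebraMap_of_isHenselization (Localization.AtPrime Q) Sh
  exact hbij.1.isDomain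

include hQ in
/-- Strict henselization case. -/
theorem isDomain_localization_of_isStrictHenselization
    [Hensel.IsStrictHenselization (Localization.AtPrime p) Rh]
    [Hensel.IsStrictHenselization (Localization.AtPrime q) Sh] [IsDomain Sh] :
    IsDomain (Localization.AtPrime Q) := by
  haveI : HenselianLocalRing Rh :=
    Hensel.IsStrictHenselization.henselian (R := Localization.AtPrime p)
  haveI : IsSepClosed (ResidueField Rh) :=
    (Hensel.IsStrictHenselization.isSepClosure (R := Localization.AtPrime p)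
      (S := Rh)).sep_closed
  have hmaxR := (Groth.Agent.H47.HensNoeth.isIndEtaleLocal_of_isStrictHenselization
    (Localization.AtPrime p) Rh).map_max
  haveI hloc : IsLocalHom (algebraMap Rh Sh) :=
    isLocalHom_algebraMap_of_map_eq R S p q Rh Sh hmaxR
  have hunit : ∀ t : Q.primeCompl, IsUnit (phi R S Rh Sh t) := fun t =>
    isUnit_phi_of_notMem R S Rh Sh Q hQ t.2
  letI : Algebra (Localization.AtPrime Q) Sh := (IsLocalization.lift hunit).toAlgebra
  have hψ : ∀ d : Rh ⊗[R] S, algebraMap (Localization.AtPrime Q) Sh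
      (algebraMap (Rh ⊗[R] S) (Localization.AtPrime Q) d) = phi R S Rh Sh d :=
    fun d => IsLocalization.lift_eq hunit d
  haveI := isLocalHom_algebraMap_loc R S Rh Sh Q hQ (Localization.AtPrime Q) hψ
  haveI := isStrictHenselization_of_tensor R S p q Rh Sh Q hQ (Localization.AtPrime Q) hψ
  haveI := isIntegral_localization R S Rh Sh Q hQ hloc
  haveI : HenselianLocalRing (Localization.AtPrime Q) :=
    Groth.Agent.H3.henselianLocalRing_of_isIntegral_of_isLocalRing Rh (Localization.AtPrime Q)
  haveI := isLocalHom_algebraMap_localization' R S Rh Sh Q hQ hloc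
  haveI : Algebra.IsAlgebraic (ResidueField Rh) (ResidueField (Localization.AtPrime Q)) := by
    haveI : Algebra.IsIntegral (ResidueField Rh) (ResidueField (Localization.AtPrime Q)) :=
      inferInstanceAs (Algebra.IsIntegral (Rh ⧸ maximalIdeal Rh)
        ((Localization.AtPrime Q) ⧸ maximalIdeal (Localization.AtPrime Q)))
    exact Algebra.IsIntegral.isAlgebraic
  haveI : IsSepClosed (ResidueField (Localization.AtPrime Q)) :=
    Algebra.IsAlgebraic.isSepClosed (F := ResidueField Rh)
      (E := ResidueField (Localization.AtPrime Q))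
  have hbij := bijective_algebraMap_of_isStrictHenselization (Localization.AtPrime Q) Sh
  exact hbij.1.isDomain

end Core

theorem isDomain_localization_congr {T : Type*} [CommRing T] (P P' : Ideal T) [P.IsPrime]
    [P'.IsPrime] (h : P = P') (hd : IsDomain (Localization.AtPrime P)) :
    IsDomain (Localization.AtPrime P') := by
  subst h
  exact hd

section Common

variable (A : Type u) [CommRing A] [IsLocalRing A]
  (Ah : Type u) [CommRing Ah] [IsLocalRing Ah] [Algebra A Ah] [IsLocalHom (algebraMap A Ah)]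
  (A' : Type u) [CommRing A'] [Algebra A A'] [Algebra.IsIntegral A A']

theorem comap_left_eq (m : Ideal (Ah ⊗[A] A')) [m.IsMaximal] :
    m.comap (algebraMap Ah (Ah ⊗[A] A')) = maximalIdeal Ah :=
  IsLocalRing.eq_maximalIdeal (Ideal.isMaximal_comap_of_isIntegral_of_isMaximal m)

/-- The contraction of an ideal of `Ah ⊗[A] A'` to `A'`. -/
def contr (m : Ideal (Ah ⊗[A] A')) : Ideal A' :=
  m.comap (Algebra.TensorProduct.includeRight : A' →ₐ[A] Ah ⊗[A] A').toRingHom

omit [IsLocalRing A] [IsLocalRing Ah] [IsLocalHom (algebraMap A Ah)] [Algebra.IsIntegral A A'] in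
theorem mem_contr (m : Ideal (Ah ⊗[A] A')) (a' : A') :
    a' ∈ contr A Ah A' m ↔ (1 : Ah) ⊗ₜ[A] a' ∈ m := Iff.rfl

instance (m : Ideal (Ah ⊗[A] A')) [m.IsPrime] : (contr A Ah A' m).IsPrime :=
  Ideal.comap_isPrime _ _

theorem comap_contr_eq (m : Ideal (Ah ⊗[A] A')) [m.IsMaximal] :
    (contr A Ah A' m).comap (algebraMap A A') = maximalIdeal A := by
  ext a
  rw [Ideal.mem_comap, mem_contr, ← tmul_algebraMap A A' Ah a]
  have h1 : algebraMap A Ah a ⊗ₜ[A] (1 : A') = algebraMap Ah (Ah ⊗[A] A') (algebraMap A Ah a) := by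
    rw [Algebra.TensorProduct.algebraMap_apply, Algebra.algebraMap_self_apply]
  have h4 : (maximalIdeal Ah).comap (algebraMap A Ah) = maximalIdeal A :=
    ((IsLocalRing.local_hom_TFAE (algebraMap A Ah)).out 0 4).mp ‹IsLocalHom (algebraMap A Ah)›
  rw [h1, ← Ideal.mem_comap, comap_left_eq, ← Ideal.mem_comap, h4]

theorem isMaximal_contr (m : Ideal (Ah ⊗[A] A')) [m.IsMaximal] :
    (contr A Ah A' m).IsMaximal :=
  Ideal.isMaximal_of_isIntegral_of_isMaximal_comap (R := A) _ (by
    rw [comap_contr_eq]
    exact maximalIdeal.isMaximal A)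

omit [IsLocalRing A] [IsLocalHom (algebraMap A Ah)] [Algebra.IsIntegral A A'] in
theorem exists_sub_mem
    (hres : ∀ y : Ah, ∃ r : A, y - algebraMap A Ah r ∈ maximalIdeal Ah) (x : Ah ⊗[A] A') :
    ∃ a' : A', x - 1 ⊗ₜ a' ∈ (maximalIdeal Ah).map (algebraMap Ah (Ah ⊗[A] A')) := by
  induction x using TensorProduct.induction_on with
  | zero => exact ⟨0, by rw [tmul_zero, sub_zero]; exact Ideal.zero_mem _⟩
  | tmul a b =>
    obtain ⟨r, hr⟩ := hres a
    refine ⟨r • b, ?_⟩
    have h1 : a ⊗ₜ[A] b - 1 ⊗ₜ[A] (r • b) =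
        (algebraMap Ah (Ah ⊗[A] A') (a - algebraMap A Ah r)) * (1 ⊗ₜ b) := by
      rw [Algebra.TensorProduct.algebraMap_apply, Algebra.algebraMap_self_apply,
        Algebra.TensorProduct.tmul_mul_tmul, mul_one, one_mul, sub_tmul,
        Algebra.algebraMap_eq_smul_one, TensorProduct.smul_tmul]
    rw [h1]
    exact Ideal.mul_mem_right _ _ (Ideal.mem_map_of_mem _ hr)
  | add x y hx hy =>
    obtain ⟨a1, h1⟩ := hx
    obtain ⟨a2, h2⟩ := hy
    refine ⟨a1 + a2, ?_⟩
    have h3 : x + y - 1 ⊗ₜ[A] (a1 + a2) = (x - 1 ⊗ₜ a1) + (y - 1 ⊗ₜ a2) := by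
      rw [tmul_add]
      ring
    rw [h3]
    exact Ideal.add_mem _ h1 h2

omit [IsLocalRing A] [IsLocalHom (algebraMap A Ah)] [Algebra.IsIntegral A A'] in
theorem eq_of_contr_eq
    (hres : ∀ y : Ah, ∃ r : A, y - algebraMap A Ah r ∈ maximalIdeal Ah)
    (m₁ m₂ : Ideal (Ah ⊗[A] A'))
    (h1 : (maximalIdeal Ah).map (algebraMap Ah (Ah ⊗[A] A')) ≤ m₁)
    (h2 : (maximalIdeal Ah).map (algebraMap Ah (Ah ⊗[A] A')) ≤ m₂)
    (h : contr A Ah A' m₁ = contr A Ah A' m₂) : m₁ = m₂ := by
  have key : ∀ (m : Ideal (Ah ⊗[A] A')),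
      (maximalIdeal Ah).map (algebraMap Ah (Ah ⊗[A] A')) ≤ m → ∀ (x : Ah ⊗[A] A') (a' : A'),
      x - 1 ⊗ₜ a' ∈ (maximalIdeal Ah).map (algebraMap Ah (Ah ⊗[A] A')) →
      (x ∈ m ↔ a' ∈ contr A Ah A' m) := by
    intro m hm x a' ha'
    rw [mem_contr]
    constructor
    · intro hx
      have := m.sub_mem hx (hm ha')
      rwa [sub_sub_cancel] at this
    · intro hx
      have := m.add_mem (hm ha') hx
      rwa [sub_add_cancel] at this
  ext x
  obtain ⟨a', ha'⟩ := exists_sub_mem A Ah A' hres x
  rw [key m₁ h1 x a' ha', key m₂ h2 x a' ha', h]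

end Common

section Hens

variable (A : Type u) [CommRing A] [IsLocalRing A]
  (Ah : Type u) [CommRing Ah] [IsLocalRing Ah] [Algebra A Ah] [IsLocalHom (algebraMap A Ah)]
  [Hensel.IsHenselization A Ah]
  (A' : Type u) [CommRing A'] [Algebra A A'] [Algebra.IsIntegral A A']

/-- If all localizations of the integral `A`-algebra `A'` at maximal ideals are integrally
closed domains, then all localizations of `Ah ⊗[A] A'` at maximal ideals are domains. -/
theorem isDomain_localization_tensor_henselization
    (hN : ∀ (N : Ideal A') [N.IsMaximal],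
      IsDomain (Localization.AtPrime N) ∧ IsIntegrallyClosed (Localization.AtPrime N))
    (m : Ideal (Ah ⊗[A] A')) [m.IsMaximal] : IsDomain (Localization.AtPrime m) := by
  haveI hqmax : (contr A Ah A' m).IsMaximal := isMaximal_contr A Ah A' m
  obtain ⟨hBd, hBn⟩ := hN (contr A Ah A' m)
  haveI : IsDomain (Groth.Agent.H47.Hens.Hloc (Localization.AtPrime (contr A Ah A' m))) :=
    ((Groth.Agent.S0515.result (Localization.AtPrime (contr A Ah A' m))
      (Groth.Agent.H47.Hens.Hloc (Localization.AtPrime (contr A Ah A' m)))).mp ⟨hBd, hBn⟩).1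
  letI : Algebra A' (Groth.Agent.H47.Hens.Hloc (Localization.AtPrime (contr A Ah A' m))) :=
    ((algebraMap (Localization.AtPrime (contr A Ah A' m))
      (Groth.Agent.H47.Hens.Hloc (Localization.AtPrime (contr A Ah A' m)))).comp
      (algebraMap A' (Localization.AtPrime (contr A Ah A' m)))).toAlgebra
  haveI : IsScalarTower A' (Localization.AtPrime (contr A Ah A' m))
      (Groth.Agent.H47.Hens.Hloc (Localization.AtPrime (contr A Ah A' m))) :=
    IsScalarTower.of_algebraMap_eq (fun _ => rfl)
  letI : Algebra A (Groth.Agent.H47.Hens.Hloc (Localization.AtPrime (contr A Ah A' m))) :=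
    ((algebraMap A' (Groth.Agent.H47.Hens.Hloc (Localization.AtPrime (contr A Ah A' m)))).comp
      (algebraMap A A')).toAlgebra
  haveI : IsScalarTower A A'
      (Groth.Agent.H47.Hens.Hloc (Localization.AtPrime (contr A Ah A' m))) :=
    IsScalarTower.of_algebraMap_eq (fun _ => rfl)
  have hAloc : IsLocalHom
      (algebraMap A (Groth.Agent.H47.Hens.Hloc (Localization.AtPrime (contr A Ah A' m)))) := by
    constructor
    intro a ha
    have h1 : IsUnit (algebraMap A' (Localization.AtPrime (contr A Ah A' m))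
        (algebraMap A A' a)) :=
      isUnit_of_map_unit (algebraMap (Localization.AtPrime (contr A Ah A' m))
        (Groth.Agent.H47.Hens.Hloc (Localization.AtPrime (contr A Ah A' m)))) _ ha
    rw [IsLocalization.AtPrime.isUnit_to_map_iff (Localization.AtPrime (contr A Ah A' m))
      (contr A Ah A' m)] at h1
    have h2 : a ∉ maximalIdeal A := by
      rw [← comap_contr_eq A Ah A' m, Ideal.mem_comap]
      exact h1
    exact IsLocalRing.notMem_maximalIdeal.mp h2
  haveI : HenselianLocalRing
      (Groth.Agent.H47.Hens.Hloc (Localization.AtPrime (contr A Ah A' m))) :=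
    Hensel.IsHenselization.henselian (R := Localization.AtPrime (contr A Ah A' m))
  obtain ⟨g, hg, -⟩ := Hensel.IsHenselization.universal (R := A) (S := Ah)
    (Groth.Agent.H47.Hens.Hloc (Localization.AtPrime (contr A Ah A' m)))
    (algebraMap A (Groth.Agent.H47.Hens.Hloc (Localization.AtPrime (contr A Ah A' m)))) hAloc
  letI : Algebra Ah (Groth.Agent.H47.Hens.Hloc (Localization.AtPrime (contr A Ah A' m))) :=
    g.toAlgebra
  haveI : IsScalarTower A Ah
      (Groth.Agent.H47.Hens.Hloc (Localization.AtPrime (contr A Ah A' m))) :=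
    IsScalarTower.of_algebraMap_eq (fun a => (RingHom.congr_fun hg a).symm)
  letI := Groth.Agent.H47.HensTransport.algLoc A Ah
  haveI := Groth.Agent.H47.HensTransport.isScalarTower_algLoc A Ah
  haveI := Groth.Agent.H47.HensTransport.isLocalHom_loc A Ah
  haveI := Groth.Agent.H47.HensTransport.isHenselization_loc A Ah
  haveI : (contr A Ah A' m).LiesOver (maximalIdeal A) := ⟨(comap_contr_eq A Ah A' m).symm⟩
  haveI hQprime : (Ideal.comap (phi A A' Ah
      (Groth.Agent.H47.Hens.Hloc (Localization.AtPrime (contr A Ah A' m))))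
      (maximalIdeal (Groth.Agent.H47.Hens.Hloc
        (Localization.AtPrime (contr A Ah A' m))))).IsPrime := Ideal.comap_isPrime _ _
  have hdom := isDomain_localization_of_isHenselization A A' (maximalIdeal A) (contr A Ah A' m) Ah
    (Groth.Agent.H47.Hens.Hloc (Localization.AtPrime (contr A Ah A' m))) _ rfl
  refine isDomain_localization_congr _ m ?_ hdom
  have hmaxR := (Groth.Agent.H47.HensNoeth.isIndEtaleLocal_of_isHenselization
    (Localization.AtPrime (maximalIdeal A)) Ah).map_max
  haveI hloc : IsLocalHom (algebraMap Ah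
      (Groth.Agent.H47.Hens.Hloc (Localization.AtPrime (contr A Ah A' m)))) :=
    isLocalHom_algebraMap_of_map_eq A A' (maximalIdeal A) (contr A Ah A' m) Ah _ hmaxR
  apply eq_of_contr_eq A Ah A' (Groth.Agent.H47.Hens.exists_sub_mem_maximalIdeal' A Ah)
  · rw [Ideal.map_le_iff_le_comap]
    intro a ha
    rw [Ideal.mem_comap, Ideal.mem_comap, Algebra.TensorProduct.algebraMap_apply,
      Algebra.algebraMap_self_apply, phi_left]
    exact fun hu => ha (isUnit_of_map_unit _ a hu)
  · rw [Ideal.map_le_iff_le_comap, comap_left_eq]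
  · ext a'
    rw [mem_contr, Ideal.mem_comap, phi_right, ← Ideal.mem_comap,
      comap_maximalIdeal_eq (contr A Ah A' m)]

end Hens

end Groth.Agent.H47.NormRedHens
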