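import Mathlib
import Groth.Agent.H47.NormRedHens
import Groth.Agent.H47.MinPrimeTensor
import Groth.Agent.H47.Unibranch

/-!
# Minimal primes and maximal ideals of `A' ⊗[A] Ah`
-/

set_option autoImplicit false
set_option linter.style.haveILetI false
set_option linter.unusedSectionVars false
universe u
open TensorProduct IsLocalRing

namespace Groth.Agent.H47.BranchCount

attribute [local instance] Algebra.TensorProduct.rightAlgebra

section LocDom

variable {B : Type*} [CommRing B]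

/-- Elementwise form of "the localization of `B` at `m` is a domain". -/
def LocDom (m : Ideal B) : Prop :=
  ∀ x y : B, x * y = 0 → (∃ s, s ∉ m ∧ s * x = 0) ∨ (∃ s, s ∉ m ∧ s * y = 0)

theorem locDom_of_isDomain (m : Ideal B) [m.IsPrime] (h : IsDomain (Localization.AtPrime m)) :
    LocDom m := by
  intro x y hxy
  have h1 : algebraMap B (Localization.AtPrime m) x * algebraMap B (Localization.AtPrime m) y =
      0 := by
    rw [← map_mul, hxy, map_zero]
  rcases mul_eq_zero.mp h1 with h2 | h2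
  · left
    obtain ⟨s, hs⟩ := (IsLocalization.map_eq_zero_iff m.primeCompl _ x).mp h2
    exact ⟨s, s.2, hs⟩
  · right
    obtain ⟨s, hs⟩ := (IsLocalization.map_eq_zero_iff m.primeCompl _ y).mp h2
    exact ⟨s, s.2, hs⟩

theorem LocDom.of_ringEquiv {B' : Type*} [CommRing B'] (e : B' ≃+* B) (m' : Ideal B')
    (h : LocDom (m'.comap (e.symm : B →+* B'))) : LocDom m' := by
  intro x y hxy
  have h0 : e x * e y = 0 := by rw [← map_mul, hxy, map_zero]
  rcases h _ _ h0 with ⟨s, hs, hsx⟩ | ⟨s, hs, hsy⟩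
  · left
    refine ⟨e.symm s, fun h' => hs (Ideal.mem_comap.mpr h'), ?_⟩
    apply e.injective
    rw [map_mul, e.apply_symm_apply, hsx, map_zero]
  · right
    refine ⟨e.symm s, fun h' => hs (Ideal.mem_comap.mpr h'), ?_⟩
    apply e.injective
    rw [map_mul, e.apply_symm_apply, hsy, map_zero]

theorem exists_mul_pow_eq_zero {q : Ideal B} (hq : q ∈ minimalPrimes B) {x : B} (hx : x ∈ q) :
    ∃ y, y ∉ q ∧ ∃ n : ℕ, y * x ^ n = 0 := by
  haveI : q.IsPrime := hq.1.1
  have h1 := IsLocalization.AtPrime.radical_map_of_mem_minimalPrimes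
    (A := Localization.AtPrime q) q ⊥ hq
  rw [Ideal.map_bot] at h1
  have h2 : algebraMap B (Localization.AtPrime q) x ∈ (⊥ : Ideal (Localization.AtPrime q)).radical := by
    rw [h1]
    exact Ideal.mem_map_of_mem _ hx
  obtain ⟨n, hn⟩ := h2
  rw [Ideal.mem_bot, ← map_pow] at hn
  obtain ⟨y, hy⟩ := (IsLocalization.map_eq_zero_iff q.primeCompl _ _).mp hn
  exact ⟨y, y.2, n, hy⟩

theorem existsUnique_minimalPrime_le (m : Ideal B) [m.IsPrime] (h : LocDom m) :
    ∃! q : Ideal B, q ∈ minimalPrimes B ∧ q ≤ m := by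
  have key : ∀ q₁ q₂ : Ideal B, q₁ ∈ minimalPrimes B → q₂ ∈ minimalPrimes B → q₁ ≤ m →
      q₂ ≤ m → q₁ ≤ q₂ := by
    intro q₁ q₂ h₁ h₂ hm₁ hm₂ x hx
    haveI : q₁.IsPrime := h₁.1.1
    haveI : q₂.IsPrime := h₂.1.1
    obtain ⟨y, hy, n, hn⟩ := exists_mul_pow_eq_zero h₁ hx
    rcases h _ _ hn with ⟨s, hs, hsy⟩ | ⟨s, hs, hsx⟩
    · exfalso
      have h3 : s * y ∈ q₁ := by
        rw [hsy]
        exact q₁.zero_mem
      rcases ‹q₁.IsPrime›.mem_or_mem h3 with h4 | h4
      · exact hs (hm₁ h4)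
      · exact hy h4
    · have h3 : s * x ^ n ∈ q₂ := by
        rw [hsx]
        exact q₂.zero_mem
      rcases ‹q₂.IsPrime›.mem_or_mem h3 with h4 | h4
      · exact absurd (hm₂ h4) hs
      · exact ‹q₂.IsPrime›.mem_of_pow_mem n h4
  obtain ⟨q, hq, hqm⟩ := Ideal.exists_minimalPrimes_le (I := (⊥ : Ideal B)) (J := m) bot_le
  refine ⟨q, ⟨hq, hqm⟩, ?_⟩
  rintro q' ⟨hq', hq'm⟩
  exact le_antisymm (key q' q hq' hq hq'm hqm) (key q q' hq hq' hqm hq'm)

end LocDom

section MaxOver

variable (Ah : Type u) [CommRing Ah] [HenselianLocalRing Ah] (T : Type u) [CommRing T]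
  [Algebra Ah T] [Algebra.IsIntegral Ah T]

include Ah in
theorem existsUnique_isMaximal_ge (q : Ideal T) [q.IsPrime] :
    ∃! m : Ideal T, m.IsMaximal ∧ q ≤ m := by
  haveI : IsLocalRing (T ⧸ q) :=
    Groth.Agent.H47.Unibranch.isLocalRing_of_isIntegral_of_isDomain Ah (T ⧸ q)
  have hsurj : Function.Surjective (Ideal.Quotient.mk q) := Ideal.Quotient.mk_surjective
  refine ⟨(maximalIdeal (T ⧸ q)).comap (Ideal.Quotient.mk q),
    ⟨Ideal.comap_isMaximal_of_surjective _ hsurj, ?_⟩, ?_⟩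
  · intro x hx
    rw [Ideal.mem_comap, Ideal.Quotient.eq_zero_iff_mem.mpr hx]
    exact Ideal.zero_mem _
  · rintro m ⟨hm, hqm⟩
    have hmax : ((maximalIdeal (T ⧸ q)).comap (Ideal.Quotient.mk q)).IsMaximal :=
      Ideal.comap_isMaximal_of_surjective _ hsurj
    refine hm.eq_of_le hmax.ne_top ?_
    intro x hx
    rw [Ideal.mem_comap, mem_maximalIdeal, mem_nonunits_iff]
    intro hu
    obtain ⟨z, hz⟩ := hu.exists_right_inv
    obtain ⟨y, rfl⟩ := hsurj z
    rw [← map_mul, ← map_one (Ideal.Quotient.mk q), Ideal.Quotient.eq] at hz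
    have h1 : (1 : T) ∈ m := by
      have := m.sub_mem (m.mul_mem_right y hx) (hqm hz)
      rwa [sub_sub_cancel] at this
    exact hm.ne_top ((Ideal.eq_top_iff_one m).mpr h1)

end MaxOver

section Tensor

open Groth.Agent.H47.NormRedHens

variable (A : Type u) [CommRing A] [IsLocalRing A]
  (Ah : Type u) [CommRing Ah] [IsLocalRing Ah] [Algebra A Ah] [IsLocalHom (algebraMap A Ah)]
  (A' : Type u) [CommRing A'] [Algebra A A'] [Algebra.IsIntegral A A']

omit [IsLocalRing A] [IsLocalRing Ah] [IsLocalHom (algebraMap A Ah)] in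
theorem isIntegral_right' : Algebra.IsIntegral Ah (A' ⊗[A] Ah) := by
  constructor
  intro b
  induction b using TensorProduct.induction_on with
  | zero => exact isIntegral_zero
  | add x y hx hy => exact hx.add hy
  | tmul a' c =>
    have h : a' ⊗ₜ[A] c = (a' ⊗ₜ[A] (1 : Ah)) * ((1 : A') ⊗ₜ[A] c) := by
      rw [Algebra.TensorProduct.tmul_mul_tmul, mul_one, one_mul]
    rw [h]
    refine IsIntegral.mul ?_ ?_
    · have h1 : IsIntegral A a' := Algebra.IsIntegral.isIntegral a'
      have h2 : IsIntegral A ((Algebra.TensorProduct.includeLeft : A' →ₐ[A] A' ⊗[A] Ah) a') :=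
        h1.map _
      exact h2.tower_top
    · exact isIntegral_algebraMap (x := c)

/-- The swap isomorphism. -/
noncomputable abbrev swap : A' ⊗[A] Ah ≃+* Ah ⊗[A] A' :=
  (Algebra.TensorProduct.comm A A' Ah).toRingEquiv

/-- The contraction of an ideal of `A' ⊗[A] Ah` to `A'`. -/
def contr' (m : Ideal (A' ⊗[A] Ah)) : Ideal A' :=
  m.comap (Algebra.TensorProduct.includeLeft : A' →ₐ[A] A' ⊗[A] Ah).toRingHom

omit [IsLocalRing A] [IsLocalRing Ah] [IsLocalHom (algebraMap A Ah)] [Algebra.IsIntegral A A'] in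
theorem mem_contr' (m : Ideal (A' ⊗[A] Ah)) (a' : A') :
    a' ∈ contr' A Ah A' m ↔ a' ⊗ₜ[A] (1 : Ah) ∈ m := Iff.rfl

omit [IsLocalRing A] [IsLocalRing Ah] [IsLocalHom (algebraMap A Ah)] [Algebra.IsIntegral A A'] in
theorem contr_comap_swap (m : Ideal (A' ⊗[A] Ah)) :
    contr A Ah A' (m.comap ((swap A Ah A').symm : Ah ⊗[A] A' →+* A' ⊗[A] Ah)) =
      contr' A Ah A' m := by
  ext a'
  rw [mem_contr, mem_contr', Ideal.mem_comap]
  rfl

omit [IsLocalRing A] [IsLocalRing Ah] [IsLocalHom (algebraMap A Ah)] [Algebra.IsIntegral A A'] in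
theorem isMaximal_comap_swap (m : Ideal (A' ⊗[A] Ah)) [m.IsMaximal] :
    (m.comap ((swap A Ah A').symm : Ah ⊗[A] A' →+* A' ⊗[A] Ah)).IsMaximal :=
  Ideal.comap_isMaximal_of_surjective _ (swap A Ah A').symm.surjective

theorem isMaximal_contr' (m : Ideal (A' ⊗[A] Ah)) [m.IsMaximal] :
    (contr' A Ah A' m).IsMaximal := by
  haveI := isMaximal_comap_swap A Ah A' m
  rw [← contr_comap_swap]
  exact isMaximal_contr A Ah A' _

theorem contr'_injective
    (hres : ∀ y : Ah, ∃ r : A, y - algebraMap A Ah r ∈ maximalIdeal Ah)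
    (m₁ m₂ : Ideal (A' ⊗[A] Ah)) [m₁.IsMaximal] [m₂.IsMaximal]
    (h : contr' A Ah A' m₁ = contr' A Ah A' m₂) : m₁ = m₂ := by
  haveI := isMaximal_comap_swap A Ah A' m₁
  haveI := isMaximal_comap_swap A Ah A' m₂
  have h3 := eq_of_contr_eq A Ah A' hres
    (m₁.comap ((swap A Ah A').symm : Ah ⊗[A] A' →+* A' ⊗[A] Ah))
    (m₂.comap ((swap A Ah A').symm : Ah ⊗[A] A' →+* A' ⊗[A] Ah))
    (by rw [Ideal.map_le_iff_le_comap, comap_left_eq])
    (by rw [Ideal.map_le_iff_le_comap, comap_left_eq])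
    (by rw [contr_comap_swap, contr_comap_swap, h])
  exact Ideal.comap_injective_of_surjective _ (swap A Ah A').symm.surjective h3

omit [IsLocalRing A] [IsLocalRing Ah] [IsLocalHom (algebraMap A Ah)] [Algebra.IsIntegral A A'] in
theorem exists_isMaximal_contr'_eq [Module.FaithfullyFlat A Ah] (N : Ideal A') [N.IsMaximal] :
    ∃ m : Ideal (A' ⊗[A] Ah), m.IsMaximal ∧ contr' A Ah A' m = N := by
  obtain ⟨P, hP, hPN⟩ := Ideal.exists_isPrime_liesOver_of_faithfullyFlat (B := A' ⊗[A] Ah) N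
  obtain ⟨m, hm, hPm⟩ := Ideal.exists_le_maximal P hP.ne_top
  refine ⟨m, hm, ?_⟩
  symm
  apply ‹N.IsMaximal›.eq_of_le
  · haveI : (contr' A Ah A' m).IsPrime := Ideal.comap_isPrime _ _
    exact Ideal.IsPrime.ne_top inferInstance
  · intro a' ha'
    rw [mem_contr']
    apply hPm
    have h1 : a' ∈ P.under A' := by
      rw [← hPN.over]
      exact ha'
    exact h1

/-- The bijection between maximal ideals of `A' ⊗[A] Ah` and of `A'` for `Ah` with trivial
residue field extension. -/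
theorem bijective_contr' [Module.FaithfullyFlat A Ah]
    (hres : ∀ y : Ah, ∃ r : A, y - algebraMap A Ah r ∈ maximalIdeal Ah) :
    Function.Bijective (fun m : {m : Ideal (A' ⊗[A] Ah) // m.IsMaximal} =>
      (⟨contr' A Ah A' m.1, haveI := m.2; isMaximal_contr' A Ah A' m.1⟩ :
        MaximalSpectrum A')) := by
  constructor
  · rintro ⟨m₁, hm₁⟩ ⟨m₂, hm₂⟩ h
    apply Subtype.ext
    haveI := hm₁
    haveI := hm₂
    exact contr'_injective A Ah A' hres m₁ m₂ (congrArg MaximalSpectrum.asIdeal h)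
  · rintro ⟨N, hN⟩
    haveI := hN
    obtain ⟨m, hm, hmN⟩ := exists_isMaximal_contr'_eq A Ah A' N
    exact ⟨⟨m, hm⟩, MaximalSpectrum.ext hmN⟩

theorem locDom_of_isHenselization [Hensel.IsHenselization A Ah]
    (hN : ∀ (N : Ideal A') [N.IsMaximal],
      IsDomain (Localization.AtPrime N) ∧ IsIntegrallyClosed (Localization.AtPrime N))
    (m : Ideal (A' ⊗[A] Ah)) [m.IsMaximal] : LocDom m := by
  haveI := isMaximal_comap_swap A Ah A' m
  exact LocDom.of_ringEquiv (swap A Ah A') m (locDom_of_isDomain _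
    (isDomain_localization_tensor_henselization A Ah A' hN _))

/-- The bijection between minimal primes and maximal ideals of `A' ⊗[A] Ah`. -/
theorem exists_bijective_minimalPrimes_maximal [HenselianLocalRing Ah]
    (hloc : ∀ (m : Ideal (A' ⊗[A] Ah)) [m.IsMaximal], LocDom m) :
    ∃ f : minimalPrimes (A' ⊗[A] Ah) → {m : Ideal (A' ⊗[A] Ah) // m.IsMaximal},
      Function.Bijective f ∧
        ∀ q : minimalPrimes (A' ⊗[A] Ah), (q : Ideal (A' ⊗[A] Ah)) ≤ (f q).1 := by
  haveI : Algebra.IsIntegral Ah (A' ⊗[A] Ah) := isIntegral_right' A Ah A'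
  have h1 : ∀ q : minimalPrimes (A' ⊗[A] Ah),
      ∃! m : Ideal (A' ⊗[A] Ah), m.IsMaximal ∧ (q : Ideal (A' ⊗[A] Ah)) ≤ m := fun q => by
    haveI : (q : Ideal (A' ⊗[A] Ah)).IsPrime := q.2.1.1
    exact existsUnique_isMaximal_ge Ah (A' ⊗[A] Ah) q.1
  choose f hf hfuniq using h1
  refine ⟨fun q => ⟨f q, (hf q).1⟩, ⟨?_, ?_⟩, fun q => (hf q).2⟩
  · intro q₁ q₂ h
    have h' : f q₁ = f q₂ := congrArg Subtype.val h
    haveI := (hf q₁).1
    obtain ⟨q, -, hquniq⟩ := existsUnique_minimalPrime_le (f q₁) (hloc (f q₁))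
    apply Subtype.ext
    rw [hquniq q₁.1 ⟨q₁.2, (hf q₁).2⟩, hquniq q₂.1 ⟨q₂.2, h' ▸ (hf q₂).2⟩]
  · rintro ⟨m, hm⟩
    haveI := hm
    obtain ⟨q, ⟨hq, hqm⟩, -⟩ := existsUnique_minimalPrime_le m (hloc m)
    refine ⟨⟨q, hq⟩, Subtype.ext ?_⟩
    exact (hfuniq ⟨q, hq⟩ m ⟨hm, hqm⟩).symm

end Tensor

section NormRed

variable (A : Type u) [CommRing A]

instance isReduced_red : IsReduced (CAlg2.red A) :=
  (Ideal.isRadical_iff_quotient_reduced _).mp (Ideal.radical_isRadical (⊥ : Ideal A))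

theorem finite_minimalPrimes_red (hfin : (minimalPrimes A).Finite) :
    (minimalPrimes (CAlg2.red A)).Finite := by
  have hsurj : Function.Surjective (Ideal.Quotient.mk (nilradical A)) :=
    Ideal.Quotient.mk_surjective
  have h := Ideal.comap_minimalPrimes_eq_of_surjective hsurj (⊥ : Ideal (CAlg2.red A))
  have h2 : Ideal.comap (Ideal.Quotient.mk (nilradical A)) (⊥ : Ideal (CAlg2.red A)) =
      nilradical A := by
    rw [← RingHom.ker_eq_comap_bot, Ideal.mk_ker]
  have h3 : (nilradical A).minimalPrimes = minimalPrimes A :=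
    Ideal.radical_minimalPrimes (I := (⊥ : Ideal A))
  rw [h2, h3] at h
  refine Set.Finite.of_finite_image (f := Ideal.comap (Ideal.Quotient.mk (nilradical A))) ?_
    (Ideal.comap_injective_of_surjective _ hsurj).injOn
  show (Ideal.comap (Ideal.Quotient.mk (nilradical A)) ''
    (⊥ : Ideal (CAlg2.red A)).minimalPrimes).Finite
  rw [← h]
  exact hfin

/-- For a ring with finitely many minimal primes, the localizations of the normalization of its
reduction at prime ideals are integrally closed domains. -/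
theorem normRed_localization (hfin : (minimalPrimes A).Finite) (N : Ideal (CAlg2.normRed A))
    [N.IsPrime] :
    IsDomain (Localization.AtPrime N) ∧ IsIntegrallyClosed (Localization.AtPrime N) :=
  ⟨Groth.Agent.H47.NormRedLocal.isDomain_localization (FractionRing (CAlg2.red A))
    (finite_minimalPrimes_red A hfin) N,
   Groth.Agent.H47.NormRedLocal.isIntegrallyClosed_localization (FractionRing (CAlg2.red A))
    (finite_minimalPrimes_red A hfin) N⟩

end NormRed

end Groth.Agent.H47.BranchCount
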