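import Mathlib
import Groth.Agent.H47.NormRedHens
import Groth.Agent.H47.HensK3

/-!
# Strict henselization case: localizations of `Ash ⊗[A] A'` at maximal ideals are domains
-/

set_option autoImplicit false
set_option linter.style.haveILetI false
set_option linter.unusedSectionVars false
universe u
open TensorProduct IsLocalRing

namespace Groth.Agent.H47.NormRedStrict

open Groth.Agent.H47.HensTensor Groth.Agent.H47.NormRedHens

section Setup

variable (A : Type u) [CommRing A] [IsLocalRing A]
  (Ash : Type u) [CommRing Ash] [IsLocalRing Ash] [Algebra A Ash] [IsLocalHom (algebraMap A Ash)]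
  (A' : Type u) [CommRing A'] [Algebra A A'] [Algebra.IsIntegral A A']
  (m : Ideal (Ash ⊗[A] A')) [m.IsMaximal]

/-- The residue field of the maximal ideal `m`. -/
def KQ : Type u := (Ash ⊗[A] A') ⧸ m

noncomputable instance : Field (KQ A Ash A' m) := Ideal.Quotient.field m

/-- The quotient map. -/
noncomputable def mkK : Ash ⊗[A] A' →+* KQ A Ash A' m := Ideal.Quotient.mk m

omit [IsLocalRing A] [IsLocalRing Ash] [IsLocalHom (algebraMap A Ash)] [Algebra.IsIntegral A A'] in
theorem mkK_surjective : Function.Surjective (mkK A Ash A' m) := Ideal.Quotient.mk_surjective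

omit [IsLocalRing A] [IsLocalRing Ash] [IsLocalHom (algebraMap A Ash)] [Algebra.IsIntegral A A'] in
theorem mkK_eq_zero_iff (x : Ash ⊗[A] A') : mkK A Ash A' m x = 0 ↔ x ∈ m :=
  Ideal.Quotient.eq_zero_iff_mem

/-- `A' → K`. -/
noncomputable def toK : A' →+* KQ A Ash A' m :=
  (mkK A Ash A' m).comp (Algebra.TensorProduct.includeRight : A' →ₐ[A] Ash ⊗[A] A').toRingHom

/-- `Ash → K`. -/
noncomputable def toKh : Ash →+* KQ A Ash A' m := (mkK A Ash A' m).comp (algebraMap Ash (Ash ⊗[A] A'))

omit [IsLocalRing A] [IsLocalRing Ash] [IsLocalHom (algebraMap A Ash)] [Algebra.IsIntegral A A'] in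
theorem toK_apply (a' : A') : toK A Ash A' m a' = mkK A Ash A' m (1 ⊗ₜ a') := rfl

omit [IsLocalRing A] [IsLocalRing Ash] [IsLocalHom (algebraMap A Ash)] [Algebra.IsIntegral A A'] in
theorem toKh_apply (a : Ash) : toKh A Ash A' m a = mkK A Ash A' m (a ⊗ₜ 1) := by
  show mkK A Ash A' m (algebraMap Ash (Ash ⊗[A] A') a) = _
  rw [Algebra.TensorProduct.algebraMap_apply, Algebra.algebraMap_self_apply]

omit [IsLocalRing A] [IsLocalRing Ash] [IsLocalHom (algebraMap A Ash)] [Algebra.IsIntegral A A'] in
theorem mkK_tmul (a : Ash) (a' : A') :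
    mkK A Ash A' m (a ⊗ₜ a') = toKh A Ash A' m a * toK A Ash A' m a' := by
  rw [toKh_apply, toK_apply, ← map_mul, Algebra.TensorProduct.tmul_mul_tmul, mul_one, one_mul]

omit [IsLocalRing A] [IsLocalRing Ash] [IsLocalHom (algebraMap A Ash)] [Algebra.IsIntegral A A'] in
theorem toK_eq_zero_iff (a' : A') : toK A Ash A' m a' = 0 ↔ a' ∈ contr A Ash A' m := by
  rw [toK_apply, mkK_eq_zero_iff, mem_contr]

theorem toKh_eq_zero_iff (a : Ash) : toKh A Ash A' m a = 0 ↔ a ∈ maximalIdeal Ash := by
  show mkK A Ash A' m (algebraMap Ash (Ash ⊗[A] A') a) = 0 ↔ _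
  rw [mkK_eq_zero_iff, ← Ideal.mem_comap, comap_left_eq]

omit [IsLocalRing A] [IsLocalHom (algebraMap A Ash)] [Algebra.IsIntegral A A'] in
theorem toK_algebraMap (a : A) :
    toK A Ash A' m (algebraMap A A' a) = toKh A Ash A' m (algebraMap A Ash a) := by
  rw [toK_apply, toKh_apply, tmul_algebraMap]

omit [IsLocalRing A] [IsLocalRing Ash] [IsLocalHom (algebraMap A Ash)] [Algebra.IsIntegral A A'] in
theorem isUnit_toK (s : (contr A Ash A' m).primeCompl) : IsUnit (toK A Ash A' m s) := by
  rw [isUnit_iff_ne_zero, Ne, toK_eq_zero_iff]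
  exact s.2

/-- `B = A'_q → K`. -/
noncomputable def βK : Localization.AtPrime (contr A Ash A' m) →+* KQ A Ash A' m :=
  IsLocalization.lift (M := (contr A Ash A' m).primeCompl) (g := toK A Ash A' m)
    (isUnit_toK A Ash A' m)

omit [IsLocalRing A] [IsLocalRing Ash] [IsLocalHom (algebraMap A Ash)] [Algebra.IsIntegral A A'] in
theorem βK_algebraMap (a' : A') :
    βK A Ash A' m (algebraMap A' (Localization.AtPrime (contr A Ash A' m)) a') =
      toK A Ash A' m a' :=
  IsLocalization.lift_eq _ a'

noncomputable instance algBK : Algebra (Localization.AtPrime (contr A Ash A' m)) (KQ A Ash A' m) :=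
  (βK A Ash A' m).toAlgebra

omit [IsLocalRing A] [IsLocalRing Ash] [IsLocalHom (algebraMap A Ash)] [Algebra.IsIntegral A A'] in
instance isLocalHom_βK : IsLocalHom (βK A Ash A' m) := by
  constructor
  intro x hx
  obtain ⟨a', s, rfl⟩ := IsLocalization.exists_mk'_eq (contr A Ash A' m).primeCompl x
  have h1 : βK A Ash A' m (IsLocalization.mk' _ a' s) * toK A Ash A' m s = toK A Ash A' m a' := by
    rw [← βK_algebraMap, ← βK_algebraMap, ← map_mul, IsLocalization.mk'_spec]
  have h2 : toK A Ash A' m a' ≠ 0 := by
    rw [← h1]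
    exact mul_ne_zero hx.ne_zero (isUnit_toK A Ash A' m s).ne_zero
  rw [Ne, toK_eq_zero_iff] at h2
  exact (IsLocalization.AtPrime.isUnit_mk'_iff _ (contr A Ash A' m) a' s).mpr h2

noncomputable instance algResBK :
    Algebra (ResidueField (Localization.AtPrime (contr A Ash A' m))) (KQ A Ash A' m) :=
  (ResidueField.lift (βK A Ash A' m)).toAlgebra

omit [IsLocalRing A] [IsLocalRing Ash] [IsLocalHom (algebraMap A Ash)] [Algebra.IsIntegral A A'] in
instance : IsScalarTower (Localization.AtPrime (contr A Ash A' m))
    (ResidueField (Localization.AtPrime (contr A Ash A' m))) (KQ A Ash A' m) :=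
  IsScalarTower.of_algebraMap_eq (fun _ => rfl)

instance isLocalHom_toKh : IsLocalHom (toKh A Ash A' m) := by
  constructor
  intro a ha
  have h := ha.ne_zero
  rw [Ne, toKh_eq_zero_iff] at h
  exact IsLocalRing.notMem_maximalIdeal.mp h

/-- `κ(Ash) → K`. -/
noncomputable def ιK : ResidueField Ash →+* KQ A Ash A' m := ResidueField.lift (toKh A Ash A' m)

theorem ιK_residue (a : Ash) : ιK A Ash A' m (residue Ash a) = toKh A Ash A' m a := rfl

noncomputable instance algResAshK : Algebra (ResidueField Ash) (KQ A Ash A' m) :=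
  (ιK A Ash A' m).toAlgebra

theorem isAlgebraic_K : Algebra.IsAlgebraic (ResidueField Ash) (KQ A Ash A' m) := by
  haveI : Algebra.IsIntegral (ResidueField Ash) (KQ A Ash A' m) := by
    constructor
    intro y
    obtain ⟨x, rfl⟩ := mkK_surjective A Ash A' m y
    obtain ⟨p, hp, hpx⟩ := (Algebra.IsIntegral.isIntegral (R := Ash) x)
    refine ⟨p.map (residue Ash), hp.map _, ?_⟩
    rw [Polynomial.eval₂_map]
    have h1 : (algebraMap (ResidueField Ash) (KQ A Ash A' m)).comp (residue Ash) =
        (mkK A Ash A' m).comp (algebraMap Ash (Ash ⊗[A] A')) := rfl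
    rw [h1, ← Polynomial.hom_eval₂, hpx, map_zero]
  exact Algebra.IsIntegral.isAlgebraic

instance isLocalHom_algebraMap_B :
    IsLocalHom (algebraMap A (Localization.AtPrime (contr A Ash A' m))) := by
  constructor
  intro a ha
  rw [IsScalarTower.algebraMap_apply A A' (Localization.AtPrime (contr A Ash A' m)),
    IsLocalization.AtPrime.isUnit_to_map_iff (Localization.AtPrime (contr A Ash A' m))
      (contr A Ash A' m)] at ha
  have h2 : a ∉ maximalIdeal A := by
    rw [← comap_contr_eq A Ash A' m, Ideal.mem_comap]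
    exact ha
  exact IsLocalRing.notMem_maximalIdeal.mp h2

noncomputable instance algResAK : Algebra (ResidueField A) (KQ A Ash A' m) :=
  ((algebraMap (ResidueField (Localization.AtPrime (contr A Ash A' m))) (KQ A Ash A' m)).comp
    (algebraMap (ResidueField A)
      (ResidueField (Localization.AtPrime (contr A Ash A' m))))).toAlgebra

instance : IsScalarTower (ResidueField A)
    (ResidueField (Localization.AtPrime (contr A Ash A' m))) (KQ A Ash A' m) :=
  IsScalarTower.of_algebraMap_eq (fun _ => rfl)

instance : IsScalarTower (ResidueField A) (ResidueField Ash) (KQ A Ash A' m) := by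
  refine IsScalarTower.of_algebraMap_eq (fun x => ?_)
  obtain ⟨a, rfl⟩ := residue_surjective x
  show βK A Ash A' m (algebraMap A (Localization.AtPrime (contr A Ash A' m)) a) =
    toKh A Ash A' m (algebraMap A Ash a)
  rw [IsScalarTower.algebraMap_apply A A' (Localization.AtPrime (contr A Ash A' m)),
    βK_algebraMap, toK_algebraMap]

variable [Hensel.IsStrictHenselization A Ash]

theorem isSeparable_mkK (x : Ash ⊗[A] A') :
    IsSeparable (ResidueField (Localization.AtPrime (contr A Ash A' m)))
      (mkK A Ash A' m x) := by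
  haveI hsc : IsSepClosure (ResidueField A) (ResidueField Ash) :=
    Hensel.IsStrictHenselization.isSepClosure
  haveI : Algebra.IsSeparable (ResidueField A) (ResidueField Ash) := hsc.separable
  induction x using TensorProduct.induction_on with
  | zero =>
    rw [map_zero, ← map_zero (algebraMap
      (ResidueField (Localization.AtPrime (contr A Ash A' m))) (KQ A Ash A' m))]
    exact isSeparable_algebraMap _
  | tmul a a' =>
    rw [mkK_tmul]
    apply Field.isSeparable_mul
    · have h1 : IsSeparable (ResidueField A) (residue Ash a) :=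
        Algebra.IsSeparable.isSeparable _ _
      have h2 : IsSeparable (ResidueField A)
          (IsScalarTower.toAlgHom (ResidueField A) (ResidueField Ash) (KQ A Ash A' m)
            (residue Ash a)) := h1.map _ (RingHom.injective _)
      exact IsSeparable.tower_top
        (L := ResidueField (Localization.AtPrime (contr A Ash A' m))) h2
    · have h3 : toK A Ash A' m a' = algebraMap
          (ResidueField (Localization.AtPrime (contr A Ash A' m))) (KQ A Ash A' m)
          (residue _ (algebraMap A' (Localization.AtPrime (contr A Ash A' m)) a')) :=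
        (βK_algebraMap A Ash A' m a').symm
      rw [h3]
      exact isSeparable_algebraMap _
  | add x y hx hy =>
    rw [map_add]
    exact Field.isSeparable_add hx hy

instance isSepClosure_K :
    IsSepClosure (ResidueField (Localization.AtPrime (contr A Ash A' m))) (KQ A Ash A' m) := by
  haveI hsc : IsSepClosure (ResidueField A) (ResidueField Ash) :=
    Hensel.IsStrictHenselization.isSepClosure
  haveI : IsSepClosed (ResidueField Ash) := hsc.sep_closed
  haveI := isAlgebraic_K A Ash A' m
  refine ⟨Algebra.IsAlgebraic.isSepClosed (F := ResidueField Ash) (E := KQ A Ash A' m), ⟨?_⟩⟩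
  intro y
  obtain ⟨x, rfl⟩ := mkK_surjective A Ash A' m y
  exact isSeparable_mkK A Ash A' m x

end Setup

section Main

open Groth.Agent.H47.HensK

variable (A : Type u) [CommRing A] [IsLocalRing A]
  (Ash : Type u) [CommRing Ash] [IsLocalRing Ash] [Algebra A Ash] [IsLocalHom (algebraMap A Ash)]
  [Hensel.IsStrictHenselization A Ash]
  (A' : Type u) [CommRing A'] [Algebra A A'] [Algebra.IsIntegral A A']
  (m : Ideal (Ash ⊗[A] A')) [m.IsMaximal]

/-- The strict henselization of `A'_q` with residue field `K = T/m`. -/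
abbrev Bsh : Type u := H (Localization.AtPrime (contr A Ash A' m)) (KQ A Ash A' m)

/-- If all localizations of the integral `A`-algebra `A'` at maximal ideals are integrally
closed domains, then all localizations of `Ash ⊗[A] A'` at maximal ideals are domains. -/
theorem isDomain_localization_tensor_strictHenselization
    (hN : ∀ (N : Ideal A') [N.IsMaximal],
      IsDomain (Localization.AtPrime N) ∧ IsIntegrallyClosed (Localization.AtPrime N)) :
    IsDomain (Localization.AtPrime m) := by
  haveI hqmax : (contr A Ash A' m).IsMaximal := isMaximal_contr A Ash A' m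
  obtain ⟨hBd, hBn⟩ := hN (contr A Ash A' m)
  haveI := isStrictHenselization_H (Localization.AtPrime (contr A Ash A' m)) (KQ A Ash A' m)
  haveI : IsDomain (Bsh A Ash A' m) :=
    ((Groth.Agent.S2748.result (Localization.AtPrime (contr A Ash A' m))
      (Bsh A Ash A' m)).mpr ⟨hBd, hBn⟩).1
  letI : Algebra A' (Bsh A Ash A' m) :=
    ((algebraMap (Localization.AtPrime (contr A Ash A' m)) (Bsh A Ash A' m)).comp
      (algebraMap A' (Localization.AtPrime (contr A Ash A' m)))).toAlgebra
  haveI : IsScalarTower A' (Localization.AtPrime (contr A Ash A' m)) (Bsh A Ash A' m) :=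
    IsScalarTower.of_algebraMap_eq (fun _ => rfl)
  letI : Algebra A (Bsh A Ash A' m) :=
    ((algebraMap A' (Bsh A Ash A' m)).comp (algebraMap A A')).toAlgebra
  haveI : IsScalarTower A A' (Bsh A Ash A' m) := IsScalarTower.of_algebraMap_eq (fun _ => rfl)
  haveI hAloc : IsLocalHom (algebraMap A (Bsh A Ash A' m)) := by
    constructor
    intro a ha
    have h1 : IsUnit (algebraMap A' (Localization.AtPrime (contr A Ash A' m))
        (algebraMap A A' a)) :=
      isUnit_of_map_unit (algebraMap (Localization.AtPrime (contr A Ash A' m))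
        (Bsh A Ash A' m)) _ ha
    rw [IsLocalization.AtPrime.isUnit_to_map_iff (Localization.AtPrime (contr A Ash A' m))
      (contr A Ash A' m)] at h1
    have h2 : a ∉ maximalIdeal A := by
      rw [← comap_contr_eq A Ash A' m, Ideal.mem_comap]
      exact h1
    exact IsLocalRing.notMem_maximalIdeal.mp h2
  -- the residue field identification
  let ε : ResidueField (Bsh A Ash A' m) ≃+* KQ A Ash A' m :=
    RingEquiv.ofBijective (εres (Localization.AtPrime (contr A Ash A' m)) (KQ A Ash A' m))
      (εres_bijective (Localization.AtPrime (contr A Ash A' m)) (KQ A Ash A' m))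
  have hε : ∀ z, ε z = εres (Localization.AtPrime (contr A Ash A' m)) (KQ A Ash A' m) z :=
    fun _ => rfl
  have hεA' : ∀ a' : A', ε (residue (Bsh A Ash A' m) (algebraMap A' (Bsh A Ash A' m) a')) =
      toK A Ash A' m a' := by
    intro a'
    rw [hε, εres_residue]
    show Groth.Agent.H47.HensK.ε (Localization.AtPrime (contr A Ash A' m)) (KQ A Ash A' m)
      (algebraMap (Localization.AtPrime (contr A Ash A' m)) (Bsh A Ash A' m)
        (algebraMap A' (Localization.AtPrime (contr A Ash A' m)) a')) = _
    rw [ε_algebraMap]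
    exact βK_algebraMap A Ash A' m a'
  let τ : ResidueField Ash →+* ResidueField (Bsh A Ash A' m) :=
    (ε.symm : KQ A Ash A' m →+* ResidueField (Bsh A Ash A' m)).comp (ιK A Ash A' m)
  have hτ : τ.comp (ResidueField.map (algebraMap A Ash)) =
      ResidueField.map (algebraMap A (Bsh A Ash A' m)) := by
    refine RingHom.ext fun x => ?_
    obtain ⟨a, rfl⟩ := residue_surjective x
    rw [RingHom.comp_apply, ResidueField.map_residue, ResidueField.map_residue]
    apply ε.injective
    show ε (ε.symm (ιK A Ash A' m (residue Ash (algebraMap A Ash a)))) =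
      ε (residue (Bsh A Ash A' m) (algebraMap A' (Bsh A Ash A' m) (algebraMap A A' a)))
    rw [RingEquiv.apply_symm_apply, ιK_residue, hεA', toK_algebraMap]
  haveI : HenselianLocalRing (Bsh A Ash A' m) := inferInstance
  obtain ⟨g, ⟨hg1, hg2⟩, -⟩ := Hensel.IsStrictHenselization.universal (R := A) (S := Ash)
    (Bsh A Ash A' m) (algebraMap A (Bsh A Ash A' m)) τ hτ
  letI : Algebra Ash (Bsh A Ash A' m) := g.toAlgebra
  haveI : IsScalarTower A Ash (Bsh A Ash A' m) :=
    IsScalarTower.of_algebraMap_eq (fun a => (RingHom.congr_fun hg1 a).symm)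
  have hεAsh : ∀ a : Ash, ε (residue (Bsh A Ash A' m) (algebraMap Ash (Bsh A Ash A' m) a)) =
      toKh A Ash A' m a := by
    intro a
    show ε (residue (Bsh A Ash A' m) (g a)) = _
    rw [hg2]
    show ε (ε.symm (ιK A Ash A' m (residue Ash a))) = _
    rw [RingEquiv.apply_symm_apply, ιK_residue]
  letI := Groth.Agent.H47.HensTransport.algLoc A Ash
  haveI := Groth.Agent.H47.HensTransport.isScalarTower_algLoc A Ash
  haveI := Groth.Agent.H47.HensTransport.isLocalHom_loc A Ash
  haveI := Groth.Agent.H47.HensTransport.isStrictHenselization_loc A Ash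
  haveI : (contr A Ash A' m).LiesOver (maximalIdeal A) := ⟨(comap_contr_eq A Ash A' m).symm⟩
  haveI hQprime : (Ideal.comap (phi A A' Ash (Bsh A Ash A' m))
      (maximalIdeal (Bsh A Ash A' m))).IsPrime := Ideal.comap_isPrime _ _
  have hdom := isDomain_localization_of_isStrictHenselization A A' (maximalIdeal A)
    (contr A Ash A' m) Ash (Bsh A Ash A' m) _ rfl
  refine isDomain_localization_congr _ m ?_ hdom
  have hcomp : ∀ x : Ash ⊗[A] A',
      ε (residue (Bsh A Ash A' m) (phi A A' Ash (Bsh A Ash A' m) x)) = mkK A Ash A' m x := by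
    intro x
    induction x using TensorProduct.induction_on with
    | zero => rw [map_zero, map_zero, map_zero, map_zero]
    | tmul a a' =>
      have h1 : a ⊗ₜ[A] a' = (a ⊗ₜ[A] (1 : A')) * ((1 : Ash) ⊗ₜ[A] a') := by
        rw [Algebra.TensorProduct.tmul_mul_tmul, mul_one, one_mul]
      rw [mkK_tmul, h1, map_mul, phi_left, phi_right, map_mul, map_mul, hεAsh, hεA']
    | add x y hx hy => rw [map_add, map_add, map_add, hx, hy, map_add]
  ext x
  rw [Ideal.mem_comap, ← residue_eq_zero_iff, ← map_eq_zero_iff ε ε.injective, hcomp,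
    mkK_eq_zero_iff]

end Main

end Groth.Agent.H47.NormRedStrict
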