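import Mathlib
import Groth.Agent.H47.BranchCount
import Groth.Agent.H47.NormRedStrict

/-!
# Strict henselization case of `BranchCount`
-/

set_option autoImplicit false
set_option linter.style.haveILetI false
set_option linter.unusedSectionVars false
universe u
open TensorProduct IsLocalRing

namespace Groth.Agent.H47.BranchCount

attribute [local instance] Algebra.TensorProduct.rightAlgebra

section Tensor

variable (A : Type u) [CommRing A] [IsLocalRing A]
  (Ah : Type u) [CommRing Ah] [IsLocalRing Ah] [Algebra A Ah] [IsLocalHom (algebraMap A Ah)]
  (A' : Type u) [CommRing A'] [Algebra A A'] [Algebra.IsIntegral A A']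

theorem locDom_of_isStrictHenselization [Hensel.IsStrictHenselization A Ah]
    (hN : ∀ (N : Ideal A') [N.IsMaximal],
      IsDomain (Localization.AtPrime N) ∧ IsIntegrallyClosed (Localization.AtPrime N))
    (m : Ideal (A' ⊗[A] Ah)) [m.IsMaximal] : LocDom m := by
  haveI := isMaximal_comap_swap A Ah A' m
  exact LocDom.of_ringEquiv (swap A Ah A') m (locDom_of_isDomain _
    (Groth.Agent.H47.NormRedStrict.isDomain_localization_tensor_strictHenselization A Ah A' _ hN))

end Tensor

end Groth.Agent.H47.BranchCount
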