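import Mathlib
import Groth.Agent.S9407

/-!
# Étale algebras over integrally closed domains are normal

Using that smooth base change commutes with integral closure
(`TensorProduct.toIntegralClosure_bijective_of_smooth`), we show that the localization of an étale
algebra over an integrally closed domain at any prime is an integrally closed domain.
-/

set_option autoImplicit false
universe u
open TensorProduct

namespace Groth.Agent.H47.EtaleNormal

/-- Elements of an étale algebra over a domain are algebraic. -/
theorem isAlgebraic_of_etale (R S : Type u) [CommRing R] [IsDomain R] [CommRing S] [Algebra R S]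
    [Algebra.Etale R S] (s : S) : IsAlgebraic R s := by
  haveI : Algebra.Etale (FractionRing R) (FractionRing R ⊗[R] S) := inferInstance
  haveI : Module.Finite (FractionRing R) (FractionRing R ⊗[R] S) :=
    Algebra.FormallyUnramified.finite_of_free (FractionRing R) (FractionRing R ⊗[R] S)
  haveI : Algebra.IsAlgebraic (FractionRing R) (FractionRing R ⊗[R] S) :=
    Algebra.IsAlgebraic.of_finite _ _
  have h1 : IsAlgebraic (FractionRing R) ((1 : FractionRing R) ⊗ₜ[R] s) :=
    Algebra.IsAlgebraic.isAlgebraic _
  have h2 : IsAlgebraic R ((1 : FractionRing R) ⊗ₜ[R] s) :=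
    (IsFractionRing.isAlgebraic_iff R (FractionRing R) _).mpr h1
  have hinj : Function.Injective
      (Algebra.TensorProduct.includeRight : S →ₐ[R] FractionRing R ⊗[R] S) :=
    Algebra.TensorProduct.includeRight_injective (IsFractionRing.injective R (FractionRing R))
  exact (isAlgebraic_algHom_iff _ hinj).mp h2

/-- In a reduced algebra over a domain in which nonzero scalars are invertible, algebraic elements
are von Neumann regular. -/
theorem exists_eq_sq_mul {R T : Type*} [CommRing R] [IsDomain R] [CommRing T] [IsReduced T]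
    [Algebra R T] (hunit : ∀ r : R, r ≠ 0 → IsUnit (algebraMap R T r)) (x : T)
    (hx : IsAlgebraic R x) : ∃ u : T, x = x ^ 2 * u := by
  obtain ⟨p, hp0, hp⟩ := hx
  obtain ⟨q, hpq, hq⟩ := Polynomial.exists_eq_pow_rootMultiplicity_mul_and_not_dvd p hp0 0
  have hq0 : q.coeff 0 ≠ 0 := by
    intro h
    apply hq
    rw [map_zero, sub_zero]
    exact Polynomial.X_dvd_iff.mpr h
  have h1 : x ^ (Polynomial.rootMultiplicity 0 p) * Polynomial.aeval x q = 0 := by
    rw [hpq, map_zero, sub_zero, map_mul, map_pow, Polynomial.aeval_X] at hp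
    exact hp
  have h2 : x * Polynomial.aeval x q = 0 := by
    apply IsNilpotent.eq_zero
    refine ⟨Polynomial.rootMultiplicity 0 p + 1, ?_⟩
    calc (x * Polynomial.aeval x q) ^ (Polynomial.rootMultiplicity 0 p + 1)
        = (x ^ (Polynomial.rootMultiplicity 0 p) * Polynomial.aeval x q) *
          (x * (Polynomial.aeval x q) ^ (Polynomial.rootMultiplicity 0 p)) := by ring
      _ = 0 := by rw [h1, zero_mul]
  have h3 : Polynomial.aeval x q =
      Polynomial.aeval x q.divX * x + algebraMap R T (q.coeff 0) := by
    conv_lhs => rw [← Polynomial.divX_mul_X_add q]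
    rw [map_add, map_mul, Polynomial.aeval_X, Polynomial.aeval_C]
  obtain ⟨c, hc⟩ := hunit _ hq0
  refine ⟨-(Polynomial.aeval x q.divX) * ↑c⁻¹, ?_⟩
  rw [h3, ← hc] at h2
  have h4 : x * ↑c = -(x ^ 2 * Polynomial.aeval x q.divX) := by linear_combination h2
  calc x = x * ↑c * ↑c⁻¹ := by rw [mul_assoc, Units.mul_inv, mul_one]
    _ = x ^ 2 * (-(Polynomial.aeval x q.divX) * ↑c⁻¹) := by rw [h4]; ring

section Main

variable (R S : Type u) [CommRing R] [IsDomain R] [IsIntegrallyClosed R] [CommRing S] [Algebra R S]
  (B : Type u) [CommRing B] [Algebra S B] [Algebra R B] [IsScalarTower R S B]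

/-- Every element of `B ⊗ Frac R` is a fraction with numerator in `B`. -/
theorem exists_smul_eq_tmul_one (t : B ⊗[R] FractionRing R) :
    ∃ (r : R) (b : B), r ≠ 0 ∧ r • t = b ⊗ₜ[R] (1 : FractionRing R) := by
  induction t using TensorProduct.induction_on with
  | zero => exact ⟨1, 0, one_ne_zero, by rw [smul_zero, zero_tmul]⟩
  | tmul b k =>
    obtain ⟨⟨a, d⟩, h⟩ := IsLocalization.surj (nonZeroDivisors R) k
    refine ⟨d, a • b, nonZeroDivisors.ne_zero d.2, ?_⟩
    rw [TensorProduct.smul_tmul', TensorProduct.smul_tmul, TensorProduct.smul_tmul,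
      Algebra.smul_def, mul_comm, h, Algebra.smul_def, mul_one]
  | add x y hx hy =>
    obtain ⟨r₁, b₁, hr₁, h₁⟩ := hx
    obtain ⟨r₂, b₂, hr₂, h₂⟩ := hy
    refine ⟨r₁ * r₂, r₂ • b₁ + r₁ • b₂, mul_ne_zero hr₁ hr₂, ?_⟩
    rw [smul_add, mul_comm r₁ r₂, mul_smul, h₁, mul_comm r₂ r₁, mul_smul, h₂, add_tmul,
      TensorProduct.smul_tmul', TensorProduct.smul_tmul']

theorem isUnit_algebraMap_tensor (r : R) (hr : r ≠ 0) :
    IsUnit (algebraMap R (B ⊗[R] FractionRing R) r) := by
  rw [Algebra.TensorProduct.algebraMap_apply']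
  have hk : algebraMap R (FractionRing R) r ≠ 0 := by
    rwa [Ne, map_eq_zero_iff _ (IsFractionRing.injective R (FractionRing R))]
  refine IsUnit.of_mul_eq_one ((1 : B) ⊗ₜ[R] (algebraMap R (FractionRing R) r)⁻¹) ?_
  rw [Algebra.TensorProduct.tmul_mul_tmul, mul_one, mul_inv_cancel₀ hk]
  rfl

variable [Algebra.Smooth R S] (M : Submonoid S) [IsLocalization M B]

include S M in
/-- `B` is integrally closed in `B ⊗ Frac R`. -/
theorem exists_eq_tmul_one_of_isIntegral (y : B ⊗[R] FractionRing R) (hy : IsIntegral B y) :
    ∃ b : B, b ⊗ₜ[R] (1 : FractionRing R) = y := by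
  have hbij : Function.Bijective (TensorProduct.toIntegralClosure R B (FractionRing R)) :=
    TensorProduct.toIntegralClosure_bijective_of_tower (S := S)
      TensorProduct.toIntegralClosure_bijective_of_smooth
      (TensorProduct.toIntegralClosure_bijective_of_isLocalization M)
  obtain ⟨w, hw⟩ := hbij.2 ⟨y, hy⟩
  have key : ∀ w : B ⊗[R] integralClosure R (FractionRing R), ∃ b : B, w = b ⊗ₜ 1 := by
    intro w
    induction w using TensorProduct.induction_on with
    | zero => exact ⟨0, (zero_tmul _ _).symm⟩
    | tmul b c =>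
      obtain ⟨r, hr⟩ := IsIntegrallyClosed.algebraMap_eq_of_integral c.2
      refine ⟨r • b, ?_⟩
      rw [TensorProduct.smul_tmul]
      congr 1
      apply Subtype.ext
      rw [← hr, Algebra.smul_def, mul_one]
      rfl
    | add x y hx hy =>
      obtain ⟨b₁, rfl⟩ := hx
      obtain ⟨b₂, rfl⟩ := hy
      exact ⟨b₁ + b₂, (add_tmul _ _ _).symm⟩
  obtain ⟨b, rfl⟩ := key w
  refine ⟨b, ?_⟩
  have h := congrArg Subtype.val hw
  simpa [TensorProduct.toIntegralClosure] using h

end Main

/-- The localization of an étale algebra over an integrally closed domain at a prime is an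
integrally closed domain. -/
theorem isDomain_isIntegrallyClosed_atPrime (R S : Type u) [CommRing R] [IsDomain R]
    [IsIntegrallyClosed R] [CommRing S] [Algebra R S] [Algebra.Etale R S] (q : Ideal S) [q.IsPrime]
    (B : Type u) [CommRing B] [Algebra S B] [IsLocalization.AtPrime B q] [Algebra R B]
    [IsScalarTower R S B] : IsDomain B ∧ IsIntegrallyClosed B := by
  classical
  haveI : IsLocalRing B := IsLocalization.AtPrime.isLocalRing B q
  haveI : Module.Flat S B := IsLocalization.flat B q.primeCompl
  haveI : Module.Flat R B := Module.Flat.trans R S B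
  haveI : IsReduced S := Groth.Agent.S9407.result R S
  haveI : IsReduced B := isReduced_localizationPreserves q.primeCompl B inferInstance
  -- injectivity of `B → T`
  have hinj : Function.Injective (fun b : B => b ⊗ₜ[R] (1 : FractionRing R)) :=
    Algebra.TensorProduct.includeLeft_injective (S := R) (A := B)
      (IsFractionRing.injective R (FractionRing R))
  have hinj0 : ∀ b : B, b ⊗ₜ[R] (1 : FractionRing R) = 0 → b = 0 := fun b hb =>
    hinj (by simpa using hb)
  have hunitR := isUnit_algebraMap_tensor R B
  have hfrac := exists_smul_eq_tmul_one R B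
  have hIC := exists_eq_tmul_one_of_isIntegral R S B q.primeCompl
  -- `T` is reduced
  haveI : IsReduced (B ⊗[R] FractionRing R) := by
    constructor
    rintro t ⟨n, hn⟩
    obtain ⟨r, b, hr, hrb⟩ := hfrac t
    have h1 : (b ^ n) ⊗ₜ[R] (1 : FractionRing R) = 0 := by
      have : (b ⊗ₜ[R] (1 : FractionRing R)) ^ n = 0 := by
        rw [← hrb, smul_pow, hn, smul_zero]
      rwa [Algebra.TensorProduct.tmul_pow, one_pow] at this
    have h2 : b = 0 := IsNilpotent.eq_zero ⟨n, hinj0 _ h1⟩
    rw [h2, zero_tmul] at hrb
    have hrb' : algebraMap R (B ⊗[R] FractionRing R) r * t = 0 :=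
      (Algebra.smul_def r t).symm.trans hrb
    exact (hunitR r hr).mul_right_eq_zero.mp hrb'
  -- elements of `S` are zero or units in `T`
  let φ : S →ₐ[R] B ⊗[R] FractionRing R :=
    (Algebra.TensorProduct.includeLeft : B →ₐ[R] B ⊗[R] FractionRing R).comp
      (IsScalarTower.toAlgHom R S B)
  have hφ : ∀ s : S, φ s = (algebraMap S B s) ⊗ₜ[R] (1 : FractionRing R) := fun s => rfl
  have hS : ∀ s : S, φ s = 0 ∨ IsUnit (φ s) := by
    intro s
    have halg : IsAlgebraic R (φ s) := (isAlgebraic_of_etale R S s).algHom φ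
    obtain ⟨u, hu⟩ := exists_eq_sq_mul hunitR (φ s) halg
    have hee : (φ s * u) * (φ s * u) = φ s * u := by
      calc (φ s * u) * (φ s * u) = (φ s ^ 2 * u) * u := by ring
        _ = φ s * u := by rw [← hu]
    have hint : IsIntegral B (φ s * u) := by
      refine ⟨Polynomial.X ^ 2 - Polynomial.X, Polynomial.monic_X_pow_sub
        (lt_of_le_of_lt Polynomial.degree_X_le (by exact_mod_cast (one_lt_two : (1 : ℕ) < 2))), ?_⟩
      rw [Polynomial.eval₂_sub, Polynomial.eval₂_pow, Polynomial.eval₂_X, pow_two, hee, sub_self]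
    obtain ⟨b, hb⟩ := hIC _ hint
    have hbb : b * b = b := by
      apply hinj
      show (b * b) ⊗ₜ[R] (1 : FractionRing R) = b ⊗ₜ[R] (1 : FractionRing R)
      have : (b ⊗ₜ[R] (1 : FractionRing R)) * (b ⊗ₜ[R] (1 : FractionRing R)) =
          (b * b) ⊗ₜ[R] (1 : FractionRing R) := by
        rw [Algebra.TensorProduct.tmul_mul_tmul, mul_one]
      rw [← this, hb, hee]
    rcases IsLocalRing.isUnit_or_isUnit_one_sub_self b with h | h
    · -- `b` is a unit, so `b = 1`
      have hb1 : b = 1 := by
        have : b * (b - 1) = 0 := by rw [mul_sub, hbb, mul_one, sub_self]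
        have := h.mul_right_eq_zero.mp this
        exact sub_eq_zero.mp this
      right
      rw [hb1] at hb
      exact IsUnit.of_mul_eq_one u hb.symm
    · -- `1 - b` is a unit, so `b = 0`
      have hb0 : b = 0 := by
        have : (1 - b) * b = 0 := by rw [sub_mul, hbb, one_mul, sub_self]
        exact h.mul_right_eq_zero.mp this
      left
      rw [hb0, zero_tmul] at hb
      calc φ s = φ s ^ 2 * u := hu
        _ = φ s * (φ s * u) := by ring
        _ = 0 := by rw [← hb, mul_zero]
  -- elements of `B` are zero or units in `T`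
  have hB : ∀ b : B, b = 0 ∨ IsUnit (b ⊗ₜ[R] (1 : FractionRing R)) := by
    intro b
    obtain ⟨s, v, rfl⟩ := IsLocalization.exists_mk'_eq q.primeCompl b
    have hv : IsUnit (φ v) := by
      rw [hφ]
      exact (IsLocalization.map_units B v).map
        (Algebra.TensorProduct.includeLeft : B →ₐ[R] B ⊗[R] FractionRing R)
    have hmul : (IsLocalization.mk' B s v) ⊗ₜ[R] (1 : FractionRing R) * φ v = φ s := by
      rw [hφ, hφ, Algebra.TensorProduct.tmul_mul_tmul, mul_one, IsLocalization.mk'_spec]
    rcases hS s with h | h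
    · left
      rw [h] at hmul
      have := hv.mul_left_eq_zero.mp hmul
      exact hinj0 _ this
    · right
      have : IsUnit ((IsLocalization.mk' B s v) ⊗ₜ[R] (1 : FractionRing R) * φ v) := by
        rw [hmul]
        exact h
      exact (IsUnit.mul_iff.mp this).1
  haveI : Nontrivial B := inferInstance
  haveI : Nontrivial (B ⊗[R] FractionRing R) := hinj.nontrivial
  have hdom : IsDomain B := by
    haveI : NoZeroDivisors B := by
      constructor
      intro a b hab
      rcases hB a with ha | ha
      · exact Or.inl ha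
      · right
        have h1 : (a ⊗ₜ[R] (1 : FractionRing R)) * (b ⊗ₜ[R] (1 : FractionRing R)) = 0 := by
          rw [Algebra.TensorProduct.tmul_mul_tmul, mul_one, hab, zero_tmul]
        exact hinj0 _ (ha.mul_right_eq_zero.mp h1)
    exact NoZeroDivisors.to_isDomain B
  refine ⟨hdom, ?_⟩
  haveI := hdom
  haveI : IsFractionRing B (B ⊗[R] FractionRing R) :=
    { map_units := fun y => by
        rcases hB (y : B) with h | h
        · exact absurd h (nonZeroDivisors.ne_zero y.2)
        · exact h
      surj := fun t => by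
        obtain ⟨r, b, hr, hrb⟩ := hfrac t
        have hrB : algebraMap R B r ≠ 0 := by
          intro h0
          have h1 := (hunitR r hr).ne_zero
          apply h1
          rw [Algebra.TensorProduct.algebraMap_apply, h0, zero_tmul]
        refine ⟨(b, ⟨algebraMap R B r, mem_nonZeroDivisors_of_ne_zero hrB⟩), ?_⟩
        show t * (algebraMap R B r ⊗ₜ[R] (1 : FractionRing R)) = b ⊗ₜ[R] (1 : FractionRing R)
        have hsm : r • t = algebraMap R (B ⊗[R] FractionRing R) r * t := Algebra.smul_def r t
        rw [← hrb, hsm, Algebra.TensorProduct.algebraMap_apply, mul_comm]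
      exists_of_eq := fun {x y} h => by
        have hxy : x = y := hinj h
        exact ⟨1, by rw [hxy]⟩ }
  rw [isIntegrallyClosed_iff (B ⊗[R] FractionRing R)]
  intro y hy
  obtain ⟨b, hb⟩ := hIC y hy
  exact ⟨b, hb⟩

end Groth.Agent.H47.EtaleNormal
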