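import Mathlib
import Groth.Agent.H47.HensNoeth2
import Groth.Agent.H3.HInt

/-!
# The map from the henselization to the completion of a Noetherian local ring

* `flat_of_rep`: a module over an ind-étale `R`-algebra `S` which is `R`-flat is `S`-flat.
* going-down consequences for minimal primes along a flat local homomorphism.
-/

set_option autoImplicit false
set_option linter.style.haveILetI false
set_option linter.unusedSectionVars false
universe u
open IsLocalRing

namespace Groth.Agent.H47.HensCompletion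

/-- A module over an ind-étale algebra which is flat over the base is flat. -/
theorem flat_of_rep {R S : Type u} [CommRing R] [CommRing S] [Algebra R S]
    (rep : ∀ Y : Finset S, ∃ (E : Type u) (_ : CommRing E) (_ : Algebra R E)
      (_ : Algebra.Etale R E) (φ : E →ₐ[R] S), ∀ y ∈ Y, ∃ a, φ a = y)
    (M : Type*) [AddCommGroup M] [Module S M] [Module R M] [IsScalarTower R S M]
    [Module.Flat R M] : Module.Flat S M := by
  classical
  apply Module.Flat.of_forall_isTrivialRelation
  intro l f x hfx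
  obtain ⟨E, _, _, _, φ, hφ⟩ := rep (Finset.univ.image f)
  choose e he using fun i : Fin l => hφ (f i) (Finset.mem_image_of_mem f (Finset.mem_univ i))
  letI : Module E M := Module.compHom M φ.toRingHom
  have hsmul : ∀ (a : E) (m : M), a • m = φ a • m := fun _ _ => rfl
  haveI : IsScalarTower R E M := ⟨fun r a m => by
    rw [hsmul, hsmul, map_smul, smul_assoc]⟩
  haveI : Module.Flat E M := Algebra.FormallyUnramified.flat_of_restrictScalars R E M
  have h1 : ∑ i, e i • x i = 0 := by
    rw [← hfx]
    refine Finset.sum_congr rfl fun i _ => ?_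
    rw [hsmul, he]
  obtain ⟨k, a, y, hxy, ha⟩ := Module.Flat.isTrivialRelation_of_sum_smul_eq_zero h1
  refine ⟨k, fun i j => φ (a i j), y, ?_, ?_⟩
  · intro i
    rw [hxy i]
    exact Finset.sum_congr rfl fun j _ => hsmul _ _
  · intro j
    have h2 := congrArg φ (ha j)
    rw [map_sum, map_zero] at h2
    rw [← h2]
    refine Finset.sum_congr rfl fun i _ => ?_
    rw [map_mul, he]

section GoingDown

variable {S T : Type*} [CommRing S] [CommRing T] [Algebra S T] [Module.Flat S T]

theorem comap_mem_minimalPrimes {P : Ideal T} (hP : P ∈ minimalPrimes T) :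
    P.comap (algebraMap S T) ∈ minimalPrimes S := by
  haveI : P.IsPrime := hP.1.1
  haveI : (P.comap (algebraMap S T)).IsPrime := Ideal.comap_isPrime _ _
  refine ⟨⟨inferInstance, bot_le⟩, ?_⟩
  rintro q ⟨hq, -⟩ hle
  haveI := hq
  haveI : P.LiesOver (P.comap (algebraMap S T)) := ⟨rfl⟩
  obtain ⟨Q, hQP, hQ, hQq⟩ := Ideal.exists_ideal_le_liesOver_of_le (p := q)
    (q := P.comap (algebraMap S T)) P hle
  have hPQ : P ≤ Q := hP.2 ⟨hQ, bot_le⟩ hQP
  have hQeq : Q = P := le_antisymm hQP hPQ
  rw [hQq.over, hQeq]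

theorem minimalPrimes_map_subset {q : Ideal S} (hq : q ∈ minimalPrimes S) {Q : Ideal T}
    (hQ : Q ∈ (q.map (algebraMap S T)).minimalPrimes) :
    Q ∈ minimalPrimes T ∧ Q.comap (algebraMap S T) = q := by
  haveI : Q.IsPrime := hQ.1.1
  haveI : q.IsPrime := hq.1.1
  have hqQ : q ≤ Q.comap (algebraMap S T) := Ideal.map_le_iff_le_comap.mp hQ.1.2
  haveI : (Q.comap (algebraMap S T)).IsPrime := Ideal.comap_isPrime _ _
  haveI : Q.LiesOver (Q.comap (algebraMap S T)) := ⟨rfl⟩
  obtain ⟨Q', hQ'Q, hQ', hQ'q⟩ := Ideal.exists_ideal_le_liesOver_of_le (p := q)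
    (q := Q.comap (algebraMap S T)) Q hqQ
  have h1 : q.map (algebraMap S T) ≤ Q' := by
    rw [Ideal.map_le_iff_le_comap]
    exact hQ'q.over.le
  have h2 : Q ≤ Q' := hQ.2 ⟨hQ', h1⟩ hQ'Q
  have hQeq : Q' = Q := le_antisymm hQ'Q h2
  have hcomap : Q.comap (algebraMap S T) = q := by
    rw [← hQeq]
    exact hQ'q.over.symm
  refine ⟨⟨⟨inferInstance, bot_le⟩, ?_⟩, hcomap⟩
  rintro Q'' ⟨hQ'', -⟩ hle
  haveI := hQ''
  have h3 : Q''.comap (algebraMap S T) ≤ q := by
    rw [← hcomap]
    exact Ideal.comap_mono hle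
  have h4 : q ≤ Q''.comap (algebraMap S T) :=
    hq.2 ⟨Ideal.comap_isPrime _ _, bot_le⟩ h3
  exact hQ.2 ⟨hQ'', Ideal.map_le_iff_le_comap.mpr h4⟩ hle

theorem exists_minimalPrimes_comap_eq [Module.FaithfullyFlat S T] {q : Ideal S}
    (hq : q ∈ minimalPrimes S) : ∃ P ∈ minimalPrimes T, P.comap (algebraMap S T) = q := by
  haveI : q.IsPrime := hq.1.1
  obtain ⟨P₀, hP₀, hP₀q⟩ := Ideal.exists_isPrime_liesOver_of_faithfullyFlat (B := T) q
  obtain ⟨P, hP, hPP₀⟩ := Ideal.exists_minimalPrimes_le (I := (⊥ : Ideal T)) (J := P₀) bot_le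
  refine ⟨P, hP, ?_⟩
  haveI : P.IsPrime := hP.1.1
  have h1 : P.comap (algebraMap S T) ≤ q := by
    rw [hP₀q.over]
    exact Ideal.comap_mono hPP₀
  exact le_antisymm h1 (hq.2 ⟨Ideal.comap_isPrime _ _, bot_le⟩ h1)

theorem card_minimalPrimes_le [Module.FaithfullyFlat S T] :
    ENat.card (minimalPrimes S) ≤ ENat.card (minimalPrimes T) := by
  let F : minimalPrimes T → minimalPrimes S := fun P =>
    ⟨P.1.comap (algebraMap S T), comap_mem_minimalPrimes P.2⟩
  have hF : Function.Surjective F := by
    rintro ⟨q, hq⟩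
    obtain ⟨P, hP, hPq⟩ := exists_minimalPrimes_comap_eq (T := T) hq
    exact ⟨⟨P, hP⟩, Subtype.ext hPq⟩
  exact ENat.card_le_card_of_injective (Function.injective_surjInv hF)

end GoingDown

section Completion

variable (A S : Type u) [CommRing A] [IsLocalRing A] [IsNoetherianRing A] [CommRing S]
  [IsLocalRing S] [Algebra A S] [IsLocalHom (algebraMap A S)] [Hensel.IsHenselization A S]
  [Algebra S (AdicCompletion (maximalIdeal A) A)]
  [IsScalarTower A S (AdicCompletion (maximalIdeal A) A)]

theorem flat_completion : Module.Flat S (AdicCompletion (maximalIdeal A) A) :=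
  flat_of_rep (Groth.Agent.H47.HensNoeth.isIndEtaleLocal_of_isHenselization A S).rep _

theorem isLocalHom_completion : IsLocalHom (algebraMap S (AdicCompletion (maximalIdeal A) A)) := by
  refine ((IsLocalRing.local_hom_TFAE
    (algebraMap S (AdicCompletion (maximalIdeal A) A))).out 0 2).mpr ?_
  rw [← (Groth.Agent.H47.HensNoeth.isIndEtaleLocal_of_isHenselization A S).map_max,
    Ideal.map_map, ← IsScalarTower.algebraMap_eq, AdicCompletion.maximalIdeal_eq_map]

theorem faithfullyFlat_completion :
    Module.FaithfullyFlat S (AdicCompletion (maximalIdeal A) A) := by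
  haveI := flat_completion A S
  haveI := isLocalHom_completion A S
  exact Module.FaithfullyFlat.of_flat_of_isLocalHom

end Completion

end Groth.Agent.H47.HensCompletion
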