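import Groth.Agent.H47.Hens4

/-!
# `H R p` is a henselization of the localization `R_p`
-/

set_option autoImplicit false
universe u
open CategoryTheory CategoryTheory.Limits TensorProduct

namespace Groth.Agent.H47.Hens

open EtPt

variable (R : Type u) [CommRing R] (p : Ideal R) [p.IsPrime]

theorem isUnit_algebraMap_of_notMem {s : R} (hs : s ∉ p) : IsUnit (algebraMap R (H R p) s) :=
  isUnit_of_ε_ne_zero R p _ (by
    rw [ε_algebraMap, Ne, Ideal.algebraMap_residueField_eq_zero]
    exact hs)

theorem comap_maximalIdeal_H :
    (IsLocalRing.maximalIdeal (H R p)).comap (algebraMap R (H R p)) = p := by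
  ext r
  rw [Ideal.mem_comap, mem_maximalIdeal_iff, ε_algebraMap, Ideal.algebraMap_residueField_eq_zero]

/-- The map from the localization. -/
noncomputable def fromLoc : Localization.AtPrime p →+* H R p :=
  IsLocalization.lift (M := p.primeCompl) (g := algebraMap R (H R p))
    (fun s => isUnit_algebraMap_of_notMem R p s.2)

theorem fromLoc_algebraMap (r : R) :
    fromLoc R p (algebraMap R (Localization.AtPrime p) r) = algebraMap R (H R p) r :=
  IsLocalization.lift_eq _ r

instance isLocalHom_fromLoc : IsLocalHom (fromLoc R p) := by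
  constructor
  intro x hx
  obtain ⟨r, s, rfl⟩ := IsLocalization.exists_mk'_eq p.primeCompl x
  have h1 : fromLoc R p (IsLocalization.mk' _ r s) * algebraMap R (H R p) s =
      algebraMap R (H R p) r := by
    rw [← fromLoc_algebraMap, ← map_mul, IsLocalization.mk'_spec, fromLoc_algebraMap]
  have h2 : IsUnit (algebraMap R (H R p) r) := by
    rw [← h1]
    exact hx.mul (isUnit_algebraMap_of_notMem R p s.2)
  have h3 : r ∉ p := by
    intro hr
    have := (h2.map (ε R p)).ne_zero
    rw [ε_algebraMap] at this
    exact this ((Ideal.algebraMap_residueField_eq_zero).mpr hr)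
  exact (IsLocalization.AtPrime.isUnit_mk'_iff _ p r s).mpr h3

variable (Rh : Type u) [CommRing Rh] [IsLocalRing Rh]
  [Algebra (Localization.AtPrime p) Rh] [IsLocalHom (algebraMap (Localization.AtPrime p) Rh)]
  [Hensel.IsHenselization (Localization.AtPrime p) Rh] [Algebra R Rh]
  [IsScalarTower R (Localization.AtPrime p) Rh]

theorem comap_maximalIdeal_of_isHenselization :
    (IsLocalRing.maximalIdeal Rh).comap (algebraMap R Rh) = p := by
  ext r
  rw [Ideal.mem_comap, IsScalarTower.algebraMap_apply R (Localization.AtPrime p) Rh]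
  have h1 : (IsLocalRing.maximalIdeal Rh).comap (algebraMap (Localization.AtPrime p) Rh) =
      IsLocalRing.maximalIdeal (Localization.AtPrime p) :=
    ((IsLocalRing.local_hom_TFAE (algebraMap (Localization.AtPrime p) Rh)).out 0 4).mp
      ‹IsLocalHom (algebraMap (Localization.AtPrime p) Rh)›
  rw [← Ideal.mem_comap, h1, IsLocalization.AtPrime.to_map_mem_maximal_iff _ p]

/-- Any henselization of `R_p` is isomorphic to `H R p`, compatibly with `R`. -/
theorem exists_ringEquiv_of_isHenselization :
    ∃ e : H R p ≃+* Rh, ∀ r : R, e (algebraMap R (H R p) r) = algebraMap R Rh r := by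
  haveI : HenselianLocalRing Rh :=
    Hensel.IsHenselization.henselian (R := Localization.AtPrime p)
  obtain ⟨g, hg, -⟩ := existsUnique_desc R p (algebraMap R Rh)
    (comap_maximalIdeal_of_isHenselization R p Rh)
  obtain ⟨g', hg', -⟩ := Hensel.IsHenselization.universal (R := Localization.AtPrime p)
    (S := Rh) (H R p) (fromLoc R p) inferInstance
  have hg'R : g'.comp (algebraMap R Rh) = algebraMap R (H R p) := by
    refine RingHom.ext fun r => ?_
    rw [RingHom.comp_apply, IsScalarTower.algebraMap_apply R (Localization.AtPrime p) Rh,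
      ← RingHom.comp_apply g', hg', fromLoc_algebraMap]
  have h1 : g'.comp g = RingHom.id _ := by
    obtain ⟨k, -, hk⟩ := existsUnique_desc R p (algebraMap R (H R p)) (comap_maximalIdeal_H R p)
    have e1 : g'.comp g = k := hk _ (by
      show (g'.comp g).comp (algebraMap R (H R p)) = algebraMap R (H R p)
      rw [RingHom.comp_assoc, hg, hg'R])
    have e2 : RingHom.id _ = k := hk _ (RingHom.id_comp _)
    rw [e1, e2]
  have h2 : g.comp g' = RingHom.id _ := by
    obtain ⟨k, -, hk⟩ := Hensel.IsHenselization.universal (R := Localization.AtPrime p)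
      (S := Rh) Rh (algebraMap (Localization.AtPrime p) Rh) inferInstance
    have hgf : g.comp (fromLoc R p) = algebraMap (Localization.AtPrime p) Rh := by
      apply IsLocalization.ringHom_ext p.primeCompl
      refine RingHom.ext fun r => ?_
      rw [RingHom.comp_apply, RingHom.comp_apply, fromLoc_algebraMap, RingHom.comp_apply,
        ← IsScalarTower.algebraMap_apply R (Localization.AtPrime p) Rh]
      exact RingHom.congr_fun hg r
    have e1 : g.comp g' = k := hk _ (by
      show (g.comp g').comp (algebraMap (Localization.AtPrime p) Rh) = _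
      rw [RingHom.comp_assoc, hg', hgf])
    have e2 : RingHom.id _ = k := hk _ (RingHom.id_comp _)
    rw [e1, e2]
  exact ⟨RingEquiv.ofRingHom g g' h2 h1, fun r => RingHom.congr_fun hg r⟩

end Groth.Agent.H47.Hens
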