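import Mathlib

/-!
# Geometric normality of a fibre at a prime, in algebraic form (finite extensions)

`GNAt R q` for a prime `q` of an `R`-algebra `C`, lying over `p := q ∩ R`: for every field `K`
finite over the residue field `κ(p)` and every model `E` of `C ⊗[R] K`, the localization of `E` at
every prime lying over `q` is an integrally closed domain.
(The analogue of `Groth.Agent.H11.GRAtDefs.GRAt` with "normal domain" in place of "reduced" and
with `K` restricted to finite extensions of `κ(p)`.)
-/

set_option autoImplicit false
universe u

namespace Groth.Agent.H47.GNAtDefs

/-- The fibre of `R → C` through the prime `q` is geometrically normal at `q`. -/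
def GNAt (R : Type u) {C : Type u} [CommRing R] [CommRing C] [Algebra R C] (q : Ideal C)
    [q.IsPrime] : Prop :=
  ∀ (K : Type u) [Field K] [Algebra R K] [Algebra (q.comap (algebraMap R C)).ResidueField K]
    [IsScalarTower R (q.comap (algebraMap R C)).ResidueField K],
    Module.Finite (q.comap (algebraMap R C)).ResidueField K →
    ∀ (E : Type u) [CommRing E] [Algebra C E] [Algebra K E] [Algebra R E] [IsScalarTower R C E]
      [IsScalarTower R K E] [Algebra.IsPushout R C K E] (n : Ideal E) [n.IsPrime],
      n.comap (algebraMap C E) = q →
      IsDomain (Localization.AtPrime n) ∧ IsIntegrallyClosed (Localization.AtPrime n)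

end Groth.Agent.H47.GNAtDefs
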