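import Groth.Agent.H47.Olivier

/-!
# Olivier's theorem, part 2

From trivial geometric fibres to bijectivity of `A → B`.
-/

set_option autoImplicit false
universe u
open TensorProduct IsLocalRing

namespace Groth.Agent.H47.Olivier

/-- Surjectivity of `k → F` descends along a field extension `L/k`. -/
theorem surjective_algebraMap_of_baseChange {k L F : Type*} [Field k] [Field L] [Algebra k L]
    [CommRing F] [Algebra k F]
    (h : Function.Surjective (algebraMap L (L ⊗[k] F))) :
    Function.Surjective (algebraMap k F) := by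
  intro f
  by_contra hf
  have hf' : f ∉ LinearMap.range (Algebra.linearMap k F) := by
    rintro ⟨a, ha⟩
    exact hf ⟨a, ha⟩
  obtain ⟨φ, hφf, hφ⟩ := Submodule.exists_le_ker_of_notMem hf'
  have hφ1 : φ 1 = 0 := by
    have : (1 : F) ∈ LinearMap.range (Algebra.linearMap k F) := ⟨1, by simp⟩
    exact hφ this
  obtain ⟨l, hl⟩ := h (1 ⊗ₜ f)
  rw [Algebra.TensorProduct.algebraMap_apply] at hl
  have h2 := congrArg (LinearMap.baseChange L φ) hl
  rw [LinearMap.baseChange_tmul, LinearMap.baseChange_tmul, hφ1, TensorProduct.tmul_zero] at h2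
  have h3 := congrArg (TensorProduct.rid k L) h2
  rw [map_zero, TensorProduct.rid_tmul] at h3
  rcases smul_eq_zero.mp h3.symm with h4 | h4
  · exact hφf h4
  · exact one_ne_zero h4

section Diag

variable {A B : Type*} [CommRing A] [CommRing B] [Algebra A B]

/-- If all fibres of `A → B` are trivial, then the kernel of the multiplication map
`B ⊗[A] B → B` is contained in every prime. -/
theorem mem_prime_of_lmul'_eq_zero
    (hfib : ∀ (p : Ideal A) [p.IsPrime],
      Function.Surjective (algebraMap p.ResidueField (p.ResidueField ⊗[A] B)))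
    (P : Ideal (B ⊗[A] B)) [P.IsPrime] (y : B ⊗[A] B)
    (hy : Algebra.TensorProduct.lmul' A y = 0) : y ∈ P := by
  set p : Ideal A := P.comap (algebraMap A (B ⊗[A] B)) with hp
  haveI : p.IsPrime := Ideal.comap_isPrime _ _
  let f : p.ResidueField →ₐ[A] P.ResidueField :=
    Ideal.ResidueField.mapₐ p P (Algebra.ofId A (B ⊗[A] B)) rfl
  let π : B ⊗[A] B →ₐ[A] P.ResidueField := IsScalarTower.toAlgHom A (B ⊗[A] B) P.ResidueField
  let g₁ : B →ₐ[A] P.ResidueField := π.comp Algebra.TensorProduct.includeLeft
  let g₂ : B →ₐ[A] P.ResidueField := π.comp Algebra.TensorProduct.includeRight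
  have hg : ∀ b, g₁ b = g₂ b := by
    intro b
    obtain ⟨κ, hκ⟩ := hfib p (1 ⊗ₜ b)
    rw [Algebra.TensorProduct.algebraMap_apply] at hκ
    have h1 := congrArg (Algebra.TensorProduct.productMap f g₁) hκ
    have h2 := congrArg (Algebra.TensorProduct.productMap f g₂) hκ
    simp only [Algebra.TensorProduct.productMap_apply_tmul, map_one, one_mul, mul_one] at h1 h2
    rw [← h1, ← h2]
  have hπ : π = (π.comp Algebra.TensorProduct.includeLeft).comp
      (Algebra.TensorProduct.lmul' A) := by
    apply Algebra.TensorProduct.ext'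
    intro b₁ b₂
    have e1 : (b₁ ⊗ₜ[A] b₂ : B ⊗[A] B) = (b₁ ⊗ₜ 1) * (1 ⊗ₜ b₂) := by
      rw [Algebra.TensorProduct.tmul_mul_tmul, mul_one, one_mul]
    have e2 : ((b₁ * b₂) ⊗ₜ[A] (1 : B) : B ⊗[A] B) = (b₁ ⊗ₜ 1) * (b₂ ⊗ₜ 1) := by
      rw [Algebra.TensorProduct.tmul_mul_tmul, mul_one]
    simp only [AlgHom.comp_apply, Algebra.TensorProduct.lmul'_apply_tmul,
      Algebra.TensorProduct.includeLeft_apply]
    rw [e1, e2, map_mul, map_mul]
    congr 1
    exact (hg b₂).symm
  have : π y = 0 := by
    rw [hπ, AlgHom.comp_apply, hy, map_zero]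
  exact Ideal.algebraMap_residueField_eq_zero.mp this

/-- If all fibres of a weakly étale `A → B` are trivial, then `B ⊗[A] B → B` is injective. -/
theorem lmul'_injective_of_fibres [Algebra.WeaklyEtale A B]
    (hfib : ∀ (p : Ideal A) [p.IsPrime],
      Function.Surjective (algebraMap p.ResidueField (p.ResidueField ⊗[A] B))) :
    Function.Injective (Algebra.TensorProduct.lmul' A : B ⊗[A] B →ₐ[A] B) := by
  rw [injective_iff_map_eq_zero]
  intro x hx
  obtain ⟨y, hy, hxy⟩ := Groth.Agent.H47.OlivierVal.exists_eq_mul_of_weaklyEtale x hx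
  have hnil : IsNilpotent y := nilpotent_iff_mem_prime.mpr fun P hP => by
    haveI := hP
    exact mem_prime_of_lmul'_eq_zero hfib P y hy
  obtain ⟨n, hn⟩ := hnil
  have hpow : ∀ m : ℕ, x = x * y ^ m := by
    intro m
    induction m with
    | zero => rw [pow_zero, mul_one]
    | succ m ih => rw [pow_succ, ← mul_assoc, ← ih, ← hxy]
  rw [hpow n, hn, mul_zero]

/-- A faithfully flat epimorphism is surjective. -/
theorem surjective_algebraMap_of_lmul'_injective [Module.FaithfullyFlat A B]
    (hinj : Function.Injective (Algebra.TensorProduct.lmul' A : B ⊗[A] B →ₐ[A] B)) :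
    Function.Surjective (algebraMap A B) := by
  have hsw : ∀ b : B, (b ⊗ₜ[A] (1 : B) : B ⊗[A] B) = 1 ⊗ₜ b := fun b => hinj (by simp)
  set N : Submodule A B := LinearMap.range (Algebra.linearMap A B) with hN
  have h1N : (1 : B) ∈ N := ⟨1, by simp⟩
  haveI : Subsingleton (B ⊗[A] (B ⧸ N)) := by
    refine subsingleton_of_forall_eq 0 fun t => ?_
    induction t using TensorProduct.induction_on with
    | zero => rfl
    | tmul b' q =>
      obtain ⟨b, rfl⟩ := N.mkQ_surjective q
      have e1 : (b' ⊗ₜ[A] b : B ⊗[A] B) = (b' * b) ⊗ₜ 1 := by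
        calc (b' ⊗ₜ[A] b : B ⊗[A] B) = (b' ⊗ₜ 1) * (1 ⊗ₜ b) := by
              rw [Algebra.TensorProduct.tmul_mul_tmul, mul_one, one_mul]
          _ = (b' ⊗ₜ 1) * (b ⊗ₜ 1) := by rw [hsw b]
          _ = (b' * b) ⊗ₜ 1 := by rw [Algebra.TensorProduct.tmul_mul_tmul, mul_one]
      have e2 := congrArg (LinearMap.lTensor B N.mkQ) e1
      rw [LinearMap.lTensor_tmul, LinearMap.lTensor_tmul] at e2
      rw [e2]
      have : N.mkQ (1 : B) = 0 := (Submodule.Quotient.mk_eq_zero N).mpr h1N
      rw [this, TensorProduct.tmul_zero]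
    | add t₁ t₂ h₁ h₂ => rw [h₁, h₂, add_zero]
  haveI : Subsingleton (B ⧸ N) := Module.FaithfullyFlat.lTensor_reflects_triviality A B (B ⧸ N)
  have hNtop : N = ⊤ := Submodule.Quotient.subsingleton_iff.mp inferInstance
  intro b
  have : b ∈ N := hNtop ▸ Submodule.mem_top
  obtain ⟨a, ha⟩ := this
  exact ⟨a, ha⟩

end Diag

section Main

variable {A B : Type u} [CommRing A] [CommRing B] [HenselianLocalRing A] [IsLocalRing B]
  [IsSepClosed (ResidueField A)] [Algebra A B] [IsLocalHom (algebraMap A B)]
  [Algebra.WeaklyEtale A B]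

/-- Fibres of `A → B` are trivial. -/
theorem surjective_algebraMap_residueField (p : Ideal A) [p.IsPrime] :
    Function.Surjective (algebraMap p.ResidueField (p.ResidueField ⊗[A] B)) := by
  apply surjective_algebraMap_of_baseChange (L := AlgebraicClosure p.ResidueField)
  let e₂ := Algebra.TensorProduct.cancelBaseChange A p.ResidueField
    (AlgebraicClosure p.ResidueField) (AlgebraicClosure p.ResidueField) B
  intro x
  obtain ⟨l, hl⟩ := surjective_algebraMap_algebraicClosure (B := B) p (e₂ x)
  refine ⟨l, e₂.injective ?_⟩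
  rw [e₂.commutes, hl]

/-- **Olivier's theorem**: a weakly étale local algebra over a strictly henselian local ring
is trivial. -/
theorem bijective_algebraMap : Function.Bijective (algebraMap A B) := by
  haveI : Module.FaithfullyFlat A B := Module.FaithfullyFlat.of_flat_of_isLocalHom
  refine ⟨FaithfulSMul.algebraMap_injective A B, ?_⟩
  apply surjective_algebraMap_of_lmul'_injective
  apply lmul'_injective_of_fibres
  intro p _
  exact surjective_algebraMap_residueField p

end Main

end Groth.Agent.H47.Olivier
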