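import Mathlib

/-! Integral closure and localization: finiteness passes to localizations. -/

set_option autoImplicit false

namespace Groth.Agent.H47

/-- If the integral closure of `R` in `L` is a finite `R`-module, the integral closure of a
localization `S` of `R` in `L` is a finite `S`-module. -/
lemma finite_integralClosure_of_isLocalization {R S L : Type*} [CommRing R] [CommRing S]
    [CommRing L] (M : Submonoid R) [Algebra R S] [IsLocalization M S] [Algebra R L] [Algebra S L]
    [IsScalarTower R S L] (h : Module.Finite R (integralClosure R L)) :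
    Module.Finite S (integralClosure S L) := by
  have h' : Module.Finite R (Subalgebra.toSubmodule (integralClosure R L)) :=
    Module.Finite.equiv (Subalgebra.toSubmoduleEquiv (integralClosure R L)).symm
  obtain ⟨T, hT⟩ := Module.Finite.iff_fg.mp h'
  suffices hfg : (Subalgebra.toSubmodule (integralClosure S L)).FG by
    have := Module.Finite.iff_fg.mpr hfg
    exact Module.Finite.equiv (Subalgebra.toSubmoduleEquiv (integralClosure S L))
  refine ⟨T, le_antisymm ?_ ?_⟩
  · rw [Submodule.span_le]
    intro t ht
    have h1 : t ∈ Subalgebra.toSubmodule (integralClosure R L) := by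
      rw [← hT]
      exact Submodule.subset_span ht
    have h2 : IsIntegral R t := h1
    exact h2.tower_top
  · intro x hx
    have hx' : IsIntegral S x := hx
    obtain ⟨m, hm⟩ := IsIntegral.exists_multiple_integral_of_isLocalization M x hx'
    have h1 : m • x ∈ Submodule.span R (T : Set L) := by
      rw [hT]
      exact hm
    have h2 : m • x ∈ Submodule.span S (T : Set L) :=
      Submodule.span_le_restrictScalars R S (T : Set L) h1
    obtain ⟨u, hu⟩ := IsLocalization.map_units S m
    have h3 : m • x = (u : S) • x := by
      rw [hu, Submonoid.smul_def, algebraMap_smul]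
    rw [h3] at h2
    have h4 : x = ((u⁻¹ : Sˣ) : S) • ((u : S) • x) := by
      rw [smul_smul, Units.inv_mul, one_smul]
    rw [h4]
    exact Submodule.smul_mem _ _ h2

/-- If `S` is a localization of the domain `R` and `S` is a domain with fraction field `K`,
then `K` is also the fraction field of `R`. -/
lemma isFractionRing_of_isLocalization_of_isFractionRing {R S K : Type*} [CommRing R]
    [IsDomain R] (M : Submonoid R) [CommRing S] [IsDomain S] [Algebra R S] [IsLocalization M S]
    [Field K] [Algebra S K] [IsFractionRing S K] [Algebra R K] [IsScalarTower R S K] :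
    IsFractionRing R K := by
  have hM : M ≤ nonZeroDivisors R := by
    intro x hx
    rw [mem_nonZeroDivisors_iff_ne_zero]
    rintro rfl
    have h0 := IsLocalization.map_units S (⟨0, hx⟩ : M)
    simp at h0
  have hinjRS : Function.Injective (algebraMap R S) := IsLocalization.injective S hM
  have hinj : Function.Injective (algebraMap R K) := by
    rw [IsScalarTower.algebraMap_eq R S K]
    exact (IsFractionRing.injective S K).comp hinjRS
  haveI : FaithfulSMul R K := (faithfulSMul_iff_algebraMap_injective R K).mpr hinj
  apply IsFractionRing.of_field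
  intro z
  obtain ⟨s1, s2, hs2, rfl⟩ := IsFractionRing.div_surjective (A := S) z
  obtain ⟨⟨r1, m1⟩, h1⟩ := IsLocalization.surj M s1
  obtain ⟨⟨r2, m2⟩, h2⟩ := IsLocalization.surj M s2
  simp only at h1 h2
  refine ⟨r1 * m2, r2 * m1, ?_⟩
  have e1 : algebraMap R K r1 = algebraMap S K s1 * algebraMap R K m1 := by
    rw [IsScalarTower.algebraMap_apply R S K, IsScalarTower.algebraMap_apply R S K, ← map_mul, h1]
  have e2 : algebraMap R K r2 = algebraMap S K s2 * algebraMap R K m2 := by
    rw [IsScalarTower.algebraMap_apply R S K, IsScalarTower.algebraMap_apply R S K, ← map_mul, h2]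
  have hm1 : algebraMap R K m1 ≠ 0 :=
    (map_ne_zero_iff _ hinj).mpr (nonZeroDivisors.ne_zero (hM m1.2))
  have hm2 : algebraMap R K m2 ≠ 0 :=
    (map_ne_zero_iff _ hinj).mpr (nonZeroDivisors.ne_zero (hM m2.2))
  have hs2' : algebraMap S K s2 ≠ 0 :=
    (map_ne_zero_iff _ (IsFractionRing.injective S K)).mpr (nonZeroDivisors.ne_zero hs2)
  rw [map_mul, map_mul, e1, e2]
  field_simp

/-- Finiteness of the integral closure can be checked on a finite principal open cover. -/
lemma finite_integralClosure_of_span_eq_top {R L : Type*} [CommRing R] [CommRing L] [Algebra R L]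
    {ι : Type*} [Finite ι] (f : ι → R) (hf : Ideal.span (Set.range f) = ⊤)
    (Rf : ι → Type*) [∀ i, CommRing (Rf i)] [∀ i, Algebra R (Rf i)] [∀ i, Algebra (Rf i) L]
    [∀ i, IsScalarTower R (Rf i) L] [∀ i, IsLocalization.Away (f i) (Rf i)]
    (h : ∀ i, Module.Finite (Rf i) (integralClosure (Rf i) L)) :
    Module.Finite R (integralClosure R L) := by
  classical
  have key : ∀ i, ∃ T : Finset L, (∀ t ∈ T, IsIntegral R t) ∧
      ∀ x : L, IsIntegral (Rf i) x → x ∈ Submodule.span (Rf i) (T : Set L) := by
    intro i
    have h' : Module.Finite (Rf i) (Subalgebra.toSubmodule (integralClosure (Rf i) L)) :=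
      Module.Finite.equiv (Subalgebra.toSubmoduleEquiv (integralClosure (Rf i) L)).symm
    obtain ⟨T0, hT0⟩ := Module.Finite.iff_fg.mp h'
    have hint : ∀ t ∈ T0, IsIntegral (Rf i) t := fun t ht => by
      have h1 : t ∈ Subalgebra.toSubmodule (integralClosure (Rf i) L) :=
        hT0 ▸ Submodule.subset_span ht
      exact h1
    have hmult : ∀ t : L, ∃ m : Submonoid.powers (f i), t ∈ T0 → IsIntegral R (m • t) := by
      intro t
      by_cases ht : t ∈ T0
      · obtain ⟨m, hm⟩ := IsIntegral.exists_multiple_integral_of_isLocalization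
          (Submonoid.powers (f i)) t (hint t ht)
        exact ⟨m, fun _ => hm⟩
      · exact ⟨1, fun h => (ht h).elim⟩
    choose m hm using hmult
    refine ⟨T0.image (fun t => m t • t), ?_, ?_⟩
    · intro t ht
      obtain ⟨t0, ht0, rfl⟩ := Finset.mem_image.mp ht
      exact hm t0 ht0
    · intro x hx
      have hx' : x ∈ Submodule.span (Rf i) (T0 : Set L) := by
        rw [hT0]
        exact hx
      refine Submodule.span_le.mpr ?_ hx'
      intro t0 ht0
      obtain ⟨u, hu⟩ := IsLocalization.map_units (Rf i) (m t0)
      have h3 : m t0 • t0 = (u : Rf i) • t0 := by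
        rw [hu, Submonoid.smul_def, algebraMap_smul]
      have h4 : t0 = ((u⁻¹ : (Rf i)ˣ) : Rf i) • (m t0 • t0) := by
        rw [h3, smul_smul, Units.inv_mul, one_smul]
      rw [SetLike.mem_coe, h4]
      apply Submodule.smul_mem
      apply Submodule.subset_span
      exact Finset.mem_coe.mpr (Finset.mem_image.mpr ⟨t0, ht0, rfl⟩)
  choose T hTint hTspan using key
  haveI : Fintype ι := Fintype.ofFinite ι
  suffices hfg : (Subalgebra.toSubmodule (integralClosure R L)).FG by
    have := Module.Finite.iff_fg.mpr hfg
    exact Module.Finite.equiv (Subalgebra.toSubmoduleEquiv (integralClosure R L))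
  refine ⟨Finset.univ.biUnion T, le_antisymm ?_ ?_⟩
  · rw [Submodule.span_le]
    intro t ht
    obtain ⟨i, -, hti⟩ := Finset.mem_biUnion.mp (Finset.mem_coe.mp ht)
    exact hTint i t hti
  · intro x hx
    have hx' : IsIntegral R x := hx
    apply Submodule.mem_of_span_eq_top_of_smul_pow_mem _ (Set.range f) hf
    rintro ⟨_, i, rfl⟩
    have hxi : x ∈ Submodule.span (Rf i) (T i : Set L) := hTspan i x hx'.tower_top
    obtain ⟨⟨_, n, rfl⟩, hn⟩ := multiple_mem_span_of_mem_localization_span
      (Submonoid.powers (f i)) (Rf i) (T i : Set L) x hxi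
    refine ⟨n, ?_⟩
    refine Submodule.span_mono ?_ hn
    intro t ht
    exact Finset.mem_coe.mpr (Finset.mem_biUnion.mpr ⟨i, Finset.mem_univ i, ht⟩)

/-- `FractionRing R` is an algebra over a domain localization `Rf` away from `f`. -/
noncomputable def algebraAwayFractionRing {R : Type*} [CommRing R] [IsDomain R] (f : R)
    (Rf : Type*) [CommRing Rf] [Nontrivial Rf] [Algebra R Rf] [IsLocalization.Away f Rf] :
    Algebra Rf (FractionRing R) :=
  (IsLocalization.lift (M := Submonoid.powers f) (g := algebraMap R (FractionRing R)) (by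
    rintro ⟨_, n, rfl⟩
    have hf : f ≠ 0 := by
      rintro rfl
      have h0 := IsLocalization.map_units Rf (⟨0, Submonoid.mem_powers (0 : R)⟩ : Submonoid.powers (0 : R))
      simp at h0
    exact IsUnit.mk0 _ ((map_ne_zero_iff _ (IsFractionRing.injective R (FractionRing R))).mpr
      (pow_ne_zero n hf)))).toAlgebra

lemma isScalarTower_algebraAwayFractionRing {R : Type*} [CommRing R] [IsDomain R] (f : R)
    (Rf : Type*) [CommRing Rf] [Nontrivial Rf] [Algebra R Rf] [IsLocalization.Away f Rf] :
    letI := algebraAwayFractionRing f Rf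
    IsScalarTower R Rf (FractionRing R) :=
  letI := algebraAwayFractionRing f Rf
  IsScalarTower.of_algebraMap_eq (fun r => (IsLocalization.lift_eq _ r).symm)

end Groth.Agent.H47
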