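import Groth.Agent.H47.Hens2
import Groth.Prelude.Def_Hensel

/-!
# `H R (maximalIdeal R)` is a henselization of the local ring `R`
-/

set_option autoImplicit false
universe u

namespace Groth.Agent.H47.Hens

variable (R : Type u) [CommRing R] [IsLocalRing R]

/-- The henselization of a local ring. -/
abbrev Hloc : Type u := H R (IsLocalRing.maximalIdeal R)

instance isLocalHom_algebraMap : IsLocalHom (algebraMap R (Hloc R)) where
  map_nonunit r hr := by
    have h := (hr.map (ε R (IsLocalRing.maximalIdeal R))).ne_zero
    rw [ε_algebraMap, Ne, Ideal.algebraMap_residueField_eq_zero] at h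
    by_contra hr'
    exact h ((IsLocalRing.mem_maximalIdeal r).mpr hr')

instance isHenselization : Hensel.IsHenselization R (Hloc R) where
  henselian := inferInstance
  universal T _ _ f hloc := by
    apply existsUnique_desc R (IsLocalRing.maximalIdeal R) f
    exact ((IsLocalRing.local_hom_TFAE f).out 0 4).mp hloc

end Groth.Agent.H47.Hens
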