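import Mathlib

/-! Maximal points (generic points of irreducible components) and quasi-compact morphisms. -/

set_option autoImplicit false
universe u

namespace Groth.Agent.H47

open AlgebraicGeometry CategoryTheory TopologicalSpace

/-- If `closure {η}` is an irreducible component, any generization of `η` equals `η`. -/
lemma eq_of_specializes_of_mem_irreducibleComponents {T : Type*} [TopologicalSpace T] [T0Space T]
    {η ξ : T} (hη : closure {η} ∈ irreducibleComponents T) (h : ξ ⤳ η) : ξ = η := by
  have hle : closure {η} ⊆ closure {ξ} := specializes_iff_closure_subset.mp h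
  have hirr : IsIrreducible (closure ({ξ} : Set T)) := isIrreducible_singleton.closure
  have hge : closure {ξ} ⊆ closure {η} := hη.le_of_ge hirr hle
  exact (h.antisymm (specializes_iff_closure_subset.mpr hge)).eq

/-- A maximal point of the target in the closure of the image of a quasi-compact morphism
is in the image. -/
lemma mem_range_of_mem_closure_range {X S : Scheme.{u}} (f : X ⟶ S) [QuasiCompact f]
    (η : S) (hη : closure {η} ∈ irreducibleComponents (↑S : Type u))
    (h : η ∈ closure (Set.range f)) : η ∈ Set.range f := by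
  obtain ⟨W, hW, hηW, -⟩ := exists_isAffineOpen_mem_and_subset (x := η)
    (U := (⊤ : S.Opens)) trivial
  have hcpt : IsCompact ((f ⁻¹ᵁ W : X.Opens) : Set X) := f.isCompact_preimage hW.isCompact
  obtain ⟨A, g, hg⟩ := isCompact_iff_exists.mp hcpt
  have hsub : Set.range (g ≫ f) ⊆ Set.range hW.fromSpec := by
    rw [hW.range_fromSpec]
    rintro _ ⟨a, rfl⟩
    have h1 : g a ∈ ((f ⁻¹ᵁ W : X.Opens) : Set X) := hg ▸ Set.mem_range_self a
    exact h1
  let k := IsOpenImmersion.lift hW.fromSpec (g ≫ f) hsub
  have hk : k ≫ hW.fromSpec = g ≫ f := IsOpenImmersion.lift_fac _ _ _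
  obtain ⟨φ, hφ⟩ := Spec.map_surjective k
  obtain ⟨p, hp⟩ : ∃ p, hW.fromSpec p = η := by
    have h1 : η ∈ Set.range hW.fromSpec := by
      rw [hW.range_fromSpec]
      exact hηW
    exact h1
  have hpcl : p ∈ closure (Set.range k) := by
    rw [mem_closure_iff]
    intro O hO hpO
    have hO' : IsOpen (hW.fromSpec '' O) := hW.fromSpec.isOpenEmbedding.isOpenMap O hO
    have hηO : η ∈ hW.fromSpec '' O := ⟨p, hpO, hp⟩
    obtain ⟨_, ⟨q, hqO, rfl⟩, ⟨x, hx⟩⟩ := mem_closure_iff.mp h _ hO' hηO
    have hxW : x ∈ ((f ⁻¹ᵁ W : X.Opens) : Set X) := by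
      show f x ∈ (W : Set S)
      rw [hx, ← hW.range_fromSpec]
      exact Set.mem_range_self q
    rw [← hg] at hxW
    obtain ⟨a, rfl⟩ := hxW
    refine ⟨q, hqO, a, ?_⟩
    apply hW.fromSpec.isOpenEmbedding.injective
    rw [← hx, ← Scheme.Hom.comp_apply, hk, Scheme.Hom.comp_apply]
  rw [← hφ] at hpcl
  have hpcl' : p ∈ closure (Set.range (PrimeSpectrum.comap φ.hom)) := hpcl
  rw [PrimeSpectrum.closure_range_comap] at hpcl'
  have hker : (RingHom.ker φ.hom : Set Γ(S, W)) ⊆ (p : PrimeSpectrum Γ(S, W)).asIdeal :=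
    (PrimeSpectrum.mem_zeroLocus _ _).mp hpcl'
  have hmin : (p : PrimeSpectrum Γ(S, W)).asIdeal ∈ (Ideal.comap φ.hom ⊥).minimalPrimes := by
    refine ⟨⟨(p : PrimeSpectrum Γ(S, W)).isPrime, hker⟩, ?_⟩
    rintro q ⟨hq, -⟩ hqp
    let q' : PrimeSpectrum Γ(S, W) := ⟨q, hq⟩
    have hspec : q' ⤳ (p : PrimeSpectrum Γ(S, W)) :=
      (PrimeSpectrum.le_iff_specializes q' p).mp hqp
    have hspec' : hW.fromSpec q' ⤳ hW.fromSpec p := hspec.map hW.fromSpec.continuous
    rw [hp] at hspec'
    have heq := eq_of_specializes_of_mem_irreducibleComponents hη hspec'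
    rw [← hp] at heq
    have heq' : q' = p := hW.fromSpec.isOpenEmbedding.injective heq
    rw [← heq']
  obtain ⟨p', hp', -, hcomap⟩ := Ideal.exists_comap_eq_of_mem_minimalPrimes φ.hom _ hmin
  let p'' : PrimeSpectrum A := ⟨p', hp'⟩
  have hkp : k p'' = p := by
    rw [← hφ]
    exact PrimeSpectrum.ext hcomap
  refine ⟨g p'', ?_⟩
  rw [← hp, ← hkp, ← Scheme.Hom.comp_apply, ← Scheme.Hom.comp_apply, hk]

/-- Every point of a quasi-sober space is a specialization of a maximal point. -/
lemma exists_maximal_point_specializes {T : Type*} [TopologicalSpace T] [QuasiSober T] (t : T) :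
    ∃ η : T, closure {η} ∈ irreducibleComponents T ∧ η ⤳ t := by
  obtain ⟨u, hu, htu⟩ :=
    exists_mem_irreducibleComponents_subset_of_isIrreducible ({t} : Set T) isIrreducible_singleton
  have hucl : IsClosed u := isClosed_of_mem_irreducibleComponents u hu
  obtain ⟨η, hη⟩ := QuasiSober.sober hu.prop hucl
  have he : closure {η} = u := hη.def
  refine ⟨η, he ▸ hu, specializes_iff_mem_closure.mpr ?_⟩
  rw [he]
  exact htu rfl

/-- A generalizing map sends maximal points to maximal points. -/
lemma mem_irreducibleComponents_of_generalizingMap {T T' : Type*} [TopologicalSpace T]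
    [TopologicalSpace T'] [QuasiSober T] [T0Space T'] (g : T' → T) (hg : GeneralizingMap g)
    (η' : T') (hη' : closure {η'} ∈ irreducibleComponents T') :
    closure {g η'} ∈ irreducibleComponents T := by
  refine ⟨isIrreducible_singleton.closure, fun t ht hle => ?_⟩
  obtain ⟨ξ, hξ⟩ := QuasiSober.sober ht.closure isClosed_closure
  have he : closure {ξ} = closure t := hξ.def
  have hmem : g η' ∈ closure t := subset_closure (hle (subset_closure rfl))
  have hspec : ξ ⤳ g η' := specializes_iff_mem_closure.mpr (he ▸ hmem)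
  obtain ⟨ξ', hξ'spec, hξ'⟩ := hg hspec
  have hξ'η' : ξ' = η' := eq_of_specializes_of_mem_irreducibleComponents hη' hξ'spec
  rw [hξ'η'] at hξ'
  calc t ≤ closure t := subset_closure
    _ = closure {ξ} := he.symm
    _ = closure {g η'} := by rw [hξ']

/-- A quasi-compact morphism whose image contains all maximal points is dominant. -/
lemma denseRange_of_forall_maximal_mem_range {T T' : Type*} [TopologicalSpace T]
    [TopologicalSpace T'] [QuasiSober T] (f : T' → T)
    (h : ∀ η : T, closure {η} ∈ irreducibleComponents T → η ∈ Set.range f) : DenseRange f := by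
  intro t
  obtain ⟨η, hη, hspec⟩ := exists_maximal_point_specializes t
  exact hspec.mem_closed isClosed_closure (subset_closure (h η hη))

end Groth.Agent.H47
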