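import Mathlib.AlgebraicGeometry.AffineScheme
import Mathlib.Topology.Sheaves.Sheaf
import Mathlib.Topology.Sheaves.SheafCondition.Sites
import Mathlib.CategoryTheory.Sites.DenseSubsite.InducedTopology
import Mathlib.CategoryTheory.Sites.Canonical

/-!
# Sheaves on the basis of affine opens of a scheme (helper47)

`F : (X.affineOpens)ᵒᵖ ⥤ Type u` is a sheaf for the topology induced from `X` as soon as
`F(∅)` is a singleton and `F` satisfies glueing for the two-element standard covers
`U = D(f) ∪ D(g)`.
-/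

set_option autoImplicit false
universe u

namespace Groth.Agent.H47.BasisSheaf

open AlgebraicGeometry CategoryTheory TopologicalSpace Opposite

variable {X : Scheme.{u}}

/-- inclusion functor of the affine opens -/
abbrev incl (X : Scheme.{u}) : X.affineOpens ⥤ X.Opens :=
  Monotone.functor (f := fun U : X.affineOpens => (U : X.Opens)) (fun _ _ h => h)

instance : (incl X).Full where
  map_surjective f := ⟨homOfLE (leOfHom f), Subsingleton.elim _ _⟩

instance : (incl X).Faithful where
  map_injective _ := Subsingleton.elim _ _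

instance isCoverDense_incl : (incl X).IsCoverDense (Opens.grothendieckTopology X) := by
  rw [TopCat.Opens.coverDense_iff_isBasis]
  have : Set.range (incl X).obj = X.affineOpens := by
    ext V; constructor
    · rintro ⟨U, rfl⟩; exact U.2
    · intro hV; exact ⟨⟨V, hV⟩, rfl⟩
  rw [this]
  exact X.isBasis_affineOpens

/-- the induced topology on the affine opens -/
abbrev J (X : Scheme.{u}) : GrothendieckTopology X.affineOpens :=
  (incl X).inducedTopology (Opens.grothendieckTopology X)

lemma mem_J_iff {U : X.affineOpens} (S : Sieve U) :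
    S ∈ J X U ↔
      ∀ x ∈ (U : X.Opens), ∃ (Z : X.affineOpens) (g : Z ⟶ U), S g ∧ x ∈ (Z : X.Opens) := by
  rw [Functor.mem_inducedTopology_iff_of_isCoverDense]
  constructor
  · intro h x hx
    obtain ⟨V, f, ⟨Z, g, k, hg, -⟩, hxV⟩ := h x hx
    exact ⟨Z, g, hg, leOfHom k hxV⟩
  · intro h x hx
    obtain ⟨Z, g, hg, hxZ⟩ := h x hx
    exact ⟨(incl X).obj Z, (incl X).map g, ⟨Z, g, 𝟙 _, hg, (Category.id_comp _).symm⟩, hxZ⟩

variable (F : (X.affineOpens)ᵒᵖ ⥤ Type u)

/-- restriction maps of `F` -/
def res {Y Z : X.affineOpens} (h : Z ≤ Y) (s : F.obj (op Y)) : F.obj (op Z) :=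
  F.map (homOfLE h).op s

lemma map_eq_res {Y Z : X.affineOpens} (f : Z ⟶ Y) (s : F.obj (op Y)) :
    F.map f.op s = res F (leOfHom f) s := by
  rw [res, Subsingleton.elim f (homOfLE (leOfHom f))]

lemma res_res {Y Z T : X.affineOpens} (h : Z ≤ Y) (h' : T ≤ Z) (s : F.obj (op Y)) :
    res F h' (res F h s) = res F (h'.trans h) s := by
  simp only [res]
  rw [← Functor.map_comp_apply, ← op_comp]
  rfl

lemma res_refl {Y : X.affineOpens} (s : F.obj (op Y)) : res F (le_refl Y) s = s := by
  simp only [res]
  rw [show (homOfLE (le_refl Y)) = 𝟙 Y from Subsingleton.elim _ _, op_id, Functor.map_id_apply]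

/-- the sieve on `U` of all affine opens contained in `A` or in `B` -/
def pairSieve (U : X.affineOpens) (A B : X.Opens) : Sieve U where
  arrows T _ := (T : X.Opens) ≤ A ∨ (T : X.Opens) ≤ B
  downward_closed := by
    rintro Y Z f (h | h) g
    · exact Or.inl (le_trans (leOfHom g) h)
    · exact Or.inr (le_trans (leOfHom g) h)

lemma isSheafFor_pairSieve_iff {U V W VW : X.affineOpens} (hV : V ≤ U) (hW : W ≤ U)
    (h1 : VW ≤ V) (h2 : VW ≤ W) (hVW : (VW : X.Opens) = (V : X.Opens) ⊓ (W : X.Opens)) :
    Presieve.IsSheafFor F (pairSieve U (V : X.Opens) (W : X.Opens)).arrows ↔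
    (Function.Injective
        (fun s : F.obj (op U) => (F.map (homOfLE hV).op s, F.map (homOfLE hW).op s)) ∧
      Set.range (fun s : F.obj (op U) => (F.map (homOfLE hV).op s, F.map (homOfLE hW).op s)) =
        {p | F.map (homOfLE h1).op p.1 = F.map (homOfLE h2).op p.2}) := by
  constructor
  · intro hS
    constructor
    · intro s s' hss'
      simp only [Prod.mk.injEq] at hss'
      obtain ⟨e1, e2⟩ := hss'
      change res F hV s = res F hV s' at e1
      change res F hW s = res F hW s' at e2
      apply hS.isSeparatedFor.ext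
      intro Y k hk
      rw [map_eq_res, map_eq_res]
      rcases hk with h | h
      · have h' : Y ≤ V := h
        rw [← res_res F hV h' s, ← res_res F hV h' s', e1]
      · have h' : Y ≤ W := h
        rw [← res_res F hW h' s, ← res_res F hW h' s', e2]
    · ext ⟨a, b⟩
      simp only [Set.mem_range, Prod.mk.injEq, Set.mem_ofPred_eq]
      constructor
      · rintro ⟨s, rfl, rfl⟩
        change res F h1 (res F hV s) = res F h2 (res F hW s)
        rw [res_res, res_res]
      · intro hab
        change res F h1 a = res F h2 b at hab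
        classical
        let val : ∀ (T : X.affineOpens), ((T : X.Opens) ≤ V ∨ (T : X.Opens) ≤ W) → F.obj (op T) :=
          fun T hT => if h : T ≤ V then res F h a else res F (hT.resolve_left h) b
        have val_V : ∀ T hT (h : T ≤ V), val T hT = res F h a := fun T hT h => dif_pos h
        have val_W : ∀ T hT (h : T ≤ W), val T hT = res F h b := by
          intro T hT h
          by_cases h' : T ≤ V
          · rw [val_V T hT h']
            have hTVW : T ≤ VW := by
              change (T : X.Opens) ≤ VW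
              rw [hVW]
              exact le_inf h' h
            rw [← res_res F h1 hTVW, ← res_res F h2 hTVW, hab]
          · exact dif_neg h'
        have val_res : ∀ T hT T' hT' (h : T' ≤ T), res F h (val T hT) = val T' hT' := by
          intro T hT T' hT' h
          have hT0 := hT
          rcases hT0 with hTV | hTW
          · rw [val_V T hT hTV, val_V T' hT' (le_trans h hTV), res_res]
          · rw [val_W T hT hTW, val_W T' hT' (le_trans h hTW), res_res]
        let x : Presieve.FamilyOfElements F (pairSieve U (V : X.Opens) (W : X.Opens)).arrows :=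
          fun T _ hT => val T hT
        have hx : x.Compatible := by
          intro Y₁ Y₂ Z g₁ g₂ f₁ f₂ h₁ h₂ _
          rw [map_eq_res, map_eq_res]
          change res F _ (val Y₁ h₁) = res F _ (val Y₂ h₂)
          have hZ : (Z : X.Opens) ≤ V ∨ (Z : X.Opens) ≤ W :=
            Or.imp (le_trans (leOfHom g₁)) (le_trans (leOfHom g₁)) h₁
          rw [val_res Y₁ h₁ Z hZ, val_res Y₂ h₂ Z hZ]
        obtain ⟨s, hs, -⟩ := hS x hx
        refine ⟨s, ?_, ?_⟩
        · have := hs (homOfLE hV) (Or.inl le_rfl)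
          rw [this]
          change val V (Or.inl le_rfl) = a
          rw [val_V V (Or.inl le_rfl) le_rfl, res_refl]
        · have := hs (homOfLE hW) (Or.inr le_rfl)
          rw [this]
          change val W (Or.inr le_rfl) = b
          rw [val_W W (Or.inr le_rfl) le_rfl, res_refl]
  · rintro ⟨hinj, hrange⟩ x hx
    have hxs := (Presieve.compatible_iff_sieveCompatible x).mp hx
    have hc : F.map (homOfLE h1).op (x (homOfLE hV) (Or.inl le_rfl)) =
        F.map (homOfLE h2).op (x (homOfLE hW) (Or.inr le_rfl)) :=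
      hx (homOfLE h1) (homOfLE h2) _ _ (Subsingleton.elim _ _)
    have hmem : (x (homOfLE hV) (Or.inl le_rfl), x (homOfLE hW) (Or.inr le_rfl)) ∈
        Set.range (fun s : F.obj (op U) =>
          (F.map (homOfLE hV).op s, F.map (homOfLE hW).op s)) := by
      rw [hrange]; exact hc
    obtain ⟨s, hs⟩ := hmem
    simp only [Prod.mk.injEq] at hs
    obtain ⟨hs1, hs2⟩ := hs
    refine ⟨s, ?_, ?_⟩
    · intro Y k hk
      rcases hk with h | h
      · have h' : Y ≤ V := h
        obtain rfl : k = homOfLE h' ≫ homOfLE hV := Subsingleton.elim _ _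
        rw [op_comp, Functor.map_comp_apply, hs1]
        exact (hxs (homOfLE hV) (homOfLE h') (Or.inl le_rfl)).symm
      · have h' : Y ≤ W := h
        obtain rfl : k = homOfLE h' ≫ homOfLE hW := Subsingleton.elim _ _
        rw [op_comp, Functor.map_comp_apply, hs2]
        exact (hxs (homOfLE hW) (homOfLE h') (Or.inr le_rfl)).symm
    · intro s' hs'
      apply hinj
      simp only [Prod.mk.injEq]
      exact ⟨(hs' (homOfLE hV) (Or.inl le_rfl)).trans hs1.symm,
        (hs' (homOfLE hW) (Or.inr le_rfl)).trans hs2.symm⟩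

/-- the pair glueing condition -/
def PairCond : Prop :=
  ∀ (U V W VW : X.affineOpens) (f g : Γ(X, (U : X.Opens))),
    (V : X.Opens) = X.basicOpen f → (W : X.Opens) = X.basicOpen g →
    (VW : X.Opens) = X.basicOpen (f * g) → (U : X.Opens) = (V : X.Opens) ⊔ (W : X.Opens) →
    ∀ (hV : V ≤ U) (hW : W ≤ U) (h1 : VW ≤ V) (h2 : VW ≤ W),
    Function.Injective
      (fun s : F.obj (op U) => (F.map (homOfLE hV).op s, F.map (homOfLE hW).op s)) ∧
    Set.range (fun s : F.obj (op U) => (F.map (homOfLE hV).op s, F.map (homOfLE hW).op s)) =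
      {p | F.map (homOfLE h1).op p.1 = F.map (homOfLE h2).op p.2}

/-- the condition at the empty open -/
def BotCond : Prop :=
  ∀ Z : X.affineOpens, (Z : X.Opens) = ⊥ →
    Nonempty (F.obj (op Z)) ∧ Subsingleton (F.obj (op Z))

variable {F}

lemma isSheafFor_of_bot (hF : BotCond F) {Y : X.affineOpens} (hY : (Y : X.Opens) = ⊥)
    (S : Sieve Y) : Presieve.IsSheafFor F S.arrows := by
  intro x hx
  obtain ⟨⟨t⟩, hsub⟩ := hF Y hY
  refine ⟨t, ?_, fun t' _ => Subsingleton.elim _ _⟩
  intro Z k hk
  have hZ : (Z : X.Opens) = ⊥ := le_bot_iff.mp (le_trans (leOfHom k) hY.le)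
  haveI := (hF Z hZ).2
  exact Subsingleton.elim _ _

lemma pairSieve_mem_finest (hb : PairCond F) (T : X.affineOpens) (f g : Γ(X, (T : X.Opens)))
    (hT : (T : X.Opens) ≤ X.basicOpen f ⊔ X.basicOpen g) :
    pairSieve T (X.basicOpen f) (X.basicOpen g) ∈ Sheaf.finestTopologySingle F T := by
  intro Y k
  have hYT : (Y : X.Opens) ≤ T := leOfHom k
  let f' : Γ(X, (Y : X.Opens)) := X.presheaf.map (homOfLE hYT).op f
  let g' : Γ(X, (Y : X.Opens)) := X.presheaf.map (homOfLE hYT).op g
  have hf' : X.basicOpen f' = (Y : X.Opens) ⊓ X.basicOpen f := X.basicOpen_res f _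
  have hg' : X.basicOpen g' = (Y : X.Opens) ⊓ X.basicOpen g := X.basicOpen_res g _
  let V : X.affineOpens := X.affineBasicOpen f'
  let W : X.affineOpens := X.affineBasicOpen g'
  let VW : X.affineOpens := X.affineBasicOpen (f' * g')
  have hVY : V ≤ Y := X.basicOpen_le f'
  have hWY : W ≤ Y := X.basicOpen_le g'
  have hVW : (VW : X.Opens) = (V : X.Opens) ⊓ (W : X.Opens) := X.basicOpen_mul f' g'
  have h1 : VW ≤ V := by
    change (VW : X.Opens) ≤ V
    rw [hVW]; exact inf_le_left
  have h2 : VW ≤ W := by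
    change (VW : X.Opens) ≤ W
    rw [hVW]; exact inf_le_right
  have hYVW : (Y : X.Opens) = (V : X.Opens) ⊔ (W : X.Opens) := by
    change (Y : X.Opens) = X.basicOpen f' ⊔ X.basicOpen g'
    rw [hf', hg', ← inf_sup_left]
    exact (inf_eq_left.mpr (hYT.trans hT)).symm
  have hsieve : (pairSieve T (X.basicOpen f) (X.basicOpen g)).pullback k =
      pairSieve Y (V : X.Opens) (W : X.Opens) := by
    ext Z l
    change ((Z : X.Opens) ≤ _ ∨ (Z : X.Opens) ≤ _) ↔
      ((Z : X.Opens) ≤ X.basicOpen f' ∨ (Z : X.Opens) ≤ X.basicOpen g')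
    have hZY : (Z : X.Opens) ≤ Y := leOfHom l
    rw [hf', hg', le_inf_iff, le_inf_iff]
    simp [hZY]
  rw [hsieve, isSheafFor_pairSieve_iff F hVY hWY h1 h2 hVW]
  exact hb Y V W VW f' g' rfl rfl rfl hYVW hVY hWY h1 h2

/-- `h` is good for the sieve `S` if `S` is universally effective on every affine open inside
`D(h)`. -/
def Good (F : (X.affineOpens)ᵒᵖ ⥤ Type u) {U : X.affineOpens} (S : Sieve U)
    (h : Γ(X, (U : X.Opens))) : Prop :=
  ∀ (T : X.affineOpens) (hT : T ≤ U), (T : X.Opens) ≤ X.basicOpen h →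
    S.pullback (homOfLE hT) ∈ Sheaf.finestTopologySingle F T

lemma good_add (hb : PairCond F) {U : X.affineOpens} (S : Sieve U)
    {h1 h2 : Γ(X, (U : X.Opens))} (H1 : Good F S h1) (H2 : Good F S h2) :
    Good F S (h1 + h2) := by
  intro T hT hTle
  have hTU : (T : X.Opens) ≤ U := hT
  let f : Γ(X, (T : X.Opens)) := X.presheaf.map (homOfLE hTU).op h1
  let g : Γ(X, (T : X.Opens)) := X.presheaf.map (homOfLE hTU).op h2
  have hf : X.basicOpen f = (T : X.Opens) ⊓ X.basicOpen h1 := X.basicOpen_res h1 _
  have hg : X.basicOpen g = (T : X.Opens) ⊓ X.basicOpen h2 := X.basicOpen_res h2 _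
  have hcov : (T : X.Opens) ≤ X.basicOpen f ⊔ X.basicOpen g := by
    rw [hf, hg, ← inf_sup_left]
    exact le_inf le_rfl (hTle.trans (X.basicOpen_add_le h1 h2))
  have hR := pairSieve_mem_finest hb T f g hcov
  refine (Sheaf.finestTopologySingle F).transitive hR _ ?_
  intro Y k hk
  rw [← Sieve.pullback_comp]
  have hYU : Y ≤ U := le_trans (leOfHom k) hT
  rw [Subsingleton.elim (k ≫ homOfLE hT) (homOfLE hYU)]
  rcases hk with hk | hk
  · exact H1 Y hYU (hk.trans (hf.le.trans inf_le_right))
  · exact H2 Y hYU (hk.trans (hg.le.trans inf_le_right))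

lemma good_mul {U : X.affineOpens} (S : Sieve U) (a : Γ(X, (U : X.Opens)))
    {h : Γ(X, (U : X.Opens))} (H : Good F S h) : Good F S (a * h) := by
  intro T hT hTle
  refine H T hT (hTle.trans ?_)
  rw [X.basicOpen_mul]
  exact inf_le_right

lemma good_zero (ha : BotCond F) {U : X.affineOpens} (S : Sieve U) :
    Good F S (0 : Γ(X, (U : X.Opens))) := by
  intro T hT hTle
  rw [X.basicOpen_zero] at hTle
  intro Y k
  exact isSheafFor_of_bot ha (le_bot_iff.mp (le_trans (leOfHom k) hTle)) _

lemma good_of_mem {U : X.affineOpens} (S : Sieve U) {Z : X.affineOpens} (g : Z ⟶ U)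
    (hg : S g) (h : Γ(X, (U : X.Opens))) (hZ : X.basicOpen h ≤ (Z : X.Opens)) :
    Good F S h := by
  intro T hT hTle
  have hTZ : T ≤ Z := hTle.trans hZ
  have : S (homOfLE hT) := by
    rw [Subsingleton.elim (homOfLE hT) (homOfLE hTZ ≫ g)]
    exact S.downward_closed hg _
  rw [Sieve.pullback_eq_top_of_mem S this]
  exact GrothendieckTopology.top_mem _ _

theorem mem_finest_of_cover (ha : BotCond F) (hb : PairCond F) {U : X.affineOpens}
    (S : Sieve U)
    (hS : ∀ x ∈ (U : X.Opens), ∃ (Z : X.affineOpens) (g : Z ⟶ U), S g ∧ x ∈ (Z : X.Opens)) :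
    S ∈ Sheaf.finestTopologySingle F U := by
  let I : Ideal Γ(X, (U : X.Opens)) :=
    { carrier := {h | Good F S h}
      add_mem' := fun H1 H2 => good_add hb S H1 H2
      zero_mem' := good_zero ha S
      smul_mem' := fun a _ H => good_mul S a H }
  have hI : I = ⊤ := by
    have key := U.2.self_le_iSup_basicOpen_iff (s := (I : Set Γ(X, (U : X.Opens))))
    rw [Ideal.span_eq] at key
    rw [← key]
    intro x hx
    obtain ⟨Z, g, hg, hxZ⟩ := hS x hx
    obtain ⟨f, hfZ, hxf⟩ := U.2.exists_basicOpen_le (V := (Z : X.Opens)) ⟨x, hxZ⟩ hx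
    rw [Opens.mem_iSup]
    exact ⟨⟨f, good_of_mem S g hg f hfZ⟩, hxf⟩
  have h1 : Good F S (1 : Γ(X, (U : X.Opens))) := by
    have : (1 : Γ(X, (U : X.Opens))) ∈ I := by rw [hI]; trivial
    exact this
  have := h1 U le_rfl (by rw [X.basicOpen_one])
  rwa [Subsingleton.elim (homOfLE (le_refl U)) (𝟙 U), Sieve.pullback_id] at this

theorem isSheaf_of_conds (ha : BotCond F) (hb : PairCond F) : Presieve.IsSheaf (J X) F := by
  intro U S hS
  have := mem_finest_of_cover ha hb S ((mem_J_iff S).mp hS) U (𝟙 U)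
  rwa [Sieve.pullback_id] at this

end Groth.Agent.H47.BasisSheaf
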