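import Mathlib
import Groth.Agent.H47.UnibranchStrict
import Groth.Agent.H47.SmoothNormal
import Groth.Agent.H47.HensCompletion
import Groth.Agent.S9404
import Groth.Agent.S2801
import Groth.Agent.S0515

/-!
# Branches of local rings of smooth algebras over strictly henselian local rings

Main result (`isPrime_map_strict`): if `Λ` is a strictly henselian local ring, `W` a smooth
`Λ`-algebra, `Q'` a prime of `W` over the maximal ideal, `E` a strict henselization of `W_{Q'}` and
`𝔞` a prime of `Λ`, then `𝔞 E` is prime.  Consequently minimal primes of `Λ` and `E` correspond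
bijectively.
-/

set_option autoImplicit false
set_option linter.style.haveILetI false
set_option linter.unusedSectionVars false
universe u
open TensorProduct IsLocalRing

namespace Groth.Agent.H47.SmoothBranch

open Groth.Agent.H47.HensTensor

/-- Flatness: the kernel of `E → E ⊗ D'` is generated by the kernel of `Λ → D'`. -/
theorem mem_map_of_tmul_eq_zero (Λ E D' : Type u) [CommRing Λ] [CommRing E] [Algebra Λ E]
    [Module.Flat Λ E] [CommRing D'] [Algebra Λ D'] (e : E) (h : e ⊗ₜ[Λ] (1 : D') = 0) :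
    e ∈ (RingHom.ker (algebraMap Λ D')).map (algebraMap Λ E) := by
  obtain ⟨𝔞, h𝔞⟩ : ∃ 𝔞 : Ideal Λ, 𝔞 = RingHom.ker (algebraMap Λ D') := ⟨_, rfl⟩
  rw [← h𝔞]
  let j : Λ ⧸ 𝔞 →ₐ[Λ] D' := Ideal.Quotient.liftₐ 𝔞 (Algebra.ofId Λ D') (fun a ha => by
    rw [h𝔞] at ha
    exact ha)
  have hj : Function.Injective j.toLinearMap := by
    rw [← LinearMap.ker_eq_bot, LinearMap.ker_eq_bot']
    intro x hx
    obtain ⟨a, rfl⟩ := Ideal.Quotient.mk_surjective x
    have h1 : algebraMap Λ D' a = 0 := hx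
    rw [Ideal.Quotient.eq_zero_iff_mem, h𝔞]
    exact h1
  have h1 : Function.Injective (j.toLinearMap.lTensor E) :=
    Module.Flat.lTensor_preserves_injective_linearMap (M := E) j.toLinearMap hj
  have h2 : e ⊗ₜ[Λ] (1 : Λ ⧸ 𝔞) = 0 := by
    apply h1
    rw [LinearMap.lTensor_tmul, map_zero]
    have : j.toLinearMap 1 = 1 := map_one j
    rw [this]
    exact h
  have h3 := congrArg (TensorProduct.tensorQuotEquivQuotSMul E 𝔞) h2
  rw [map_zero, ← map_one (Ideal.Quotient.mk 𝔞), TensorProduct.tensorQuotEquivQuotSMul_tmul_mk,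
    one_smul, Submodule.Quotient.mk_eq_zero, Ideal.smul_top_eq_map] at h3
  exact h3

section Normal

variable (Λ : Type u) [CommRing Λ]
  (D' : Type u) [CommRing D'] [IsDomain D'] [IsIntegrallyClosed D'] [Algebra Λ D']
  (W : Type u) [CommRing W] [Algebra Λ W] [Algebra.Smooth Λ W]
  (Q' : Ideal W) [Q'.IsPrime]
  (L : Type u) [CommRing L] [Algebra W L] [IsLocalization.AtPrime L Q'] [Algebra Λ L]
  [IsScalarTower Λ W L]

include Q' in
/-- A local ring of the form `D' ⊗ W_{Q'}`, with `D'` a normal domain and `W` smooth, is a normal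
domain. -/
theorem normal_tensor_left [IsLocalRing (D' ⊗[Λ] L)] :
    IsDomain (D' ⊗[Λ] L) ∧ IsIntegrallyClosed (D' ⊗[Λ] L) := by
  let g : D' ⊗[Λ] W →ₐ[D'] D' ⊗[Λ] L :=
    Algebra.TensorProduct.map (AlgHom.id D' D') (IsScalarTower.toAlgHom Λ W L)
  letI : Algebra (D' ⊗[Λ] W) (D' ⊗[Λ] L) := g.toRingHom.toAlgebra
  haveI : IsScalarTower D' (D' ⊗[Λ] W) (D' ⊗[Λ] L) :=
    IsScalarTower.of_algebraMap_eq (fun d => (g.commutes d).symm)
  have H : (algebraMap (D' ⊗[Λ] W) (D' ⊗[Λ] L)).comp
      (Algebra.TensorProduct.includeRight : W →ₐ[Λ] D' ⊗[Λ] W).toRingHom =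
      (Algebra.TensorProduct.includeRight : L →ₐ[Λ] D' ⊗[Λ] L).toRingHom.comp
        (algebraMap W L) := by
    refine RingHom.ext fun w => ?_
    show g (1 ⊗ₜ w) = 1 ⊗ₜ algebraMap W L w
    rw [Algebra.TensorProduct.map_tmul]
    rfl
  haveI hloc : IsLocalization
      (Q'.primeCompl.map (Algebra.TensorProduct.includeRight (R := Λ) (A := D')))
      (D' ⊗[Λ] L) :=
    IsLocalization.tensorProduct_tensorProduct_right Λ D' Q'.primeCompl L H
  obtain ⟨P', hP'⟩ : ∃ P' : Ideal (D' ⊗[Λ] W),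
      P' = Ideal.comap (algebraMap (D' ⊗[Λ] W) (D' ⊗[Λ] L)) (maximalIdeal (D' ⊗[Λ] L)) :=
    ⟨_, rfl⟩
  haveI : P'.IsPrime := by
    rw [hP']
    exact Ideal.comap_isPrime _ _
  haveI : IsLocalization.AtPrime (D' ⊗[Λ] L) P' := by
    refine IsLocalization.of_le
      (Q'.primeCompl.map (Algebra.TensorProduct.includeRight (R := Λ) (A := D')))
      P'.primeCompl ?_ ?_
    · intro m hm hmem
      have hu : IsUnit (algebraMap (D' ⊗[Λ] W) (D' ⊗[Λ] L) m) :=
        IsLocalization.map_units (D' ⊗[Λ] L)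
          (⟨m, hm⟩ : (Q'.primeCompl.map
            (Algebra.TensorProduct.includeRight (R := Λ) (A := D'))))
      have hmem' : m ∈ P' := hmem
      rw [hP', Ideal.mem_comap] at hmem'
      exact (IsLocalRing.notMem_maximalIdeal.mpr hu) hmem'
    · intro r hr
      have hr' : r ∉ P' := hr
      rw [hP', Ideal.mem_comap] at hr'
      exact IsLocalRing.notMem_maximalIdeal.mp hr'
  exact Groth.Agent.H47.EtaleNormal.isDomain_isIntegrallyClosed_atPrime_of_smooth D'
    (D' ⊗[Λ] W) P' (D' ⊗[Λ] L)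

include Q' in
theorem normal_tensor_right [IsLocalRing (L ⊗[Λ] D')] :
    IsDomain (L ⊗[Λ] D') ∧ IsIntegrallyClosed (L ⊗[Λ] D') := by
  haveI : IsLocalRing (D' ⊗[Λ] L) :=
    (Algebra.TensorProduct.comm Λ L D').toRingEquiv.isLocalRing
  obtain ⟨hd, hic⟩ := normal_tensor_left Λ D' W Q' L
  haveI := hd
  haveI := hic
  haveI : IsDomain (L ⊗[Λ] D') :=
    (Algebra.TensorProduct.comm Λ L D').toRingEquiv.toMulEquiv.isDomain
  exact ⟨inferInstance,
    IsIntegrallyClosed.of_equiv (Algebra.TensorProduct.comm Λ D' L).toRingEquiv⟩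

end Normal

section Core

variable (D D' Dsh : Type u) [CommRing D] [IsLocalRing D]
  [CommRing D'] [IsLocalRing D'] [Algebra D D'] [IsLocalHom (algebraMap D D')]
  [Algebra.IsIntegral D D']
  [CommRing Dsh] [IsLocalRing Dsh] [Algebra D Dsh] [IsLocalHom (algebraMap D Dsh)]
  [Hensel.IsStrictHenselization D Dsh]

/-- If `D'` is a normal local domain integral over `D` and `Dsh ⊗ D'` is local, then it is a domain
(it is the strict henselization of `D'`). -/
theorem isDomain_tensor_strict [IsDomain D'] [IsIntegrallyClosed D']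
    [IsLocalRing (Dsh ⊗[D] D')] : IsDomain (Dsh ⊗[D] D') := by
  haveI : HenselianLocalRing Dsh := Hensel.IsStrictHenselization.henselian (R := D)
  haveI : IsSepClosed (ResidueField Dsh) :=
    (Hensel.IsStrictHenselization.isSepClosure (R := D) (S := Dsh)).sep_closed
  haveI : HenselianLocalRing (Dsh ⊗[D] D') :=
    Groth.Agent.H3.henselianLocalRing_of_isIntegral_of_isLocalRing Dsh _
  haveI : IsLocalHom (algebraMap Dsh (Dsh ⊗[D] D')) :=
    isLocalHom_algebraMap_of_isIntegral Dsh _
  haveI : Algebra.IsAlgebraic (ResidueField Dsh) (ResidueField (Dsh ⊗[D] D')) :=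
    Groth.Agent.H47.UnibranchStrict.isAlgebraic_residueField Dsh (Dsh ⊗[D] D')
  haveI : IsSepClosed (ResidueField (Dsh ⊗[D] D')) :=
    Algebra.IsAlgebraic.isSepClosed (F := ResidueField Dsh) (E := ResidueField (Dsh ⊗[D] D'))
  obtain ⟨T, _, _, _, _, hT⟩ := Groth.Agent.S0537.result D'
  haveI := hT
  obtain ⟨σ, hσ⟩ := Groth.Agent.H47.HensTransport.exists_sigma D D' Dsh T
  letI : Algebra D T := ((algebraMap D' T).comp (algebraMap D D')).toAlgebra
  haveI : IsScalarTower D D' T := IsScalarTower.of_algebraMap_eq (fun _ => rfl)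
  letI : Algebra Dsh T := σ.toAlgebra
  haveI : IsScalarTower D Dsh T :=
    IsScalarTower.of_algebraMap_eq (fun a => (RingHom.congr_fun hσ a).symm)
  haveI hQprime : (Ideal.comap (phi D D' Dsh T) (maximalIdeal T)).IsPrime :=
    Ideal.comap_isPrime _ _
  haveI hloc : IsLocalHom (algebraMap Dsh T) :=
    Groth.Agent.H47.HensTransport.isLocalHom_algebraMap_strict D D' Dsh T
  have hcm : (Ideal.comap (phi D D' Dsh T) (maximalIdeal T)).comap
      (algebraMap Dsh (Dsh ⊗[D] D')) = maximalIdeal Dsh := by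
    ext a
    rw [Ideal.mem_comap, Ideal.mem_comap, Algebra.TensorProduct.algebraMap_apply,
      Algebra.algebraMap_self_apply, phi_left, ← Ideal.mem_comap]
    have h4 : (maximalIdeal T).comap (algebraMap Dsh T) = maximalIdeal Dsh :=
      ((IsLocalRing.local_hom_TFAE (algebraMap Dsh T)).out 0 4).mp hloc
    rw [h4]
  have hQmax : (Ideal.comap (phi D D' Dsh T) (maximalIdeal T)).IsMaximal :=
    Ideal.isMaximal_of_isIntegral_of_isMaximal_comap (R := Dsh) _ (by
      rw [hcm]
      exact maximalIdeal.isMaximal Dsh)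
  have hQeq : Ideal.comap (phi D D' Dsh T) (maximalIdeal T) = maximalIdeal (Dsh ⊗[D] D') :=
    IsLocalRing.eq_maximalIdeal hQmax
  haveI hlocQ : IsLocalization.AtPrime (Dsh ⊗[D] D')
      (Ideal.comap (phi D D' Dsh T) (maximalIdeal T)) := by
    refine IsLocalization.of_le_isUnit ?_
    intro x hx
    have hx' : x ∉ Ideal.comap (phi D D' Dsh T) (maximalIdeal T) := hx
    rw [hQeq] at hx'
    exact IsLocalRing.notMem_maximalIdeal.mp hx'
  letI : Algebra (Dsh ⊗[D] D') T := (phi D D' Dsh T).toRingHom.toAlgebra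
  have hψ : ∀ d : Dsh ⊗[D] D', algebraMap (Dsh ⊗[D] D') T
      (algebraMap (Dsh ⊗[D] D') (Dsh ⊗[D] D') d) = phi D D' Dsh T d := fun _ => rfl
  haveI : IsLocalHom (algebraMap (Dsh ⊗[D] D') T) :=
    isLocalHom_algebraMap_loc D D' Dsh T _ rfl (Dsh ⊗[D] D') hψ
  haveI := Groth.Agent.H47.HensTransport.isStrictHenselization_of_tensor_abstract D D' Dsh T
    _ rfl (Dsh ⊗[D] D') hψ
  have hbij := bijective_algebraMap_of_isStrictHenselization (Dsh ⊗[D] D') T
  have hTdom : IsDomain T :=
    ((Groth.Agent.S2748.result D' T).mpr ⟨inferInstance, inferInstance⟩).1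
  haveI := hTdom
  exact Function.Injective.isDomain (algebraMap (Dsh ⊗[D] D') T) hbij.1

end Core

section StrictA

variable (Λ : Type u) [CommRing Λ] [HenselianLocalRing Λ] [IsSepClosed (ResidueField Λ)]
  (W : Type u) [CommRing W] [Algebra Λ W] [Algebra.Smooth Λ W]
  (Q' : Ideal W) [Q'.IsPrime] (hQ' : (maximalIdeal Λ).map (algebraMap Λ W) ≤ Q')
  (L : Type u) [CommRing L] [IsLocalRing L] [Algebra W L] [IsLocalization.AtPrime L Q']
  [Algebra Λ L] [IsScalarTower Λ W L]
  (E : Type u) [CommRing E] [IsLocalRing E] [Algebra L E] [IsLocalHom (algebraMap L E)]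
  [Hensel.IsStrictHenselization L E] [Algebra Λ E] [IsScalarTower Λ L E]

include hQ' in
theorem isLocalHom_base : IsLocalHom (algebraMap Λ L) := by
  constructor
  intro a ha
  by_contra hna
  have h1 : a ∈ maximalIdeal Λ := (IsLocalRing.mem_maximalIdeal a).mpr hna
  have h2 : algebraMap Λ W a ∈ Q' := hQ' (Ideal.mem_map_of_mem _ h1)
  rw [IsScalarTower.algebraMap_apply Λ W L] at ha
  exact ((IsLocalization.AtPrime.isUnit_to_map_iff L Q' _).mp ha) h2

include Q' L in
theorem flat_E : Module.Flat Λ E := by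
  haveI : Module.Flat W L := IsLocalization.flat L Q'.primeCompl
  haveI : Module.Flat Λ L := Module.Flat.trans Λ W L
  haveI : Module.Flat L E :=
    (Groth.Agent.H47.HensNoeth.isIndEtaleLocal_of_isStrictHenselization L E).flat
  exact Module.Flat.trans Λ L E

include hQ' L in
/-- Key: for a normal domain `D'` integral over `Λ`, the extension to `E` of the kernel of
`Λ → D'` is prime. -/
theorem isPrime_map_ker (D' : Type u) [CommRing D'] [IsDomain D'] [IsIntegrallyClosed D']
    [Algebra Λ D'] [Algebra.IsIntegral Λ D'] :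
    ((RingHom.ker (algebraMap Λ D')).map (algebraMap Λ E)).IsPrime := by
  haveI hΛL : IsLocalHom (algebraMap Λ L) := isLocalHom_base Λ W Q' hQ' L
  haveI hΛE : IsLocalHom (algebraMap Λ E) := by
    rw [IsScalarTower.algebraMap_eq Λ L E]
    exact RingHom.isLocalHom_comp _ _
  haveI : Module.Flat Λ E := flat_E Λ W Q' L E
  haveI : IsLocalRing D' := Groth.Agent.H47.Unibranch.isLocalRing_of_isIntegral_of_isDomain Λ D'
  haveI : IsLocalHom (algebraMap Λ D') := isLocalHom_algebraMap_of_isIntegral Λ D'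
  haveI : Algebra.IsAlgebraic (ResidueField Λ) (ResidueField D') :=
    Groth.Agent.H47.UnibranchStrict.isAlgebraic_residueField Λ D'
  haveI : IsPurelyInseparable (ResidueField Λ) (ResidueField D') := inferInstance
  obtain ⟨h1, -, -⟩ := Groth.Agent.S9404.result Λ L D' (Or.inl inferInstance)
  haveI : IsLocalRing (L ⊗[Λ] D') := h1
  obtain ⟨hd, hic⟩ := normal_tensor_right Λ D' W Q' L
  haveI := hd
  haveI := hic
  haveI : IsLocalHom (algebraMap L (L ⊗[Λ] D')) := isLocalHom_algebraMap_of_isIntegral L _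
  obtain ⟨h2, -, -⟩ := Groth.Agent.S9404.result Λ E D' (Or.inl inferInstance)
  haveI : IsLocalRing (E ⊗[Λ] D') := h2
  haveI : IsLocalRing (E ⊗[L] (L ⊗[Λ] D')) :=
    (Algebra.TensorProduct.cancelBaseChange Λ L L E D').symm.toRingEquiv.isLocalRing
  haveI hdom : IsDomain (E ⊗[L] (L ⊗[Λ] D')) := isDomain_tensor_strict L (L ⊗[Λ] D') E
  let ψ : E →+* E ⊗[L] (L ⊗[Λ] D') :=
    (Algebra.TensorProduct.includeLeft : E →ₐ[L] E ⊗[L] (L ⊗[Λ] D')).toRingHom
  have hψ : ∀ e : E, Algebra.TensorProduct.cancelBaseChange Λ L L E D' (ψ e) = e ⊗ₜ[Λ] (1 : D') := by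
    intro e
    show Algebra.TensorProduct.cancelBaseChange Λ L L E D' (e ⊗ₜ[L] ((1 : L) ⊗ₜ[Λ] (1 : D'))) = _
    rw [Algebra.TensorProduct.cancelBaseChange_tmul, one_smul]
  have hker : (RingHom.ker (algebraMap Λ D')).map (algebraMap Λ E) = RingHom.ker ψ := by
    apply le_antisymm
    · rw [Ideal.map_le_iff_le_comap]
      intro a ha
      rw [Ideal.mem_comap, RingHom.mem_ker]
      apply (Algebra.TensorProduct.cancelBaseChange Λ L L E D').injective
      rw [hψ, map_zero, Algebra.algebraMap_eq_smul_one, TensorProduct.smul_tmul,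
        ← Algebra.algebraMap_eq_smul_one, (RingHom.mem_ker).mp ha, TensorProduct.tmul_zero]
    · intro e he
      have h3 : e ⊗ₜ[Λ] (1 : D') = 0 := by
        rw [← hψ, (RingHom.mem_ker).mp he, map_zero]
      exact mem_map_of_tmul_eq_zero Λ E D' e h3
  rw [hker]
  exact RingHom.ker_isPrime ψ

include hQ' L in
/-- **Main theorem.** Primes of a strictly henselian local ring stay prime in the strict
henselization of a local ring of a smooth algebra. -/
theorem isPrime_map_strict (𝔞 : Ideal Λ) [𝔞.IsPrime] :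
    (𝔞.map (algebraMap Λ E)).IsPrime := by
  haveI : IsIntegrallyClosed (integralClosure (Λ ⧸ 𝔞) (FractionRing (Λ ⧸ 𝔞))) :=
    integralClosure.isIntegrallyClosedOfFiniteExtension (FractionRing (Λ ⧸ 𝔞))
  haveI : Algebra.IsIntegral Λ (integralClosure (Λ ⧸ 𝔞) (FractionRing (Λ ⧸ 𝔞))) :=
    Algebra.IsIntegral.trans (Λ ⧸ 𝔞)
  have hinj : Function.Injective
      (algebraMap (Λ ⧸ 𝔞) (integralClosure (Λ ⧸ 𝔞) (FractionRing (Λ ⧸ 𝔞)))) := by
    intro x y hxy
    apply IsFractionRing.injective (Λ ⧸ 𝔞) (FractionRing (Λ ⧸ 𝔞))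
    exact congrArg Subtype.val hxy
  have hk : RingHom.ker (algebraMap Λ (integralClosure (Λ ⧸ 𝔞) (FractionRing (Λ ⧸ 𝔞)))) = 𝔞 := by
    ext a
    rw [RingHom.mem_ker,
      IsScalarTower.algebraMap_apply Λ (Λ ⧸ 𝔞) (integralClosure (Λ ⧸ 𝔞) (FractionRing (Λ ⧸ 𝔞))),
      map_eq_zero_iff _ hinj, Ideal.Quotient.algebraMap_eq, Ideal.Quotient.eq_zero_iff_mem]
  have := isPrime_map_ker Λ W Q' hQ' L E (integralClosure (Λ ⧸ 𝔞) (FractionRing (Λ ⧸ 𝔞)))
  rwa [hk] at this

end StrictA

section Count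

/-- If every minimal prime of `Λ` extends to a prime of the faithfully flat `Λ`-algebra `E`, then
`Λ` and `E` have the same number of minimal primes. -/
theorem bijOn_comap_minimalPrimes (Λ E : Type*) [CommRing Λ] [CommRing E] [Algebra Λ E]
    [Module.FaithfullyFlat Λ E]
    (h : ∀ 𝔞 ∈ minimalPrimes Λ, (𝔞.map (algebraMap Λ E)).IsPrime) :
    Set.BijOn (Ideal.comap (algebraMap Λ E)) (minimalPrimes E) (minimalPrimes Λ) := by
  have hmap : ∀ P ∈ minimalPrimes E, P = (P.comap (algebraMap Λ E)).map (algebraMap Λ E) := by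
    intro P hP
    have h1 := Groth.Agent.H47.HensCompletion.comap_mem_minimalPrimes (S := Λ) hP
    have h2 := h _ h1
    exact le_antisymm (hP.2 ⟨h2, bot_le⟩ Ideal.map_comap_le) Ideal.map_comap_le
  refine ⟨fun P hP => Groth.Agent.H47.HensCompletion.comap_mem_minimalPrimes hP, ?_, ?_⟩
  · intro P₁ hP₁ P₂ hP₂ h12
    have h12' : P₁.comap (algebraMap Λ E) = P₂.comap (algebraMap Λ E) := h12
    rw [hmap P₁ hP₁, hmap P₂ hP₂, h12']
  · intro 𝔞 h𝔞
    obtain ⟨P, hP, hPq⟩ :=
      Groth.Agent.H47.HensCompletion.exists_minimalPrimes_comap_eq (T := E) h𝔞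
    exact ⟨P, hP, hPq⟩

theorem encard_minimalPrimes_eq (Λ E : Type*) [CommRing Λ] [CommRing E] [Algebra Λ E]
    [Module.FaithfullyFlat Λ E]
    (h : ∀ 𝔞 ∈ minimalPrimes Λ, (𝔞.map (algebraMap Λ E)).IsPrime) :
    (minimalPrimes Λ).encard = (minimalPrimes E).encard := by
  have hb := bijOn_comap_minimalPrimes Λ E h
  rw [← hb.image_eq, hb.injOn.encard_image]

end Count

section Rel

variable (R : Type u) [CommRing R] (S : Type u) [CommRing S] [Algebra R S]
  (p : Ideal R) [p.IsPrime] (q : Ideal S) [q.IsPrime] [q.LiesOver p]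
  (Rh : Type u) [CommRing Rh] [IsLocalRing Rh] [Algebra (Localization.AtPrime p) Rh]
  [IsLocalHom (algebraMap (Localization.AtPrime p) Rh)] [Algebra R Rh]
  [IsScalarTower R (Localization.AtPrime p) Rh]
  (Sh : Type u) [CommRing Sh] [IsLocalRing Sh] [Algebra (Localization.AtPrime q) Sh]
  [IsLocalHom (algebraMap (Localization.AtPrime q) Sh)] [Algebra S Sh]
  [IsScalarTower S (Localization.AtPrime q) Sh] [Algebra R Sh] [IsScalarTower R S Sh]
  [Algebra Rh Sh] [IsScalarTower R Rh Sh]
  [Algebra.Smooth R S] [Hensel.IsStrictHenselization (Localization.AtPrime p) Rh]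
  [Hensel.IsStrictHenselization (Localization.AtPrime q) Sh]

include R S p q in
/-- Relative form: `R → S` smooth, `q` over `p`, `Rh`, `Sh` strict henselizations of `R_p`, `S_q`
with a compatible map `Rh → Sh`.  Then `Rh → Sh` is flat and local, and primes of `Rh` extend to
primes of `Sh`. -/
theorem rel_facts : Module.Flat Rh Sh ∧ IsLocalHom (algebraMap Rh Sh) ∧
    ∀ (𝔞 : Ideal Rh) [𝔞.IsPrime], (𝔞.map (algebraMap Rh Sh)).IsPrime := by
  have hmaxR := (Groth.Agent.H47.HensNoeth.isIndEtaleLocal_of_isStrictHenselization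
    (Localization.AtPrime p) Rh).map_max
  haveI hloc : IsLocalHom (algebraMap Rh Sh) :=
    isLocalHom_algebraMap_of_map_eq R S p q Rh Sh hmaxR
  haveI : HenselianLocalRing Rh :=
    Hensel.IsStrictHenselization.henselian (R := Localization.AtPrime p)
  haveI : IsSepClosed (ResidueField Rh) :=
    (Hensel.IsStrictHenselization.isSepClosure (R := Localization.AtPrime p) (S := Rh)).sep_closed
  obtain ⟨Q', hQ'⟩ : ∃ Q' : Ideal (Rh ⊗[R] S),
      Q' = Ideal.comap (phi R S Rh Sh) (maximalIdeal Sh) := ⟨_, rfl⟩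
  haveI : Q'.IsPrime := by
    rw [hQ']
    exact Ideal.comap_isPrime _ _
  have hu : ∀ y : Q'.primeCompl, IsUnit ((phi R S Rh Sh).toRingHom y) :=
    fun y => isUnit_phi_of_notMem R S Rh Sh Q' hQ' y.2
  letI : Algebra (Localization.AtPrime Q') Sh := (IsLocalization.lift hu).toAlgebra
  have hψ : ∀ d : Rh ⊗[R] S, algebraMap (Localization.AtPrime Q') Sh
      (algebraMap (Rh ⊗[R] S) (Localization.AtPrime Q') d) = phi R S Rh Sh d :=
    fun d => IsLocalization.lift_eq hu d
  haveI : IsLocalHom (algebraMap (Localization.AtPrime Q') Sh) :=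
    isLocalHom_algebraMap_loc R S Rh Sh Q' hQ' _ hψ
  haveI := isStrictHenselization_of_tensor R S p q Rh Sh Q' hQ' (Localization.AtPrime Q') hψ
  haveI : IsScalarTower Rh (Localization.AtPrime Q') Sh :=
    IsScalarTower.of_algebraMap_eq (fun a => by
      rw [IsScalarTower.algebraMap_apply Rh (Rh ⊗[R] S) (Localization.AtPrime Q'), hψ,
        Algebra.TensorProduct.algebraMap_apply, Algebra.algebraMap_self_apply, phi_left])
  have hQm : (maximalIdeal Rh).map (algebraMap Rh (Rh ⊗[R] S)) ≤ Q' := by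
    rw [Ideal.map_le_iff_le_comap]
    intro a ha
    rw [Ideal.mem_comap, hQ', Ideal.mem_comap, Algebra.TensorProduct.algebraMap_apply,
      Algebra.algebraMap_self_apply, phi_left]
    exact (IsLocalRing.mem_maximalIdeal _).mpr
      (fun hua => (IsLocalRing.mem_maximalIdeal a).mp ha (hloc.map_nonunit a hua))
  refine ⟨flat_E Rh (Rh ⊗[R] S) Q' (Localization.AtPrime Q') Sh, hloc, ?_⟩
  intro 𝔞 _
  exact isPrime_map_strict Rh (Rh ⊗[R] S) Q' hQm (Localization.AtPrime Q') Sh 𝔞

include R S p q in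
theorem encard_minimalPrimes_rel : (minimalPrimes Rh).encard = (minimalPrimes Sh).encard := by
  obtain ⟨hfl, hloc, hpr⟩ := rel_facts R S p q Rh Sh
  haveI := hfl
  haveI := hloc
  haveI : Module.FaithfullyFlat Rh Sh := Module.FaithfullyFlat.of_flat_of_isLocalHom
  refine encard_minimalPrimes_eq Rh Sh ?_
  intro 𝔞 h𝔞
  haveI : 𝔞.IsPrime := h𝔞.1.1
  exact hpr 𝔞

end Rel

section Kernel

variable (Λ L E D' : Type u) [CommRing Λ] [CommRing L] [CommRing E] [CommRing D']
  [Algebra Λ L] [Algebra L E] [Algebra Λ E] [IsScalarTower Λ L E] [Algebra Λ D']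
  [Module.Flat Λ E]

/-- If `E ⊗[L] (L ⊗[Λ] D')` is a domain and `E` is flat over `Λ`, the extension to `E` of the
kernel of `Λ → D'` is prime. -/
theorem isPrime_map_ker_of_isDomain [IsDomain (E ⊗[L] (L ⊗[Λ] D'))] :
    ((RingHom.ker (algebraMap Λ D')).map (algebraMap Λ E)).IsPrime := by
  let ψ : E →+* E ⊗[L] (L ⊗[Λ] D') :=
    (Algebra.TensorProduct.includeLeft : E →ₐ[L] E ⊗[L] (L ⊗[Λ] D')).toRingHom
  have hψ : ∀ e : E, Algebra.TensorProduct.cancelBaseChange Λ L L E D' (ψ e) = e ⊗ₜ[Λ] (1 : D') := by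
    intro e
    show Algebra.TensorProduct.cancelBaseChange Λ L L E D' (e ⊗ₜ[L] ((1 : L) ⊗ₜ[Λ] (1 : D'))) = _
    rw [Algebra.TensorProduct.cancelBaseChange_tmul, one_smul]
  have hker : (RingHom.ker (algebraMap Λ D')).map (algebraMap Λ E) = RingHom.ker ψ := by
    apply le_antisymm
    · rw [Ideal.map_le_iff_le_comap]
      intro a ha
      rw [Ideal.mem_comap, RingHom.mem_ker]
      apply (Algebra.TensorProduct.cancelBaseChange Λ L L E D').injective
      rw [hψ, map_zero, Algebra.algebraMap_eq_smul_one, TensorProduct.smul_tmul,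
        ← Algebra.algebraMap_eq_smul_one, (RingHom.mem_ker).mp ha, TensorProduct.tmul_zero]
    · intro e he
      have h3 : e ⊗ₜ[Λ] (1 : D') = 0 := by
        rw [← hψ, (RingHom.mem_ker).mp he, map_zero]
      exact mem_map_of_tmul_eq_zero Λ E D' e h3
  rw [hker]
  exact RingHom.ker_isPrime ψ

end Kernel

section HensB

variable (Λ : Type u) [CommRing Λ] [HenselianLocalRing Λ]
  (W : Type u) [CommRing W] [Algebra Λ W] [Algebra.Smooth Λ W]
  (Q' : Ideal W) [Q'.IsPrime]
  (L : Type u) [CommRing L] [IsLocalRing L] [Algebra W L] [IsLocalization.AtPrime L Q']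
  [Algebra Λ L] [IsScalarTower Λ W L] [IsLocalHom (algebraMap Λ L)]
  [IsPurelyInseparable (ResidueField Λ) (ResidueField L)]
  (E : Type u) [CommRing E] [IsLocalRing E] [Algebra L E] [IsLocalHom (algebraMap L E)]
  [Hensel.IsHenselization L E] [Algebra Λ E] [IsScalarTower Λ L E]

include Q' L in
theorem flat_E_hens : Module.Flat Λ E := by
  haveI : Module.Flat W L := IsLocalization.flat L Q'.primeCompl
  haveI : Module.Flat Λ L := Module.Flat.trans Λ W L
  haveI : Module.Flat L E :=
    (Groth.Agent.H47.HensNoeth.isIndEtaleLocal_of_isHenselization L E).flat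
  exact Module.Flat.trans Λ L E

include Q' L in
/-- Henselian analogue of `isPrime_map_ker`, assuming the residue field of `L = W_{Q'}` is purely
inseparable over that of `Λ`. -/
theorem isPrime_map_ker_hens (D' : Type u) [CommRing D'] [IsDomain D'] [IsIntegrallyClosed D']
    [Algebra Λ D'] [Algebra.IsIntegral Λ D'] :
    ((RingHom.ker (algebraMap Λ D')).map (algebraMap Λ E)).IsPrime := by
  haveI hΛE : IsLocalHom (algebraMap Λ E) := by
    rw [IsScalarTower.algebraMap_eq Λ L E]
    exact RingHom.isLocalHom_comp _ _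
  haveI : Module.Flat Λ E := flat_E_hens Λ W Q' L E
  haveI : IsLocalRing D' := Groth.Agent.H47.Unibranch.isLocalRing_of_isIntegral_of_isDomain Λ D'
  haveI : IsLocalHom (algebraMap Λ D') := isLocalHom_algebraMap_of_isIntegral Λ D'
  obtain ⟨h1, -, -⟩ := Groth.Agent.S9404.result Λ L D' (Or.inr inferInstance)
  haveI : IsLocalRing (L ⊗[Λ] D') := h1
  obtain ⟨hd, hic⟩ := normal_tensor_right Λ D' W Q' L
  haveI := hd
  haveI := hic
  haveI : IsLocalHom (algebraMap L (L ⊗[Λ] D')) := isLocalHom_algebraMap_of_isIntegral L _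
  obtain ⟨hloc, hlh, hhens⟩ := Groth.Agent.S2801.result L (L ⊗[Λ] D') E
  haveI := hloc
  haveI := hlh
  haveI := hhens
  have hdom := ((Groth.Agent.S0515.result (L ⊗[Λ] D') ((L ⊗[Λ] D') ⊗[L] E)).mp
    ⟨inferInstance, inferInstance⟩).1
  haveI := hdom
  haveI : IsDomain (E ⊗[L] (L ⊗[Λ] D')) :=
    (Algebra.TensorProduct.comm L E (L ⊗[Λ] D')).toRingEquiv.toMulEquiv.isDomain
  exact isPrime_map_ker_of_isDomain Λ L E D'

include Q' L in
theorem isPrime_map_hens (𝔞 : Ideal Λ) [𝔞.IsPrime] :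
    (𝔞.map (algebraMap Λ E)).IsPrime := by
  haveI : IsIntegrallyClosed (integralClosure (Λ ⧸ 𝔞) (FractionRing (Λ ⧸ 𝔞))) :=
    integralClosure.isIntegrallyClosedOfFiniteExtension (FractionRing (Λ ⧸ 𝔞))
  haveI : Algebra.IsIntegral Λ (integralClosure (Λ ⧸ 𝔞) (FractionRing (Λ ⧸ 𝔞))) :=
    Algebra.IsIntegral.trans (Λ ⧸ 𝔞)
  have hinj : Function.Injective
      (algebraMap (Λ ⧸ 𝔞) (integralClosure (Λ ⧸ 𝔞) (FractionRing (Λ ⧸ 𝔞)))) := by
    intro x y hxy
    apply IsFractionRing.injective (Λ ⧸ 𝔞) (FractionRing (Λ ⧸ 𝔞))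
    exact congrArg Subtype.val hxy
  have hk : RingHom.ker (algebraMap Λ (integralClosure (Λ ⧸ 𝔞) (FractionRing (Λ ⧸ 𝔞)))) = 𝔞 := by
    ext a
    rw [RingHom.mem_ker,
      IsScalarTower.algebraMap_apply Λ (Λ ⧸ 𝔞) (integralClosure (Λ ⧸ 𝔞) (FractionRing (Λ ⧸ 𝔞))),
      map_eq_zero_iff _ hinj, Ideal.Quotient.algebraMap_eq, Ideal.Quotient.eq_zero_iff_mem]
  have := isPrime_map_ker_hens Λ W Q' L E (integralClosure (Λ ⧸ 𝔞) (FractionRing (Λ ⧸ 𝔞)))
  rwa [hk] at this

end HensB

section Base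

variable (Λ : Type u) [CommRing Λ] [IsLocalRing Λ]
  (W : Type u) [CommRing W] [Algebra Λ W]
  (Q' : Ideal W) [Q'.IsPrime] (hQ' : (maximalIdeal Λ).map (algebraMap Λ W) ≤ Q')
  (L : Type u) [CommRing L] [IsLocalRing L] [Algebra W L] [IsLocalization.AtPrime L Q']
  [Algebra Λ L] [IsScalarTower Λ W L]

include hQ' in
theorem isLocalHom_base' : IsLocalHom (algebraMap Λ L) := by
  constructor
  intro a ha
  by_contra hna
  have h1 : a ∈ maximalIdeal Λ := (IsLocalRing.mem_maximalIdeal a).mpr hna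
  have h2 : algebraMap Λ W a ∈ Q' := hQ' (Ideal.mem_map_of_mem _ h1)
  rw [IsScalarTower.algebraMap_apply Λ W L] at ha
  exact ((IsLocalization.AtPrime.isUnit_to_map_iff L Q' _).mp ha) h2

end Base

section RelH

variable (R : Type u) [CommRing R] (S : Type u) [CommRing S] [Algebra R S]
  (p : Ideal R) [p.IsPrime] (q : Ideal S) [q.IsPrime] [q.LiesOver p]
  (Rh : Type u) [CommRing Rh] [IsLocalRing Rh] [Algebra (Localization.AtPrime p) Rh]
  [IsLocalHom (algebraMap (Localization.AtPrime p) Rh)] [Algebra R Rh]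
  [IsScalarTower R (Localization.AtPrime p) Rh]
  (Sh : Type u) [CommRing Sh] [IsLocalRing Sh] [Algebra (Localization.AtPrime q) Sh]
  [IsLocalHom (algebraMap (Localization.AtPrime q) Sh)] [Algebra S Sh]
  [IsScalarTower S (Localization.AtPrime q) Sh] [Algebra R Sh] [IsScalarTower R S Sh]
  [Algebra Rh Sh] [IsScalarTower R Rh Sh]
  [Algebra.Smooth R S] [Hensel.IsHenselization (Localization.AtPrime p) Rh]
  [Hensel.IsHenselization (Localization.AtPrime q) Sh]
  (e : ℕ) [ExpChar (ResidueField (Localization.AtPrime p)) e]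
  (hpi : ∀ x : ResidueField (Localization.AtPrime q), ∃ n : ℕ, x ^ e ^ n ∈
    (ResidueField.map (Localization.localRingHom p q (algebraMap R S) (q.over_def p))).range)

include R S p q in
theorem compat_hens (a : Localization.AtPrime p) :
    algebraMap Rh Sh (algebraMap (Localization.AtPrime p) Rh a) =
      algebraMap (Localization.AtPrime q) Sh
        (Localization.localRingHom p q (algebraMap R S) (q.over_def p) a) := by
  have h : (algebraMap Rh Sh).comp (algebraMap (Localization.AtPrime p) Rh) =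
      (algebraMap (Localization.AtPrime q) Sh).comp
        (Localization.localRingHom p q (algebraMap R S) (q.over_def p)) := by
    apply IsLocalization.ringHom_ext p.primeCompl
    refine RingHom.ext fun r => ?_
    rw [RingHom.comp_apply, RingHom.comp_apply, RingHom.comp_apply, RingHom.comp_apply,
      Localization.localRingHom_to_map,
      ← IsScalarTower.algebraMap_apply R (Localization.AtPrime p) Rh,
      ← IsScalarTower.algebraMap_apply R Rh Sh,
      ← IsScalarTower.algebraMap_apply S (Localization.AtPrime q) Sh,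
      ← IsScalarTower.algebraMap_apply R S Sh]
  exact RingHom.congr_fun h a

include R S p q hpi in
/-- Relative henselian form: `R → S` smooth, `q` over `p` with purely inseparable residue field
extension, `Rh`, `Sh` henselizations of `R_p`, `S_q` with a compatible map `Rh → Sh`. -/
theorem rel_facts_hens : Module.Flat Rh Sh ∧ IsLocalHom (algebraMap Rh Sh) ∧
    ∀ (𝔞 : Ideal Rh) [𝔞.IsPrime], (𝔞.map (algebraMap Rh Sh)).IsPrime := by
  have hmaxR := (Groth.Agent.H47.HensNoeth.isIndEtaleLocal_of_isHenselization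
    (Localization.AtPrime p) Rh).map_max
  haveI hloc : IsLocalHom (algebraMap Rh Sh) :=
    isLocalHom_algebraMap_of_map_eq R S p q Rh Sh hmaxR
  haveI : HenselianLocalRing Rh :=
    Hensel.IsHenselization.henselian (R := Localization.AtPrime p)
  obtain ⟨Q', hQ'⟩ : ∃ Q' : Ideal (Rh ⊗[R] S),
      Q' = Ideal.comap (phi R S Rh Sh) (maximalIdeal Sh) := ⟨_, rfl⟩
  haveI : Q'.IsPrime := by
    rw [hQ']
    exact Ideal.comap_isPrime _ _
  have hu : ∀ y : Q'.primeCompl, IsUnit ((phi R S Rh Sh).toRingHom y) :=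
    fun y => isUnit_phi_of_notMem R S Rh Sh Q' hQ' y.2
  letI : Algebra (Localization.AtPrime Q') Sh := (IsLocalization.lift hu).toAlgebra
  have hψ : ∀ d : Rh ⊗[R] S, algebraMap (Localization.AtPrime Q') Sh
      (algebraMap (Rh ⊗[R] S) (Localization.AtPrime Q') d) = phi R S Rh Sh d :=
    fun d => IsLocalization.lift_eq hu d
  haveI : IsLocalHom (algebraMap (Localization.AtPrime Q') Sh) :=
    isLocalHom_algebraMap_loc R S Rh Sh Q' hQ' _ hψ
  haveI := isHenselization_of_tensor R S p q Rh Sh Q' hQ' (Localization.AtPrime Q') hψ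
  haveI : IsScalarTower Rh (Localization.AtPrime Q') Sh :=
    IsScalarTower.of_algebraMap_eq (fun a => by
      rw [IsScalarTower.algebraMap_apply Rh (Rh ⊗[R] S) (Localization.AtPrime Q'), hψ,
        Algebra.TensorProduct.algebraMap_apply, Algebra.algebraMap_self_apply, phi_left])
  have hQm : (maximalIdeal Rh).map (algebraMap Rh (Rh ⊗[R] S)) ≤ Q' := by
    rw [Ideal.map_le_iff_le_comap]
    intro a ha
    rw [Ideal.mem_comap, hQ', Ideal.mem_comap, Algebra.TensorProduct.algebraMap_apply,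
      Algebra.algebraMap_self_apply, phi_left]
    exact (IsLocalRing.mem_maximalIdeal _).mpr
      (fun hua => (IsLocalRing.mem_maximalIdeal a).mp ha (hloc.map_nonunit a hua))
  haveI : IsLocalHom (algebraMap Rh (Localization.AtPrime Q')) :=
    isLocalHom_base' Rh (Rh ⊗[R] S) Q' hQm (Localization.AtPrime Q')
  haveI : ExpChar (ResidueField Rh) e :=
    (RingHom.expChar_iff (ResidueField.map (algebraMap (Localization.AtPrime p) Rh))
      (RingHom.injective _) e).mp inferInstance
  haveI hpiL : IsPurelyInseparable (ResidueField Rh)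
      (ResidueField (Localization.AtPrime Q')) := by
    rw [isPurelyInseparable_iff_pow_mem (ResidueField Rh) e]
    intro x
    obtain ⟨l, rfl⟩ := residue_surjective x
    obtain ⟨b, hb⟩ := Groth.Agent.H47.Hens.exists_sub_mem_maximalIdeal'
      (Localization.AtPrime q) Sh (algebraMap (Localization.AtPrime Q') Sh l)
    obtain ⟨n, ā, hā⟩ := hpi (residue _ b)
    obtain ⟨a, rfl⟩ := residue_surjective ā
    rw [ResidueField.map_residue] at hā
    refine ⟨n, residue Rh (algebraMap (Localization.AtPrime p) Rh a), ?_⟩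
    rw [ResidueField.algebraMap_residue]
    apply (ResidueField.map (algebraMap (Localization.AtPrime Q') Sh)).injective
    rw [map_pow, ResidueField.map_residue, ResidueField.map_residue]
    have h1 : residue Sh (algebraMap (Localization.AtPrime Q') Sh l) =
        residue Sh (algebraMap (Localization.AtPrime q) Sh b) := by
      rw [← sub_eq_zero, ← map_sub, residue_eq_zero_iff]
      exact hb
    have h2 : algebraMap (Localization.AtPrime Q') Sh
        (algebraMap Rh (Localization.AtPrime Q') (algebraMap (Localization.AtPrime p) Rh a)) =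
        algebraMap (Localization.AtPrime q) Sh
          (Localization.localRingHom p q (algebraMap R S) (q.over_def p) a) := by
      rw [← IsScalarTower.algebraMap_apply Rh (Localization.AtPrime Q') Sh]
      exact compat_hens R S p q Rh Sh a
    rw [h1, h2, ← ResidueField.map_residue (algebraMap (Localization.AtPrime q) Sh),
      ← ResidueField.map_residue (algebraMap (Localization.AtPrime q) Sh), ← map_pow, hā]
  refine ⟨flat_E_hens Rh (Rh ⊗[R] S) Q' (Localization.AtPrime Q') Sh, hloc, ?_⟩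
  intro 𝔞 _
  exact isPrime_map_hens Rh (Rh ⊗[R] S) Q' (Localization.AtPrime Q') Sh 𝔞

include R S p q hpi in
theorem encard_minimalPrimes_rel_hens :
    (minimalPrimes Rh).encard = (minimalPrimes Sh).encard := by
  obtain ⟨hfl, hloc, hpr⟩ := rel_facts_hens R S p q Rh Sh e hpi
  haveI := hfl
  haveI := hloc
  haveI : Module.FaithfullyFlat Rh Sh := Module.FaithfullyFlat.of_flat_of_isLocalHom
  refine encard_minimalPrimes_eq Rh Sh ?_
  intro 𝔞 h𝔞
  haveI : 𝔞.IsPrime := h𝔞.1.1
  exact hpr 𝔞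

end RelH

end Groth.Agent.H47.SmoothBranch
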