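import Mathlib
import Groth.Agent.H47.SmoothBranch
import Groth.Agent.S9413
import Groth.Agent.S9412

/-!
# Minimal primes of the strict henselization of `(A ⊗[k] B)_𝔪` over an algebraically closed field
-/

set_option autoImplicit false
set_option linter.style.haveILetI false
set_option linter.unusedSectionVars false
universe u
open TensorProduct IsLocalRing

namespace Groth.Agent.H47.TensorBranch

open Groth.Agent.H47.HensTensor

section Ker

variable {k A B PA PB : Type*} [Field k] [CommRing A] [CommRing B] [CommRing PA] [CommRing PB]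
  [Algebra k A] [Algebra k B] [Algebra k PA] [Algebra k PB]

/-- Over a field, the kernel of `f ⊗ g` is generated by the kernels of `f` and `g`. -/
theorem ker_map_eq (f : A →ₐ[k] PA) (g : B →ₐ[k] PB) :
    RingHom.ker (Algebra.TensorProduct.map f g) =
      (RingHom.ker f).map (Algebra.TensorProduct.includeLeft : A →ₐ[k] A ⊗[k] B) ⊔
        (RingHom.ker g).map (Algebra.TensorProduct.includeRight : B →ₐ[k] A ⊗[k] B) := by
  have hf : f = (Ideal.kerLiftAlg f).comp (Ideal.Quotient.mkₐ k (RingHom.ker f)) :=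
    AlgHom.ext fun a => rfl
  have hg : g = (Ideal.kerLiftAlg g).comp (Ideal.Quotient.mkₐ k (RingHom.ker g)) :=
    AlgHom.ext fun a => rfl
  have hcomp : Algebra.TensorProduct.map f g =
      (Algebra.TensorProduct.map (Ideal.kerLiftAlg f) (Ideal.kerLiftAlg g)).comp
        (Algebra.TensorProduct.map (Ideal.Quotient.mkₐ k (RingHom.ker f))
          (Ideal.Quotient.mkₐ k (RingHom.ker g))) := by
    rw [← Algebra.TensorProduct.map_comp, ← hf, ← hg]
  have hinj : Function.Injective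
      (Algebra.TensorProduct.map (Ideal.kerLiftAlg f) (Ideal.kerLiftAlg g)) := by
    have h1 := TensorProduct.map_injective_of_flat_flat (R := k)
      (Ideal.kerLiftAlg f).toLinearMap (Ideal.kerLiftAlg g).toLinearMap
      (Ideal.kerLiftAlg_injective f) (Ideal.kerLiftAlg_injective g)
    intro x y hxy
    apply h1
    exact hxy
  have hk := Algebra.TensorProduct.map_ker (Ideal.Quotient.mkₐ k (RingHom.ker f))
    (Ideal.Quotient.mkₐ k (RingHom.ker g)) (Ideal.Quotient.mkₐ_surjective k _)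
    (Ideal.Quotient.mkₐ_surjective k _)
  have hkf : RingHom.ker (Ideal.Quotient.mkₐ k (RingHom.ker f)) = RingHom.ker f := by
    ext x
    rw [RingHom.mem_ker, Ideal.Quotient.mkₐ_eq_mk, Ideal.Quotient.eq_zero_iff_mem]
  have hkg : RingHom.ker (Ideal.Quotient.mkₐ k (RingHom.ker g)) = RingHom.ker g := by
    ext x
    rw [RingHom.mem_ker, Ideal.Quotient.mkₐ_eq_mk, Ideal.Quotient.eq_zero_iff_mem]
  rw [hkf, hkg] at hk
  rw [← hk]
  ext x
  rw [RingHom.mem_ker, RingHom.mem_ker, hcomp, AlgHom.comp_apply]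
  exact ⟨fun h => hinj (h.trans (map_zero _).symm), fun h => by rw [h, map_zero]⟩

end Ker

section Aug

variable (k R : Type u) [Field k] [CommRing R] [IsLocalRing R] [Algebra k R]
  (hR : Function.Bijective (algebraMap k (ResidueField R)))

/-- The augmentation `R → k` of a local `k`-algebra with residue field `k`. -/
noncomputable def aug : R →ₐ[k] k :=
  ((AlgEquiv.ofBijective (Algebra.ofId k (ResidueField R)) hR).symm : ResidueField R →ₐ[k] k).comp
    (IsScalarTower.toAlgHom k R (ResidueField R))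

theorem algebraMap_aug (x : R) :
    algebraMap k (ResidueField R) (aug k R hR x) = residue R x := by
  show (AlgEquiv.ofBijective (Algebra.ofId k (ResidueField R)) hR)
    ((AlgEquiv.ofBijective (Algebra.ofId k (ResidueField R)) hR).symm (residue R x)) = _
  rw [AlgEquiv.apply_symm_apply]

theorem aug_eq_zero_iff (x : R) : aug k R hR x = 0 ↔ x ∈ maximalIdeal R := by
  rw [← residue_eq_zero_iff, ← algebraMap_aug k R hR x, map_eq_zero_iff _ hR.1]

theorem sub_aug_mem (x : R) : x - algebraMap k R (aug k R hR x) ∈ maximalIdeal R := by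
  rw [← aug_eq_zero_iff k R hR, map_sub, AlgHom.commutes, Algebra.algebraMap_self_apply, sub_self]

theorem ker_aug : RingHom.ker (aug k R hR) = maximalIdeal R := by
  ext x
  rw [RingHom.mem_ker, aug_eq_zero_iff]

theorem aug_eq_of_sub_mem (x : R) (c : k) (h : x - algebraMap k R c ∈ maximalIdeal R) :
    aug k R hR x = c := by
  rw [← aug_eq_zero_iff k R hR, map_sub, AlgHom.commutes, Algebra.algebraMap_self_apply,
    sub_eq_zero] at h
  exact h

end Aug

section General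

theorem algebraMap_tmul_one {Λ C T : Type*} [CommRing Λ] [CommRing C] [CommRing T] [Algebra Λ C]
    [Algebra Λ T] (x : Λ) :
    (algebraMap Λ C x) ⊗ₜ[Λ] (1 : T) = (1 : C) ⊗ₜ[Λ] algebraMap Λ T x := by
  rw [Algebra.algebraMap_eq_smul_one, TensorProduct.smul_tmul, ← Algebra.algebraMap_eq_smul_one]

theorem tmul_one_eq_zero_of_mem {Λ C T : Type*} [CommRing Λ] [CommRing C] [CommRing T]
    [Algebra Λ C] [Algebra Λ T] (c : C)
    (hc : c ∈ (RingHom.ker (algebraMap Λ T)).map (algebraMap Λ C)) :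
    c ⊗ₜ[Λ] (1 : T) = 0 := by
  have h1 : (RingHom.ker (algebraMap Λ T)).map (algebraMap Λ C) ≤
      RingHom.ker (Algebra.TensorProduct.includeLeft : C →ₐ[Λ] C ⊗[Λ] T).toRingHom := by
    rw [Ideal.map_le_iff_le_comap]
    intro x hx
    rw [Ideal.mem_comap, RingHom.mem_ker]
    show (algebraMap Λ C x) ⊗ₜ[Λ] (1 : T) = 0
    rw [algebraMap_tmul_one, (RingHom.mem_ker).mp hx, TensorProduct.tmul_zero]
  exact h1 hc

theorem one_tmul_ne_zero {Λ C T : Type*} [CommRing Λ] [CommRing C] [CommRing T] [Algebra Λ C]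
    [Algebra Λ T] [Module.Flat Λ C] (t : T) (ht : Function.Injective (fun x : T => t * x))
    (h1 : (1 : C) ⊗ₜ[Λ] (1 : T) ≠ 0) : (1 : C) ⊗ₜ[Λ] t ≠ 0 := by
  intro h0
  have ht' : Function.Injective (LinearMap.mulLeft Λ t) := ht
  have hinj := Module.Flat.lTensor_preserves_injective_linearMap (M := C)
    (LinearMap.mulLeft Λ t) ht'
  apply h1
  apply hinj
  rw [LinearMap.lTensor_tmul, map_zero, LinearMap.mulLeft_apply, mul_one]
  exact h0

theorem mul_tmul_one_injective {k PA PB : Type*} [Field k] [CommRing PA] [IsDomain PA]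
    [CommRing PB] [Algebra k PA] [Algebra k PB] (a' : PA) (ha' : a' ≠ 0) :
    Function.Injective (fun x : PA ⊗[k] PB => (a' ⊗ₜ[k] (1 : PB)) * x) := by
  have h1 : Function.Injective (LinearMap.mulLeft k a') := mul_right_injective₀ ha'
  have h2 := Module.Flat.rTensor_preserves_injective_linearMap (M := PB)
    (LinearMap.mulLeft k a') h1
  have h3 : ∀ x : PA ⊗[k] PB, (LinearMap.mulLeft k a').rTensor PB x = (a' ⊗ₜ[k] (1 : PB)) * x := by
    intro x
    induction x using TensorProduct.induction_on with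
    | zero => rw [map_zero, mul_zero]
    | tmul x y =>
      rw [LinearMap.rTensor_tmul, LinearMap.mulLeft_apply, Algebra.TensorProduct.tmul_mul_tmul,
        one_mul]
    | add x y hx hy => rw [map_add, hx, hy, mul_add]
  intro x y hxy
  apply h2
  rw [h3, h3]
  exact hxy

theorem mul_one_tmul_injective {k PA PB : Type*} [Field k] [CommRing PA] [CommRing PB]
    [IsDomain PB] [Algebra k PA] [Algebra k PB] (b' : PB) (hb' : b' ≠ 0) :
    Function.Injective (fun x : PA ⊗[k] PB => ((1 : PA) ⊗ₜ[k] b') * x) := by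
  have h1 : Function.Injective (LinearMap.mulLeft k b') := mul_right_injective₀ hb'
  have h2 := Module.Flat.lTensor_preserves_injective_linearMap (M := PA)
    (LinearMap.mulLeft k b') h1
  have h3 : ∀ x : PA ⊗[k] PB, (LinearMap.mulLeft k b').lTensor PA x = ((1 : PA) ⊗ₜ[k] b') * x := by
    intro x
    induction x using TensorProduct.induction_on with
    | zero => rw [map_zero, mul_zero]
    | tmul x y =>
      rw [LinearMap.lTensor_tmul, LinearMap.mulLeft_apply, Algebra.TensorProduct.tmul_mul_tmul,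
        one_mul]
    | add x y hx hy => rw [map_add, hx, hy, mul_add]
  intro x y hxy
  apply h2
  rw [h3, h3]
  exact hxy

/-- A normal domain integral over `A` with kernel a given prime. -/
theorem exists_normal_cover (A : Type u) [CommRing A] (𝔞 : Ideal A) [𝔞.IsPrime] :
    ∃ (PA : Type u) (_ : CommRing PA) (_ : IsDomain PA) (_ : IsIntegrallyClosed PA)
      (_ : Algebra A PA) (_ : Algebra.IsIntegral A PA), RingHom.ker (algebraMap A PA) = 𝔞 := by
  letI : Algebra A (integralClosure (A ⧸ 𝔞) (FractionRing (A ⧸ 𝔞))) :=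
    ((algebraMap (A ⧸ 𝔞) (integralClosure (A ⧸ 𝔞) (FractionRing (A ⧸ 𝔞)))).comp
      (Ideal.Quotient.mk 𝔞)).toAlgebra
  haveI : IsScalarTower A (A ⧸ 𝔞) (integralClosure (A ⧸ 𝔞) (FractionRing (A ⧸ 𝔞))) :=
    IsScalarTower.of_algebraMap_eq (fun _ => rfl)
  haveI : Algebra.IsIntegral A (A ⧸ 𝔞) :=
    Algebra.isIntegral_of_surjective Ideal.Quotient.mk_surjective
  haveI : Algebra.IsIntegral A (integralClosure (A ⧸ 𝔞) (FractionRing (A ⧸ 𝔞))) :=
    Algebra.IsIntegral.trans (A ⧸ 𝔞)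
  haveI : IsIntegrallyClosed (integralClosure (A ⧸ 𝔞) (FractionRing (A ⧸ 𝔞))) :=
    integralClosure.isIntegrallyClosedOfFiniteExtension (FractionRing (A ⧸ 𝔞))
  refine ⟨integralClosure (A ⧸ 𝔞) (FractionRing (A ⧸ 𝔞)), inferInstance, inferInstance,
    inferInstance, inferInstance, inferInstance, ?_⟩
  ext a
  rw [RingHom.mem_ker]
  show algebraMap (A ⧸ 𝔞) (integralClosure (A ⧸ 𝔞) (FractionRing (A ⧸ 𝔞)))
    (Ideal.Quotient.mk 𝔞 a) = 0 ↔ _
  rw [← Ideal.Quotient.eq_zero_iff_mem]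
  constructor
  · intro h
    apply IsFractionRing.injective (A ⧸ 𝔞) (FractionRing (A ⧸ 𝔞))
    rw [map_zero]
    exact congrArg Subtype.val h
  · intro h
    rw [h, map_zero]

end General

section Cover

variable (k : Type u) [Field k] [IsAlgClosed k]
  (R : Type u) [CommRing R] [HenselianLocalRing R] [Algebra k R]
  (hR : Function.Bijective (algebraMap k (ResidueField R)))
  (P : Type u) [CommRing P] [IsDomain P] [Algebra R P] [Algebra.IsIntegral R P]
  [Algebra k P] [IsScalarTower k R P]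

variable [IsLocalRing P]

theorem isLocalHom_cover : IsLocalHom (algebraMap R P) :=
  isLocalHom_algebraMap_of_isIntegral R P

theorem map_mem_cover {r : R} (hr : r ∈ maximalIdeal R) : algebraMap R P r ∈ maximalIdeal P := by
  haveI := isLocalHom_cover R P
  rw [IsLocalRing.mem_maximalIdeal, map_mem_nonunits_iff]
  exact hr

include hR in
theorem residue_cover (r : R) :
    residue P (algebraMap R P r) = algebraMap k (ResidueField P) (aug k R hR r) := by
  have h1 := map_mem_cover R P (sub_aug_mem k R hR r)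
  rw [← residue_eq_zero_iff, map_sub, map_sub, sub_eq_zero,
    ← IsScalarTower.algebraMap_apply k R P] at h1
  rw [h1]
  rfl

include hR in
theorem bijective_cover : Function.Bijective (algebraMap k (ResidueField P)) := by
  refine ⟨(algebraMap k (ResidueField P)).injective, ?_⟩
  haveI : Algebra.IsIntegral k (ResidueField P) := by
    refine ⟨fun y => ?_⟩
    obtain ⟨x, rfl⟩ := residue_surjective y
    have hx : IsIntegral R x := Algebra.IsIntegral.isIntegral x
    refine IsIntegral.map_of_comp_eq (aug k R hR : R →+* k) (residue P) ?_ hx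
    ext r
    rw [RingHom.comp_apply, RingHom.comp_apply]
    exact (residue_cover k R hR P r).symm
  exact IsAlgClosed.algebraMap_bijective_of_isIntegral.2

theorem aug_cover (hP : Function.Bijective (algebraMap k (ResidueField P))) (r : R) :
    aug k P hP (algebraMap R P r) = aug k R hR r := by
  apply aug_eq_of_sub_mem
  have h1 := map_mem_cover R P (sub_aug_mem k R hR r)
  rwa [map_sub, ← IsScalarTower.algebraMap_apply k R P] at h1

/-- A prime of the cover whose contraction contains the maximal ideal contains the maximal ideal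
of the cover. -/
theorem maximalIdeal_le_of_cover (𝔭 : Ideal P) [𝔭.IsPrime]
    (h : maximalIdeal R ≤ 𝔭.comap (algebraMap R P)) : maximalIdeal P ≤ 𝔭 := by
  have h1 : 𝔭.comap (algebraMap R P) = maximalIdeal R :=
    ((maximalIdeal.isMaximal R).eq_of_le (Ideal.comap_ne_top _ (Ideal.IsPrime.ne_top ‹_›)) h).symm
  have h2 : 𝔭.IsMaximal := Ideal.isMaximal_of_isIntegral_of_isMaximal_comap (R := R) 𝔭 (by
    rw [h1]
    exact maximalIdeal.isMaximal R)
  rw [IsLocalRing.eq_maximalIdeal h2]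

end Cover

section Aug2

variable (k : Type u) [Field k] (R₁ R₂ : Type u) [CommRing R₁] [CommRing R₂] [IsLocalRing R₁]
  [IsLocalRing R₂] [Algebra k R₁] [Algebra k R₂]
  (h₁ : Function.Bijective (algebraMap k (ResidueField R₁)))
  (h₂ : Function.Bijective (algebraMap k (ResidueField R₂)))

/-- The augmentation of `R₁ ⊗[k] R₂`. -/
noncomputable def aug2 : R₁ ⊗[k] R₂ →ₐ[k] k :=
  (Algebra.TensorProduct.lid k k : k ⊗[k] k →ₐ[k] k).comp
    (Algebra.TensorProduct.map (aug k R₁ h₁) (aug k R₂ h₂))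

theorem aug2_tmul (x : R₁) (y : R₂) :
    aug2 k R₁ R₂ h₁ h₂ (x ⊗ₜ[k] y) = aug k R₁ h₁ x * aug k R₂ h₂ y := by
  show Algebra.TensorProduct.lid k k
    (Algebra.TensorProduct.map (aug k R₁ h₁) (aug k R₂ h₂) (x ⊗ₜ[k] y)) = _
  rw [Algebra.TensorProduct.map_tmul, Algebra.TensorProduct.lid_tmul, smul_eq_mul]

theorem ker_aug2 : RingHom.ker (aug2 k R₁ R₂ h₁ h₂) =
    (maximalIdeal R₁).map (Algebra.TensorProduct.includeLeft : R₁ →ₐ[k] R₁ ⊗[k] R₂) ⊔
      (maximalIdeal R₂).map (Algebra.TensorProduct.includeRight : R₂ →ₐ[k] R₁ ⊗[k] R₂) := by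
  rw [← ker_aug k R₁ h₁, ← ker_aug k R₂ h₂, ← ker_map_eq]
  ext x
  rw [RingHom.mem_ker, RingHom.mem_ker]
  show Algebra.TensorProduct.lid k k
    (Algebra.TensorProduct.map (aug k R₁ h₁) (aug k R₂ h₂) x) = 0 ↔ _
  rw [map_eq_zero_iff _ (Algebra.TensorProduct.lid k k).injective]

theorem sub_aug2_mem (x : R₁ ⊗[k] R₂) :
    x - algebraMap k (R₁ ⊗[k] R₂) (aug2 k R₁ R₂ h₁ h₂ x) ∈ RingHom.ker (aug2 k R₁ R₂ h₁ h₂) := by
  rw [RingHom.mem_ker, map_sub, AlgHom.commutes, Algebra.algebraMap_self_apply, sub_self]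

theorem ker_aug2_isMaximal : (RingHom.ker (aug2 k R₁ R₂ h₁ h₂)).IsMaximal :=
  RingHom.ker_isMaximal_of_surjective _ (fun c => ⟨algebraMap k _ c, by
    rw [AlgHom.commutes, Algebra.algebraMap_self_apply]⟩)

end Aug2

section Main

variable (k : Type u) [Field k] [IsAlgClosed k]
  (A B : Type u) [CommRing A] [CommRing B] [HenselianLocalRing A] [HenselianLocalRing B]
  [Algebra k A] [Algebra k B]
  (hA : Function.Bijective (algebraMap k (ResidueField A)))
  (hB : Function.Bijective (algebraMap k (ResidueField B)))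
  (PA PB : Type u) [CommRing PA] [CommRing PB] [IsDomain PA] [IsDomain PB]
  [IsIntegrallyClosed PA] [IsIntegrallyClosed PB]
  [Algebra A PA] [Algebra B PB] [Algebra.IsIntegral A PA] [Algebra.IsIntegral B PB]
  [Algebra k PA] [Algebra k PB] [IsScalarTower k A PA] [IsScalarTower k B PB]
  [IsLocalRing PA] [IsLocalRing PB]
  (hPA : Function.Bijective (algebraMap k (ResidueField PA)))
  (hPB : Function.Bijective (algebraMap k (ResidueField PB)))

/-- The map `A ⊗ B → PA ⊗ PB`. -/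
noncomputable abbrev gmap : A ⊗[k] B →ₐ[k] PA ⊗[k] PB :=
  Algebra.TensorProduct.map (IsScalarTower.toAlgHom k A PA) (IsScalarTower.toAlgHom k B PB)

/-- `PA ⊗ PB` as an algebra over `A ⊗ B`. -/
@[reducible] noncomputable def algT : Algebra (A ⊗[k] B) (PA ⊗[k] PB) := (gmap k A B PA PB).toRingHom.toAlgebra

attribute [local instance low] algT

theorem algebraMap_T_apply (x : A ⊗[k] B) :
    algebraMap (A ⊗[k] B) (PA ⊗[k] PB) x = gmap k A B PA PB x := rfl

theorem algebraMap_T_tmul (a : A) (b : B) :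
    algebraMap (A ⊗[k] B) (PA ⊗[k] PB) (a ⊗ₜ[k] b) = algebraMap A PA a ⊗ₜ[k] algebraMap B PB b :=
  rfl

theorem isScalarTower_T : IsScalarTower k (A ⊗[k] B) (PA ⊗[k] PB) :=
  IsScalarTower.of_algebraMap_eq (fun c => ((gmap k A B PA PB).commutes c).symm)

theorem isIntegral_T : Algebra.IsIntegral (A ⊗[k] B) (PA ⊗[k] PB) := by
  refine ⟨fun x => ?_⟩
  induction x using TensorProduct.induction_on with
  | zero => exact isIntegral_zero
  | tmul x y =>
    have h1 : IsIntegral (A ⊗[k] B) (x ⊗ₜ[k] (1 : PB)) := by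
      refine IsIntegral.map_of_comp_eq
        (Algebra.TensorProduct.includeLeft : A →ₐ[k] A ⊗[k] B).toRingHom
        (Algebra.TensorProduct.includeLeft : PA →ₐ[k] PA ⊗[k] PB).toRingHom ?_
        (Algebra.IsIntegral.isIntegral (R := A) x)
      ext a
      show algebraMap (A ⊗[k] B) (PA ⊗[k] PB) (a ⊗ₜ[k] 1) = algebraMap A PA a ⊗ₜ[k] 1
      rw [algebraMap_T_tmul, map_one]
    have h2 : IsIntegral (A ⊗[k] B) ((1 : PA) ⊗ₜ[k] y) := by
      refine IsIntegral.map_of_comp_eq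
        (Algebra.TensorProduct.includeRight : B →ₐ[k] A ⊗[k] B).toRingHom
        (Algebra.TensorProduct.includeRight : PB →ₐ[k] PA ⊗[k] PB).toRingHom ?_
        (Algebra.IsIntegral.isIntegral (R := B) y)
      ext b
      show algebraMap (A ⊗[k] B) (PA ⊗[k] PB) (1 ⊗ₜ[k] b) = 1 ⊗ₜ[k] algebraMap B PB b
      rw [algebraMap_T_tmul, map_one]
    have h3 := h1.mul h2
    rwa [Algebra.TensorProduct.tmul_mul_tmul, mul_one, one_mul] at h3
  | add x y hx hy => exact hx.add hy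

omit [IsLocalRing PA] [IsLocalRing PB] in
theorem isGeomNormal_of_isAlgClosed (P : Type u) [CommRing P] [IsDomain P] [IsIntegrallyClosed P]
    [Algebra k P] : EGA4.IsGeomNormal k P := by
  intro k' _ _ hfin
  haveI := hfin
  have hbij : Function.Bijective (algebraMap k k') :=
    IsAlgClosed.algebraMap_bijective_of_isIntegral
  let e₁ : k ≃ₐ[k] k' := AlgEquiv.ofBijective (Algebra.ofId k k') hbij
  let e₂ : k' ⊗[k] P ≃ₐ[k] k ⊗[k] P := Algebra.TensorProduct.congr e₁.symm AlgEquiv.refl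
  let e₃ : k ⊗[k] P ≃ₐ[k] P := Algebra.TensorProduct.lid k P
  exact Groth.Agent.H25.NormalElem.isNormalRing_of_ringEquiv (e₂.trans e₃).symm.toRingEquiv
    (Groth.Agent.H25.NormalElem.isNormalRing_of_isIntegrallyClosed P)

theorem isNormalRing_T : EGA4.IsNormalRing (PA ⊗[k] PB) :=
  Groth.Agent.S9413.result k PA PB (isGeomNormal_of_isAlgClosed k PA)
    (Groth.Agent.H25.NormalElem.isNormalRing_of_isIntegrallyClosed PB)

theorem ker_algebraMap_T : RingHom.ker (algebraMap (A ⊗[k] B) (PA ⊗[k] PB)) =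
    (RingHom.ker (algebraMap A PA)).map
        (Algebra.TensorProduct.includeLeft : A →ₐ[k] A ⊗[k] B) ⊔
      (RingHom.ker (algebraMap B PB)).map
        (Algebra.TensorProduct.includeRight : B →ₐ[k] A ⊗[k] B) :=
  ker_map_eq (IsScalarTower.toAlgHom k A PA) (IsScalarTower.toAlgHom k B PB)

theorem aug2_algebraMap_T (x : A ⊗[k] B) :
    aug2 k PA PB hPA hPB (algebraMap (A ⊗[k] B) (PA ⊗[k] PB) x) = aug2 k A B hA hB x := by
  induction x using TensorProduct.induction_on with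
  | zero => rw [map_zero, map_zero, map_zero]
  | tmul a b =>
    rw [algebraMap_T_tmul, aug2_tmul, aug2_tmul, aug_cover k A hA PA hPA, aug_cover k B hB PB hPB]
  | add x y hx hy => rw [map_add, map_add, map_add, hx, hy]

variable (𝔪 : Ideal (A ⊗[k] B)) [𝔪.IsPrime]
  (h𝔪 : 𝔪 = (maximalIdeal A).map (Algebra.TensorProduct.includeLeft : A →ₐ[k] A ⊗[k] B) ⊔
      (maximalIdeal B).map (Algebra.TensorProduct.includeRight : B →ₐ[k] A ⊗[k] B))

include h𝔪 in
theorem ker_aug2_eq : RingHom.ker (aug2 k A B hA hB) = 𝔪 := by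
  rw [ker_aug2, h𝔪]

attribute [local instance] Algebra.TensorProduct.rightAlgebra

include hA hB h𝔪 in
theorem isUnit_aug2_of_mem (y : PA ⊗[k] PB)
    (hy : y ∈ Algebra.algebraMapSubmonoid (PA ⊗[k] PB) 𝔪.primeCompl) :
    IsUnit (aug2 k PA PB hPA hPB y) := by
  obtain ⟨s, hs, rfl⟩ := hy
  rw [aug2_algebraMap_T k A B hA hB PA PB hPA hPB, isUnit_iff_ne_zero]
  intro h0
  apply hs
  show s ∈ 𝔪
  rw [← ker_aug2_eq k A B hA hB 𝔪 h𝔪]
  exact h0

/-- The augmentation of `N = L ⊗ T`. -/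
noncomputable def augN :
    Localization.AtPrime 𝔪 ⊗[A ⊗[k] B] (PA ⊗[k] PB) →+* k :=
  IsLocalization.lift (M := Algebra.algebraMapSubmonoid (PA ⊗[k] PB) 𝔪.primeCompl)
    (g := (aug2 k PA PB hPA hPB : PA ⊗[k] PB →+* k))
    (fun y => isUnit_aug2_of_mem k A B hA hB PA PB hPA hPB 𝔪 h𝔪 y y.2)

theorem augN_algebraMap (t : PA ⊗[k] PB) :
    augN k A B hA hB PA PB hPA hPB 𝔪 h𝔪
      (algebraMap (PA ⊗[k] PB) (Localization.AtPrime 𝔪 ⊗[A ⊗[k] B] (PA ⊗[k] PB)) t) =
      aug2 k PA PB hPA hPB t :=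
  IsLocalization.lift_eq _ _

theorem augN_surjective : Function.Surjective (augN k A B hA hB PA PB hPA hPB 𝔪 h𝔪) := by
  intro c
  refine ⟨algebraMap (PA ⊗[k] PB) _ (algebraMap k (PA ⊗[k] PB) c), ?_⟩
  rw [augN_algebraMap, AlgHom.commutes, Algebra.algebraMap_self_apply]

theorem square_N (x : A ⊗[k] B) :
    algebraMap (PA ⊗[k] PB) (Localization.AtPrime 𝔪 ⊗[A ⊗[k] B] (PA ⊗[k] PB))
      (algebraMap (A ⊗[k] B) (PA ⊗[k] PB) x) =
    algebraMap (Localization.AtPrime 𝔪) (Localization.AtPrime 𝔪 ⊗[A ⊗[k] B] (PA ⊗[k] PB))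
      (algebraMap (A ⊗[k] B) (Localization.AtPrime 𝔪) x) :=
  (IsScalarTower.algebraMap_apply (A ⊗[k] B) (PA ⊗[k] PB) _ x).symm.trans
    (IsScalarTower.algebraMap_apply (A ⊗[k] B) (Localization.AtPrime 𝔪) _ x)

include h𝔪 in
theorem comap_N_left (M : Ideal (Localization.AtPrime 𝔪 ⊗[A ⊗[k] B] (PA ⊗[k] PB))) [M.IsMaximal] :
    maximalIdeal PA ≤ (M.comap (algebraMap (PA ⊗[k] PB) _)).comap
      (Algebra.TensorProduct.includeLeft : PA →ₐ[k] PA ⊗[k] PB).toRingHom := by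
  haveI : Algebra.IsIntegral (A ⊗[k] B) (PA ⊗[k] PB) := isIntegral_T k A B PA PB
  haveI : M.IsPrime := Ideal.IsMaximal.isPrime ‹_›
  have hmax : (M.comap (algebraMap (Localization.AtPrime 𝔪)
      (Localization.AtPrime 𝔪 ⊗[A ⊗[k] B] (PA ⊗[k] PB)))).IsMaximal :=
    Ideal.isMaximal_comap_of_isIntegral_of_isMaximal (R := Localization.AtPrime 𝔪)
      (S := Localization.AtPrime 𝔪 ⊗[A ⊗[k] B] (PA ⊗[k] PB)) M
  have hML : M.comap (algebraMap (Localization.AtPrime 𝔪)
      (Localization.AtPrime 𝔪 ⊗[A ⊗[k] B] (PA ⊗[k] PB))) = maximalIdeal _ :=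
    IsLocalRing.eq_maximalIdeal hmax
  apply maximalIdeal_le_of_cover A PA
  intro a ha
  rw [Ideal.mem_comap, Ideal.mem_comap, Ideal.mem_comap]
  have h1 : (Algebra.TensorProduct.includeLeft : PA →ₐ[k] PA ⊗[k] PB).toRingHom (algebraMap A PA a) =
      algebraMap (A ⊗[k] B) (PA ⊗[k] PB) (a ⊗ₜ[k] 1) := by
    rw [algebraMap_T_tmul, map_one]
    rfl
  rw [h1, square_N, ← Ideal.mem_comap, hML, IsLocalization.AtPrime.to_map_mem_maximal_iff _ 𝔪, h𝔪]
  exact Ideal.mem_sup_left (Ideal.mem_map_of_mem _ ha)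

include h𝔪 in
theorem comap_N_right (M : Ideal (Localization.AtPrime 𝔪 ⊗[A ⊗[k] B] (PA ⊗[k] PB))) [M.IsMaximal] :
    maximalIdeal PB ≤ (M.comap (algebraMap (PA ⊗[k] PB) _)).comap
      (Algebra.TensorProduct.includeRight : PB →ₐ[k] PA ⊗[k] PB).toRingHom := by
  haveI : Algebra.IsIntegral (A ⊗[k] B) (PA ⊗[k] PB) := isIntegral_T k A B PA PB
  haveI : M.IsPrime := Ideal.IsMaximal.isPrime ‹_›
  have hmax : (M.comap (algebraMap (Localization.AtPrime 𝔪)
      (Localization.AtPrime 𝔪 ⊗[A ⊗[k] B] (PA ⊗[k] PB)))).IsMaximal :=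
    Ideal.isMaximal_comap_of_isIntegral_of_isMaximal (R := Localization.AtPrime 𝔪)
      (S := Localization.AtPrime 𝔪 ⊗[A ⊗[k] B] (PA ⊗[k] PB)) M
  have hML : M.comap (algebraMap (Localization.AtPrime 𝔪)
      (Localization.AtPrime 𝔪 ⊗[A ⊗[k] B] (PA ⊗[k] PB))) = maximalIdeal _ :=
    IsLocalRing.eq_maximalIdeal hmax
  apply maximalIdeal_le_of_cover B PB
  intro b hb
  rw [Ideal.mem_comap, Ideal.mem_comap, Ideal.mem_comap]
  have h1 : (Algebra.TensorProduct.includeRight : PB →ₐ[k] PA ⊗[k] PB).toRingHom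
      (algebraMap B PB b) = algebraMap (A ⊗[k] B) (PA ⊗[k] PB) (1 ⊗ₜ[k] b) := by
    rw [algebraMap_T_tmul, map_one]
    rfl
  rw [h1, square_N, ← Ideal.mem_comap, hML, IsLocalization.AtPrime.to_map_mem_maximal_iff _ 𝔪, h𝔪]
  exact Ideal.mem_sup_right (Ideal.mem_map_of_mem _ hb)

theorem ker_augN_le (M : Ideal (Localization.AtPrime 𝔪 ⊗[A ⊗[k] B] (PA ⊗[k] PB))) [M.IsMaximal] :
    RingHom.ker (augN k A B hA hB PA PB hPA hPB 𝔪 h𝔪) ≤ M := by
  intro x hx
  obtain ⟨t, s, rfl⟩ := IsLocalization.exists_mk'_eq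
    (Algebra.algebraMapSubmonoid (PA ⊗[k] PB) 𝔪.primeCompl) x
  have h1 : aug2 k PA PB hPA hPB t = 0 := by
    have h2 := congrArg (augN k A B hA hB PA PB hPA hPB 𝔪 h𝔪)
      (IsLocalization.mk'_spec (Localization.AtPrime 𝔪 ⊗[A ⊗[k] B] (PA ⊗[k] PB)) t s)
    rw [map_mul, (RingHom.mem_ker).mp hx, zero_mul, augN_algebraMap] at h2
    exact h2.symm
  have h3 : t ∈ RingHom.ker (aug2 k PA PB hPA hPB) := h1
  rw [ker_aug2] at h3
  have h4 : (maximalIdeal PA).map (Algebra.TensorProduct.includeLeft : PA →ₐ[k] PA ⊗[k] PB) ⊔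
      (maximalIdeal PB).map (Algebra.TensorProduct.includeRight : PB →ₐ[k] PA ⊗[k] PB) ≤
      M.comap (algebraMap (PA ⊗[k] PB) _) :=
    sup_le (Ideal.map_le_iff_le_comap.mpr (comap_N_left k A B PA PB 𝔪 h𝔪 M))
      (Ideal.map_le_iff_le_comap.mpr (comap_N_right k A B PA PB 𝔪 h𝔪 M))
  have h5 := h4 h3
  rw [Ideal.mem_comap] at h5
  rw [IsLocalization.mk'_eq_mul_mk'_one]
  exact M.mul_mem_right _ h5

include hA hB hPA hPB h𝔪 in
theorem isLocalRing_N : IsLocalRing (Localization.AtPrime 𝔪 ⊗[A ⊗[k] B] (PA ⊗[k] PB)) := by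
  haveI : Nontrivial (Localization.AtPrime 𝔪 ⊗[A ⊗[k] B] (PA ⊗[k] PB)) :=
    RingHom.domain_nontrivial (augN k A B hA hB PA PB hPA hPB 𝔪 h𝔪)
  have key : ∀ n : Localization.AtPrime 𝔪 ⊗[A ⊗[k] B] (PA ⊗[k] PB),
      n ∈ nonunits _ → augN k A B hA hB PA PB hPA hPB 𝔪 h𝔪 n = 0 := by
    intro n hn
    obtain ⟨M, hM, hnM⟩ := exists_max_ideal_of_mem_nonunits hn
    haveI := hM
    have hle := ker_augN_le k A B hA hB PA PB hPA hPB 𝔪 h𝔪 M
    have hmax : (RingHom.ker (augN k A B hA hB PA PB hPA hPB 𝔪 h𝔪)).IsMaximal :=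
      RingHom.ker_isMaximal_of_surjective _ (augN_surjective k A B hA hB PA PB hPA hPB 𝔪 h𝔪)
    have heq : RingHom.ker (augN k A B hA hB PA PB hPA hPB 𝔪 h𝔪) = M :=
      hmax.eq_of_le hM.ne_top hle
    rw [← heq] at hnM
    exact hnM
  refine IsLocalRing.of_nonunits_add ?_
  intro a b ha hb hu
  have h0 : augN k A B hA hB PA PB hPA hPB 𝔪 h𝔪 (a + b) = 0 := by
    rw [map_add, key a ha, key b hb, add_zero]
  exact (hu.map (augN k A B hA hB PA PB hPA hPB 𝔪 h𝔪)).ne_zero h0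

theorem mem_maximalIdeal_N_iff [IsLocalRing (Localization.AtPrime 𝔪 ⊗[A ⊗[k] B] (PA ⊗[k] PB))]
    (n : Localization.AtPrime 𝔪 ⊗[A ⊗[k] B] (PA ⊗[k] PB)) :
    n ∈ maximalIdeal _ ↔ augN k A B hA hB PA PB hPA hPB 𝔪 h𝔪 n = 0 := by
  have hmax : (RingHom.ker (augN k A B hA hB PA PB hPA hPB 𝔪 h𝔪)).IsMaximal :=
    RingHom.ker_isMaximal_of_surjective _ (augN_surjective k A B hA hB PA PB hPA hPB 𝔪 h𝔪)
  rw [← IsLocalRing.eq_maximalIdeal hmax, RingHom.mem_ker]

variable (C : Type u) [CommRing C] [IsLocalRing C] [Algebra (Localization.AtPrime 𝔪) C]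
  [IsLocalHom (algebraMap (Localization.AtPrime 𝔪) C)]
  [Hensel.IsStrictHenselization (Localization.AtPrime 𝔪) C]
  [Algebra (A ⊗[k] B) C] [IsScalarTower (A ⊗[k] B) (Localization.AtPrime 𝔪) C]

include 𝔪 in
theorem flat_C : Module.Flat (A ⊗[k] B) C := by
  haveI : Module.Flat (A ⊗[k] B) (Localization.AtPrime 𝔪) :=
    IsLocalization.flat (Localization.AtPrime 𝔪) 𝔪.primeCompl
  haveI : Module.Flat (Localization.AtPrime 𝔪) C :=
    (Groth.Agent.H47.HensNoeth.isIndEtaleLocal_of_isStrictHenselization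
      (Localization.AtPrime 𝔪) C).flat
  exact Module.Flat.trans (A ⊗[k] B) (Localization.AtPrime 𝔪) C

include hA hB hPA hPB h𝔪 in
/-- The extension to `C` of the kernel of `A ⊗ B → PA ⊗ PB` is prime. -/
theorem isPrime_map_ker_T :
    ((RingHom.ker (algebraMap (A ⊗[k] B) (PA ⊗[k] PB))).map (algebraMap (A ⊗[k] B) C)).IsPrime := by
  haveI hNloc : IsLocalRing (Localization.AtPrime 𝔪 ⊗[A ⊗[k] B] (PA ⊗[k] PB)) :=
    isLocalRing_N k A B hA hB PA PB hPA hPB 𝔪 h𝔪
  have hnorm : EGA4.IsNormalRing (Localization.AtPrime 𝔪 ⊗[A ⊗[k] B] (PA ⊗[k] PB)) :=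
    Groth.Agent.S9412.isNormalRing_of_isLocalization
      (Algebra.algebraMapSubmonoid (PA ⊗[k] PB) 𝔪.primeCompl) _ (isNormalRing_T k PA PB)
  obtain ⟨hdom, hic⟩ :=
    Groth.Agent.H25.NormalElem.isDomain_isIntegrallyClosed_of_isLocalRing _ hnorm
  haveI := hdom
  haveI := hic
  haveI : Algebra.IsIntegral (A ⊗[k] B) (PA ⊗[k] PB) := isIntegral_T k A B PA PB
  haveI : IsLocalHom (algebraMap (Localization.AtPrime 𝔪)
      (Localization.AtPrime 𝔪 ⊗[A ⊗[k] B] (PA ⊗[k] PB))) :=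
    isLocalHom_algebraMap_of_isIntegral (Localization.AtPrime 𝔪)
      (Localization.AtPrime 𝔪 ⊗[A ⊗[k] B] (PA ⊗[k] PB))
  have hsurj : Function.Surjective (algebraMap (ResidueField (Localization.AtPrime 𝔪))
      (ResidueField (Localization.AtPrime 𝔪 ⊗[A ⊗[k] B] (PA ⊗[k] PB)))) := by
    intro y
    obtain ⟨n, rfl⟩ := residue_surjective y
    refine ⟨residue _ (algebraMap (A ⊗[k] B) (Localization.AtPrime 𝔪)
      (algebraMap k (A ⊗[k] B) (augN k A B hA hB PA PB hPA hPB 𝔪 h𝔪 n))), ?_⟩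
    rw [IsLocalRing.ResidueField.algebraMap_residue, ← sub_eq_zero, ← map_sub,
      residue_eq_zero_iff, mem_maximalIdeal_N_iff k A B hA hB PA PB hPA hPB 𝔪 h𝔪, map_sub,
      ← square_N, augN_algebraMap, aug2_algebraMap_T k A B hA hB PA PB hPA hPB, AlgHom.commutes,
      Algebra.algebraMap_self_apply, sub_self]
  haveI hpi : IsPurelyInseparable (ResidueField (Localization.AtPrime 𝔪))
      (ResidueField (Localization.AtPrime 𝔪 ⊗[A ⊗[k] B] (PA ⊗[k] PB))) :=
    ⟨⟨fun x => by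
      obtain ⟨y, rfl⟩ := hsurj x
      exact isIntegral_algebraMap⟩, fun x _ => hsurj x⟩
  obtain ⟨hloc, -, -⟩ := Groth.Agent.S9404.result (Localization.AtPrime 𝔪) C
    (Localization.AtPrime 𝔪 ⊗[A ⊗[k] B] (PA ⊗[k] PB)) (Or.inl hpi)
  haveI := hloc
  haveI : IsDomain (C ⊗[Localization.AtPrime 𝔪]
      (Localization.AtPrime 𝔪 ⊗[A ⊗[k] B] (PA ⊗[k] PB))) :=
    Groth.Agent.H47.SmoothBranch.isDomain_tensor_strict (Localization.AtPrime 𝔪)
      (Localization.AtPrime 𝔪 ⊗[A ⊗[k] B] (PA ⊗[k] PB)) C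
  haveI : Module.Flat (A ⊗[k] B) C := flat_C k A B 𝔪 C
  exact Groth.Agent.H47.SmoothBranch.isPrime_map_ker_of_isDomain (A ⊗[k] B)
    (Localization.AtPrime 𝔪) C (PA ⊗[k] PB)

include hA hB hPA hPB h𝔪 in
theorem one_tmul_one_ne_zero : (1 : C) ⊗ₜ[A ⊗[k] B] (1 : PA ⊗[k] PB) ≠ 0 := by
  haveI hprime := isPrime_map_ker_T k A B hA hB PA PB hPA hPB 𝔪 h𝔪 C
  haveI : Module.Flat (A ⊗[k] B) C := flat_C k A B 𝔪 C
  intro h0
  have := Groth.Agent.H47.SmoothBranch.mem_map_of_tmul_eq_zero (A ⊗[k] B) C (PA ⊗[k] PB) 1 h0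
  exact hprime.ne_top ((Ideal.eq_top_iff_one _).mpr this)

include hA hB hPA hPB h𝔪 in
theorem comap_left_T (a : A)
    (ha : algebraMap (A ⊗[k] B) C (a ⊗ₜ[k] 1) ∈
      (RingHom.ker (algebraMap (A ⊗[k] B) (PA ⊗[k] PB))).map (algebraMap (A ⊗[k] B) C)) :
    a ∈ RingHom.ker (algebraMap A PA) := by
  haveI : Module.Flat (A ⊗[k] B) C := flat_C k A B 𝔪 C
  by_contra hne
  have hne' : algebraMap A PA a ≠ 0 := hne
  have h2 := one_tmul_ne_zero (Λ := A ⊗[k] B) (C := C) (algebraMap A PA a ⊗ₜ[k] (1 : PB))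
    (mul_tmul_one_injective _ hne') (one_tmul_one_ne_zero k A B hA hB PA PB hPA hPB 𝔪 h𝔪 C)
  apply h2
  have h3 := tmul_one_eq_zero_of_mem _ ha
  rw [algebraMap_tmul_one, algebraMap_T_tmul, map_one] at h3
  exact h3

include hA hB hPA hPB h𝔪 in
theorem comap_right_T (b : B)
    (hb : algebraMap (A ⊗[k] B) C (1 ⊗ₜ[k] b) ∈
      (RingHom.ker (algebraMap (A ⊗[k] B) (PA ⊗[k] PB))).map (algebraMap (A ⊗[k] B) C)) :
    b ∈ RingHom.ker (algebraMap B PB) := by
  haveI : Module.Flat (A ⊗[k] B) C := flat_C k A B 𝔪 C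
  by_contra hne
  have hne' : algebraMap B PB b ≠ 0 := hne
  have h2 := one_tmul_ne_zero (Λ := A ⊗[k] B) (C := C) ((1 : PA) ⊗ₜ[k] algebraMap B PB b)
    (mul_one_tmul_injective _ hne') (one_tmul_one_ne_zero k A B hA hB PA PB hPA hPB 𝔪 h𝔪 C)
  apply h2
  have h3 := tmul_one_eq_zero_of_mem _ hb
  rw [algebraMap_tmul_one, algebraMap_T_tmul, map_one] at h3
  exact h3

end Main

section Pair

variable (k : Type u) [Field k] [IsAlgClosed k]
  (A B : Type u) [CommRing A] [CommRing B] [HenselianLocalRing A] [HenselianLocalRing B]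
  [Algebra k A] [Algebra k B]
  (hA : Function.Bijective (algebraMap k (ResidueField A)))
  (hB : Function.Bijective (algebraMap k (ResidueField B)))
  (𝔪 : Ideal (A ⊗[k] B)) [𝔪.IsPrime]
  (h𝔪 : 𝔪 = (maximalIdeal A).map (Algebra.TensorProduct.includeLeft : A →ₐ[k] A ⊗[k] B) ⊔
      (maximalIdeal B).map (Algebra.TensorProduct.includeRight : B →ₐ[k] A ⊗[k] B))
  (C : Type u) [CommRing C] [IsLocalRing C] [Algebra (Localization.AtPrime 𝔪) C]
  [IsLocalHom (algebraMap (Localization.AtPrime 𝔪) C)]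
  [Hensel.IsStrictHenselization (Localization.AtPrime 𝔪) C]
  [Algebra (A ⊗[k] B) C] [IsScalarTower (A ⊗[k] B) (Localization.AtPrime 𝔪) C]

attribute [local instance low] algT

/-- The map `A → C`. -/
noncomputable abbrev fA : A →+* C :=
  (algebraMap (A ⊗[k] B) C).comp (Algebra.TensorProduct.includeLeft : A →ₐ[k] A ⊗[k] B).toRingHom

/-- The map `B → C`. -/
noncomputable abbrev fB : B →+* C :=
  (algebraMap (A ⊗[k] B) C).comp (Algebra.TensorProduct.includeRight : B →ₐ[k] A ⊗[k] B).toRingHom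

include hA hB h𝔪 in
/-- For primes `𝔞` of `A` and `𝔟` of `B`, the ideal `𝔞 C + 𝔟 C` is a prime of `C` contracting to
`𝔞` and `𝔟`. -/
theorem pair (𝔞 : Ideal A) [𝔞.IsPrime] (𝔟 : Ideal B) [𝔟.IsPrime] :
    (𝔞.map (fA k A B C) ⊔ 𝔟.map (fB k A B C)).IsPrime ∧
    (𝔞.map (fA k A B C) ⊔ 𝔟.map (fB k A B C)).comap (fA k A B C) = 𝔞 ∧
    (𝔞.map (fA k A B C) ⊔ 𝔟.map (fB k A B C)).comap (fB k A B C) = 𝔟 := by
  obtain ⟨PA, _, _, _, _, _, hkA⟩ := exists_normal_cover A 𝔞
  obtain ⟨PB, _, _, _, _, _, hkB⟩ := exists_normal_cover B 𝔟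
  letI : Algebra k PA := ((algebraMap A PA).comp (algebraMap k A)).toAlgebra
  haveI : IsScalarTower k A PA := IsScalarTower.of_algebraMap_eq (fun _ => rfl)
  letI : Algebra k PB := ((algebraMap B PB).comp (algebraMap k B)).toAlgebra
  haveI : IsScalarTower k B PB := IsScalarTower.of_algebraMap_eq (fun _ => rfl)
  haveI : IsLocalRing PA := Groth.Agent.H47.Unibranch.isLocalRing_of_isIntegral_of_isDomain A PA
  haveI : IsLocalRing PB := Groth.Agent.H47.Unibranch.isLocalRing_of_isIntegral_of_isDomain B PB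
  have hPA := bijective_cover k A hA PA
  have hPB := bijective_cover k B hB PB
  have hker := ker_algebraMap_T k A B PA PB
  rw [hkA, hkB] at hker
  have hP : (RingHom.ker (algebraMap (A ⊗[k] B) (PA ⊗[k] PB))).map (algebraMap (A ⊗[k] B) C) =
      𝔞.map (fA k A B C) ⊔ 𝔟.map (fB k A B C) := by
    rw [hker, Ideal.map_sup]
    congr 1
    · exact Ideal.map_map (Algebra.TensorProduct.includeLeft : A →ₐ[k] A ⊗[k] B).toRingHom
        (algebraMap (A ⊗[k] B) C)
    · exact Ideal.map_map (Algebra.TensorProduct.includeRight : B →ₐ[k] A ⊗[k] B).toRingHom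
        (algebraMap (A ⊗[k] B) C)
  have hprime := isPrime_map_ker_T k A B hA hB PA PB hPA hPB 𝔪 h𝔪 C
  rw [hP] at hprime
  refine ⟨hprime, ?_, ?_⟩
  · apply le_antisymm
    · intro a ha
      rw [Ideal.mem_comap, ← hP] at ha
      have h1 := comap_left_T k A B hA hB PA PB hPA hPB 𝔪 h𝔪 C a ha
      rwa [hkA] at h1
    · exact Ideal.le_comap_map.trans (Ideal.comap_mono le_sup_left)
  · apply le_antisymm
    · intro b hb
      rw [Ideal.mem_comap, ← hP] at hb
      have h1 := comap_right_T k A B hA hB PA PB hPA hPB 𝔪 h𝔪 C b hb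
      rwa [hkB] at h1
    · exact Ideal.le_comap_map.trans (Ideal.comap_mono le_sup_right)

omit [IsAlgClosed k] [HenselianLocalRing A] [HenselianLocalRing B] in
theorem flat_right :
    letI := Algebra.TensorProduct.rightAlgebra (R := k) (A := A) (B := B)
    Module.Flat B (A ⊗[k] B) := by
  letI := Algebra.TensorProduct.rightAlgebra (R := k) (A := A) (B := B)
  let e : (A ⊗[k] B) ≃ₗ[B] (B ⊗[k] A) :=
    { (Algebra.TensorProduct.comm k A B).toLinearEquiv with
      map_smul' := fun b x => by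
        show Algebra.TensorProduct.comm k A B (b • x) = b • Algebra.TensorProduct.comm k A B x
        rw [Algebra.smul_def, Algebra.smul_def, map_mul]
        rfl }
  exact Module.Flat.of_linearEquiv e

include hA hB h𝔪 in
theorem bijOn :
    Set.BijOn (fun 𝔯 : Ideal C => (𝔯.comap (fA k A B C), 𝔯.comap (fB k A B C)))
      (minimalPrimes C) (minimalPrimes A ×ˢ minimalPrimes B) := by
  haveI hflat : Module.Flat (A ⊗[k] B) C := flat_C k A B 𝔪 C
  have hgdA : ∀ 𝔯 ∈ minimalPrimes C, 𝔯.comap (fA k A B C) ∈ minimalPrimes A := by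
    intro 𝔯 h𝔯
    letI : Algebra A C := (fA k A B C).toAlgebra
    haveI : IsScalarTower A (A ⊗[k] B) C := IsScalarTower.of_algebraMap_eq (fun _ => rfl)
    haveI : Module.Flat A C := Module.Flat.trans A (A ⊗[k] B) C
    exact Groth.Agent.H47.HensCompletion.comap_mem_minimalPrimes (S := A) h𝔯
  have hgdB : ∀ 𝔯 ∈ minimalPrimes C, 𝔯.comap (fB k A B C) ∈ minimalPrimes B := by
    intro 𝔯 h𝔯
    letI := Algebra.TensorProduct.rightAlgebra (R := k) (A := A) (B := B)
    haveI : Module.Flat B (A ⊗[k] B) := flat_right k A B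
    letI : Algebra B C := (fB k A B C).toAlgebra
    haveI : IsScalarTower B (A ⊗[k] B) C := IsScalarTower.of_algebraMap_eq (fun _ => rfl)
    haveI : Module.Flat B C := Module.Flat.trans B (A ⊗[k] B) C
    exact Groth.Agent.H47.HensCompletion.comap_mem_minimalPrimes (S := B) h𝔯
  have key : ∀ 𝔯 ∈ minimalPrimes C,
      𝔯 = (𝔯.comap (fA k A B C)).map (fA k A B C) ⊔ (𝔯.comap (fB k A B C)).map (fB k A B C) := by
    intro 𝔯 h𝔯
    haveI := (hgdA 𝔯 h𝔯).1.1
    haveI := (hgdB 𝔯 h𝔯).1.1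
    obtain ⟨hp, -, -⟩ := pair k A B hA hB 𝔪 h𝔪 C (𝔯.comap (fA k A B C)) (𝔯.comap (fB k A B C))
    have hle : (𝔯.comap (fA k A B C)).map (fA k A B C) ⊔
        (𝔯.comap (fB k A B C)).map (fB k A B C) ≤ 𝔯 :=
      sup_le Ideal.map_comap_le Ideal.map_comap_le
    exact le_antisymm (h𝔯.2 ⟨hp, bot_le⟩ hle) hle
  refine ⟨fun 𝔯 h𝔯 => ⟨hgdA 𝔯 h𝔯, hgdB 𝔯 h𝔯⟩, ?_, ?_⟩
  · intro 𝔯₁ h₁ 𝔯₂ h₂ h12
    have h3 := Prod.mk.inj h12
    rw [key 𝔯₁ h₁, key 𝔯₂ h₂, h3.1, h3.2]
  · rintro ⟨𝔞, 𝔟⟩ ⟨h𝔞, h𝔟⟩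
    have h𝔞' : 𝔞 ∈ minimalPrimes A := h𝔞
    have h𝔟' : 𝔟 ∈ minimalPrimes B := h𝔟
    haveI := h𝔞'.1.1
    haveI := h𝔟'.1.1
    obtain ⟨hp, hcA, hcB⟩ := pair k A B hA hB 𝔪 h𝔪 C 𝔞 𝔟
    haveI := hp
    obtain ⟨𝔯, h𝔯, hle⟩ := Ideal.exists_minimalPrimes_le (I := (⊥ : Ideal C))
      (J := 𝔞.map (fA k A B C) ⊔ 𝔟.map (fB k A B C)) bot_le
    refine ⟨𝔯, h𝔯, ?_⟩
    have h1 : 𝔯.comap (fA k A B C) = 𝔞 := by
      have h2 : 𝔯.comap (fA k A B C) ≤ 𝔞 := by
        rw [← hcA]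
        exact Ideal.comap_mono hle
      exact le_antisymm h2 (h𝔞'.2 (hgdA 𝔯 h𝔯).1 h2)
    have h2 : 𝔯.comap (fB k A B C) = 𝔟 := by
      have h2 : 𝔯.comap (fB k A B C) ≤ 𝔟 := by
        rw [← hcB]
        exact Ideal.comap_mono hle
      exact le_antisymm h2 (h𝔟'.2 (hgdB 𝔯 h𝔯).1 h2)
    exact Prod.ext h1 h2

end Pair

end Groth.Agent.H47.TensorBranch
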