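import Mathlib
import Groth.Agent.H47.FieldBC
import Groth.Agent.S9238
import Groth.Agent.H47.TensorBranch

/-!
# The number of geometric branches is invariant under base field extension

`numGeomBranches_eq_baseChange`: for a local `k`-algebra `A`, a field extension `K/k` and a prime
`q` of `A ⊗ K` over the maximal ideal, `A` and `(A ⊗ K)_q` have the same number of geometric
branches.
-/

set_option autoImplicit false
set_option linter.style.haveILetI false
set_option linter.unusedSectionVars false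
universe u
open TensorProduct IsLocalRing

namespace Groth.Agent.H47.BranchBC

open Groth.Agent.H47.Radicial Groth.Agent.H47.SepField Groth.Agent.H47.FieldBC
  Groth.Agent.H47.HensTensor

section Ident

variable (k K : Type u) [Field k] [Field K] [Algebra k K] (S P C' : Type u) [CommRing S]
  [CommRing P] [Algebra S P] [CommRing C'] [IsDomain C'] [IsIntegrallyClosed C'] [Algebra k C']
  [Algebra S C'] (e : P ⊗[S] C' ≃+* K ⊗[k] C')

include e in
theorem isGeomUnibranch_localization_of_equiv (Q : Ideal (P ⊗[S] C')) [Q.IsPrime] :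
    CAlg2.IsGeomUnibranch (Localization.AtPrime Q) := by
  haveI : (Q.comap (e.symm : K ⊗[k] C' →+* P ⊗[S] C')).IsPrime := Ideal.comap_isPrime _ _
  have hGU := isGeomUnibranch_tensor_of_normal k C' K
    (Groth.Agent.H25.NormalElem.isNormalRing_of_isIntegrallyClosed C')
    (Q.comap (e.symm : K ⊗[k] C' →+* P ⊗[S] C'))
  have H : Q.primeCompl.map e.toMonoidHom =
      (Q.comap (e.symm : K ⊗[k] C' →+* P ⊗[S] C')).primeCompl := by
    ext x
    constructor
    · rintro ⟨y, hy, rfl⟩
      intro hmem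
      apply hy
      have h1 : e.symm (e y) ∈ Q := hmem
      rwa [e.symm_apply_apply] at h1
    · intro hx
      refine ⟨e.symm x, ?_, e.apply_symm_apply x⟩
      exact hx
  exact isGeomUnibranch_of_ringEquiv (IsLocalization.ringEquivOfRingEquiv
    (Localization.AtPrime Q)
    (Localization.AtPrime (Q.comap (e.symm : K ⊗[k] C' →+* P ⊗[S] C'))) e H) hGU

include e in
theorem isGeomUnibranch_tensor_of_equiv (Q₁ : Ideal P) [Q₁.IsPrime]
    [IsLocalRing (Localization.AtPrime Q₁ ⊗[S] C')] :
    CAlg2.IsGeomUnibranch (Localization.AtPrime Q₁ ⊗[S] C') := by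
  letI : Algebra (P ⊗[S] C') (Localization.AtPrime Q₁ ⊗[S] C') :=
    (Algebra.TensorProduct.map (IsScalarTower.toAlgHom S P (Localization.AtPrime Q₁))
      (AlgHom.id S C')).toRingHom.toAlgebra
  have hmap : ∀ z, algebraMap (P ⊗[S] C') (Localization.AtPrime Q₁ ⊗[S] C') z =
      Algebra.TensorProduct.map (IsScalarTower.toAlgHom S P (Localization.AtPrime Q₁))
        (AlgHom.id S C') z := fun _ => rfl
  haveI : IsScalarTower P (P ⊗[S] C') (Localization.AtPrime Q₁ ⊗[S] C') := by
    exact @IsScalarTower.of_algebraMap_eq P (P ⊗[S] C')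
      (Localization.AtPrime Q₁ ⊗[S] C') _ _ _ _ _ _ (fun x => rfl)
  haveI hloc : IsLocalization (Algebra.algebraMapSubmonoid (P ⊗[S] C') Q₁.primeCompl)
      (Localization.AtPrime Q₁ ⊗[S] C') := by
    refine IsLocalization.tensorProduct_tensorProduct S C' Q₁.primeCompl
      (Localization.AtPrime Q₁) ?_
    refine RingHom.ext (fun a => ?_)
    show algebraMap _ _ ((1 : P) ⊗ₜ[S] a) = (1 : Localization.AtPrime Q₁) ⊗ₜ[S] a
    rw [hmap, Algebra.TensorProduct.map_tmul, map_one]
    rfl
  obtain ⟨Q, hQ⟩ : ∃ Q : Ideal (P ⊗[S] C'),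
      Q = (maximalIdeal (Localization.AtPrime Q₁ ⊗[S] C')).comap (algebraMap _ _) := ⟨_, rfl⟩
  haveI : Q.IsPrime := by
    rw [hQ]
    exact Ideal.comap_isPrime _ _
  haveI : IsLocalization.AtPrime (Localization.AtPrime Q₁ ⊗[S] C') Q := by
    refine IsLocalization.of_le
      (M := Algebra.algebraMapSubmonoid (P ⊗[S] C') Q₁.primeCompl) Q.primeCompl ?_ ?_
    · rintro x ⟨s, hs, rfl⟩
      show algebraMap P (P ⊗[S] C') s ∉ Q
      rw [hQ, Ideal.mem_comap, ← IsScalarTower.algebraMap_apply, mem_maximalIdeal,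
        mem_nonunits_iff, not_not,
        IsScalarTower.algebraMap_apply P (Localization.AtPrime Q₁)
          (Localization.AtPrime Q₁ ⊗[S] C')]
      exact (IsLocalization.map_units (Localization.AtPrime Q₁) ⟨s, hs⟩).map _
    · intro r hr
      have h1 : algebraMap _ (Localization.AtPrime Q₁ ⊗[S] C') r ∉
          maximalIdeal (Localization.AtPrime Q₁ ⊗[S] C') := by
        have hr' : r ∉ Q := hr
        rw [hQ] at hr'
        exact hr'
      exact notMem_maximalIdeal.mp h1
  exact isGeomUnibranch_of_ringEquiv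
    (IsLocalization.algEquiv Q.primeCompl (Localization.AtPrime Q₁ ⊗[S] C')
      (Localization.AtPrime Q)).toRingEquiv
    (isGeomUnibranch_localization_of_equiv k K S P C' e Q)

end Ident

/-- Counting minimal primes along a faithfully flat map when each minimal prime of the base has a
least prime over its extension. -/
theorem card_minimalPrimes_eq_of_least (S T : Type*) [CommRing S] [CommRing T] [Algebra S T]
    [Module.FaithfullyFlat S T]
    (h : ∀ 𝔫 ∈ minimalPrimes S, ∃ 𝔓 : Ideal T, 𝔓.IsPrime ∧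
      ∀ P : Ideal T, P.IsPrime → 𝔫.map (algebraMap S T) ≤ P → 𝔓 ≤ P) :
    ENat.card (minimalPrimes S) = ENat.card (minimalPrimes T) := by
  let F : minimalPrimes T → minimalPrimes S := fun P =>
    ⟨P.1.comap (algebraMap S T), Groth.Agent.H47.HensCompletion.comap_mem_minimalPrimes P.2⟩
  have hF : Function.Surjective F := by
    rintro ⟨q, hq⟩
    obtain ⟨P, hP, hPq⟩ :=
      Groth.Agent.H47.HensCompletion.exists_minimalPrimes_comap_eq (T := T) hq
    exact ⟨⟨P, hP⟩, Subtype.ext hPq⟩
  have hinj : Function.Injective F := by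
    rintro ⟨P₁, hP₁⟩ ⟨P₂, hP₂⟩ h12
    have h12' : P₁.comap (algebraMap S T) = P₂.comap (algebraMap S T) :=
      congrArg Subtype.val h12
    obtain ⟨𝔓, h𝔓, hleast⟩ := h _ (Groth.Agent.H47.HensCompletion.comap_mem_minimalPrimes hP₁)
    have e1 : P₁ = 𝔓 := by
      have hle : 𝔓 ≤ P₁ := hleast P₁ hP₁.1.1 Ideal.map_comap_le
      exact le_antisymm (hP₁.2 ⟨h𝔓, bot_le⟩ hle) hle
    have e2 : P₂ = 𝔓 := by
      have hle : 𝔓 ≤ P₂ := hleast P₂ hP₂.1.1 (by rw [h12']; exact Ideal.map_comap_le)
      exact le_antisymm (hP₂.2 ⟨h𝔓, bot_le⟩ hle) hle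
    exact Subtype.ext (e1.trans e2.symm)
  exact (ENat.card_congr (Equiv.ofBijective F ⟨hinj, hF⟩)).symm

theorem tmul_one_eq_one_tmul {Λ X Y : Type*} [CommRing Λ] [CommRing X] [CommRing Y] [Algebra Λ X]
    [Algebra Λ Y] (l : Λ) :
    (algebraMap Λ X l) ⊗ₜ[Λ] (1 : Y) = (1 : X) ⊗ₜ[Λ] algebraMap Λ Y l := by
  rw [Algebra.algebraMap_eq_smul_one, Algebra.algebraMap_eq_smul_one, TensorProduct.smul_tmul]

/-- Over the extension to `T` of the kernel `𝔫` of `S → C'` there is a least prime. -/
theorem exists_least_prime_over (k : Type*) [Field k] (p : ℕ) [ExpChar k p]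
    (S L T C' : Type u) [CommRing S] [HenselianLocalRing S] [IsSepClosed (ResidueField S)]
    [Algebra k S]
    [CommRing L] [IsLocalRing L] [Algebra S L] [IsLocalHom (algebraMap S L)] [Module.Flat S L]
    [CommRing T] [IsLocalRing T] [Algebra L T] [IsLocalHom (algebraMap L T)]
    [Hensel.IsStrictHenselization L T] [Algebra S T] [IsScalarTower S L T]
    [CommRing C'] [IsDomain C'] [IsIntegrallyClosed C'] [Algebra S C'] [Algebra.IsIntegral S C']
    (hGU : ∀ [IsLocalRing (L ⊗[S] C')], CAlg2.IsGeomUnibranch (L ⊗[S] C')) :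
    ∃ 𝔓 : Ideal T, 𝔓.IsPrime ∧
      ∀ P : Ideal T, P.IsPrime →
        (RingHom.ker (algebraMap S C')).map (algebraMap S T) ≤ P → 𝔓 ≤ P := by
  haveI : IsLocalRing C' := Groth.Agent.H47.Unibranch.isLocalRing_of_isIntegral_of_isDomain S C'
  haveI : IsLocalHom (algebraMap S C') := isLocalHom_algebraMap_of_isIntegral S C'
  haveI : Algebra.IsAlgebraic (ResidueField S) (ResidueField C') :=
    Groth.Agent.H47.UnibranchStrict.isAlgebraic_residueField S C'
  haveI : IsPurelyInseparable (ResidueField S) (ResidueField C') := inferInstance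
  obtain ⟨hloc, hL, hR⟩ := Groth.Agent.S9404.result S L C' (Or.inl inferInstance)
  haveI := hloc
  haveI : IsLocalHom (algebraMap L (L ⊗[S] C')) := ⟨fun a ha => hL.map_nonunit a ha⟩
  haveI : IsPurelyInseparable (ResidueField L) (ResidueField (L ⊗[S] C')) :=
    isPurelyInseparable_residueField_tensor k p S L C' hR
  obtain ⟨hloc2, -, -⟩ := Groth.Agent.S9404.result L T (L ⊗[S] C') (Or.inl inferInstance)
  haveI := hloc2
  have hprime : (nilradical (T ⊗[L] (L ⊗[S] C'))).IsPrime :=
    (isGeomUnibranch_iff_isPrime_nilradical_tensor L (L ⊗[S] C') T).mp hGU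
  haveI := hprime
  haveI : Module.Flat L T :=
    (Groth.Agent.H47.HensNoeth.isIndEtaleLocal_of_isStrictHenselization L T).flat
  refine ⟨(nilradical (T ⊗[L] (L ⊗[S] C'))).comap (algebraMap T (T ⊗[L] (L ⊗[S] C'))),
    Ideal.comap_isPrime _ _, ?_⟩
  intro P hP hle x hx
  rw [Ideal.mem_comap, mem_nilradical] at hx
  obtain ⟨n, hn⟩ := hx
  rw [← map_pow] at hn
  have hn' : (x ^ n) ⊗ₜ[L] (1 : L ⊗[S] C') = 0 := hn
  have h1 : x ^ n ∈ (RingHom.ker (algebraMap L (L ⊗[S] C'))).map (algebraMap L T) :=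
    Groth.Agent.H47.SmoothBranch.mem_map_of_tmul_eq_zero L T (L ⊗[S] C') (x ^ n) hn'
  have h2 : RingHom.ker (algebraMap L (L ⊗[S] C')) ≤
      (RingHom.ker (algebraMap S C')).map (algebraMap S L) := by
    intro l hl
    have hl' : l ⊗ₜ[S] (1 : C') = 0 := hl
    exact Groth.Agent.H47.SmoothBranch.mem_map_of_tmul_eq_zero S L C' l hl'
  have h3 : x ^ n ∈ (RingHom.ker (algebraMap S C')).map (algebraMap S T) := by
    rw [IsScalarTower.algebraMap_eq S L T, ← Ideal.map_map]
    exact Ideal.map_mono h2 h1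
  exact hP.mem_of_pow_mem n (hle h3)

open Groth.Agent.H47.HensTransport in
/-- The number of geometric branches is invariant under base field extension. -/
theorem numGeomBranches_eq_baseChange (k A K : Type u) [Field k] [CommRing A] [IsLocalRing A]
    [Algebra k A] [Field K] [Algebra k K] (q : Ideal (A ⊗[k] K)) [q.IsPrime]
    (hq : q.comap (algebraMap A (A ⊗[k] K)) = maximalIdeal A) :
    Brnch.numGeomBranches A = Brnch.numGeomBranches (Localization.AtPrime q) := by
  haveI : IsLocalHom (algebraMap A (Localization.AtPrime q)) := by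
    constructor
    intro a ha
    rw [IsScalarTower.algebraMap_apply A (A ⊗[k] K) (Localization.AtPrime q),
      IsLocalization.AtPrime.isUnit_to_map_iff (Localization.AtPrime q) q] at ha
    by_contra hna
    have h1 : a ∈ maximalIdeal A := (mem_maximalIdeal a).mpr hna
    rw [← hq, Ideal.mem_comap] at h1
    exact ha h1
  haveI : Module.Flat A (Localization.AtPrime q) :=
    Module.Flat.trans A (A ⊗[k] K) (Localization.AtPrime q)
  obtain ⟨S, _, _, _, _, hS⟩ := Groth.Agent.S0537.result A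
  obtain ⟨T, _, _, _, _, hT⟩ := Groth.Agent.S0537.result (Localization.AtPrime q)
  haveI := hS
  haveI := hT
  obtain ⟨σ, hσ⟩ := exists_sigma A (Localization.AtPrime q) S T
  letI : Algebra A T :=
    ((algebraMap (Localization.AtPrime q) T).comp (algebraMap A (Localization.AtPrime q))).toAlgebra
  haveI : IsScalarTower A (Localization.AtPrime q) T :=
    IsScalarTower.of_algebraMap_eq (fun _ => rfl)
  letI : Algebra S T := σ.toAlgebra
  haveI : IsScalarTower A S T :=
    IsScalarTower.of_algebraMap_eq (fun a => (RingHom.congr_fun hσ a).symm)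
  haveI : IsLocalHom (algebraMap S T) :=
    isLocalHom_algebraMap_strict A (Localization.AtPrime q) S T
  haveI : Module.Flat (Localization.AtPrime q) T :=
    (Groth.Agent.H47.HensNoeth.isIndEtaleLocal_of_isStrictHenselization
      (Localization.AtPrime q) T).flat
  haveI : Module.Flat A T := Module.Flat.trans A (Localization.AtPrime q) T
  haveI : Module.Flat S T := Groth.Agent.H47.HensCompletion.flat_of_rep
    (Groth.Agent.H47.HensNoeth.isIndEtaleLocal_of_isStrictHenselization A S).rep T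
  haveI : Module.FaithfullyFlat S T := Module.FaithfullyFlat.of_flat_of_isLocalHom
  rw [← Groth.Agent.S9238.result A S, ← Groth.Agent.S9238.result (Localization.AtPrime q) T]
  refine card_minimalPrimes_eq_of_least S T ?_
  intro 𝔫 h𝔫
  haveI : 𝔫.IsPrime := h𝔫.1.1
  -- the tensor set-up
  letI : Algebra (A ⊗[k] K) T :=
    ((algebraMap (Localization.AtPrime q) T).comp
      (algebraMap (A ⊗[k] K) (Localization.AtPrime q))).toAlgebra
  haveI : IsScalarTower (A ⊗[k] K) (Localization.AtPrime q) T :=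
    IsScalarTower.of_algebraMap_eq (fun _ => rfl)
  haveI : IsScalarTower A (A ⊗[k] K) T := IsScalarTower.of_algebraMap_eq (fun a => by
    show algebraMap (Localization.AtPrime q) T (algebraMap A (Localization.AtPrime q) a) =
      algebraMap (Localization.AtPrime q) T
        (algebraMap (A ⊗[k] K) (Localization.AtPrime q) (algebraMap A (A ⊗[k] K) a))
    rw [← IsScalarTower.algebraMap_apply A (A ⊗[k] K) (Localization.AtPrime q)])
  letI := algLoc A S
  haveI := isScalarTower_algLoc A S
  haveI := isLocalHom_loc A S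
  haveI := isStrictHenselization_loc A S
  haveI : q.LiesOver (maximalIdeal A) := ⟨hq.symm⟩
  obtain ⟨Q₁, hQ₁⟩ : ∃ Q₁ : Ideal (S ⊗[A] (A ⊗[k] K)),
      Q₁ = Ideal.comap (phi A (A ⊗[k] K) S T) (maximalIdeal T) := ⟨_, rfl⟩
  haveI : Q₁.IsPrime := by
    rw [hQ₁]
    exact Ideal.comap_isPrime _ _
  have hu : ∀ y : Q₁.primeCompl, IsUnit ((phi A (A ⊗[k] K) S T).toRingHom y) :=
    fun y => isUnit_phi_of_notMem A (A ⊗[k] K) S T Q₁ hQ₁ y.2
  letI : Algebra (Localization.AtPrime Q₁) T := (IsLocalization.lift hu).toAlgebra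
  have hψ : ∀ d : S ⊗[A] (A ⊗[k] K), algebraMap (Localization.AtPrime Q₁) T
      (algebraMap (S ⊗[A] (A ⊗[k] K)) (Localization.AtPrime Q₁) d) = phi A (A ⊗[k] K) S T d :=
    fun d => IsLocalization.lift_eq hu d
  haveI : IsLocalHom (algebraMap (Localization.AtPrime Q₁) T) :=
    isLocalHom_algebraMap_loc A (A ⊗[k] K) S T Q₁ hQ₁ (Localization.AtPrime Q₁) hψ
  haveI := isStrictHenselization_of_tensor A (A ⊗[k] K) (maximalIdeal A) q S T Q₁ hQ₁
    (Localization.AtPrime Q₁) hψ
  haveI : IsScalarTower S (Localization.AtPrime Q₁) T :=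
    IsScalarTower.of_algebraMap_eq (fun a => by
      rw [IsScalarTower.algebraMap_apply S (S ⊗[A] (A ⊗[k] K)) (Localization.AtPrime Q₁), hψ,
        Algebra.TensorProduct.algebraMap_apply, Algebra.algebraMap_self_apply, phi_left])
  haveI : IsLocalHom (algebraMap S (Localization.AtPrime Q₁)) := by
    constructor
    intro a ha
    have h1 : IsUnit (algebraMap S T a) := by
      rw [IsScalarTower.algebraMap_apply S (Localization.AtPrime Q₁) T]
      exact ha.map _
    exact (isUnit_map_iff (algebraMap S T) a).mp h1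
  haveI : Module.Flat S (Localization.AtPrime Q₁) :=
    Module.Flat.trans S (S ⊗[A] (A ⊗[k] K)) (Localization.AtPrime Q₁)
  haveI : HenselianLocalRing S := Hensel.IsStrictHenselization.henselian (R := A)
  haveI : IsSepClosed (ResidueField S) :=
    (Hensel.IsStrictHenselization.isSepClosure (R := A) (S := S)).sep_closed
  -- the normal cover of `S ⧸ 𝔫`
  obtain ⟨C', _, _, _, _, _, hker⟩ := Groth.Agent.H47.TensorBranch.exists_normal_cover S 𝔫
  letI : Algebra k S := ((algebraMap A S).comp (algebraMap k A)).toAlgebra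
  haveI : IsScalarTower k A S := IsScalarTower.of_algebraMap_eq (fun _ => rfl)
  letI : Algebra A C' := ((algebraMap S C').comp (algebraMap A S)).toAlgebra
  haveI : IsScalarTower A S C' := IsScalarTower.of_algebraMap_eq (fun _ => rfl)
  letI : Algebra k C' := ((algebraMap A C').comp (algebraMap k A)).toAlgebra
  haveI : IsScalarTower k A C' := IsScalarTower.of_algebraMap_eq (fun _ => rfl)
  obtain ⟨p, hp⟩ := ExpChar.exists k
  haveI := hp
  obtain ⟨e, -⟩ : ∃ e : (S ⊗[A] (A ⊗[k] K)) ⊗[S] C' ≃+* K ⊗[k] C', e = e :=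
    ⟨(((Algebra.TensorProduct.comm S (S ⊗[A] (A ⊗[k] K)) C').toRingEquiv.trans
      (Algebra.TensorProduct.cancelBaseChange A S S C' (A ⊗[k] K)).toRingEquiv).trans
      (Algebra.TensorProduct.cancelBaseChange k A A C' K).toRingEquiv).trans
      (Algebra.TensorProduct.comm k C' K).toRingEquiv, rfl⟩
  obtain ⟨𝔓, h𝔓, hleast⟩ := exists_least_prime_over k p S (Localization.AtPrime Q₁) T C'
    (fun {_} => isGeomUnibranch_tensor_of_equiv k K S (S ⊗[A] (A ⊗[k] K)) C' e Q₁)
  rw [hker] at hleast
  exact ⟨𝔓, h𝔓, hleast⟩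

/-- Variant for a prime of `K ⊗ A` and a ring isomorphic to the localization. -/
theorem numGeomBranches_eq_of_ringEquiv_localization (k A K : Type u) [Field k] [CommRing A]
    [IsLocalRing A] [Algebra k A] [Field K] [Algebra k K] (Q : Ideal (K ⊗[k] A)) [Q.IsPrime]
    (hQ : ∀ a ∈ maximalIdeal A, (1 : K) ⊗ₜ[k] a ∈ Q) (B : Type u) [CommRing B] [IsLocalRing B]
    (e : Localization.AtPrime Q ≃+* B) :
    Brnch.numGeomBranches A = Brnch.numGeomBranches B := by
  obtain ⟨c, hc⟩ : ∃ c : A ⊗[k] K ≃+* K ⊗[k] A, ∀ a : A, c (a ⊗ₜ[k] (1 : K)) = 1 ⊗ₜ[k] a :=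
    ⟨(Algebra.TensorProduct.comm k A K).toRingEquiv, fun a => rfl⟩
  haveI : (Q.comap (c : A ⊗[k] K →+* K ⊗[k] A)).IsPrime := Ideal.comap_isPrime _ _
  have hq : (Q.comap (c : A ⊗[k] K →+* K ⊗[k] A)).comap (algebraMap A (A ⊗[k] K)) =
      maximalIdeal A := by
    refine ((maximalIdeal.isMaximal A).eq_of_le ?_ ?_).symm
    · exact Ideal.IsPrime.ne_top (Ideal.comap_isPrime _ _)
    · intro a ha
      rw [Ideal.mem_comap, Ideal.mem_comap, Algebra.TensorProduct.algebraMap_apply,
        Algebra.algebraMap_self_apply]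
      show c (a ⊗ₜ[k] (1 : K)) ∈ Q
      rw [hc]
      exact hQ a ha
  rw [numGeomBranches_eq_baseChange k A K (Q.comap (c : A ⊗[k] K →+* K ⊗[k] A)) hq]
  have H : (Q.comap (c : A ⊗[k] K →+* K ⊗[k] A)).primeCompl.map c.toMonoidHom =
      Q.primeCompl := by
    ext x
    constructor
    · rintro ⟨y, hy, rfl⟩
      exact hy
    · intro hx
      refine ⟨c.symm x, ?_, c.apply_symm_apply x⟩
      show c (c.symm x) ∉ Q
      rw [c.apply_symm_apply]
      exact hx
  exact Groth.Agent.H70.FibreBranchRing.numGeomBranches_eq_of_ringEquiv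
    ((IsLocalization.ringEquivOfRingEquiv
      (Localization.AtPrime (Q.comap (c : A ⊗[k] K →+* K ⊗[k] A)))
      (Localization.AtPrime Q) c H).trans e)

end Groth.Agent.H47.BranchBC
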