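import Mathlib
import Groth.Agent.H47.HensCompletion
import Groth.Agent.H47.HensNoeth
import Groth.Agent.H47.BranchCount

/-!
# Minimal primes along flat local maps of one-dimensional henselian local rings (helper47)

`comap_injOn_minimalPrimes`: for a flat local homomorphism `B₁ → B₂` of Noetherian local rings of
dimension one with `B₁` henselian, `𝔪₁ B₂ = 𝔪₂` and trivial residue field extension, contraction is
injective on minimal primes.  (Used for: completion and (strict) henselization have the same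
number of minimal primes in dimension one.)
-/

set_option autoImplicit false
universe u

open IsLocalRing Polynomial TensorProduct

namespace Groth.Agent.H47.DimOneBranch

theorem mem_of_pow_mul_mem {R : Type*} [CommRing R] (𝔓 : Ideal R) (ξ : R)
    (H1 : ∀ t : R, ξ * t ∈ 𝔓 → t ∈ 𝔓) : ∀ (k : ℕ) (t : R), ξ ^ k * t ∈ 𝔓 → t ∈ 𝔓 := by
  intro k
  induction k with
  | zero => intro t h; simpa using h
  | succ k ih =>
    intro t h
    apply ih
    apply H1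
    have : ξ * (ξ ^ k * t) = ξ ^ (k + 1) * t := by ring
    rw [this]; exact h

/-- Strong Hensel for the quadratic `T² - xⁿ T`, relative to a prime `p`. -/
theorem root_dichotomy {B₁ B₂ : Type*} [CommRing B₁] [HenselianLocalRing B₁] [CommRing B₂]
    [IsLocalRing B₂] (φ : B₁ →+* B₂) (p : Ideal B₁) [hpp : p.IsPrime] (x : B₁)
    (hxm : x ∈ maximalIdeal B₁) (hφx : φ x ∈ maximalIdeal B₂)
    (H1 : ∀ t : B₂, φ x * t ∈ p.map φ → t ∈ p.map φ)
    (H3 : ∀ (L : ℕ) (t : B₂), ∃ s : B₁, t - φ s ∈ p.map φ ⊔ Ideal.span {φ x ^ L})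
    (H4 : ∀ (L : ℕ) (s : B₁), φ s ∈ p.map φ ⊔ Ideal.span {φ x ^ L} →
      s ∈ p ⊔ Ideal.span {x ^ L})
    (a : B₂) (n : ℕ) (ha : a ^ 2 - φ x ^ n * a ∈ p.map φ) :
    a ∈ p.map φ ∨ a - φ x ^ n ∈ p.map φ := by
  have hiter := mem_of_pow_mul_mem (p.map φ) (φ x) H1
  obtain ⟨a₀, ha₀⟩ := H3 (3 * n + 1) a
  have h1 : φ (a₀ ^ 2 - x ^ n * a₀) ∈ p.map φ ⊔ Ideal.span {φ x ^ (3 * n + 1)} := by
    have e : φ (a₀ ^ 2 - x ^ n * a₀) =
        (a ^ 2 - φ x ^ n * a) - (a - φ a₀) * (a + φ a₀ - φ x ^ n) := by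
      simp only [map_sub, map_mul, map_pow]; ring
    rw [e]
    exact Ideal.sub_mem _ (Ideal.mem_sup_left ha) (Ideal.mul_mem_right _ _ ha₀)
  obtain ⟨π, hπ, w, hw, E1⟩ := Submodule.mem_sup.mp (H4 _ _ h1)
  obtain ⟨c, rfl⟩ := Ideal.mem_span_singleton'.mp hw
  have E2 : x ^ (3 * n + 1) = x ^ (2 * n) * x ^ (n + 1) := by
    rw [← pow_add]; congr 1; omega
  obtain ⟨v, hv⟩ : ∃ v : B₁, v = x ^ (n + 1) * c := ⟨_, rfl⟩
  have hvm : v ∈ maximalIdeal B₁ := by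
    rw [hv]; exact Ideal.mul_mem_right _ _ (Ideal.pow_mem_of_mem _ hxm _ (Nat.succ_pos n))
  have hu : IsUnit (1 + 4 * v) := by
    have h := isUnit_one_sub_self_of_mem_nonunits (-(4 * v))
      ((mem_maximalIdeal _).mp ((maximalIdeal B₁).neg_mem (Ideal.mul_mem_left _ _ hvm)))
    rwa [sub_neg_eq_add] at h
  obtain ⟨u, hu'⟩ := hu
  obtain ⟨c', hc'⟩ : ∃ c' : B₁, c' = ↑u⁻¹ * v := ⟨_, rfl⟩
  have hc'm : c' ∈ maximalIdeal B₁ := by rw [hc']; exact Ideal.mul_mem_left _ _ hvm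
  have huc : (u : B₁) * c' = v := by rw [hc', ← mul_assoc, Units.mul_inv, one_mul]
  obtain ⟨y, hy, hym⟩ := HenselianLocalRing.is_henselian (X ^ 2 + X + C c' : B₁[X])
    (by rw [add_assoc]; exact monic_X_pow_add (by rw [degree_X_add_C]; norm_num)) 0
    (by simpa using hc'm) (by simp)
  have hy' : y ^ 2 + y + c' = 0 := by simpa [IsRoot.def] using hy
  have hym' : y ∈ maximalIdeal B₁ := by simpa using hym
  obtain ⟨d, hd⟩ : ∃ d : B₁, d = 2 * a₀ - x ^ n := ⟨_, rfl⟩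
  obtain ⟨a₁, hA1⟩ : ∃ a₁ : B₁, a₁ = a₀ + d * y := ⟨_, rfl⟩
  have hd2 : d ^ 2 = x ^ (2 * n) * (u : B₁) + 4 * π := by
    rw [hu', hd, hv]; linear_combination (-4 : B₁) * E1 + 4 * c * E2
  have hfa₁ : a₁ ^ 2 - x ^ n * a₁ = π * (1 - 4 * c') := by
    linear_combination (a₁ + a₀ + d * y - x ^ n) * hA1 + (-(d * y)) * hd + d ^ 2 * hy' +
      (-c') * hd2 + (-(x ^ (2 * n))) * huc + (-(x ^ (2 * n))) * hv - E1 + c * E2
  have hmem : a₁ * (a₁ - x ^ n) ∈ p := by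
    have : a₁ * (a₁ - x ^ n) = π * (1 - 4 * c') := by rw [← hfa₁]; ring
    rw [this]; exact Ideal.mul_mem_right _ _ hπ
  have hw1 : IsUnit (1 + y) := by
    have h := isUnit_one_sub_self_of_mem_nonunits (-y)
      ((mem_maximalIdeal _).mp ((maximalIdeal B₁).neg_mem hym'))
    rwa [sub_neg_eq_add] at h
  obtain ⟨w1, hw1'⟩ := hw1
  obtain ⟨z, hz⟩ : ∃ z : B₁, z = -(↑u⁻¹ * c * ↑w1⁻¹) := ⟨_, rfl⟩
  have hyz : y = x ^ (n + 1) * z := by
    have h2 : y * (w1 : B₁) = -c' := by rw [hw1']; linear_combination hy'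
    have h3 : y = -c' * ↑w1⁻¹ := by
      rw [← h2, mul_assoc, Units.mul_inv, mul_one]
    rw [h3, hc', hv, hz]; ring
  obtain ⟨π', hπ', w', hw', E3⟩ := Submodule.mem_sup.mp ha₀
  obtain ⟨r, rfl⟩ := Ideal.mem_span_singleton'.mp hw'
  obtain ⟨δ, hδ⟩ : ∃ δ : B₂, δ = r * φ x ^ (2 * n) - φ (d * z) := ⟨_, rfl⟩
  have hkey : a - φ a₁ - φ x ^ (n + 1) * δ = π' := by
    have e0 : d * y = x ^ (n + 1) * (d * z) := by rw [hyz]; ring
    have e1 : φ a₁ = φ a₀ + φ x ^ (n + 1) * φ (d * z) := by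
      rw [hA1, map_add, e0, map_mul, map_pow]
    have E2' : φ x ^ (3 * n + 1) = φ x ^ (2 * n) * φ x ^ (n + 1) := by
      rw [← pow_add]; congr 1; omega
    rw [e1, hδ]; linear_combination (-1 : B₂) * E3 + r * E2'
  rcases hpp.mem_or_mem hmem with h | h
  · left
    have hφ : φ a₁ ∈ p.map φ := Ideal.mem_map_of_mem φ h
    obtain ⟨ε, hε⟩ : ∃ ε : B₂, ε = a - φ x ^ (n + 1) * δ := ⟨_, rfl⟩
    have hεm : ε ∈ p.map φ := by
      have : ε = π' + φ a₁ := by rw [hε, ← hkey]; ring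
      rw [this]; exact Ideal.add_mem _ hπ' hφ
    have h5 : φ x ^ (2 * n + 1) * (δ * (φ x * δ - 1)) ∈ p.map φ := by
      have : φ x ^ (2 * n + 1) * (δ * (φ x * δ - 1)) =
          (a ^ 2 - φ x ^ n * a) - ε * (ε + 2 * φ x ^ (n + 1) * δ - φ x ^ n) := by
        rw [hε]; ring
      rw [this]; exact Ideal.sub_mem _ ha (Ideal.mul_mem_right _ _ hεm)
    have h6 := hiter _ _ h5
    have hunit : IsUnit (φ x * δ - 1) := by
      have h := isUnit_one_sub_self_of_mem_nonunits (φ x * δ)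
        ((mem_maximalIdeal _).mp (Ideal.mul_mem_right _ _ hφx))
      have e : φ x * δ - 1 = -(1 - φ x * δ) := by ring
      rw [e]; exact h.neg
    have h7 : δ ∈ p.map φ := (Ideal.mul_unit_mem_iff_mem _ hunit).mp h6
    have : a = ε + φ x ^ (n + 1) * δ := by rw [hε]; ring
    rw [this]; exact Ideal.add_mem _ hεm (Ideal.mul_mem_left _ _ h7)
  · right
    have hφ : φ a₁ - φ x ^ n ∈ p.map φ := by
      have := Ideal.mem_map_of_mem φ h
      simpa only [map_sub, map_pow] using this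
    obtain ⟨ε, hε⟩ : ∃ ε : B₂, ε = a - φ x ^ n - φ x ^ (n + 1) * δ := ⟨_, rfl⟩
    have hεm : ε ∈ p.map φ := by
      have : ε = π' + (φ a₁ - φ x ^ n) := by rw [hε, ← hkey]; ring
      rw [this]; exact Ideal.add_mem _ hπ' hφ
    have h5 : φ x ^ (2 * n + 1) * (δ * (1 + φ x * δ)) ∈ p.map φ := by
      have : φ x ^ (2 * n + 1) * (δ * (1 + φ x * δ)) =
          (a ^ 2 - φ x ^ n * a) - ε * (ε + 2 * φ x ^ (n + 1) * δ + φ x ^ n) := by
        rw [hε]; ring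
      rw [this]; exact Ideal.sub_mem _ ha (Ideal.mul_mem_right _ _ hεm)
    have h6 := hiter _ _ h5
    have hunit : IsUnit (1 + φ x * δ) := by
      have h := isUnit_one_sub_self_of_mem_nonunits (-(φ x * δ))
        ((mem_maximalIdeal _).mp (neg_mem (Ideal.mul_mem_right _ _ hφx)))
      rwa [sub_neg_eq_add] at h
    have h7 : δ ∈ p.map φ := (Ideal.mul_unit_mem_iff_mem _ hunit).mp h6
    have : a - φ x ^ n = ε + φ x ^ (n + 1) * δ := by rw [hε]; ring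
    rw [this]; exact Ideal.add_mem _ hεm (Ideal.mul_mem_left _ _ h7)

theorem notMem_minimalPrimes_of_regular {R : Type u} [CommRing R] (𝔓 : Ideal R) (ξ : R)
    (H1 : ∀ t : R, ξ * t ∈ 𝔓 → t ∈ 𝔓) {q : Ideal R} (hq : q ∈ 𝔓.minimalPrimes) : ξ ∉ q := by
  intro hξ
  rw [Ideal.minimalPrimes_eq_comap] at hq
  obtain ⟨q', hq', rfl⟩ := hq
  have hx : Ideal.Quotient.mk 𝔓 ξ ∈ q' := hξ
  obtain ⟨y', hy', n, hn⟩ := Groth.Agent.H47.BranchCount.exists_mul_pow_eq_zero hq' hx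
  obtain ⟨s, rfl⟩ := Ideal.Quotient.mk_surjective y'
  have h1 : s * ξ ^ n ∈ 𝔓 := by
    rw [← Ideal.Quotient.eq_zero_iff_mem, map_mul, map_pow]; exact hn
  have h2 : s ∈ 𝔓 := mem_of_pow_mul_mem 𝔓 ξ H1 n s (by rwa [mul_comm] at h1)
  apply hy'
  rw [Ideal.Quotient.eq_zero_iff_mem.mpr h2]
  exact q'.zero_mem

theorem minimalPrimes_eq_of_dichotomy {R : Type u} [CommRing R] [IsNoetherianRing R]
    (𝔓 : Ideal R) (ξ : R)
    (H1 : ∀ t : R, ξ * t ∈ 𝔓 → t ∈ 𝔓)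
    (Hmin : ∀ P : Ideal R, P.IsPrime → 𝔓 ≤ P → ξ ∉ P → P ∈ 𝔓.minimalPrimes)
    (Hdich : ∀ (a : R) (n : ℕ), a ^ 2 - ξ ^ n * a ∈ 𝔓 → a ∈ 𝔓 ∨ a - ξ ^ n ∈ 𝔓)
    {q₁ q₂ : Ideal R} (h₁ : q₁ ∈ 𝔓.minimalPrimes) (h₂ : q₂ ∈ 𝔓.minimalPrimes) : q₁ = q₂ := by
  classical
  by_contra hne
  have hfin := Ideal.finite_minimalPrimes_of_isNoetherianRing R 𝔓
  obtain ⟨F, hF⟩ : ∃ F : Finset (Ideal R), F = hfin.toFinset.erase q₁ := ⟨_, rfl⟩
  obtain ⟨J, hJ⟩ : ∃ J : Ideal R, J = F.inf id := ⟨_, rfl⟩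
  have hq₂F : q₂ ∈ F := by
    rw [hF]
    exact Finset.mem_erase.mpr ⟨fun h => hne h.symm, hfin.mem_toFinset.mpr h₂⟩
  have hJle : ∀ q ∈ F, J ≤ q := fun q hq => by rw [hJ]; exact Finset.inf_le (f := id) hq
  have hq₁p : q₁.IsPrime := h₁.1.1
  have hq₂p : q₂.IsPrime := h₂.1.1
  have hrad : q₁ ⊓ J ≤ 𝔓.radical := by
    rw [← Ideal.sInf_minimalPrimes]
    refine le_sInf fun q hq => ?_
    by_cases h : q = q₁
    · rw [h]; exact inf_le_left
    · refine inf_le_right.trans (hJle q ?_)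
      rw [hF]
      exact Finset.mem_erase.mpr ⟨h, hfin.mem_toFinset.mpr hq⟩
  obtain ⟨M, hM⟩ := Ideal.exists_radical_pow_le_of_fg 𝔓 (IsNoetherian.noetherian _)
  have hξrad : ξ ∈ (q₁ ⊔ J).radical := by
    rw [Ideal.radical_eq_sInf, Ideal.mem_sInf]
    rintro P ⟨hle, hP⟩
    by_contra hξP
    have hq₁P : q₁ ≤ P := le_sup_left.trans hle
    have hPmin := Hmin P hP (h₁.1.2.trans hq₁P) hξP
    have hPq₁ : P ≤ q₁ := hPmin.2 h₁.1 hq₁P
    have hJP : J ≤ P := le_sup_right.trans hle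
    rw [hJ] at hJP
    obtain ⟨q, hqF, hqP⟩ := (hP.inf_le' (s := F) (f := id)).mp hJP
    have hqF' := hqF
    rw [hF] at hqF'
    have hqmin : q ∈ 𝔓.minimalPrimes := hfin.mem_toFinset.mp (Finset.mem_of_mem_erase hqF')
    have hqq₁ : q ≤ q₁ := hqP.trans hPq₁
    have hq₁q : q₁ ≤ q := h₁.2 hqmin.1 hqq₁
    exact (Finset.mem_erase.mp hqF').1 (le_antisymm hqq₁ hq₁q)
  obtain ⟨K₀, hK₀⟩ := hξrad
  obtain ⟨α, hα, β, hβ, hαβ⟩ := Submodule.mem_sup.mp hK₀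
  have hprod : (α * β) ^ (M + 1) ∈ 𝔓 := by
    apply hM
    have h0 : α * β ∈ 𝔓.radical :=
      hrad (Ideal.mem_inf.mpr ⟨Ideal.mul_mem_right _ _ hα, Ideal.mul_mem_left _ _ hβ⟩)
    exact Ideal.pow_le_pow_right (Nat.le_succ M) (Ideal.pow_mem_pow h0 (M + 1))
  have hsum : (α + β) ^ (2 * (M + 1)) ∈
      Ideal.span {α ^ (M + 1)} ⊔ Ideal.span {β ^ (M + 1)} :=
    Ideal.add_pow_mem_of_pow_mem_of_le _ (Ideal.mem_sup_left (Ideal.subset_span rfl))
      (Ideal.mem_sup_right (Ideal.subset_span rfl)) (by omega)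
  obtain ⟨a, ha, b, hb, hab⟩ := Submodule.mem_sup.mp hsum
  obtain ⟨r, rfl⟩ := Ideal.mem_span_singleton'.mp ha
  obtain ⟨s, rfl⟩ := Ideal.mem_span_singleton'.mp hb
  have hK : ξ ^ (K₀ * (2 * (M + 1))) = r * α ^ (M + 1) + s * β ^ (M + 1) := by
    rw [pow_mul, ← hαβ, hab]
  have haq₁ : r * α ^ (M + 1) ∈ q₁ :=
    Ideal.mul_mem_left _ _ (Ideal.pow_mem_of_mem _ hα _ (Nat.succ_pos M))
  have hbJ : s * β ^ (M + 1) ∈ J :=
    Ideal.mul_mem_left _ _ (Ideal.pow_mem_of_mem _ hβ _ (Nat.succ_pos M))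
  have habP : (r * α ^ (M + 1)) * (s * β ^ (M + 1)) ∈ 𝔓 := by
    have : (r * α ^ (M + 1)) * (s * β ^ (M + 1)) = r * s * (α * β) ^ (M + 1) := by ring
    rw [this]; exact Ideal.mul_mem_left _ _ hprod
  have hquad : (r * α ^ (M + 1)) ^ 2 - ξ ^ (K₀ * (2 * (M + 1))) * (r * α ^ (M + 1)) ∈ 𝔓 := by
    have : (r * α ^ (M + 1)) ^ 2 - ξ ^ (K₀ * (2 * (M + 1))) * (r * α ^ (M + 1)) =
        -((r * α ^ (M + 1)) * (s * β ^ (M + 1))) := by rw [hK]; ring
    rw [this]; exact neg_mem habP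
  have hξq₁ := notMem_minimalPrimes_of_regular 𝔓 ξ H1 h₁
  have hξq₂ := notMem_minimalPrimes_of_regular 𝔓 ξ H1 h₂
  rcases Hdich _ _ hquad with h | h
  · apply hξq₂
    apply hq₂p.mem_of_pow_mem (K₀ * (2 * (M + 1)))
    rw [hK]
    exact Ideal.add_mem _ (h₂.1.2 h) (hJle q₂ hq₂F hbJ)
  · apply hξq₁
    apply hq₁p.mem_of_pow_mem (K₀ * (2 * (M + 1)))
    have hb𝔓 : s * β ^ (M + 1) ∈ 𝔓 := by
      have : s * β ^ (M + 1) = -(r * α ^ (M + 1) - ξ ^ (K₀ * (2 * (M + 1)))) := by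
        rw [hK]; ring
      rw [this]; exact neg_mem h
    rw [hK]
    exact Ideal.add_mem _ haq₁ (h₁.1.2 hb𝔓)

section Main

variable {B₁ B₂ : Type u} [CommRing B₁] [HenselianLocalRing B₁] [IsNoetherianRing B₁]
  [CommRing B₂] [IsLocalRing B₂] [IsNoetherianRing B₂] [Algebra B₁ B₂]

omit [IsNoetherianRing B₁] [IsNoetherianRing B₂] in
theorem exists_sub_mem_pow (hmax : (maximalIdeal B₁).map (algebraMap B₁ B₂) = maximalIdeal B₂)
    (hres : ∀ t : B₂, ∃ s : B₁, t - algebraMap B₁ B₂ s ∈ maximalIdeal B₂) :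
    ∀ (N : ℕ) (t : B₂), ∃ s : B₁, t - algebraMap B₁ B₂ s ∈ maximalIdeal B₂ ^ N := by
  intro N
  induction N with
  | zero => intro t; exact ⟨0, by simp⟩
  | succ N ih =>
    intro t
    obtain ⟨s₀, hs₀⟩ := ih t
    have key : ∀ z ∈ (maximalIdeal B₁ ^ N).map (algebraMap B₁ B₂),
        ∃ s' : B₁, z - algebraMap B₁ B₂ s' ∈ maximalIdeal B₂ ^ (N + 1) := by
      intro z hz
      refine Submodule.span_induction (p := fun z _ => ∃ s' : B₁,
        z - algebraMap B₁ B₂ s' ∈ maximalIdeal B₂ ^ (N + 1)) ?_ ?_ ?_ ?_ hz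
      · rintro _ ⟨μ, _, rfl⟩
        exact ⟨μ, by simp⟩
      · exact ⟨0, by simp⟩
      · rintro z₁ z₂ _ _ ⟨s₁, h₁⟩ ⟨s₂, h₂⟩
        refine ⟨s₁ + s₂, ?_⟩
        have : z₁ + z₂ - algebraMap B₁ B₂ (s₁ + s₂) =
            (z₁ - algebraMap B₁ B₂ s₁) + (z₂ - algebraMap B₁ B₂ s₂) := by
          rw [map_add]; ring
        rw [this]; exact Ideal.add_mem _ h₁ h₂
      · rintro c z hzmem ⟨s', hs'⟩
        obtain ⟨sc, hsc⟩ := hres c
        refine ⟨sc * s', ?_⟩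
        have hzN : z ∈ maximalIdeal B₂ ^ N := by
          have h0 : z ∈ (maximalIdeal B₁ ^ N).map (algebraMap B₁ B₂) := hzmem
          rwa [Ideal.map_pow, hmax] at h0
        have : c • z - algebraMap B₁ B₂ (sc * s') =
            (c - algebraMap B₁ B₂ sc) * z +
              algebraMap B₁ B₂ sc * (z - algebraMap B₁ B₂ s') := by
          rw [map_mul, smul_eq_mul]; ring
        rw [this]
        refine Ideal.add_mem _ ?_ (Ideal.mul_mem_left _ _ hs')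
        rw [pow_succ']
        exact Ideal.mul_mem_mul hsc hzN
    rw [← hmax, ← Ideal.map_pow] at hs₀
    obtain ⟨s', hs'⟩ := key _ hs₀
    refine ⟨s₀ + s', ?_⟩
    have : t - algebraMap B₁ B₂ (s₀ + s') =
        (t - algebraMap B₁ B₂ s₀) - algebraMap B₁ B₂ s' := by rw [map_add]; ring
    rw [this]; exact hs'

omit [HenselianLocalRing B₁] [IsNoetherianRing B₁] in
theorem sup_span_pow_le (p : Ideal B₁) (x : B₁) (L : ℕ) :
    (p ⊔ Ideal.span {x}) ^ L ≤ p ⊔ Ideal.span {x ^ L} := by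
  induction L with
  | zero => simp
  | succ L ih =>
    rw [pow_succ]
    refine Ideal.mul_le.mpr fun r hr s hs => ?_
    obtain ⟨r₁, hr₁, r₂, hr₂, rfl⟩ := Submodule.mem_sup.mp (ih hr)
    obtain ⟨s₁, hs₁, s₂, hs₂, rfl⟩ := Submodule.mem_sup.mp hs
    obtain ⟨c₁, rfl⟩ := Ideal.mem_span_singleton'.mp hr₂
    obtain ⟨c₂, rfl⟩ := Ideal.mem_span_singleton'.mp hs₂
    have : (r₁ + c₁ * x ^ L) * (s₁ + c₂ * x) =
        (r₁ * (s₁ + c₂ * x) + c₁ * x ^ L * s₁) + (c₁ * c₂) * x ^ (L + 1) := by ring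
    rw [this]
    exact Ideal.add_mem _ (Ideal.mem_sup_left (Ideal.add_mem _ (Ideal.mul_mem_right _ _ hr₁)
      (Ideal.mul_mem_left _ _ hs₁))) (Ideal.mem_sup_right
        (Ideal.mem_span_singleton'.mpr ⟨_, rfl⟩))

variable [Module.Flat B₁ B₂] [IsLocalHom (algebraMap B₁ B₂)]

/-- Contraction is injective on minimal primes, for a flat local map of one-dimensional Noetherian
local rings with henselian source, `𝔪₁ B₂ = 𝔪₂` and trivial residue extension. -/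
theorem comap_injOn_minimalPrimes
    (hmax : (maximalIdeal B₁).map (algebraMap B₁ B₂) = maximalIdeal B₂)
    (hres : ∀ t : B₂, ∃ s : B₁, t - algebraMap B₁ B₂ s ∈ maximalIdeal B₂)
    (hd₁ : ringKrullDim B₁ = 1) (hd₂ : ringKrullDim B₂ = 1)
    {q₁ q₂ : Ideal B₂} (h₁ : q₁ ∈ minimalPrimes B₂) (h₂ : q₂ ∈ minimalPrimes B₂)
    (heq : q₁.comap (algebraMap B₁ B₂) = q₂.comap (algebraMap B₁ B₂)) : q₁ = q₂ := by
  haveI : Module.FaithfullyFlat B₁ B₂ := Module.FaithfullyFlat.of_flat_of_isLocalHom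
  have hq₁p : q₁.IsPrime := h₁.1.1
  have hq₂p : q₂.IsPrime := h₂.1.1
  have hht₁ : (maximalIdeal B₁).height = 1 := by
    have h := IsLocalRing.maximalIdeal_height_eq_ringKrullDim (R := B₁)
    rw [hd₁] at h
    exact_mod_cast h
  have hht₂ : (maximalIdeal B₂).height = 1 := by
    have h := IsLocalRing.maximalIdeal_height_eq_ringKrullDim (R := B₂)
    rw [hd₂] at h
    exact_mod_cast h
  obtain ⟨p, hp⟩ : ∃ p : Ideal B₁, p = q₁.comap (algebraMap B₁ B₂) := ⟨_, rfl⟩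
  have hpmin : p ∈ minimalPrimes B₁ := by
    rw [hp]; exact Groth.Agent.H47.HensCompletion.comap_mem_minimalPrimes h₁
  haveI hpp : p.IsPrime := hpmin.1.1
  have hpne : p ≠ maximalIdeal B₁ := by
    intro h
    have h0 : p.height = 0 := Ideal.height_eq_zero_iff.mpr hpmin
    rw [h, hht₁] at h0
    exact one_ne_zero h0
  have hplt : p < maximalIdeal B₁ := lt_of_le_of_ne (le_maximalIdeal hpp.ne_top) hpne
  obtain ⟨x, hxm, hxp⟩ := SetLike.exists_of_lt hplt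
  have hradle : maximalIdeal B₁ ≤ (p ⊔ Ideal.span {x}).radical := by
    rw [Ideal.radical_eq_sInf]
    refine le_sInf ?_
    rintro P ⟨hle, hP⟩
    haveI := hP
    have hxP : x ∈ P := hle (Ideal.mem_sup_right (Ideal.subset_span rfl))
    have hpP : p < P := lt_of_le_of_ne (le_sup_left.trans hle) (fun h => hxp (by rw [h]; exact hxP))
    have h1 : p.height < P.height := Ideal.height_strict_mono_of_isPrime hpP
    by_contra hne
    have hPlt : P < maximalIdeal B₁ :=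
      lt_of_le_of_ne (le_maximalIdeal hP.ne_top) (fun h => hne (by rw [h]))
    have h2 : P.height < (maximalIdeal B₁).height := Ideal.height_strict_mono_of_isPrime hPlt
    rw [hht₁] at h2
    have h3 : P.height = 0 := Order.lt_one_iff.mp h2
    rw [h3] at h1
    exact not_lt_zero h1
  obtain ⟨r, hr⟩ := Ideal.exists_radical_pow_le_of_fg (p ⊔ Ideal.span {x})
    (IsNoetherian.noetherian _)
  have hmL : ∀ L : ℕ, maximalIdeal B₁ ^ (r * L) ≤ p ⊔ Ideal.span {x ^ L} := fun L => by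
    rw [pow_mul]
    exact (Ideal.pow_right_mono ((Ideal.pow_right_mono hradle r).trans hr) L).trans
      (sup_span_pow_le p x L)
  have hmapsup : ∀ L : ℕ, (p ⊔ Ideal.span {x ^ L}).map (algebraMap B₁ B₂) =
      p.map (algebraMap B₁ B₂) ⊔ Ideal.span {algebraMap B₁ B₂ x ^ L} := fun L => by
    rw [Ideal.map_sup, Ideal.map_span, Set.image_singleton, map_pow]
  have H3 : ∀ (L : ℕ) (t : B₂), ∃ s : B₁, t - algebraMap B₁ B₂ s ∈
      p.map (algebraMap B₁ B₂) ⊔ Ideal.span {algebraMap B₁ B₂ x ^ L} := by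
    intro L t
    obtain ⟨s, hs⟩ := exists_sub_mem_pow hmax hres (r * L) t
    refine ⟨s, ?_⟩
    rw [← hmapsup]
    rw [← hmax, ← Ideal.map_pow] at hs
    exact Ideal.map_mono (hmL L) hs
  have H4 : ∀ (L : ℕ) (s : B₁), algebraMap B₁ B₂ s ∈
      p.map (algebraMap B₁ B₂) ⊔ Ideal.span {algebraMap B₁ B₂ x ^ L} →
      s ∈ p ⊔ Ideal.span {x ^ L} := by
    intro L s hs
    rw [← hmapsup] at hs
    have h0 := Ideal.mem_comap.mpr hs
    rwa [Ideal.comap_map_eq_self_of_faithfullyFlat] at h0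
  have H1 : ∀ t : B₂, algebraMap B₁ B₂ x * t ∈ p.map (algebraMap B₁ B₂) →
      t ∈ p.map (algebraMap B₁ B₂) := by
    intro t ht
    have hreg : IsSMulRegular (B₁ ⧸ p) x := by
      intro z₁ z₂ h
      simp only [Algebra.smul_def, Ideal.Quotient.algebraMap_eq] at h
      have hx0 : Ideal.Quotient.mk p x ≠ 0 :=
        fun h0 => hxp (Ideal.Quotient.eq_zero_iff_mem.mp h0)
      exact mul_left_cancel₀ hx0 h
    have hreg2 : IsSMulRegular (B₂ ⊗[B₁] (B₁ ⧸ p)) x := IsSMulRegular.lTensor B₂ hreg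
    have h0 : (algebraMap B₁ B₂ x * t) ⊗ₜ[B₁] (1 : B₁ ⧸ p) = 0 :=
      Groth.Agent.H47.HensNoeth.tmul_one_eq_zero_of_mem_map p ht
    have h1 : x • (t ⊗ₜ[B₁] (1 : B₁ ⧸ p)) = x • (0 : B₂ ⊗[B₁] (B₁ ⧸ p)) := by
      rw [TensorProduct.smul_tmul', Algebra.smul_def, smul_zero]; exact h0
    exact Groth.Agent.H47.HensNoeth.mem_map_of_tmul_one_eq_zero p (hreg2 h1)
  have hφx : algebraMap B₁ B₂ x ∈ maximalIdeal B₂ := by
    have h0 : algebraMap B₁ B₂ x ∈ (maximalIdeal B₁).map (algebraMap B₁ B₂) :=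
      Ideal.mem_map_of_mem _ hxm
    rwa [hmax] at h0
  have Hdich := root_dichotomy (algebraMap B₁ B₂) p x hxm hφx H1 H3 H4
  have Hmin : ∀ P : Ideal B₂, P.IsPrime → p.map (algebraMap B₁ B₂) ≤ P →
      algebraMap B₁ B₂ x ∉ P → P ∈ (p.map (algebraMap B₁ B₂)).minimalPrimes := by
    intro P hP hle hxP
    haveI := hP
    have hPlt : P < maximalIdeal B₂ :=
      lt_of_le_of_ne (le_maximalIdeal hP.ne_top) (fun h => hxP (by rw [h]; exact hφx))
    have h2 : P.height < (maximalIdeal B₂).height := Ideal.height_strict_mono_of_isPrime hPlt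
    rw [hht₂] at h2
    have h3 : P.height = 0 := Order.lt_one_iff.mp h2
    have hPmin : P ∈ minimalPrimes B₂ := Ideal.height_eq_zero_iff.mp h3
    exact ⟨⟨hP, hle⟩, fun Q hQ hQP => hPmin.2 ⟨hQ.1, bot_le⟩ hQP⟩
  have hle₁ : p.map (algebraMap B₁ B₂) ≤ q₁ := by
    rw [Ideal.map_le_iff_le_comap, hp]
  have hle₂ : p.map (algebraMap B₁ B₂) ≤ q₂ := by
    rw [Ideal.map_le_iff_le_comap, hp, heq]
  have hm₁ : q₁ ∈ (p.map (algebraMap B₁ B₂)).minimalPrimes :=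
    ⟨⟨hq₁p, hle₁⟩, fun Q hQ hQq => h₁.2 ⟨hQ.1, bot_le⟩ hQq⟩
  have hm₂ : q₂ ∈ (p.map (algebraMap B₁ B₂)).minimalPrimes :=
    ⟨⟨hq₂p, hle₂⟩, fun Q hQ hQq => h₂.2 ⟨hQ.1, bot_le⟩ hQq⟩
  exact minimalPrimes_eq_of_dichotomy (p.map (algebraMap B₁ B₂)) (algebraMap B₁ B₂ x) H1 Hmin
    Hdich hm₁ hm₂

/-- Equality of the number of minimal primes. -/
theorem encard_minimalPrimes_eq
    (hmax : (maximalIdeal B₁).map (algebraMap B₁ B₂) = maximalIdeal B₂)
    (hres : ∀ t : B₂, ∃ s : B₁, t - algebraMap B₁ B₂ s ∈ maximalIdeal B₂)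
    (hd₁ : ringKrullDim B₁ = 1) (hd₂ : ringKrullDim B₂ = 1) :
    (minimalPrimes B₂).encard = (minimalPrimes B₁).encard := by
  haveI : Module.FaithfullyFlat B₁ B₂ := Module.FaithfullyFlat.of_flat_of_isLocalHom
  apply le_antisymm
  · refine Set.encard_le_encard_of_injOn (f := Ideal.comap (algebraMap B₁ B₂))
      (fun q hq => Groth.Agent.H47.HensCompletion.comap_mem_minimalPrimes hq) ?_
    intro q₁ h₁ q₂ h₂ heq
    exact comap_injOn_minimalPrimes hmax hres hd₁ hd₂ h₁ h₂ heq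
  · have := Groth.Agent.H47.HensCompletion.card_minimalPrimes_le (S := B₁) (T := B₂)
    rwa [ENat.card_coe_set_eq, ENat.card_coe_set_eq] at this

end Main

end Groth.Agent.H47.DimOneBranch
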