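import Mathlib
import Groth.Agent.H47.DimOneBranch

/-!
# One-dimensional components of the completion come from the henselization (helper47)

`minimalPrimes_map_comap_eq`: for a flat local homomorphism `B₁ → B₂` of Noetherian local rings with
`B₁` henselian, `𝔪₁ B₂ = 𝔪₂` and trivial residue field extension, if `q` is a minimal prime of `B₂`
such that every prime strictly above `q` is the maximal ideal, then `q` is the only minimal prime
over `(q ∩ B₁) B₂`.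

Tools: `hensel_quadratic` (strong Hensel for `T² - xⁿ T` modulo a prime and a power of `x`),
`det_trick` (determinant trick with an explicit exponent), `mem_of_forall_mem_sup_span_pow`
(Krull intersection relative to an ideal).
-/

set_option autoImplicit false
universe u

open IsLocalRing Polynomial TensorProduct

namespace Groth.Agent.H47.DimOneComp

open Groth.Agent.H47.DimOneBranch

/-- The colon ideal `(𝔓 : b)`. -/
def colonIdeal {R : Type*} [CommRing R] (𝔓 : Ideal R) (b : R) : Ideal R where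
  carrier := {t | t * b ∈ 𝔓}
  add_mem' := by
    intro s t hs ht
    show (s + t) * b ∈ 𝔓
    rw [add_mul]; exact 𝔓.add_mem hs ht
  zero_mem' := by
    show (0 : R) * b ∈ 𝔓
    rw [zero_mul]; exact 𝔓.zero_mem
  smul_mem' := by
    intro c t ht
    show (c • t) * b ∈ 𝔓
    rw [smul_eq_mul, mul_assoc]; exact 𝔓.mul_mem_left _ ht

theorem mem_colonIdeal {R : Type*} [CommRing R] {𝔓 : Ideal R} {b t : R} :
    t ∈ colonIdeal 𝔓 b ↔ t * b ∈ 𝔓 := Iff.rfl

/-- Strong Hensel for `T² - xⁿ T` modulo a prime `p` and a high power of `x`. -/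
theorem hensel_quadratic {B₁ : Type*} [CommRing B₁] [HenselianLocalRing B₁]
    (p : Ideal B₁) [hpp : p.IsPrime] (x : B₁) (hxm : x ∈ maximalIdeal B₁)
    (c : B₁) (n j : ℕ)
    (hc : c ^ 2 - x ^ n * c ∈ p ⊔ Ideal.span {x ^ (3 * n + 1 + j)}) :
    c ∈ p ⊔ Ideal.span {x ^ (n + 1 + j)} ∨ c - x ^ n ∈ p ⊔ Ideal.span {x ^ (n + 1 + j)} := by
  obtain ⟨π, hπ, w, hw, E1⟩ := Submodule.mem_sup.mp hc
  obtain ⟨c₀, rfl⟩ := Ideal.mem_span_singleton'.mp hw
  have E2 : x ^ (3 * n + 1 + j) = x ^ (2 * n) * x ^ (n + 1 + j) := by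
    rw [← pow_add]; congr 1; omega
  obtain ⟨v, hv⟩ : ∃ v : B₁, v = x ^ (n + 1 + j) * c₀ := ⟨_, rfl⟩
  have hvm : v ∈ maximalIdeal B₁ := by
    rw [hv]; exact Ideal.mul_mem_right _ _ (Ideal.pow_mem_of_mem _ hxm _ (by omega))
  have hu : IsUnit (1 + 4 * v) := by
    have h := isUnit_one_sub_self_of_mem_nonunits (-(4 * v))
      ((mem_maximalIdeal _).mp ((maximalIdeal B₁).neg_mem (Ideal.mul_mem_left _ _ hvm)))
    rwa [sub_neg_eq_add] at h
  obtain ⟨u, hu'⟩ := hu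
  obtain ⟨c', hc'⟩ : ∃ c' : B₁, c' = ↑u⁻¹ * v := ⟨_, rfl⟩
  have hc'm : c' ∈ maximalIdeal B₁ := by rw [hc']; exact Ideal.mul_mem_left _ _ hvm
  have huc : (u : B₁) * c' = v := by rw [hc', ← mul_assoc, Units.mul_inv, one_mul]
  obtain ⟨y, hy, hym⟩ := HenselianLocalRing.is_henselian (X ^ 2 + X + C c' : B₁[X])
    (by rw [add_assoc]; exact monic_X_pow_add (by rw [degree_X_add_C]; norm_num)) 0
    (by simpa using hc'm) (by simp)
  have hy' : y ^ 2 + y + c' = 0 := by simpa [IsRoot.def] using hy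
  have hym' : y ∈ maximalIdeal B₁ := by simpa using hym
  obtain ⟨d, hd⟩ : ∃ d : B₁, d = 2 * c - x ^ n := ⟨_, rfl⟩
  obtain ⟨a₁, hA1⟩ : ∃ a₁ : B₁, a₁ = c + d * y := ⟨_, rfl⟩
  have hd2 : d ^ 2 = x ^ (2 * n) * (u : B₁) + 4 * π := by
    rw [hu', hd, hv]; linear_combination (-4 : B₁) * E1 + 4 * c₀ * E2
  have hfa₁ : a₁ ^ 2 - x ^ n * a₁ = π * (1 - 4 * c') := by
    linear_combination (a₁ + c + d * y - x ^ n) * hA1 + (-(d * y)) * hd + d ^ 2 * hy' +
      (-c') * hd2 + (-(x ^ (2 * n))) * huc + (-(x ^ (2 * n))) * hv - E1 + c₀ * E2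
  have hmem : a₁ * (a₁ - x ^ n) ∈ p := by
    have : a₁ * (a₁ - x ^ n) = π * (1 - 4 * c') := by rw [← hfa₁]; ring
    rw [this]; exact Ideal.mul_mem_right _ _ hπ
  have hw1 : IsUnit (1 + y) := by
    have h := isUnit_one_sub_self_of_mem_nonunits (-y)
      ((mem_maximalIdeal _).mp ((maximalIdeal B₁).neg_mem hym'))
    rwa [sub_neg_eq_add] at h
  obtain ⟨w1, hw1'⟩ := hw1
  obtain ⟨z, hz⟩ : ∃ z : B₁, z = -(↑u⁻¹ * c₀ * ↑w1⁻¹) := ⟨_, rfl⟩
  have hyz : y = x ^ (n + 1 + j) * z := by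
    have h2 : y * (w1 : B₁) = -c' := by rw [hw1']; linear_combination hy'
    have h3 : y = -c' * ↑w1⁻¹ := by
      rw [← h2, mul_assoc, Units.mul_inv, mul_one]
    rw [h3, hc', hv, hz]; ring
  have hspan : x ^ (n + 1 + j) * (d * z) ∈ Ideal.span {x ^ (n + 1 + j)} :=
    Ideal.mul_mem_right _ _ (Ideal.subset_span rfl)
  rcases hpp.mem_or_mem hmem with h | h
  · left
    have : c = a₁ + -(x ^ (n + 1 + j) * (d * z)) := by rw [hA1, hyz]; ring
    rw [this]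
    exact Ideal.add_mem _ (Ideal.mem_sup_left h) (Ideal.mem_sup_right (neg_mem hspan))
  · right
    have : c - x ^ n = (a₁ - x ^ n) + -(x ^ (n + 1 + j) * (d * z)) := by rw [hA1, hyz]; ring
    rw [this]
    exact Ideal.add_mem _ (Ideal.mem_sup_left h) (Ideal.mem_sup_right (neg_mem hspan))

/-- Determinant trick with an explicit exponent. -/
theorem det_trick {R : Type*} [CommRing R] {ι : Type*} [Fintype ι] [DecidableEq ι]
    (N Z : Ideal R) (g : ι → R) (hg : Ideal.span (Set.range g) = N) (y : R)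
    (hy : ∀ i, y * g i ∈ N * N ⊔ Z) :
    ∃ c ∈ N, ∀ d ∈ N, (y ^ Fintype.card ι - c) * d ∈ Z := by
  have hNN : ∀ w ∈ N * N, ∃ C : ι → R, (∀ j, C j ∈ N) ∧ w = ∑ j, C j * g j := by
    intro w hw
    have hw' : w ∈ N • N := hw
    refine Submodule.smul_induction_on
      (p := fun w => ∃ C : ι → R, (∀ j, C j ∈ N) ∧ w = ∑ j, C j * g j) hw' ?_ ?_
    · intro r hr m hm
      rw [← hg] at hm
      obtain ⟨e, he⟩ := (Submodule.mem_span_range_iff_exists_fun R).mp hm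
      refine ⟨fun j => r * e j, fun j => Ideal.mul_mem_right _ _ hr, ?_⟩
      rw [← he, smul_eq_mul, Finset.mul_sum]
      refine Finset.sum_congr rfl fun j _ => ?_
      rw [smul_eq_mul]; ring
    · rintro w₁ w₂ ⟨C₁, h₁, rfl⟩ ⟨C₂, h₂, rfl⟩
      refine ⟨fun j => C₁ j + C₂ j, fun j => N.add_mem (h₁ j) (h₂ j), ?_⟩
      rw [← Finset.sum_add_distrib]
      refine Finset.sum_congr rfl fun j _ => ?_
      ring
  have hy' : ∀ i, ∃ (C : ι → R) (z : R), (∀ j, C j ∈ N) ∧ z ∈ Z ∧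
      y * g i = ∑ j, C j * g j + z := by
    intro i
    obtain ⟨w, hw, z, hz, hwz⟩ := Submodule.mem_sup.mp (hy i)
    obtain ⟨C, hC, rfl⟩ := hNN w hw
    exact ⟨C, z, hC, hz, hwz.symm⟩
  choose C z hC hz hyg using hy'
  obtain ⟨M, hMdef⟩ : ∃ M : Matrix ι ι R, M = y • (1 : Matrix ι ι R) - Matrix.of C := ⟨_, rfl⟩
  have hMg : M.mulVec g = z := by
    funext i
    rw [hMdef, Matrix.sub_mulVec, Matrix.smul_mulVec, Matrix.one_mulVec]
    simp only [Pi.sub_apply, Pi.smul_apply, smul_eq_mul, Matrix.mulVec, dotProduct,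
      Matrix.of_apply]
    rw [hyg i]; ring
  have hdet : ∀ i, M.det * g i ∈ Z := by
    intro i
    have h1 : (M.adjugate * M).mulVec g = M.adjugate.mulVec z := by
      rw [← Matrix.mulVec_mulVec, hMg]
    rw [Matrix.adjugate_mul, Matrix.smul_mulVec, Matrix.one_mulVec] at h1
    have h2 := congrFun h1 i
    simp only [Pi.smul_apply, smul_eq_mul] at h2
    rw [h2]
    simp only [Matrix.mulVec, dotProduct]
    exact Z.sum_mem fun j _ => Z.mul_mem_left _ (hz j)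
  have hdetN : y ^ Fintype.card ι - M.det ∈ N := by
    rw [← Ideal.Quotient.eq_zero_iff_mem, map_sub, map_pow, sub_eq_zero, RingHom.map_det]
    have hM : (Ideal.Quotient.mk N).mapMatrix M =
        (Ideal.Quotient.mk N y) • (1 : Matrix ι ι (R ⧸ N)) := by
      ext i j
      rw [hMdef]
      simp only [RingHom.mapMatrix_apply, Matrix.map_apply, Matrix.sub_apply, Matrix.smul_apply,
        Matrix.of_apply, map_sub, smul_eq_mul, map_mul, Matrix.one_apply]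
      rw [Ideal.Quotient.eq_zero_iff_mem.mpr (hC i j), sub_zero]
      split_ifs <;> simp
    rw [hM, Matrix.det_smul, Matrix.det_one, mul_one]
  refine ⟨y ^ Fintype.card ι - M.det, hdetN, fun d hd => ?_⟩
  rw [sub_sub_cancel]
  rw [← hg] at hd
  obtain ⟨e, rfl⟩ := (Submodule.mem_span_range_iff_exists_fun R).mp hd
  rw [Finset.mul_sum]
  refine Z.sum_mem fun i _ => ?_
  rw [smul_eq_mul, mul_left_comm]
  exact Z.mul_mem_left _ (hdet i)

/-- Krull's intersection theorem relative to an ideal. -/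
theorem mem_of_forall_mem_sup_span_pow {R : Type*} [CommRing R] [IsNoetherianRing R]
    [IsLocalRing R] (I : Ideal R) (ξ : R) (hξ : ξ ∈ maximalIdeal R) (t : R)
    (h : ∀ n : ℕ, t ∈ I ⊔ Ideal.span {ξ ^ n}) : t ∈ I := by
  have hle : Ideal.span {ξ} ≤ (⊥ : Ideal R).jacobson := by
    rw [IsLocalRing.jacobson_eq_maximalIdeal ⊥ bot_ne_top, Ideal.span_singleton_le_iff_mem]
    exact hξ
  have hK := Ideal.iInf_pow_smul_eq_bot_of_le_jacobson (M := R ⧸ I) (Ideal.span {ξ}) hle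
  have hmem : (Ideal.Quotient.mk I t) ∈
      (⨅ i : ℕ, Ideal.span {ξ} ^ i • (⊤ : Submodule R (R ⧸ I))) := by
    rw [Submodule.mem_iInf]
    intro n
    obtain ⟨i, hi, w, hw, rfl⟩ := Submodule.mem_sup.mp (h n)
    obtain ⟨s, rfl⟩ := Ideal.mem_span_singleton'.mp hw
    have : Ideal.Quotient.mk I (i + s * ξ ^ n) =
        (ξ ^ n) • (Submodule.Quotient.mk s : R ⧸ I) := by
      rw [← Submodule.Quotient.mk_smul]
      show Ideal.Quotient.mk I (i + s * ξ ^ n) = Ideal.Quotient.mk I (ξ ^ n • s)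
      rw [Ideal.Quotient.eq]
      have e : i + s * ξ ^ n - ξ ^ n • s = i := by rw [smul_eq_mul]; ring
      rw [e]; exact hi
    rw [this]
    have h1 : ξ ^ n ∈ Ideal.span {ξ} ^ n :=
      Ideal.pow_mem_pow (Ideal.mem_span_singleton_self ξ) n
    exact Submodule.smul_mem_smul h1 Submodule.mem_top
  rw [hK] at hmem
  exact Ideal.Quotient.eq_zero_iff_mem.mp ((Submodule.mem_bot _).mp hmem)

theorem span_pow_le_of_le {R : Type*} [CommRing R] (ξ : R) {n n' : ℕ} (h : n' ≤ n) :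
    Ideal.span {ξ ^ n} ≤ Ideal.span {ξ ^ n'} :=
  Ideal.span_singleton_le_span_singleton.mpr (pow_dvd_pow ξ h)

section Main

variable {B₁ B₂ : Type u} [CommRing B₁] [HenselianLocalRing B₁] [IsNoetherianRing B₁]
  [CommRing B₂] [IsLocalRing B₂] [IsNoetherianRing B₂] [Algebra B₁ B₂]
  [Module.Flat B₁ B₂] [IsLocalHom (algebraMap B₁ B₂)]

local notation "φ" => algebraMap B₁ B₂

/-- A prime `q` of `B₂`, minimal over `(q ∩ B₁) B₂`, whose only strict prime overideal is the maximal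
ideal is the unique minimal prime over `(q ∩ B₁) B₂`. -/
theorem minimalPrimes_map_comap_eq'
    (hmax : (maximalIdeal B₁).map φ = maximalIdeal B₂)
    (hres : ∀ t : B₂, ∃ s : B₁, t - φ s ∈ maximalIdeal B₂)
    {q : Ideal B₂} (hqm : q ∈ ((q.comap φ).map φ).minimalPrimes) (hqne : q ≠ maximalIdeal B₂)
    (hdim : ∀ P : Ideal B₂, P.IsPrime → q < P → P = maximalIdeal B₂)
    {Q : Ideal B₂} (hQ : Q ∈ ((q.comap φ).map φ).minimalPrimes) : Q = q := by
  classical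
  haveI : Module.FaithfullyFlat B₁ B₂ := Module.FaithfullyFlat.of_flat_of_isLocalHom
  by_contra hne
  have hqp : q.IsPrime := hqm.1.1
  obtain ⟨p, hp⟩ : ∃ p : Ideal B₁, p = q.comap φ := ⟨_, rfl⟩
  rw [← hp] at hQ hqm
  haveI hpp : p.IsPrime := by
    haveI := hqp
    rw [hp]; infer_instance
  obtain ⟨𝔓, h𝔓⟩ : ∃ 𝔓 : Ideal B₂, 𝔓 = p.map φ := ⟨_, rfl⟩
  rw [← h𝔓] at hQ hqm
  have h𝔓q : 𝔓 ≤ q := by rw [h𝔓, Ideal.map_le_iff_le_comap, hp]
  have hqmin : q ∈ 𝔓.minimalPrimes := hqm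
  have hQp : Q.IsPrime := hQ.1.1
  have hpne : p ≠ maximalIdeal B₁ := by
    intro h
    apply hqne
    refine le_antisymm (le_maximalIdeal hqp.ne_top) ?_
    rw [← hmax, ← h, ← h𝔓]; exact h𝔓q
  have hplt : p < maximalIdeal B₁ := lt_of_le_of_ne (le_maximalIdeal hpp.ne_top) hpne
  obtain ⟨x, hxm, hxp⟩ := SetLike.exists_of_lt hplt
  have H1 : ∀ t : B₂, φ x * t ∈ 𝔓 → t ∈ 𝔓 := by
    intro t ht
    rw [h𝔓] at ht ⊢
    have hreg : IsSMulRegular (B₁ ⧸ p) x := by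
      intro z₁ z₂ h
      simp only [Algebra.smul_def, Ideal.Quotient.algebraMap_eq] at h
      have hx0 : Ideal.Quotient.mk p x ≠ 0 :=
        fun h0 => hxp (Ideal.Quotient.eq_zero_iff_mem.mp h0)
      exact mul_left_cancel₀ hx0 h
    have hreg2 : IsSMulRegular (B₂ ⊗[B₁] (B₁ ⧸ p)) x := IsSMulRegular.lTensor B₂ hreg
    have h0 : (φ x * t) ⊗ₜ[B₁] (1 : B₁ ⧸ p) = 0 :=
      Groth.Agent.H47.HensNoeth.tmul_one_eq_zero_of_mem_map p ht
    have h1 : x • (t ⊗ₜ[B₁] (1 : B₁ ⧸ p)) = x • (0 : B₂ ⊗[B₁] (B₁ ⧸ p)) := by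
      rw [TensorProduct.smul_tmul', Algebra.smul_def, smul_zero]; exact h0
    exact Groth.Agent.H47.HensNoeth.mem_map_of_tmul_one_eq_zero p (hreg2 h1)
  have hφx : φ x ∈ maximalIdeal B₂ := by
    have h0 : φ x ∈ (maximalIdeal B₁).map φ := Ideal.mem_map_of_mem _ hxm
    rwa [hmax] at h0
  obtain ⟨ξ, hξ⟩ : ∃ ξ : B₂, ξ = φ x := ⟨_, rfl⟩
  rw [← hξ] at H1 hφx
  have hξq : ξ ∉ q := notMem_minimalPrimes_of_regular 𝔓 ξ H1 hqmin
  have hξQ : ξ ∉ Q := notMem_minimalPrimes_of_regular 𝔓 ξ H1 hQ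
  have hiter := mem_of_pow_mul_mem 𝔓 ξ H1
  have hfin := Ideal.finite_minimalPrimes_of_isNoetherianRing B₂ 𝔓
  obtain ⟨F, hF⟩ : ∃ F : Finset (Ideal B₂), F = hfin.toFinset.erase q := ⟨_, rfl⟩
  obtain ⟨J, hJ⟩ : ∃ J : Ideal B₂, J = F.inf id := ⟨_, rfl⟩
  have hQF : Q ∈ F := by
    rw [hF]
    exact Finset.mem_erase.mpr ⟨hne, hfin.mem_toFinset.mpr hQ⟩
  have hJle : ∀ q' ∈ F, J ≤ q' := fun q' hq' => by rw [hJ]; exact Finset.inf_le (f := id) hq'
  have hrad : q ⊓ J ≤ 𝔓.radical := by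
    rw [← Ideal.sInf_minimalPrimes]
    refine le_sInf fun q' hq' => ?_
    by_cases h : q' = q
    · rw [h]; exact inf_le_left
    · refine inf_le_right.trans (hJle q' ?_)
      rw [hF]
      exact Finset.mem_erase.mpr ⟨h, hfin.mem_toFinset.mpr hq'⟩
  obtain ⟨M, hM⟩ := Ideal.exists_radical_pow_le_of_fg 𝔓 (IsNoetherian.noetherian _)
  have hξrad : ξ ∈ (q ⊔ J).radical := by
    rw [Ideal.radical_eq_sInf, Ideal.mem_sInf]
    rintro P ⟨hle, hP⟩
    have hqP : q ≤ P := le_sup_left.trans hle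
    rcases eq_or_lt_of_le hqP with h | h
    · exfalso
      have hJP : J ≤ q := by rw [h]; exact le_sup_right.trans hle
      rw [hJ] at hJP
      obtain ⟨q', hq'F, hq'q⟩ := (hqp.inf_le' (s := F) (f := id)).mp hJP
      have hq'F' := hq'F
      rw [hF] at hq'F'
      have hq'min : q' ∈ 𝔓.minimalPrimes :=
        hfin.mem_toFinset.mp (Finset.mem_of_mem_erase hq'F')
      have hqq' : q ≤ q' := hqmin.2 hq'min.1 hq'q
      exact (Finset.mem_erase.mp hq'F').1 (le_antisymm hq'q hqq')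
    · rw [hdim P hP h]; exact hφx
  obtain ⟨K, a, b, haq, hbJ, habP, hK⟩ : ∃ (K : ℕ) (a b : B₂), a ∈ q ∧ b ∈ J ∧ a * b ∈ 𝔓 ∧
      ξ ^ K = a + b := by
    obtain ⟨K₀, hK₀⟩ := hξrad
    obtain ⟨α, hα, β, hβ, hαβ⟩ := Submodule.mem_sup.mp hK₀
    have hprod : (α * β) ^ (M + 1) ∈ 𝔓 := by
      apply hM
      have h0 : α * β ∈ 𝔓.radical :=
        hrad (Ideal.mem_inf.mpr ⟨Ideal.mul_mem_right _ _ hα, Ideal.mul_mem_left _ _ hβ⟩)
      exact Ideal.pow_le_pow_right (Nat.le_succ M) (Ideal.pow_mem_pow h0 (M + 1))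
    have hsum : (α + β) ^ (2 * (M + 1)) ∈
        Ideal.span {α ^ (M + 1)} ⊔ Ideal.span {β ^ (M + 1)} :=
      Ideal.add_pow_mem_of_pow_mem_of_le _ (Ideal.mem_sup_left (Ideal.subset_span rfl))
        (Ideal.mem_sup_right (Ideal.subset_span rfl)) (by omega)
    obtain ⟨a, ha, b, hb, hab⟩ := Submodule.mem_sup.mp hsum
    obtain ⟨r, rfl⟩ := Ideal.mem_span_singleton'.mp ha
    obtain ⟨s, rfl⟩ := Ideal.mem_span_singleton'.mp hb
    refine ⟨K₀ * (2 * (M + 1)), r * α ^ (M + 1), s * β ^ (M + 1),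
      Ideal.mul_mem_left _ _ (Ideal.pow_mem_of_mem _ hα _ (Nat.succ_pos M)),
      Ideal.mul_mem_left _ _ (Ideal.pow_mem_of_mem _ hβ _ (Nat.succ_pos M)), ?_, ?_⟩
    · have : (r * α ^ (M + 1)) * (s * β ^ (M + 1)) = r * s * (α * β) ^ (M + 1) := by ring
      rw [this]; exact Ideal.mul_mem_left _ _ hprod
    · rw [pow_mul, ← hαβ, hab]
  have hbq : b ∉ q := by
    intro hb
    apply hξq
    apply hqp.mem_of_pow_mem K
    rw [hK]; exact Ideal.add_mem _ haq hb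
  have hbb : b ^ 2 - ξ ^ K * b ∈ 𝔓 := by
    have : b ^ 2 - ξ ^ K * b = -(a * b) := by rw [hK]; ring
    rw [this]; exact neg_mem habP
  have hbpow : ∀ k : ℕ, b ^ (k + 1) - ξ ^ (K * k) * b ∈ 𝔓 := by
    intro k
    induction k with
    | zero => simp
    | succ k ih =>
      have : b ^ (k + 1 + 1) - ξ ^ (K * (k + 1)) * b =
          b * (b ^ (k + 1) - ξ ^ (K * k) * b) + ξ ^ (K * k) * (b ^ 2 - ξ ^ K * b) := by ring
      rw [this]
      exact Ideal.add_mem _ (Ideal.mul_mem_left _ _ ih) (Ideal.mul_mem_left _ _ hbb)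
  obtain ⟨I₁, hI₁⟩ : ∃ I₁ : Ideal B₂, I₁ = colonIdeal 𝔓 b := ⟨_, rfl⟩
  have hmemI : ∀ t, t ∈ I₁ ↔ t * b ∈ 𝔓 := fun t => by rw [hI₁]; exact mem_colonIdeal
  have h𝔓I : 𝔓 ≤ I₁ := fun t ht => (hmemI t).mpr (Ideal.mul_mem_right _ _ ht)
  have haI : a ∈ I₁ := (hmemI a).mpr habP
  have hIq : I₁ ≤ q := by
    intro t ht
    have h0 := h𝔓q ((hmemI t).mp ht)
    exact (hqp.mem_or_mem h0).resolve_right hbq
  have hqrad : q ≤ I₁.radical := by
    intro t ht
    refine ⟨M + 1, (hmemI _).mpr ?_⟩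
    have h0 : t * b ∈ 𝔓.radical :=
      hrad (Ideal.mem_inf.mpr ⟨Ideal.mul_mem_right _ _ ht, Ideal.mul_mem_left _ _ hbJ⟩)
    have h1 : (t * b) ^ (M + 1) ∈ 𝔓 := by
      apply hM
      exact Ideal.pow_le_pow_right (Nat.le_succ M) (Ideal.pow_mem_pow h0 (M + 1))
    have h2 : ξ ^ (K * M) * (t ^ (M + 1) * b) ∈ 𝔓 := by
      have : ξ ^ (K * M) * (t ^ (M + 1) * b) =
          (t * b) ^ (M + 1) - t ^ (M + 1) * (b ^ (M + 1) - ξ ^ (K * M) * b) := by ring
      rw [this]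
      exact Ideal.sub_mem _ h1 (Ideal.mul_mem_left _ _ (hbpow M))
    exact hiter _ _ h2
  obtain ⟨M', hM'⟩ := Ideal.exists_pow_le_of_le_radical_of_fg hqrad (IsNoetherian.noetherian q)
  have hmrad : maximalIdeal B₂ ≤ (q ⊔ Ideal.span {ξ}).radical := by
    rw [Ideal.radical_eq_sInf]
    refine le_sInf ?_
    rintro P ⟨hle, hP⟩
    have hξP : ξ ∈ P := hle (Ideal.mem_sup_right (Ideal.subset_span rfl))
    have hqP : q < P :=
      lt_of_le_of_ne (le_sup_left.trans hle) (fun h => hξq (by rw [h]; exact hξP))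
    rw [hdim P hP hqP]
  obtain ⟨n₀, hn₀⟩ := Ideal.exists_pow_le_of_le_radical_of_fg hmrad (IsNoetherian.noetherian _)
  have hT : ∀ L : ℕ, maximalIdeal B₂ ^ (n₀ * (M' + L)) ≤ I₁ ⊔ Ideal.span {ξ ^ L} := by
    intro L
    rw [pow_mul]
    refine (Ideal.pow_right_mono hn₀ (M' + L)).trans ?_
    refine Ideal.sup_pow_add_le_pow_sup_pow.trans ?_
    rw [Ideal.span_singleton_pow]
    exact sup_le_sup_right hM' _
  have hmapsup : ∀ L : ℕ, (p ⊔ Ideal.span {x ^ L}).map φ = 𝔓 ⊔ Ideal.span {ξ ^ L} := fun L => by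
    rw [Ideal.map_sup, Ideal.map_span, Set.image_singleton, map_pow, ← h𝔓, ← hξ]
  obtain ⟨T, hTdef⟩ : ∃ T : ℕ → Ideal B₂, T = fun L => I₁ ⊔ Ideal.span {ξ ^ L} := ⟨_, rfl⟩
  obtain ⟨N, hNdef⟩ : ∃ N : ℕ → Ideal B₁, N = fun L => (T L).comap φ := ⟨_, rfl⟩
  have hTL : ∀ L, T L = I₁ ⊔ Ideal.span {ξ ^ L} := fun L => by rw [hTdef]
  have hNL : ∀ L, N L = (T L).comap φ := fun L => by rw [hNdef]
  have hTN : ∀ L, T L = (N L).map φ := by
    intro L
    refine le_antisymm ?_ (by rw [hNL]; exact Ideal.map_comap_le)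
    intro t ht
    obtain ⟨s, hs⟩ := exists_sub_mem_pow hmax hres (n₀ * (M' + L)) t
    have hs' : t - φ s ∈ T L := by rw [hTL]; exact hT L hs
    have hsN : s ∈ N L := by
      rw [hNL, Ideal.mem_comap]
      have : φ s = t - (t - φ s) := by ring
      rw [this]; exact Ideal.sub_mem _ ht hs'
    have hmN : maximalIdeal B₁ ^ (n₀ * (M' + L)) ≤ N L := by
      rw [hNL, ← Ideal.map_le_iff_le_comap, Ideal.map_pow, hmax, hTL]
      exact hT L
    have : t = φ s + (t - φ s) := by ring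
    rw [this]
    refine Ideal.add_mem _ (Ideal.mem_map_of_mem _ hsN) ?_
    rw [← hmax, ← Ideal.map_pow] at hs
    exact Ideal.map_mono hmN hs
  obtain ⟨r₁, g, hg⟩ := Submodule.fg_iff_exists_fin_generating_family.mp
    (IsNoetherian.noetherian I₁)
  have hg2 : Ideal.span (Set.range g) = I₁ := hg
  have hgen : ∀ L, ∃ ν : Fin (r₁ + 1) → B₁, Ideal.span (Set.range ν) = N L := by
    intro L
    have happrox : ∀ z ∈ (N L).map φ, ∃ s ∈ N L, z - φ s ∈ maximalIdeal B₂ • T L := by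
      intro z hz
      refine Submodule.span_induction (p := fun z _ => ∃ s ∈ N L,
        z - φ s ∈ maximalIdeal B₂ • T L) ?_ ?_ ?_ ?_ hz
      · rintro _ ⟨μ, hμ, rfl⟩
        exact ⟨μ, hμ, by simp⟩
      · exact ⟨0, (N L).zero_mem, by simp⟩
      · rintro z₁ z₂ _ _ ⟨s₁, hs₁, h₁⟩ ⟨s₂, hs₂, h₂⟩
        refine ⟨s₁ + s₂, (N L).add_mem hs₁ hs₂, ?_⟩
        have : z₁ + z₂ - φ (s₁ + s₂) = (z₁ - φ s₁) + (z₂ - φ s₂) := by rw [map_add]; ring
        rw [this]; exact Ideal.add_mem _ h₁ h₂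
      · rintro c z hzmem ⟨s', hs', h'⟩
        obtain ⟨sc, hsc⟩ := hres c
        refine ⟨sc * s', Ideal.mul_mem_left _ _ hs', ?_⟩
        have hzT : z ∈ T L := by
          rw [hTN L]; exact hzmem
        have e1 : (c - φ sc) * z ∈ maximalIdeal B₂ • T L := Submodule.smul_mem_smul hsc hzT
        have : c • z - φ (sc * s') = (c - φ sc) * z + φ sc * (z - φ s') := by
          rw [map_mul, smul_eq_mul]; ring
        rw [this]
        exact Ideal.add_mem _ e1 (Ideal.mul_mem_left _ _ h')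
    obtain ⟨g', hg'⟩ : ∃ g' : Fin (r₁ + 1) → B₂, g' = Fin.cons (ξ ^ L) g := ⟨_, rfl⟩
    have hg'span : Ideal.span (Set.range g') = T L := by
      rw [hg', Fin.range_cons, Ideal.span_insert, hg2, hTL, sup_comm]
    have hg'mem : ∀ i, g' i ∈ (N L).map φ := by
      intro i
      rw [← hTN L, ← hg'span]
      exact Ideal.subset_span ⟨i, rfl⟩
    choose ν hνN hν using fun i => happrox (g' i) (hg'mem i)
    refine ⟨ν, le_antisymm (Ideal.span_le.mpr ?_) ?_⟩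
    · rintro _ ⟨i, rfl⟩; exact hνN i
    · have hNak : Ideal.span (Set.range g') ≤
          (Ideal.span (Set.range ν)).map φ ⊔ maximalIdeal B₂ • T L := by
        rw [Ideal.span_le]
        rintro _ ⟨i, rfl⟩
        have h1 : φ (ν i) ∈ (Ideal.span (Set.range ν)).map φ :=
          Ideal.mem_map_of_mem _ (Ideal.subset_span ⟨i, rfl⟩)
        have h2 : g' i = φ (ν i) + (g' i - φ (ν i)) := by ring
        rw [SetLike.mem_coe, h2]
        exact Ideal.add_mem _ (Ideal.mem_sup_left h1) (Ideal.mem_sup_right (hν i))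
      rw [hg'span] at hNak
      have hle : T L ≤ (Ideal.span (Set.range ν)).map φ :=
        Submodule.le_of_le_smul_of_le_jacobson_bot (IsNoetherian.noetherian _)
          (by rw [IsLocalRing.jacobson_eq_maximalIdeal ⊥ bot_ne_top]) hNak
      rw [hNL]
      calc (T L).comap φ ≤ ((Ideal.span (Set.range ν)).map φ).comap φ := Ideal.comap_mono hle
        _ = Ideal.span (Set.range ν) := Ideal.comap_map_eq_self_of_faithfullyFlat _
  have hxN : ∀ L, ∀ d ∈ N L, x ^ K * d ∈ N L * N L ⊔ (p ⊔ Ideal.span {x ^ L}) := by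
    intro L d hd
    have hd' : φ d ∈ T L := by rw [hNL] at hd; exact hd
    rw [hTL] at hd'
    obtain ⟨t, ht, w', hw', htw⟩ := Submodule.mem_sup.mp hd'
    obtain ⟨w, rfl⟩ := Ideal.mem_span_singleton'.mp hw'
    have hkey : φ (x ^ K * d) ∈ (N L * N L ⊔ (p ⊔ Ideal.span {x ^ L})).map φ := by
      rw [Ideal.map_sup, Ideal.map_mul, ← hTN L, hmapsup L, map_mul, map_pow, ← hξ, ← htw, hK]
      have : (a + b) * (t + w * ξ ^ L) = a * t + (t * b + ((a + b) * w) * ξ ^ L) := by ring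
      rw [this]
      refine Ideal.add_mem _ (Ideal.mem_sup_left (Ideal.mul_mem_mul ?_ ?_)) (Ideal.mem_sup_right
        (Ideal.add_mem _ (Ideal.mem_sup_left ((hmemI t).mp ht)) (Ideal.mem_sup_right
          (Ideal.mem_span_singleton'.mpr ⟨_, rfl⟩))))
      · rw [hTL]; exact Ideal.mem_sup_left haI
      · rw [hTL]; exact Ideal.mem_sup_left ht
    have h0 := Ideal.mem_comap.mpr hkey
    rwa [Ideal.comap_map_eq_self_of_faithfullyFlat] at h0
  obtain ⟨K', hK'⟩ : ∃ K' : ℕ, K' = K * (r₁ + 1) := ⟨_, rfl⟩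
  have hAB : ∀ j : ℕ, (ξ ^ K' ∈ I₁ ⊔ Ideal.span {ξ ^ (K' + 1 + j)}) ∨
      (I₁ ≤ 𝔓 ⊔ Ideal.span {ξ ^ (K' + 1 + j)}) := by
    intro j
    obtain ⟨L, hL⟩ : ∃ L : ℕ, L = 3 * K' + 1 + j := ⟨_, rfl⟩
    obtain ⟨ν, hν⟩ := hgen L
    have hxν : ∀ i, x ^ K * ν i ∈ N L * N L ⊔ (p ⊔ Ideal.span {x ^ L}) := fun i =>
      hxN L _ (by rw [← hν]; exact Ideal.subset_span ⟨i, rfl⟩)
    obtain ⟨c, hcN, hc⟩ := det_trick (N L) (p ⊔ Ideal.span {x ^ L}) ν hν (x ^ K) hxν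
    rw [Fintype.card_fin, ← pow_mul, ← hK'] at hc
    have hcc : c ^ 2 - x ^ K' * c ∈ p ⊔ Ideal.span {x ^ (3 * K' + 1 + j)} := by
      have : c ^ 2 - x ^ K' * c = -((x ^ K' - c) * c) := by ring
      rw [this, ← hL]; exact neg_mem (hc c hcN)
    have hLn : K' + 1 + j ≤ L := by omega
    have hφcT : φ c ∈ I₁ ⊔ Ideal.span {ξ ^ (K' + 1 + j)} := by
      have h0 : φ c ∈ T L := by rw [hNL] at hcN; exact hcN
      rw [hTL] at h0
      exact sup_le_sup_left (span_pow_le_of_le ξ hLn) _ h0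
    rcases hensel_quadratic p x hxm c K' j hcc with h | h
    · right
      obtain ⟨π₁, hπ₁, w', hw', hcw⟩ := Submodule.mem_sup.mp h
      obtain ⟨c₁, rfl⟩ := Ideal.mem_span_singleton'.mp hw'
      have hunit : IsUnit (1 - c₁ * x ^ (1 + j)) := by
        apply isUnit_one_sub_self_of_mem_nonunits
        exact (mem_maximalIdeal _).mp
          (Ideal.mul_mem_left _ _ (Ideal.pow_mem_of_mem _ hxm _ (by omega)))
      obtain ⟨w0, hw0⟩ := hunit
      have hNle : N L ≤ p ⊔ Ideal.span {x ^ (K' + 1 + j)} := by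
        intro d hd
        have h3 := hc d hd
        obtain ⟨π₂, hπ₂, w'', hw'', h4⟩ := Submodule.mem_sup.mp h3
        obtain ⟨d₂, rfl⟩ := Ideal.mem_span_singleton'.mp hw''
        have e : x ^ L = x ^ K' * x ^ (2 * K' + 1 + j) := by
          rw [← pow_add, hL]; congr 1; omega
        have e2 : x ^ (K' + 1 + j) = x ^ K' * x ^ (1 + j) := by
          rw [← pow_add]; congr 1; omega
        have e3 : x ^ (2 * K' + 1 + j) = x ^ K' * x ^ (K' + 1 + j) := by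
          rw [← pow_add]; congr 1; omega
        have e4 : (↑w0⁻¹ : B₁) * (w0 : B₁) = 1 := Units.inv_mul w0
        have h5 : x ^ K' * ((w0 : B₁) * d - d₂ * x ^ (2 * K' + 1 + j)) ∈ p := by
          have : x ^ K' * ((w0 : B₁) * d - d₂ * x ^ (2 * K' + 1 + j)) = π₂ + π₁ * d := by
            linear_combination (x ^ K' * d) * hw0 + (-1 : B₁) * h4 + d₂ * e - d * hcw +
              d * c₁ * e2
          rw [this]; exact Ideal.add_mem _ hπ₂ (Ideal.mul_mem_right _ _ hπ₁)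
        have h6 : (w0 : B₁) * d - d₂ * x ^ (2 * K' + 1 + j) ∈ p :=
          (hpp.mem_or_mem h5).resolve_left (fun hx => hxp (hpp.mem_of_pow_mem _ hx))
        have h7 : d = ↑w0⁻¹ * ((w0 : B₁) * d - d₂ * x ^ (2 * K' + 1 + j)) +
            (↑w0⁻¹ * d₂ * x ^ K') * x ^ (K' + 1 + j) := by
          linear_combination (-d) * e4 + (↑w0⁻¹ * d₂) * e3
        rw [h7]
        exact Ideal.add_mem _ (Ideal.mem_sup_left (Ideal.mul_mem_left _ _ h6))
          (Ideal.mem_sup_right (Ideal.mem_span_singleton'.mpr ⟨_, rfl⟩))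
      calc I₁ ≤ T L := by rw [hTL]; exact le_sup_left
        _ = (N L).map φ := hTN L
        _ ≤ (p ⊔ Ideal.span {x ^ (K' + 1 + j)}).map φ := Ideal.map_mono hNle
        _ = 𝔓 ⊔ Ideal.span {ξ ^ (K' + 1 + j)} := hmapsup _
    · left
      have h1 : φ (c - x ^ K') ∈ 𝔓 ⊔ Ideal.span {ξ ^ (K' + 1 + j)} := by
        rw [← hmapsup]; exact Ideal.mem_map_of_mem _ h
      have h2 : ξ ^ K' = φ c - φ (c - x ^ K') := by rw [map_sub, map_pow, ← hξ]; ring
      rw [h2]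
      exact Ideal.sub_mem _ hφcT (sup_le_sup_right h𝔓I _ h1)
  have hAanti : ∀ n n' : ℕ, n' ≤ n → ξ ^ K' ∈ I₁ ⊔ Ideal.span {ξ ^ n} →
      ξ ^ K' ∈ I₁ ⊔ Ideal.span {ξ ^ n'} :=
    fun n n' h h1 => sup_le_sup_left (span_pow_le_of_le ξ h) _ h1
  have hBanti : ∀ n n' : ℕ, n' ≤ n → I₁ ≤ 𝔓 ⊔ Ideal.span {ξ ^ n} →
      I₁ ≤ 𝔓 ⊔ Ideal.span {ξ ^ n'} :=
    fun n n' h h1 => h1.trans (sup_le_sup_left (span_pow_le_of_le ξ h) _)
  by_cases hA : ∀ n : ℕ, ξ ^ K' ∈ I₁ ⊔ Ideal.span {ξ ^ n}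
  · have h1 : ξ ^ K' ∈ I₁ := mem_of_forall_mem_sup_span_pow I₁ ξ hφx _ hA
    exact hξq (hqp.mem_of_pow_mem _ (hIq h1))
  · rw [not_forall] at hA
    obtain ⟨n₁, hn₁⟩ := hA
    have hB : ∀ n : ℕ, I₁ ≤ 𝔓 ⊔ Ideal.span {ξ ^ n} := by
      intro n
      rcases hAB (max n n₁) with h | h
      · exact absurd (hAanti _ n₁ ((le_max_right n n₁).trans (Nat.le_add_left _ _)) h) hn₁
      · exact hBanti _ n ((le_max_left n n₁).trans (Nat.le_add_left _ _)) h
    have h1 : a ∈ 𝔓 := mem_of_forall_mem_sup_span_pow 𝔓 ξ hφx a (fun n => hB n haI)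
    apply hξQ
    apply hQp.mem_of_pow_mem K
    rw [hK]
    exact Ideal.add_mem _ (hQ.1.2 h1) (hJle Q hQF hbJ)

/-- A minimal prime `q` of `B₂` whose only strict prime overideal is the maximal ideal is the unique
minimal prime over `(q ∩ B₁) B₂`. -/
theorem minimalPrimes_map_comap_eq
    (hmax : (maximalIdeal B₁).map φ = maximalIdeal B₂)
    (hres : ∀ t : B₂, ∃ s : B₁, t - φ s ∈ maximalIdeal B₂)
    {q : Ideal B₂} (hq : q ∈ minimalPrimes B₂) (hqne : q ≠ maximalIdeal B₂)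
    (hdim : ∀ P : Ideal B₂, P.IsPrime → q < P → P = maximalIdeal B₂)
    {Q : Ideal B₂} (hQ : Q ∈ ((q.comap φ).map φ).minimalPrimes) : Q = q :=
  minimalPrimes_map_comap_eq' hmax hres
    ⟨⟨hq.1.1, Ideal.map_comap_le⟩, fun _ hP hPq => hq.2 ⟨hP.1, bot_le⟩ hPq⟩ hqne hdim hQ

/-- The radical of `(q ∩ B₁) B₂` is `q`. -/
theorem radical_map_comap_eq
    (hmax : (maximalIdeal B₁).map φ = maximalIdeal B₂)
    (hres : ∀ t : B₂, ∃ s : B₁, t - φ s ∈ maximalIdeal B₂)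
    {q : Ideal B₂} (hq : q ∈ minimalPrimes B₂) (hqne : q ≠ maximalIdeal B₂)
    (hdim : ∀ P : Ideal B₂, P.IsPrime → q < P → P = maximalIdeal B₂) :
    ((q.comap φ).map φ).radical = q := by
  have hqp : q.IsPrime := hq.1.1
  refine le_antisymm ?_ ?_
  · rw [hqp.radical_le_iff, Ideal.map_le_iff_le_comap]
  · rw [← Ideal.sInf_minimalPrimes]
    refine le_sInf fun Q hQ => ?_
    rw [minimalPrimes_map_comap_eq hmax hres hq hqne hdim hQ]

end Main

end Groth.Agent.H47.DimOneComp
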