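import Mathlib
import Groth.Agent.H47.DimOneComp

/-!
# One-dimensional primes along `B₁ → B₂` (helper47)

Minimal primes over extended ideals along flat maps (`comap_mem_minimalPrimes_of_map`,
`mem_minimalPrimes_map_of_mem_of_mem`, `mem_minimalPrimes_map_comap`), the characterization
`ringKrullDim (R ⧸ P) = 1 ↔ P ≠ 𝔪 ∧ every prime strictly above P is 𝔪` in a local ring, and transfer
of "one-dimensional" primes along a flat local map `B₁ → B₂` of Noetherian local rings with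
`𝔪₁ B₂ = 𝔪₂` (upwards: `dimOne_of_minimal_over_map`, Krull's principal ideal theorem; downwards:
`dimOne_comap`, for henselian `B₁` with trivial residue field extension).
-/

set_option autoImplicit false
universe u

open IsLocalRing

namespace Groth.Agent.H47.ImmGen

section Flat

variable {R S : Type*} [CommRing R] [CommRing S] [Algebra R S]

theorem mem_minimalPrimes_map_comap {I : Ideal R} {Q : Ideal S}
    (hQ : Q ∈ (I.map (algebraMap R S)).minimalPrimes) :
    Q ∈ ((Q.comap (algebraMap R S)).map (algebraMap R S)).minimalPrimes := by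
  refine ⟨⟨hQ.1.1, Ideal.map_comap_le⟩, ?_⟩
  rintro Q'' ⟨hQ'', hle''⟩ hQ''Q
  refine hQ.2 ⟨hQ'', ?_⟩ hQ''Q
  refine le_trans (Ideal.map_mono ?_) hle''
  exact Ideal.map_le_iff_le_comap.mp hQ.1.2

variable [Module.Flat R S]

theorem comap_mem_minimalPrimes_of_map {I : Ideal R} {Q : Ideal S}
    (hQ : Q ∈ (I.map (algebraMap R S)).minimalPrimes) :
    Q.comap (algebraMap R S) ∈ I.minimalPrimes := by
  haveI : Q.IsPrime := hQ.1.1
  haveI : (Q.comap (algebraMap R S)).IsPrime := Ideal.comap_isPrime _ _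
  refine ⟨⟨inferInstance, Ideal.map_le_iff_le_comap.mp hQ.1.2⟩, ?_⟩
  rintro q ⟨hq, hIq⟩ hle
  haveI := hq
  haveI : Q.LiesOver (Q.comap (algebraMap R S)) := ⟨rfl⟩
  obtain ⟨Q', hQ'Q, hQ', hQ'q⟩ := Ideal.exists_ideal_le_liesOver_of_le (p := q)
    (q := Q.comap (algebraMap R S)) Q hle
  have h1 : I.map (algebraMap R S) ≤ Q' := by
    rw [Ideal.map_le_iff_le_comap]
    exact hIq.trans hQ'q.over.le
  have h2 : Q ≤ Q' := hQ.2 ⟨hQ', h1⟩ hQ'Q
  have hQeq : Q' = Q := le_antisymm hQ'Q h2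
  rw [hQ'q.over, hQeq]

theorem comap_eq_of_mem_minimalPrimes_map {q : Ideal R} [q.IsPrime] {Q : Ideal S}
    (hQ : Q ∈ (q.map (algebraMap R S)).minimalPrimes) : Q.comap (algebraMap R S) = q := by
  have h1 := comap_mem_minimalPrimes_of_map hQ
  rw [Ideal.minimalPrimes_eq_subsingleton_self] at h1
  exact h1

theorem mem_minimalPrimes_map_of_mem_of_mem {I : Ideal R} {q : Ideal R}
    (hq : q ∈ I.minimalPrimes) {Q : Ideal S} (hQ : Q ∈ (q.map (algebraMap R S)).minimalPrimes) :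
    Q ∈ (I.map (algebraMap R S)).minimalPrimes := by
  haveI : q.IsPrime := hq.1.1
  have hcomap : Q.comap (algebraMap R S) = q := comap_eq_of_mem_minimalPrimes_map hQ
  refine ⟨⟨hQ.1.1, (Ideal.map_mono hq.1.2).trans hQ.1.2⟩, ?_⟩
  rintro Q'' ⟨hQ'', hle''⟩ hQ''Q
  haveI := hQ''
  have h3 : Q''.comap (algebraMap R S) ≤ q := by rw [← hcomap]; exact Ideal.comap_mono hQ''Q
  have h4 : q ≤ Q''.comap (algebraMap R S) :=
    hq.2 ⟨Ideal.comap_isPrime _ _, Ideal.map_le_iff_le_comap.mp hle''⟩ h3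
  exact hQ.2 ⟨hQ'', Ideal.map_le_iff_le_comap.mpr h4⟩ hQ''Q

end Flat

/-- In a local ring, `R ⧸ P` has dimension one iff `P` is not maximal and every prime strictly above
`P` is the maximal ideal. -/
theorem ringKrullDim_quotient_eq_one_iff {R : Type*} [CommRing R] [IsLocalRing R] (P : Ideal R)
    [hP : P.IsPrime] :
    ringKrullDim (R ⧸ P) = 1 ↔
      (P ≠ maximalIdeal R ∧ ∀ P' : Ideal R, P'.IsPrime → P < P' → P' = maximalIdeal R) := by
  have hmem : ∀ (I : Ideal R) (hI : I.IsPrime), P ≤ I →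
      (⟨I, hI⟩ : PrimeSpectrum R) ∈ PrimeSpectrum.zeroLocus (P : Set R) := fun I hI h =>
    (PrimeSpectrum.mem_zeroLocus _ _).mpr (SetLike.coe_subset_coe.mpr h)
  have hmem' : ∀ x : PrimeSpectrum R, x ∈ PrimeSpectrum.zeroLocus (P : Set R) → P ≤ x.asIdeal :=
    fun x hx => SetLike.coe_subset_coe.mp ((PrimeSpectrum.mem_zeroLocus _ _).mp hx)
  constructor
  · intro hdim
    refine ⟨?_, ?_⟩
    · intro h
      have hmaxP : P.IsMaximal := by rw [h]; infer_instance
      have hF := (Ideal.Quotient.maximal_ideal_iff_isField_quotient P).mp hmaxP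
      rw [ringKrullDim_eq_zero_of_isField hF] at hdim
      exact zero_ne_one hdim
    · intro P' hP' hlt
      by_contra hne
      have hPlt : P' < maximalIdeal R := lt_of_le_of_ne (le_maximalIdeal hP'.ne_top) hne
      rw [ringKrullDim_quotient] at hdim
      have hle : Order.krullDim (PrimeSpectrum.zeroLocus (R := R) P) ≤ 1 := hdim.le
      rw [Order.krullDim_le_one_iff] at hle
      let a0 : PrimeSpectrum.zeroLocus (R := R) P := ⟨⟨P, hP⟩, hmem P hP le_rfl⟩
      let a1 : PrimeSpectrum.zeroLocus (R := R) P := ⟨⟨P', hP'⟩, hmem P' hP' hlt.le⟩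
      let a2 : PrimeSpectrum.zeroLocus (R := R) P :=
        ⟨⟨maximalIdeal R, inferInstance⟩, hmem _ _ (le_maximalIdeal hP.ne_top)⟩
      have h01 : a0 < a1 := Subtype.mk_lt_mk.mpr ((PrimeSpectrum.asIdeal_lt_asIdeal _ _).mp hlt)
      have h12 : a1 < a2 := Subtype.mk_lt_mk.mpr ((PrimeSpectrum.asIdeal_lt_asIdeal _ _).mp hPlt)
      rcases hle a1 with h | h
      · exact not_isMin_of_lt h01 h
      · exact not_isMax_of_lt h12 h
  · rintro ⟨hne, hall⟩
    rw [ringKrullDim_quotient]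
    apply le_antisymm
    · rw [Order.krullDim_le_one_iff]
      rintro ⟨x, hx⟩
      have hPx : P ≤ x.asIdeal := hmem' x hx
      rcases eq_or_lt_of_le hPx with h | h
      · left
        intro y _
        show x ≤ y.1
        rw [← PrimeSpectrum.asIdeal_le_asIdeal, ← h]
        exact hmem' y.1 y.2
      · right
        intro y _
        show y.1 ≤ x
        rw [← PrimeSpectrum.asIdeal_le_asIdeal, hall x.asIdeal x.isPrime h]
        exact le_maximalIdeal y.1.isPrime.ne_top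
    · rw [Order.one_le_krullDim_iff]
      refine ⟨⟨⟨P, hP⟩, hmem P hP le_rfl⟩,
        ⟨⟨maximalIdeal R, inferInstance⟩, hmem _ _ (le_maximalIdeal hP.ne_top)⟩, ?_⟩
      exact Subtype.mk_lt_mk.mpr ((PrimeSpectrum.asIdeal_lt_asIdeal _ _).mp
        (lt_of_le_of_ne (le_maximalIdeal hP.ne_top) hne))

section Main

variable {B₁ B₂ : Type u} [CommRing B₁] [IsLocalRing B₁]
  [CommRing B₂] [IsLocalRing B₂] [IsNoetherianRing B₂] [Algebra B₁ B₂]
  [Module.Flat B₁ B₂]

local notation "φ" => algebraMap B₁ B₂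

/-- Upwards transfer (Krull's principal ideal theorem). -/
theorem dimOne_of_minimal_over_map
    (hmax : (maximalIdeal B₁).map φ = maximalIdeal B₂)
    {P : Ideal B₁} [hP : P.IsPrime] (hPne : P ≠ maximalIdeal B₁)
    (hPall : ∀ P' : Ideal B₁, P'.IsPrime → P < P' → P' = maximalIdeal B₁)
    {Q : Ideal B₂} (hQ : Q ∈ (P.map φ).minimalPrimes) :
    Q ≠ maximalIdeal B₂ ∧ ∀ Q₁ : Ideal B₂, Q₁.IsPrime → Q < Q₁ → Q₁ = maximalIdeal B₂ := by
  haveI hQp : Q.IsPrime := hQ.1.1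
  have hcomapQ : Q.comap φ = P := comap_eq_of_mem_minimalPrimes_map hQ
  have hcm : (maximalIdeal B₂).comap φ = maximalIdeal B₁ :=
    ((maximalIdeal.isMaximal B₁).eq_of_le
      (Ideal.comap_ne_top _ (maximalIdeal.isMaximal B₂).ne_top)
      (by rw [← Ideal.map_le_iff_le_comap, hmax])).symm
  have hkey : ∀ P'' : Ideal B₂, P''.IsPrime → P''.comap φ = maximalIdeal B₁ →
      P'' = maximalIdeal B₂ := by
    intro P'' hP'' hc
    have hle : maximalIdeal B₂ ≤ P'' := by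
      rw [← hmax, Ideal.map_le_iff_le_comap, hc]
    exact ((maximalIdeal.isMaximal B₂).eq_of_le hP''.ne_top hle).symm
  have hQne : Q ≠ maximalIdeal B₂ := by
    intro h
    apply hPne
    rw [← hcomapQ, h, hcm]
  refine ⟨hQne, ?_⟩
  intro Q₁ hQ₁ hlt
  by_contra hQ₁ne
  have hQ₁lt : Q₁ < maximalIdeal B₂ := lt_of_le_of_ne (le_maximalIdeal hQ₁.ne_top) hQ₁ne
  have hPlt : P < maximalIdeal B₁ := lt_of_le_of_ne (le_maximalIdeal hP.ne_top) hPne
  obtain ⟨x, hxm, hxP⟩ := SetLike.exists_of_lt hPlt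
  have hmin : maximalIdeal B₂ ∈ (Q ⊔ Ideal.span {φ x}).minimalPrimes := by
    refine ⟨⟨inferInstance, sup_le (le_maximalIdeal hQp.ne_top) ?_⟩, ?_⟩
    · rw [Ideal.span_singleton_le_iff_mem, ← hmax]
      exact Ideal.mem_map_of_mem _ hxm
    · rintro Q' ⟨hQ', hle⟩ _
      haveI := hQ'
      have hcp : (Q'.comap φ).IsPrime := inferInstance
      have h1 : P ≤ Q'.comap φ := by
        rw [← hcomapQ]; exact Ideal.comap_mono (le_sup_left.trans hle)
      have h2 : x ∈ Q'.comap φ :=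
        Ideal.mem_comap.mpr (hle (Ideal.mem_sup_right (Ideal.subset_span rfl)))
      have h3 : P < Q'.comap φ := lt_of_le_of_ne h1 (fun h => hxP (by rw [h]; exact h2))
      rw [hkey Q' hQ' (hPall _ hcp h3)]
  have hht := Ideal.map_height_le_one_of_mem_minimalPrimes hmin
  have hker : RingHom.ker (Ideal.Quotient.mk Q) = Q := Ideal.mk_ker
  have hcm' : ∀ I : Ideal B₂, Q ≤ I →
      (I.map (Ideal.Quotient.mk Q)).comap (Ideal.Quotient.mk Q) = I := by
    intro I hI
    rw [Ideal.comap_map_of_surjective _ Ideal.Quotient.mk_surjective, ← RingHom.ker_eq_comap_bot,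
      hker, sup_eq_left.mpr hI]
  haveI hQ₁' : (Q₁.map (Ideal.Quotient.mk Q)).IsPrime :=
    Ideal.map_isPrime_of_surjective Ideal.Quotient.mk_surjective (by rw [hker]; exact hlt.le)
  haveI hm' : ((maximalIdeal B₂).map (Ideal.Quotient.mk Q)).IsPrime :=
    Ideal.map_isPrime_of_surjective Ideal.Quotient.mk_surjective
      (by rw [hker]; exact le_maximalIdeal hQp.ne_top)
  have hlt' : Q₁.map (Ideal.Quotient.mk Q) < (maximalIdeal B₂).map (Ideal.Quotient.mk Q) := by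
    refine lt_of_le_of_ne (Ideal.map_mono hQ₁lt.le) ?_
    intro h
    apply hQ₁ne
    rw [← hcm' Q₁ hlt.le, h, hcm' _ (le_maximalIdeal hQp.ne_top)]
  have h1 := Ideal.height_strict_mono_of_isPrime hlt'
  have h2 : (Q₁.map (Ideal.Quotient.mk Q)).height < 1 := lt_of_lt_of_le h1 hht
  have h3 : (Q₁.map (Ideal.Quotient.mk Q)).height = 0 := Order.lt_one_iff.mp h2
  have h4 : Q₁.map (Ideal.Quotient.mk Q) ∈ minimalPrimes (B₂ ⧸ Q) := Ideal.height_eq_zero_iff.mp h3
  have h5 : Q₁.map (Ideal.Quotient.mk Q) ≤ ⊥ := h4.2 ⟨Ideal.isPrime_bot, bot_le⟩ bot_le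
  have h6 : Q₁ ≤ Q := by
    rw [← hcm' Q₁ hlt.le]
    refine (Ideal.comap_mono h5).trans ?_
    rw [← RingHom.ker_eq_comap_bot, hker]
  exact absurd hlt (not_lt_of_ge h6)

variable [HenselianLocalRing B₁] [IsNoetherianRing B₁] [IsLocalHom (algebraMap B₁ B₂)]

/-- Downwards transfer (henselian source, trivial residue field extension). -/
theorem dimOne_comap
    (hmax : (maximalIdeal B₁).map φ = maximalIdeal B₂)
    (hres : ∀ t : B₂, ∃ s : B₁, t - φ s ∈ maximalIdeal B₂)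
    {Q : Ideal B₂} [hQp : Q.IsPrime] (hQm : Q ∈ ((Q.comap φ).map φ).minimalPrimes)
    (hQne : Q ≠ maximalIdeal B₂)
    (hQall : ∀ Q₁ : Ideal B₂, Q₁.IsPrime → Q < Q₁ → Q₁ = maximalIdeal B₂) :
    Q.comap φ ≠ maximalIdeal B₁ ∧
      ∀ P₁ : Ideal B₁, P₁.IsPrime → Q.comap φ < P₁ → P₁ = maximalIdeal B₁ := by
  have hcm : (maximalIdeal B₂).comap φ = maximalIdeal B₁ :=
    ((maximalIdeal.isMaximal B₁).eq_of_le
      (Ideal.comap_ne_top _ (maximalIdeal.isMaximal B₂).ne_top)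
      (by rw [← Ideal.map_le_iff_le_comap, hmax])).symm
  refine ⟨?_, ?_⟩
  · intro h
    apply hQne
    have hle : maximalIdeal B₂ ≤ Q := by
      rw [← hmax, Ideal.map_le_iff_le_comap, h]
    exact ((maximalIdeal.isMaximal B₂).eq_of_le hQp.ne_top hle).symm
  · intro P₁ hP₁ hlt
    haveI := hP₁
    haveI : (Q.comap φ).IsPrime := Ideal.comap_isPrime _ _
    haveI : (maximalIdeal B₂).LiesOver (maximalIdeal B₁) := ⟨hcm.symm⟩
    obtain ⟨Q₁, hQ₁m, hQ₁, hQ₁P⟩ := Ideal.exists_ideal_le_liesOver_of_le (p := P₁)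
      (q := maximalIdeal B₁) (maximalIdeal B₂) (le_maximalIdeal hP₁.ne_top)
    haveI := hQ₁
    haveI := hQ₁P
    obtain ⟨Q₀, hQ₀Q₁, hQ₀, hQ₀P⟩ := Ideal.exists_ideal_le_liesOver_of_le (p := Q.comap φ)
      (q := P₁) Q₁ hlt.le
    haveI := hQ₀
    have hQ₀c : Q₀.comap φ = Q.comap φ := hQ₀P.over.symm
    have hQ₁c : Q₁.comap φ = P₁ := hQ₁P.over.symm
    have hle0 : (Q.comap φ).map φ ≤ Q₀ := by
      rw [Ideal.map_le_iff_le_comap, hQ₀c]
    obtain ⟨Q', hQ', hQ'Q₀⟩ := Ideal.exists_minimalPrimes_le hle0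
    have hQ'eq : Q' = Q :=
      Groth.Agent.H47.DimOneComp.minimalPrimes_map_comap_eq' hmax hres hQm hQne hQall hQ'
    have hQQ₁ : Q ≤ Q₁ := by rw [← hQ'eq]; exact hQ'Q₀.trans hQ₀Q₁
    have hne : Q ≠ Q₁ := by
      intro h
      apply hlt.ne
      rw [← hQ₁c, ← h]
    have hQ₁eq := hQall Q₁ hQ₁ (lt_of_le_of_ne hQQ₁ hne)
    rw [← hQ₁c, hQ₁eq, hcm]

end Main

end Groth.Agent.H47.ImmGen
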