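import Mathlib.Algebra.Algebra.Hom
import Mathlib.Algebra.Algebra.Basic
import Mathlib.Order.Directed

/-!
Directed colimits of algebras given by an explicit presentation
(compatible maps, jointly surjective, kernels die in the system).
-/

universe u v w

namespace Groth.Agent.H47

section

variable {ι : Type u} [Preorder ι] [IsDirected ι (· ≤ ·)]
  {R : Type v} [CommRing R] {G : ι → Type w} [∀ i, CommRing (G i)] [∀ i, Algebra R (G i)]
  (f : ∀ i j, i ≤ j → (G i →ₐ[R] G j)) {S : Type w} [CommRing S] [Algebra R S]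
  (g : ∀ i, G i →ₐ[R] S) (hg : ∀ i j (h : i ≤ j), (g j).comp (f i j h) = g i)
  (hsurj : ∀ s : S, ∃ i, ∃ x : G i, g i x = s)
  (hker : ∀ i (x : G i), g i x = 0 → ∃ j, ∃ h : i ≤ j, f i j h x = 0)
  {B : Type*} [CommRing B] [Algebra R B] (ψ : ∀ i, G i →ₐ[R] B)
  (hψ : ∀ i j (h : i ≤ j), (ψ j).comp (f i j h) = ψ i)

include hg hker hψ in
lemma colimLift_wd {i j : ι} (x : G i) (y : G j) (h : g i x = g j y) : ψ i x = ψ j y := by
  obtain ⟨k, hik, hjk⟩ := exists_ge_ge i j
  have e1 : g k (f i k hik x) = g i x := by rw [← AlgHom.comp_apply, hg]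
  have e2 : g k (f j k hjk y) = g j y := by rw [← AlgHom.comp_apply, hg]
  have h0 : g k (f i k hik x - f j k hjk y) = 0 := by
    rw [map_sub, e1, e2, h, sub_self]
  obtain ⟨l, hkl, hl⟩ := hker k _ h0
  rw [map_sub, sub_eq_zero] at hl
  have e3 : ψ l (f k l hkl (f i k hik x)) = ψ i x := by
    rw [← AlgHom.comp_apply (ψ l), hψ, ← AlgHom.comp_apply (ψ k), hψ]
  have e4 : ψ l (f k l hkl (f j k hjk y)) = ψ j y := by
    rw [← AlgHom.comp_apply (ψ l), hψ, ← AlgHom.comp_apply (ψ k), hψ]
  rw [← e3, ← e4, hl]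

include hg hsurj in
lemma exists_common_rep (s t : S) : ∃ (k : ι) (x y : G k), g k x = s ∧ g k y = t := by
  obtain ⟨i, x, rfl⟩ := hsurj s
  obtain ⟨j, y, rfl⟩ := hsurj t
  obtain ⟨k, hik, hjk⟩ := exists_ge_ge i j
  refine ⟨k, f i k hik x, f j k hjk y, ?_, ?_⟩
  · rw [← AlgHom.comp_apply, hg]
  · rw [← AlgHom.comp_apply, hg]

/-- The function underlying the induced map out of the colimit. -/
noncomputable def colimLiftFun (s : S) : B :=
  ψ (hsurj s).choose (hsurj s).choose_spec.choose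

include hg hker hψ in
lemma colimLiftFun_apply (i : ι) (x : G i) : colimLiftFun g hsurj ψ (g i x) = ψ i x :=
  colimLift_wd f g hg hker ψ hψ _ _ (hsurj (g i x)).choose_spec.choose_spec

variable [Nonempty ι]

/-- The induced algebra map out of a directed colimit presentation. -/
noncomputable def colimLift : S →ₐ[R] B where
  toFun := colimLiftFun g hsurj ψ
  map_one' := by
    obtain ⟨i⟩ := ‹Nonempty ι›
    have h := colimLiftFun_apply f g hg hsurj hker ψ hψ i 1
    rwa [map_one, map_one] at h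
  map_mul' s t := by
    obtain ⟨k, x, y, rfl, rfl⟩ := exists_common_rep f g hg hsurj s t
    rw [← map_mul, colimLiftFun_apply f g hg hsurj hker ψ hψ,
      colimLiftFun_apply f g hg hsurj hker ψ hψ, colimLiftFun_apply f g hg hsurj hker ψ hψ, map_mul]
  map_zero' := by
    obtain ⟨i⟩ := ‹Nonempty ι›
    have h := colimLiftFun_apply f g hg hsurj hker ψ hψ i 0
    rwa [map_zero, map_zero] at h
  map_add' s t := by
    obtain ⟨k, x, y, rfl, rfl⟩ := exists_common_rep f g hg hsurj s t
    rw [← map_add, colimLiftFun_apply f g hg hsurj hker ψ hψ,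
      colimLiftFun_apply f g hg hsurj hker ψ hψ, colimLiftFun_apply f g hg hsurj hker ψ hψ, map_add]
  commutes' r := by
    obtain ⟨i⟩ := ‹Nonempty ι›
    have h := colimLiftFun_apply f g hg hsurj hker ψ hψ i (algebraMap R (G i) r)
    rwa [AlgHom.commutes, AlgHom.commutes] at h

lemma colimLift_apply (i : ι) (x : G i) :
    colimLift f g hg hsurj hker ψ hψ (g i x) = ψ i x :=
  colimLiftFun_apply f g hg hsurj hker ψ hψ i x

lemma colimLift_comp (i : ι) :
    (colimLift f g hg hsurj hker ψ hψ).comp (g i) = ψ i :=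
  AlgHom.ext fun x => colimLift_apply f g hg hsurj hker ψ hψ i x

include hsurj in
lemma colim_algHom_ext {φ₁ φ₂ : S →ₐ[R] B} (h : ∀ i, φ₁.comp (g i) = φ₂.comp (g i)) : φ₁ = φ₂ := by
  ext s
  obtain ⟨i, x, rfl⟩ := hsurj s
  exact AlgHom.congr_fun (h i) x

end

end Groth.Agent.H47
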