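import Mathlib
import Groth.Prelude.Def_EtRam
import Groth.Agent.H75.AS55_P1
import Groth.Agent.H87.AS55_P2a
import Groth.Agent.H10.AS55_P2b
import Groth.Agent.H10.AS55_P2c
import Groth.Agent.H48.AS55_P4
import Groth.Agent.H10.AS55_P3
import Groth.Agent.H48.AS55_P5

set_option autoImplicit false
set_option linter.unusedVariables false

namespace Groth.Agent.H47.Epp55

universe u

open IsLocalRing

/-- (P1) normal form of `ξ ∈ L` modulo `℘(L) + B + K`. -/
theorem normalForm (p : ℕ) (hp : p.Prime) (A B K L : Type u)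
    [CommRing A] [IsDomain A] [IsDiscreteValuationRing A] [CommRing B] [IsDomain B] [IsDiscreteValuationRing B]
    [Algebra A B] [IsLocalHom (algebraMap A B)]
    [Field K] [Field L] [Algebra A K] [IsFractionRing A K] [Algebra B L] [IsFractionRing B L]
    [Algebra K L] [Algebra A L] [IsScalarTower A K L] [IsScalarTower A B L] [CharP K p]
    (π : A) (hπ : maximalIdeal A = Ideal.span {π}) (hw : EtRam.IsWeaklyUnramified A B)
    (hk : ∀ x : ResidueField B, (∀ n : ℕ, ∃ y : ResidueField B, y ^ (p ^ n) = x) →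
      x ∈ Set.range (algebraMap (ResidueField A) (ResidueField B)))
    (ξ : L) :
    ∃ (w : L) (b₀ : B) (η : K) (S : Finset ℕ) (c : ℕ → B) (i : ℕ → ℕ),
      ξ = (w ^ p - w) + algebraMap B L b₀ + algebraMap K L η +
          ∑ m ∈ S, algebraMap B L (c m) ^ (p ^ i m) / algebraMap A L π ^ m ∧
      ∀ m ∈ S, 0 < m ∧ (∀ y : B, residue B (c m) ≠ residue B y ^ p) ∧ (i m = 0 ∨ ¬ p ∣ m) := by
  exact Groth.Agent.H75.AS55P1.normalForm p hp A B K L π hπ hw hk ξ

/-- (P2a) minimal form over `K` (perfect residue field). -/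
theorem normalFormK (p : ℕ) (hp : p.Prime) (A K : Type u) [CommRing A] [IsDomain A] [IsDiscreteValuationRing A]
    [Field K] [Algebra A K] [IsFractionRing A K] [CharP K p]
    (π : A) (hπ : maximalIdeal A = Ideal.span {π})
    (hperf : ∀ x : ResidueField A, ∃ y : ResidueField A, y ^ p = x) (η : K) :
    ∃ (wK : K), (∃ a₀ : A, η = (wK ^ p - wK) + algebraMap A K a₀) ∨
      ∃ (s : ℕ) (a : Aˣ), 0 < s ∧ ¬ p ∣ s ∧
        (η - (wK ^ p - wK)) * algebraMap A K π ^ s = algebraMap A K a := by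
  exact Groth.Agent.H87.AS55P2a.normalFormK p hp A K π hπ hperf η

/-- (P2b) the totally ramified Artin–Schreier extension killing `a / π ^ s`. -/
theorem exists_AS_ext (p : ℕ) (hp : p.Prime) (A K : Type u) [CommRing A] [IsDomain A] [IsDiscreteValuationRing A]
    [Field K] [Algebra A K] [IsFractionRing A K] [CharP K p]
    (π : A) (hπ : maximalIdeal A = Ideal.span {π}) (η' : K) (s : ℕ) (a : Aˣ) (hs : 0 < s) (hps : ¬ p ∣ s)
    (hη' : η' * algebraMap A K π ^ s = algebraMap A K a) :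
    ∃ (K₁ : Type u) (_ : Field K₁) (_ : Algebra K K₁), FiniteDimensional K K₁ ∧ Algebra.IsSeparable K K₁ ∧
      EtRam.IsTotallyRamified A ((algebraMap K K₁).comp (algebraMap A K)) ∧
      ∃ y₀ : K₁, y₀ ^ p - y₀ = algebraMap K K₁ η' := by
  exact Groth.Agent.H10.AS55P2b.exists_AS_ext p hp A K π hπ η' s a hs hps hη'

/-- (P2c) `K/K` is totally ramified. -/
theorem isTotallyRamified_self (A K : Type u) [CommRing A] [IsDomain A] [IsDiscreteValuationRing A]
    [Field K] [Algebra A K] [IsFractionRing A K] :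
    EtRam.IsTotallyRamified A ((algebraMap K K).comp (algebraMap A K)) := by
  exact Groth.Agent.H10.AS55P2c.isTotallyRamified_self A K

/-- (P3) type (A): weak solution. -/
theorem weakSolution_typeA (p : ℕ) (hp : p.Prime) (A B C K L M : Type u)
    [CommRing A] [IsDomain A] [IsDiscreteValuationRing A] [CommRing B] [IsDomain B] [IsDiscreteValuationRing B]
    [CommRing C] [IsDomain C] [IsDiscreteValuationRing C]
    [Algebra A B] [Algebra B C] [Algebra A C] [IsScalarTower A B C]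
    (hAB : Function.Injective (algebraMap A B)) (hBC : Function.Injective (algebraMap B C))
    [IsLocalHom (algebraMap A B)] [IsLocalHom (algebraMap B C)]
    [Field K] [Field L] [Field M] [Algebra A K] [IsFractionRing A K] [Algebra B L] [IsFractionRing B L]
    [Algebra C M] [IsFractionRing C M] [Algebra K L] [Algebra L M] [Algebra K M] [IsScalarTower K L M]
    [Algebra A L] [IsScalarTower A K L] [IsScalarTower A B L] [Algebra B M] [IsScalarTower B L M] [IsScalarTower B C M]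
    [Algebra A M] [IsScalarTower A K M] [IsScalarTower A C M]
    (hw : EtRam.IsWeaklyUnramified A B) [CharP K p]
    (z : M) (ξ : L) (hz : z ^ p - z = algebraMap L M ξ) (hgen : IntermediateField.adjoin L {z} = ⊤)
    (K₁ : Type u) [Field K₁] [Algebra K K₁] [FiniteDimensional K K₁] [Algebra.IsSeparable K K₁]
    (ht : EtRam.IsTotallyRamified A ((algebraMap K K₁).comp (algebraMap A K)))
    (w : L) (b₀ : B) (η : K) (y₀ : K₁)
    (hξ : ξ = (w ^ p - w) + algebraMap B L b₀ + algebraMap K L η)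
    (hy₀ : y₀ ^ p - y₀ = algebraMap K K₁ η) :
    EtRam.IsWeakSolution C K M K₁ := by
  exact Groth.Agent.H10.AS55P3.weakSolution_typeA p hp A B C K L M hAB hBC hw z ξ hz hgen K₁ ht w b₀ η y₀ hξ hy₀

/-- (P4) the generic computation. -/
theorem comp_all (p : ℕ) (hp : p.Prime) (F : Type u) [Field F] [CharP F p] (R R₀ : Subring F) (hR₀ : R₀ ≤ R)
    (πF ϖ β : F) (N n' : ℕ) (hπF0 : πF ≠ 0) (hϖ0 : ϖ ≠ 0) (hπF : πF ∈ R₀) (hϖR : ϖ ∈ R) (hβR : β ∈ R)
    (hϖ : ϖ ^ (p ^ N) = πF + πF ^ n' * β) (hn' : 1 ≤ n') (huinv : (1 + πF ^ (n' - 1) * β)⁻¹ ∈ R)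
    (hperf : ∀ a ∈ R₀, ∃ a' ∈ R₀, ∃ a'' ∈ R₀, a = a' ^ p + πF * a'')
    (b₀ : F) (hb₀ : b₀ ∈ R) (nη : ℕ) (aη : F) (haη : aη ∈ R₀)
    (S : Finset ℕ) (c : ℕ → F) (i : ℕ → ℕ) (hc : ∀ m ∈ S, c m ∈ R)
    (mstar : ℕ) (hmstar : mstar ∈ S) (hpos : ∀ m ∈ S, 0 < m)
    (hmax : ∀ m ∈ S, m ≠ mstar → m * p ^ (i mstar) < mstar * p ^ (i m))
    (hN : ∀ m ∈ S, i m < N) (hNη : nη < p ^ (N - i mstar)) (hn'S : ∀ m ∈ S, m < n') (hn'η : nη < n') :
    ∃ (w r : F), r ∈ R ∧
      b₀ + aη / πF ^ nη + ∑ m ∈ S, c m ^ (p ^ i m) / πF ^ m =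
        (w ^ p - w) + (c mstar + ϖ * r) / ϖ ^ (p ^ (N - i mstar) * mstar) := by
  exact Groth.Agent.H48.AS55P4.comp_all p hp F R R₀ hR₀ πF ϖ β N n' hπF0 hϖ0 hπF hϖR hβR hϖ hn' huinv hperf b₀ hb₀ nη aη haη S c i hc mstar hmstar hpos hmax hN hNη hn'S hn'η

/-- (P5) type (C): `ϖ` is a uniformizer of `W`. -/
theorem uniformizer_of_typeC (p : ℕ) (hp : p.Prime) (B L M' : Type u) [CommRing B] [IsDomain B]
    [IsDiscreteValuationRing B] [Field L] [Algebra B L] [IsFractionRing B L] [CharP L p] [Field M']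
    [Algebra L M'] [Algebra B M'] [IsScalarTower B L M'] [FiniteDimensional L M']
    (N : ℕ) (hfr : Module.finrank L M' ≤ p * p ^ N)
    (πB : B) (hπB : maximalIdeal B = Ideal.span {πB})
    (W : ValuationSubring M') (hW : EtRam.Dominates B (algebraMap B M') W)
    (ϖ u : M') (hu : W.valuation u = 1) (hϖ : ϖ ^ (p ^ N) = algebraMap B M' πB * u)
    (cstar : B) (hc : ∀ y : B, residue B cstar ≠ residue B y ^ p)
    (ζ r : M') (hr : r ∈ W) (m₁ : ℕ) (hm₁ : 0 < m₁)
    (hζ : ζ ^ p - ζ = (algebraMap B M' cstar + ϖ * r) / ϖ ^ (p * m₁)) :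
    ∀ x : M', W.valuation x < 1 → ∃ w ∈ W, x = ϖ * w := by
  exact Groth.Agent.H48.AS55P5.uniformizer_of_typeC p hp B L M' N hfr πB hπB W hW ϖ u hu hϖ cstar hc ζ r hr m₁ hm₁ hζ

end Groth.Agent.H47.Epp55
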