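import Mathlib
import Groth.Prelude.Def_EtRam

set_option autoImplicit false
set_option linter.unusedVariables false

namespace Groth.Agent.H47.Epp55

universe u

open IsLocalRing

/-- (P6) the residue field of `A` is perfect. -/
theorem perfect_residue (p : ℕ) (hp : p.Prime) (A B : Type u) [CommRing A] [IsLocalRing A] [CommRing B]
    [IsLocalRing B] [Algebra A B] [IsLocalHom (algebraMap A B)] [CharP (ResidueField B) p]
    (hk : ∀ x : ResidueField B, (∀ n : ℕ, ∃ y : ResidueField B, y ^ (p ^ n) = x) ↔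
      x ∈ Set.range (algebraMap (ResidueField A) (ResidueField B))) :
    ∀ x : ResidueField A, ∃ y : ResidueField A, y ^ p = x := by
  intro x
  haveI : Fact p.Prime := ⟨hp⟩
  haveI : ExpChar (ResidueField B) p := ExpChar.prime hp
  have hx : algebraMap (ResidueField A) (ResidueField B) x ∈
      Set.range (algebraMap (ResidueField A) (ResidueField B)) := ⟨x, rfl⟩
  have h1 := (hk _).mpr hx
  obtain ⟨y, hy⟩ := h1 1
  rw [pow_one] at hy
  have hy2 : ∀ n : ℕ, ∃ t : ResidueField B, t ^ (p ^ n) = y := by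
    intro n
    obtain ⟨t, ht⟩ := h1 (n + 1)
    refine ⟨t, ?_⟩
    have h3 : (t ^ (p ^ n)) ^ p = y ^ p := by rw [← pow_mul, ← pow_succ, ht, hy]
    apply frobenius_inj (ResidueField B) p
    simpa [frobenius_def] using h3
  obtain ⟨y₀, hy₀⟩ := (hk y).mp hy2
  refine ⟨y₀, (algebraMap (ResidueField A) (ResidueField B)).injective ?_⟩
  rw [map_pow, hy₀, hy]

theorem lev_aux (p : ℕ) (hp : p.Prime) (m m' i i' : ℕ) (hii : i ≤ i')
    (h' : i' = 0 ∨ ¬ p ∣ m') (heq : m * p ^ i' = m' * p ^ i) : m = m' := by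
  obtain ⟨d, rfl⟩ := Nat.exists_eq_add_of_le hii
  rw [pow_add, ← mul_assoc] at heq
  have h1 : m * p ^ i = m' ∨ True := Or.inr trivial
  have h2 : m * p ^ d = m' := by
    have hpi : 0 < p ^ i := pow_pos hp.pos i
    have : m * p ^ d * p ^ i = m' * p ^ i := by rw [← heq]; ring
    exact Nat.eq_of_mul_eq_mul_right hpi this
  rcases Nat.eq_zero_or_pos d with hd | hd
  · subst hd; simpa using h2
  · exfalso
    have hdvd : p ∣ m' := by
      rw [← h2]
      exact Dvd.dvd.mul_left (dvd_pow_self p hd.ne') m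
    rcases h' with h' | h'
    · omega
    · exact h' hdvd

/-- (P7) the term of maximal level. -/
theorem exists_max_level (p : ℕ) (hp : p.Prime) (S : Finset ℕ) (i : ℕ → ℕ) (hS : S.Nonempty)
    (h : ∀ m ∈ S, 0 < m ∧ (i m = 0 ∨ ¬ p ∣ m)) :
    ∃ mstar ∈ S, ∀ m ∈ S, m ≠ mstar → m * p ^ (i mstar) < mstar * p ^ (i m) := by
  obtain ⟨mstar, hmstar, hmaxq⟩ :=
    Finset.exists_max_image S (fun m => (m : ℚ) / (p : ℚ) ^ (i m)) hS
  refine ⟨mstar, hmstar, fun m hm hne => ?_⟩
  have hpq : (0 : ℚ) < p := by exact_mod_cast hp.pos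
  have h1 := hmaxq m hm
  rw [div_le_div_iff₀ (pow_pos hpq _) (pow_pos hpq _)] at h1
  have h2 : m * p ^ (i mstar) ≤ mstar * p ^ (i m) := by exact_mod_cast h1
  rcases lt_or_eq_of_le h2 with h3 | h3
  · exact h3
  · exfalso
    apply hne
    rcases le_total (i m) (i mstar) with hii | hii
    · exact lev_aux p hp m mstar (i m) (i mstar) hii (h mstar hmstar).2 h3
    · exact (lev_aux p hp mstar m (i mstar) (i m) hii (h m hm).2 h3.symm).symm

end Groth.Agent.H47.Epp55
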