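import Mathlib
import Groth.Prelude.Def_EtRam
import Groth.Agent.H47.Epp55Bridge
import Groth.Agent.H80.SolTower
import Groth.Agent.H10.ValDVR
import Groth.Agent.H14.EppTri3

set_option autoImplicit false
set_option linter.unusedVariables false
set_option linter.style.haveILetI false
set_option maxHeartbeats 1000000

namespace Groth.Agent.H47.Epp55

universe u

open IsLocalRing TensorProduct

/-- (TC) type (C): weak solution from the normal form data and the `S7157` extension. -/
theorem weakSolution_typeC (p : ℕ) (hp : p.Prime) (A B C K L M : Type u)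
    [CommRing A] [IsDomain A] [IsDiscreteValuationRing A] [CommRing B] [IsDomain B] [IsDiscreteValuationRing B]
    [CommRing C] [IsDomain C] [IsDiscreteValuationRing C]
    [Algebra A B] [Algebra B C] [Algebra A C] [IsScalarTower A B C]
    (hAB : Function.Injective (algebraMap A B)) (hBC : Function.Injective (algebraMap B C))
    [IsLocalHom (algebraMap A B)] [IsLocalHom (algebraMap B C)]
    [Field K] [Field L] [Field M] [Algebra A K] [IsFractionRing A K] [Algebra B L] [IsFractionRing B L]
    [Algebra C M] [IsFractionRing C M] [Algebra K L] [Algebra L M] [Algebra K M] [IsScalarTower K L M]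
    [Algebra A L] [IsScalarTower A K L] [IsScalarTower A B L] [Algebra B M] [IsScalarTower B L M] [IsScalarTower B C M]
    [Algebra A M] [IsScalarTower A K M] [IsScalarTower A C M]
    (hw : EtRam.IsWeaklyUnramified A B) [CharP K p] (hdeg : Module.finrank L M = p)
    (π : A) (hπ : maximalIdeal A = Ideal.span {π})
    (hperf : ∀ x : ResidueField A, ∃ y : ResidueField A, y ^ p = x)
    (z : M) (ξ : L) (hz : z ^ p - z = algebraMap L M ξ)
    (K₁ : Type u) [Field K₁] [Algebra K K₁] [Algebra A K₁] [IsScalarTower A K K₁]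
    (N n' : ℕ) (hdegK₁ : Module.finrank K K₁ = p ^ N) (hn' : 1 < n')
    (ϖ β : K₁) (hϖint : ϖ ∈ integralClosure A K₁) (hβint : β ∈ integralClosure A K₁)
    (hϖ : ϖ ^ (p ^ N) = algebraMap A K₁ π + algebraMap A K₁ π ^ n' * β)
    (w : L) (b₀ : B) (η : K) (S : Finset ℕ) (c : ℕ → B) (i : ℕ → ℕ)
    (hξ : ξ = (w ^ p - w) + algebraMap B L b₀ + algebraMap K L η +
          ∑ m ∈ S, algebraMap B L (c m) ^ (p ^ i m) / algebraMap A L π ^ m)
    (hS : ∀ m ∈ S, 0 < m ∧ (∀ y : B, residue B (c m) ≠ residue B y ^ p) ∧ (i m = 0 ∨ ¬ p ∣ m))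
    (mstar : ℕ) (hmstar : mstar ∈ S)
    (hmax : ∀ m ∈ S, m ≠ mstar → m * p ^ (i mstar) < mstar * p ^ (i m))
    (nη : ℕ) (aη : A) (hη : η * algebraMap A K π ^ nη = algebraMap A K aη)
    (hN : ∀ m ∈ S, i m < N) (hNη : nη < p ^ (N - i mstar)) (hn'S : ∀ m ∈ S, m < n') (hn'η : nη < n') :
    EtRam.IsWeakSolution C K M K₁ := by
  classical
  intro M' _ _ _ _ _ _ hadj W hW
  refine (Groth.Agent.H80.SolTower.weaklyUnram_iff W (algebraMap K₁ M')).mpr ?_
  intro x hx
  haveI : Fact p.Prime := ⟨hp⟩
  haveI hfinLM : FiniteDimensional L M :=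
    Module.finite_of_finrank_pos (by rw [hdeg]; exact hp.pos)
  haveI : FiniteDimensional K K₁ :=
    Module.finite_of_finrank_pos (by rw [hdegK₁]; exact pow_pos hp.pos N)
  haveI hcharL : CharP L p := charP_of_injective_algebraMap (algebraMap K L).injective p
  haveI : CharP M' p := charP_of_injective_algebraMap (algebraMap K M').injective p
  letI algLM' : Algebra L M' := ((algebraMap M M').comp (algebraMap L M)).toAlgebra
  haveI : IsScalarTower L M M' := IsScalarTower.of_algebraMap_eq (fun _ => rfl)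
  letI algBM' : Algebra B M' := ((algebraMap L M').comp (algebraMap B L)).toAlgebra
  haveI : IsScalarTower B L M' := IsScalarTower.of_algebraMap_eq (fun _ => rfl)
  haveI : IsScalarTower K L M' := IsScalarTower.of_algebraMap_eq (fun k => by
    show algebraMap K M' k = algebraMap M M' (algebraMap L M (algebraMap K L k))
    rw [← IsScalarTower.algebraMap_apply K L M, ← IsScalarTower.algebraMap_apply K M M'])
  haveI hfinMM' : FiniteDimensional M M' :=
    Groth.Agent.H10.ValDVR.finite_of_adjoin_eq_top K M K₁ M' hadj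
  haveI hfinLM' : FiniteDimensional L M' := Module.Finite.trans M M'
  -- the degree bound
  have hfrM : Module.finrank M M' ≤ p ^ N := by
    let ψ : M ⊗[K] K₁ →ₐ[M] M' :=
      Algebra.TensorProduct.productLeftAlgHom (Algebra.ofId M M') (IsScalarTower.toAlgHom K K₁ M')
    have hsurj : Function.Surjective ψ := by
      rw [← AlgHom.range_eq_top, eq_top_iff, ← hadj]
      apply Algebra.adjoin_le
      rintro _ ⟨t, rfl⟩
      exact ⟨1 ⊗ₜ t, by simp [ψ]⟩
    have h1 := LinearMap.finrank_le_finrank_of_surjective (f := ψ.toLinearMap) hsurj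
    rw [Module.finrank_baseChange, hdegK₁] at h1
    exact h1
  have hfr : Module.finrank L M' ≤ p * p ^ N := by
    rw [← Module.finrank_mul_finrank L M M', hdeg]
    exact Nat.mul_le_mul_left p hfrM
  -- domination of B
  have hBM' : ∀ b : B, algebraMap B M' b = algebraMap M M' (algebraMap C M (algebraMap B C b)) := by
    intro b
    show algebraMap M M' (algebraMap L M (algebraMap B L b)) = _
    rw [← IsScalarTower.algebraMap_apply B L M, ← IsScalarTower.algebraMap_apply B C M]
  have hWB : EtRam.Dominates B (algebraMap B M') W := by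
    refine ⟨fun b => ?_, fun b hb => ?_⟩
    · rw [hBM']; exact hW.1 _
    · rw [hBM']
      refine hW.2 _ ((mem_maximalIdeal _).mpr (fun hu => ?_))
      exact ((mem_maximalIdeal _).mp hb) (isUnit_of_map_unit (algebraMap B C) b hu)
  have hπB : maximalIdeal B = Ideal.span {algebraMap A B π} := by
    have hw' : (maximalIdeal A).map (algebraMap A B) = maximalIdeal B := hw
    rw [← hw', hπ, Ideal.map_span, Set.image_singleton]
  -- compatibility of A
  have hcompat : ∀ a : A, algebraMap K₁ M' (algebraMap A K₁ a) =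
      algebraMap B M' (algebraMap A B a) := by
    intro a
    show _ = algebraMap M M' (algebraMap L M (algebraMap B L (algebraMap A B a)))
    rw [IsScalarTower.algebraMap_apply A K K₁, ← IsScalarTower.algebraMap_apply K K₁ M',
      IsScalarTower.algebraMap_apply K M M', ← IsScalarTower.algebraMap_apply A B L,
      IsScalarTower.algebraMap_apply A K L, ← IsScalarTower.algebraMap_apply K L M]
  set v := W.valuation with hv
  set πF : M' := algebraMap B M' (algebraMap A B π) with hπF
  set ϖ' : M' := algebraMap K₁ M' ϖ with hϖ'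
  set β' : M' := algebraMap K₁ M' β with hβ'
  have hBW : ∀ b : B, algebraMap B M' b ∈ W := hWB.1
  have hAW : ∀ a : A, algebraMap K₁ M' (algebraMap A K₁ a) ∈ W := by
    intro a; rw [hcompat]; exact hBW _
  have hintW : ∀ t : K₁, t ∈ integralClosure A K₁ → algebraMap K₁ M' t ∈ W := by
    intro t ht
    apply Groth.Agent.H14.EppTri3.mem_of_isIntegralElem W
      ((algebraMap K₁ M').comp (algebraMap A K₁)) hAW
    obtain ⟨q, hq, hqx⟩ := ht
    exact ⟨q, hq, by rw [← Polynomial.hom_eval₂, hqx, map_zero]⟩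
  have hβW : β' ∈ W := hintW β hβint
  have hϖW : ϖ' ∈ W := hintW ϖ hϖint
  have hπ0 : π ≠ 0 := by
    intro h0
    apply IsDiscreteValuationRing.not_a_field A
    rw [hπ, h0, Ideal.span_singleton_eq_bot]
  have hinjBM' : Function.Injective (algebraMap B M') :=
    (algebraMap L M').injective.comp (IsFractionRing.injective B L)
  have hπF0 : πF ≠ 0 := by
    intro h0
    have h1 : algebraMap A B π = 0 := hinjBM' (by rw [← hπF, h0, map_zero])
    exact hπ0 (hAB (by rw [h1, map_zero]))
  have hvπ : v πF < 1 := by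
    refine hWB.2 _ ?_
    rw [hπB]; exact Ideal.mem_span_singleton_self _
  have hϖeq : ϖ' ^ (p ^ N) = πF + πF ^ n' * β' := by
    rw [hϖ', ← map_pow, hϖ, map_add, map_mul, map_pow, hcompat]
  set u : M' := 1 + πF ^ (n' - 1) * β' with hu
  have hvβ : v β' ≤ 1 := (W.valuation_le_one_iff _).mpr hβW
  have hvt : v (πF ^ (n' - 1) * β') < 1 := by
    rw [map_mul, map_pow]
    calc v πF ^ (n' - 1) * v β' ≤ v πF ^ (n' - 1) * 1 := mul_le_mul_right hvβ _
      _ = v πF ^ (n' - 1) := mul_one _
      _ < 1 := pow_lt_one₀ zero_le' hvπ (by omega)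
  have hvu : v u = 1 := by
    rw [hu]; exact v.map_one_add_of_lt hvt
  have hu0 : u ≠ 0 := by
    intro h
    rw [h, map_zero] at hvu
    exact zero_ne_one hvu
  have hϖu : ϖ' ^ (p ^ N) = πF * u := by
    rw [hϖeq, hu]
    have : n' = (n' - 1) + 1 := by omega
    conv_lhs => rw [this, pow_succ]
    ring
  have hϖ'0 : ϖ' ≠ 0 := by
    intro h0
    rw [h0, zero_pow (pow_ne_zero N hp.ne_zero)] at hϖu
    exact mul_ne_zero hπF0 hu0 hϖu.symm
  have huinv : u⁻¹ ∈ W := by
    rw [← W.valuation_le_one_iff, map_inv₀, ← hv, hvu, inv_one]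
  -- the subring of elements of A
  let R₀ : Subring M' := ((algebraMap B M').comp (algebraMap A B)).range
  have hR₀ : R₀ ≤ W.toSubring := by
    rintro _ ⟨a, rfl⟩
    exact hBW _
  have hperf' : ∀ a ∈ R₀, ∃ a' ∈ R₀, ∃ a'' ∈ R₀, a = a' ^ p + πF * a'' := by
    rintro _ ⟨a, rfl⟩
    obtain ⟨y, hy⟩ := hperf (residue A a)
    obtain ⟨a₂, rfl⟩ := residue_surjective y
    have hmem : a - a₂ ^ p ∈ maximalIdeal A := by
      rw [← residue_eq_zero_iff, map_sub, map_pow, hy, sub_self]
    rw [hπ, Ideal.mem_span_singleton] at hmem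
    obtain ⟨a₃, ha₃⟩ := hmem
    refine ⟨_, ⟨a₂, rfl⟩, _, ⟨a₃, rfl⟩, ?_⟩
    have : a = a₂ ^ p + π * a₃ := by rw [← ha₃]; ring
    conv_lhs => rw [this]
    simp only [RingHom.comp_apply, map_add, map_mul, map_pow]
    rfl
  -- apply the computation
  obtain ⟨w₁, r, hr, hcomp⟩ := comp_all p hp M' W.toSubring R₀ hR₀ πF ϖ' β' N n' hπF0 hϖ'0
    ⟨π, rfl⟩ hϖW hβW hϖeq (by omega) huinv hperf' (algebraMap B M' b₀) (hBW _) nη
    (algebraMap B M' (algebraMap A B aη)) ⟨aη, rfl⟩ S (fun m => algebraMap B M' (c m)) i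
    (fun m _ => hBW _) mstar hmstar (fun m hm => (hS m hm).1) hmax hN hNη hn'S hn'η
  -- the image of ξ
  have hAL : ∀ a : A, algebraMap L M' (algebraMap A L a) = algebraMap B M' (algebraMap A B a) := by
    intro a
    rw [IsScalarTower.algebraMap_apply A B L]; rfl
  have hηF : algebraMap L M' (algebraMap K L η) = algebraMap B M' (algebraMap A B aη) / πF ^ nη := by
    rw [eq_div_iff (pow_ne_zero _ hπF0)]
    have h1 := congrArg (fun t => algebraMap L M' (algebraMap K L t)) hη
    simp only [map_mul, map_pow] at h1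
    rw [← IsScalarTower.algebraMap_apply A K L, ← IsScalarTower.algebraMap_apply A K L, hAL, hAL] at h1
    exact h1
  have hξF : algebraMap L M' ξ = ((algebraMap L M' w) ^ p - algebraMap L M' w) +
      (algebraMap B M' b₀ + algebraMap B M' (algebraMap A B aη) / πF ^ nη +
        ∑ m ∈ S, (algebraMap B M' (c m)) ^ (p ^ i m) / πF ^ m) := by
    rw [hξ]
    simp only [map_add, map_sub, map_pow, map_sum, map_div₀]
    rw [hηF, hAL]
    have : algebraMap L M' (algebraMap B L b₀) = algebraMap B M' b₀ := rfl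
    rw [this]
    have h2 : ∀ m, algebraMap L M' (algebraMap B L (c m)) = algebraMap B M' (c m) := fun _ => rfl
    simp only [h2]
    ring
  set ζ : M' := algebraMap M M' z - algebraMap L M' w - w₁ with hζdef
  have hzF : (algebraMap M M' z) ^ p - algebraMap M M' z = algebraMap L M' ξ := by
    rw [← map_pow, ← map_sub, hz]; rfl
  have hN1 : 1 ≤ N - i mstar := by have := hN mstar hmstar; omega
  set m₁ : ℕ := p ^ (N - i mstar - 1) * mstar with hm₁def
  have hm₁ : 0 < m₁ := Nat.mul_pos (pow_pos hp.pos _) (hS mstar hmstar).1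
  have hexp : p ^ (N - i mstar) * mstar = p * m₁ := by
    rw [hm₁def, ← mul_assoc, ← pow_succ']
    congr 2; omega
  have hζ : ζ ^ p - ζ = (algebraMap B M' (c mstar) + ϖ' * r) / ϖ' ^ (p * m₁) := by
    rw [← hexp]
    have h1 : ζ ^ p - ζ = ((algebraMap M M' z) ^ p - algebraMap M M' z) -
        ((algebraMap L M' w) ^ p - algebraMap L M' w) - (w₁ ^ p - w₁) := by
      rw [hζdef, sub_pow_char, sub_pow_char]; ring
    rw [h1, hzF, hξF, hcomp]; ring
  obtain ⟨t, ht, hxt⟩ := uniformizer_of_typeC p hp B L M' N hfr (algebraMap A B π) hπB W hWB ϖ' u hvu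
    hϖu (c mstar) (hS mstar hmstar).2.1 ζ r hr m₁ hm₁ hζ x hx
  refine ⟨ϖ, ?_, t, ht, hxt⟩
  show v ϖ' < 1
  by_contra hge
  push Not at hge
  have h1 : 1 ≤ v ϖ' ^ (p ^ N) := one_le_pow₀ hge
  rw [← map_pow, hϖu, map_mul, hvu, mul_one] at h1
  exact absurd hvπ (not_lt.mpr h1)

end Groth.Agent.H47.Epp55
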