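import Mathlib
import Groth.Prelude.Def_FEt
import Groth.Prelude.Def_Pi1
import Groth.Prelude.Def_Hensel
import Groth.Agent.H47.HensNoeth
import Groth.Agent.H74.FEtSh_Q1
import Groth.Agent.H44.FEtSh_Q3
import Groth.Agent.H75.FEtSh_Q4
import Groth.Agent.H75.FEtSh_Q5
import Groth.Agent.H2.FEtSh_S2
import Groth.Agent.H97.FEtSh_S3

set_option autoImplicit false
set_option linter.unusedVariables false

namespace Groth.Agent.H47.FEtSh

universe u

open IsLocalRing TensorProduct AlgebraicGeometry CategoryTheory CategoryTheory.Limits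

/-- (Q1) `R ⊗[A] E ≅ L ⊗[K] E ≅ L^ι`. -/
theorem bijective_lift_pi (A R K L E : Type u) [CommRing A] [IsDomain A] [IsLocalRing A]
    [CommRing R] [IsDomain R] [IsLocalRing R] [Algebra A R] [IsLocalHom (algebraMap A R)]
    (h : Groth.Agent.H47.HensNoeth.IsIndEtaleLocal A R)
    [Field K] [Field L] [Algebra A K] [IsFractionRing A K] [Algebra R L] [IsFractionRing R L]
    [Algebra K L] [Algebra A L] [IsScalarTower A K L] [IsScalarTower A R L]
    [CommRing E] [Algebra K E] [Algebra A E] [IsScalarTower A K E]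
    (ι : Type u) (ψ : L ⊗[K] E ≃ₐ[L] (ι → L)) (ψ' : E →ₐ[A] (ι → L))
    (hψ' : ∀ e, ψ' e = ψ (1 ⊗ₜ e)) :
    Function.Bijective (Algebra.TensorProduct.lift (Algebra.ofId R (ι → L)) ψ'
      (fun _ _ => Commute.all _ _)) := by
  exact Groth.Agent.H74.FEtShQ1.bijective_lift_pi A R K L E h ι ψ ψ' hψ'

/-- (Q3) ind-étale base change of the integral closure (surjectivity part). -/
theorem mem_range_of_isIntegral (A R E : Type u) [CommRing A] [IsLocalRing A] [CommRing R]
    [IsLocalRing R] [Algebra A R] [IsLocalHom (algebraMap A R)]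
    (h : Groth.Agent.H47.HensNoeth.IsIndEtaleLocal A R) [Algebra.WeaklyEtale A R]
    [CommRing E] [Algebra A E] (y : R ⊗[A] E) (hy : IsIntegral R y) :
    y ∈ Set.range (Algebra.TensorProduct.map (AlgHom.id R R) (integralClosure A E).val) := by
  exact Groth.Agent.H44.FEtShQ3.mem_range_of_isIntegral A R E h y hy

/-- (Q4) the generic fibre of the integral closure. -/
theorem tensor_integralClosure_equiv (A K E : Type u) [CommRing A] [IsDomain A] [Field K]
    [Algebra A K] [IsFractionRing A K] [CommRing E] [Algebra K E] [Algebra A E] [IsScalarTower A K E]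
    [Algebra.IsIntegral K E] :
    Nonempty (K ⊗[A] (integralClosure A E) ≃ₐ[K] E) := by
  exact Groth.Agent.H75.FEtShQ4.tensor_integralClosure_equiv A K E

/-- (Q5) descent of "finite étale" from a split base change. -/
theorem finite_etale_of_tensor_equiv_pi (A R D ι : Type u) [CommRing A] [CommRing R] [Algebra A R]
    [Module.FaithfullyFlat A R] [CommRing D] [Algebra A D] [Finite ι]
    (e : R ⊗[A] D ≃ₐ[R] (ι → R)) : Module.Finite A D ∧ Algebra.Etale A D := by
  exact Groth.Agent.H75.FEtShQ5.finite_etale_of_tensor_equiv_pi A R D ι e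

/-- (S2) a split cover gives a split algebra. -/
theorem algEquiv_of_isSplit (K L E : Type u) [Field K] [Field L] [Algebra K L] [CommRing E]
    [Algebra K E] (V : FEt.Cat (Spec (CommRingCat.of K))) (e : V.left ≅ Spec (CommRingCat.of E))
    (he : e.hom ≫ Spec.map (CommRingCat.ofHom (algebraMap K E)) = V.hom)
    (hV : Pi1.IsSplit ((FEt.restrict (Spec.map (CommRingCat.ofHom (algebraMap K L)))).obj V)) :
    ∃ (ι : Type u) (_ : Finite ι), Nonempty (L ⊗[K] E ≃ₐ[L] (ι → L)) := by
  exact Groth.Agent.H2.FEtShS2.algEquiv_of_isSplit K L E V e he hV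

/-- (S3) a finite étale model of the algebra gives a finite étale model of the cover. -/
theorem exists_restrict_iso (A K E D : Type u) [CommRing A] [Field K] [Algebra A K] [CommRing E]
    [Algebra K E] [CommRing D] [Algebra A D] [Module.Finite A D] [Algebra.Etale A D]
    (V : FEt.Cat (Spec (CommRingCat.of K))) (e : V.left ≅ Spec (CommRingCat.of E))
    (he : e.hom ≫ Spec.map (CommRingCat.ofHom (algebraMap K E)) = V.hom)
    (φ : K ⊗[A] D ≃ₐ[K] E) :
    ∃ Y : FEt.Cat (Spec (CommRingCat.of A)),
      Nonempty ((FEt.restrict (Spec.map (CommRingCat.ofHom (algebraMap A K)))).obj Y ≅ V) := by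
  exact Groth.Agent.H97.FEtSh.exists_restrict_iso A K E D V e he φ

end Groth.Agent.H47.FEtSh
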