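import Mathlib
import Groth.Prelude.Def_FEt
import Groth.Prelude.Def_Pi1
import Groth.Prelude.Def_Hensel
import Groth.Agent.H47.HensNoeth
import Groth.Agent.H47.FEtShBridge

set_option autoImplicit false
set_option linter.unusedVariables false
set_option linter.style.haveILetI false
set_option maxHeartbeats 1000000

namespace Groth.Agent.H47.FEtSh

universe u

open IsLocalRing TensorProduct

/-- (Q2) integral elements of `L^ι` over an integrally closed domain have coordinates in `R`. -/
theorem mem_range_of_isIntegral_pi (R L ι : Type u) [CommRing R] [IsDomain R] [IsIntegrallyClosed R]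
    [Field L] [Algebra R L] [IsFractionRing R L] (f : ι → L) (hf : IsIntegral R f) :
    ∀ i, f i ∈ Set.range (algebraMap R L) := by
  intro i
  have h1 : IsIntegral R (f i) := hf.map (Pi.evalAlgHom R (fun _ => L) i)
  exact IsIntegrallyClosed.isIntegral_iff.mp h1

/-- Two injective algebra maps with the same range have isomorphic sources. -/
theorem nonempty_algEquiv_of_range_eq {R X Z W : Type u} [CommRing R] [CommRing X] [CommRing Z]
    [CommRing W] [Algebra R X] [Algebra R Z] [Algebra R W] (χ : X →ₐ[R] Z) (c : W →ₐ[R] Z)
    (hχ : Function.Injective χ) (hc : Function.Injective c)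
    (hr : Set.range χ = Set.range c) : Nonempty (X ≃ₐ[R] W) := by
  have hrange : χ.range = c.range := by
    apply SetLike.coe_injective
    rw [AlgHom.coe_range, AlgHom.coe_range, hr]
  exact ⟨(AlgEquiv.ofInjective χ hχ).trans
    ((Subalgebra.equivOfEq _ _ hrange).trans (AlgEquiv.ofInjective c hc).symm)⟩

/-- (MID) the base change of the integral closure to the strict henselization is split. -/
theorem exists_tensor_equiv_pi (A R K L E : Type u) [CommRing A] [IsDomain A] [IsLocalRing A]
    [CommRing R] [IsDomain R] [IsIntegrallyClosed R] [IsLocalRing R] [Algebra A R]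
    [IsLocalHom (algebraMap A R)]
    (h : Groth.Agent.H47.HensNoeth.IsIndEtaleLocal A R) [Algebra.WeaklyEtale A R]
    [Field K] [Field L] [Algebra A K] [IsFractionRing A K] [Algebra R L] [IsFractionRing R L]
    [Algebra K L] [Algebra A L] [IsScalarTower A K L] [IsScalarTower A R L]
    [CommRing E] [Algebra K E] [Algebra A E] [IsScalarTower A K E]
    (ι : Type u) [Finite ι] (ψ : L ⊗[K] E ≃ₐ[L] (ι → L)) :
    Nonempty (R ⊗[A] (integralClosure A E) ≃ₐ[R] (ι → R)) := by
  classical
  haveI : Module.Flat A R := h.flat
  -- the A-algebra map E → L^ι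
  let ψ' : E →ₐ[A] (ι → L) :=
    { toRingHom := (ψ : L ⊗[K] E →+* (ι → L)).comp
        (Algebra.TensorProduct.includeRight : E →ₐ[K] L ⊗[K] E).toRingHom
      commutes' := fun a => by
        show ψ ((1 : L) ⊗ₜ[K] (algebraMap A E a)) = algebraMap A (ι → L) a
        have h1 : (1 : L) ⊗ₜ[K] (algebraMap A E a) =
            algebraMap L (L ⊗[K] E) (algebraMap A L a) := by
          rw [IsScalarTower.algebraMap_apply A K E, Algebra.algebraMap_eq_smul_one (algebraMap A K a),
            ← TensorProduct.smul_tmul, Algebra.TensorProduct.algebraMap_apply,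
            IsScalarTower.algebraMap_apply A K L, Algebra.smul_def, mul_one]
          rfl
        rw [h1, AlgEquiv.commutes]
        rfl }
  have hψ' : ∀ e, ψ' e = ψ (1 ⊗ₜ e) := fun e => rfl
  let Ψ : R ⊗[A] E →ₐ[R] (ι → L) :=
    Algebra.TensorProduct.lift (Algebra.ofId R (ι → L)) ψ' (fun _ _ => Commute.all _ _)
  have hΨ : Function.Bijective Ψ := bijective_lift_pi A R K L E h ι ψ ψ' hψ'
  let ΨE : R ⊗[A] E ≃ₐ[R] (ι → L) := AlgEquiv.ofBijective Ψ hΨ
  let j : R ⊗[A] (integralClosure A E) →ₐ[R] R ⊗[A] E :=
    Algebra.TensorProduct.map (AlgHom.id R R) (integralClosure A E).val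
  have hj : Function.Injective j := by
    have : (j : R ⊗[A] (integralClosure A E) → R ⊗[A] E) =
        LinearMap.lTensor R (integralClosure A E).val.toLinearMap := by
      ext x
      induction x using TensorProduct.induction_on with
      | zero => simp
      | tmul r d => rfl
      | add x y hx hy => rw [map_add, map_add, hx, hy]
    rw [this]
    exact Module.Flat.lTensor_preserves_injective_linearMap _ Subtype.val_injective
  let χ : R ⊗[A] (integralClosure A E) →ₐ[R] (ι → L) := Ψ.comp j
  have hχ : Function.Injective χ := hΨ.1.comp hj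
  let c : (ι → R) →ₐ[R] (ι → L) := (Algebra.ofId R L).compLeft ι
  have hc : Function.Injective c := by
    intro f g hfg
    funext i
    have := congrFun hfg i
    exact IsFractionRing.injective R L this
  apply nonempty_algEquiv_of_range_eq χ c hχ hc
  apply Set.eq_of_subset_of_subset
  · rintro _ ⟨x, rfl⟩
    haveI : Algebra.IsIntegral A (integralClosure A E) := inferInstance
    have hx : IsIntegral R x := Algebra.IsIntegral.isIntegral x
    have hχx : IsIntegral R (χ x) := hx.map χ
    have hcoord := mem_range_of_isIntegral_pi R L ι (χ x) hχx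
    choose f hf using hcoord
    exact ⟨f, funext fun i => hf i⟩
  · rintro _ ⟨f, rfl⟩
    haveI : Module.Finite R (ι → R) := inferInstance
    have hf : IsIntegral R f := Algebra.IsIntegral.isIntegral f
    have hcf : IsIntegral R (c f) := hf.map c
    have hy : IsIntegral R (ΨE.symm (c f)) := hcf.map ΨE.symm.toAlgHom
    obtain ⟨w, hw⟩ := mem_range_of_isIntegral A R E h (ΨE.symm (c f)) hy
    refine ⟨w, ?_⟩
    show Ψ (j w) = c f
    have : j w = ΨE.symm (c f) := hw
    rw [this]
    exact ΨE.apply_symm_apply (c f)

end Groth.Agent.H47.FEtSh
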