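import Mathlib

/-!
# Subfields of finite type algebras are algebraic over the base field (helper47)
-/

set_option autoImplicit false
universe u

namespace Groth.Agent.H47.FieldIndep

open Polynomial TensorProduct

/-- Auxiliary form with `D` a `k[X]`-algebra. -/
theorem aux {k D : Type u} [Field k] [CommRing D]
    [IsDomain D] [Algebra k D] [Algebra.FiniteType k D] [Algebra k[X] D] [IsScalarTower k k[X] D]
    (hinj : Function.Injective (algebraMap k[X] D)) :
    ∃ g : k[X], g ≠ 0 ∧ ∀ q : k[X], Irreducible q → ¬ q ∣ g → ¬ IsUnit (algebraMap k[X] D q) := by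
  classical
  haveI : Algebra.FiniteType k[X] D := Algebra.FiniteType.of_restrictScalars_finiteType k k[X] D
  let K := FractionRing k[X]
  let T := K ⊗[k[X]] D
  haveI : Algebra.FiniteType K T := inferInstance
  -- T is nontrivial
  haveI : Nontrivial T := by
    have hinj' : Function.Injective (algebraMap k[X] (FractionRing D)) := by
      rw [IsScalarTower.algebraMap_eq k[X] D (FractionRing D)]
      exact (IsFractionRing.injective D (FractionRing D)).comp hinj
    let f : K →ₐ[k[X]] FractionRing D :=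
      IsFractionRing.liftAlgHom (g := Algebra.ofId k[X] (FractionRing D)) hinj'
    let g : D →ₐ[k[X]] FractionRing D := IsScalarTower.toAlgHom k[X] D (FractionRing D)
    let F : T →ₐ[k[X]] FractionRing D := Algebra.TensorProduct.lift f g (fun _ _ => Commute.all _ _)
    exact F.toRingHom.domain_nontrivial
  obtain ⟨M, hM⟩ := Ideal.exists_maximal T
  letI : Field (T ⧸ M) := Ideal.Quotient.field M
  haveI : Algebra.FiniteType K (T ⧸ M) := inferInstance
  haveI : Module.Finite K (T ⧸ M) := finite_of_finite_type_of_isJacobsonRing K (T ⧸ M)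
  haveI : Algebra.IsAlgebraic K (T ⧸ M) := Algebra.IsAlgebraic.of_finite K (T ⧸ M)
  haveI : Algebra.IsAlgebraic k[X] (T ⧸ M) :=
    (IsFractionRing.comap_isAlgebraic_iff (A := k[X]) (K := K) (C := T ⧸ M)).mpr inferInstance
  let ψ : D →ₐ[k[X]] (T ⧸ M) :=
    (Ideal.Quotient.mkₐ k[X] M).comp Algebra.TensorProduct.includeRight
  have hinjF : Function.Injective (algebraMap k[X] (T ⧸ M)) := by
    rw [IsScalarTower.algebraMap_eq k[X] K (T ⧸ M)]
    exact (algebraMap K (T ⧸ M)).injective.comp (IsFractionRing.injective k[X] K)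
  -- generators
  obtain ⟨s, hs⟩ := (Algebra.FiniteType.out : (⊤ : Subalgebra k D).FG)
  have hmult : ∀ a : D, ∃ y : k[X], y ≠ 0 ∧ IsIntegral k[X] (y • ψ a) := fun a =>
    (Algebra.IsAlgebraic.isAlgebraic (ψ a)).exists_integral_multiple
  choose y hy0 hyint using hmult
  let g : k[X] := ∏ a ∈ s, y a
  have hg0 : g ≠ 0 := Finset.prod_ne_zero_iff.mpr fun a _ => hy0 a
  have hgs : ∀ a ∈ s, IsIntegral k[X] (g • ψ a) := by
    intro a ha
    obtain ⟨c, hc⟩ : y a ∣ g := Finset.dvd_prod_of_mem y ha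
    rw [hc, mul_comm, mul_smul]
    exact (hyint a).smul c
  -- every element becomes integral after multiplying by a power of g
  have hpow : ∀ u : D, ∃ N : ℕ, IsIntegral k[X] (g ^ N • ψ u) := by
    intro u
    have hu : u ∈ Algebra.adjoin k (s : Set D) := by rw [hs]; trivial
    induction hu using Algebra.adjoin_induction with
    | mem a ha => exact ⟨1, by simpa using hgs a ha⟩
    | algebraMap c =>
      refine ⟨0, ?_⟩
      rw [pow_zero, one_smul, IsScalarTower.algebraMap_apply k k[X] D, AlgHom.commutes]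
      exact isIntegral_algebraMap
    | add a b _ _ ha hb =>
      obtain ⟨N1, h1⟩ := ha
      obtain ⟨N2, h2⟩ := hb
      refine ⟨N1 + N2, ?_⟩
      have : g ^ (N1 + N2) • ψ (a + b) = g ^ N2 • (g ^ N1 • ψ a) + g ^ N1 • (g ^ N2 • ψ b) := by
        rw [map_add, smul_add, smul_smul, smul_smul, pow_add, mul_comm]
      rw [this]
      exact (h1.smul _).add (h2.smul _)
    | mul a b _ _ ha hb =>
      obtain ⟨N1, h1⟩ := ha
      obtain ⟨N2, h2⟩ := hb
      refine ⟨N1 + N2, ?_⟩
      have : g ^ (N1 + N2) • ψ (a * b) = (g ^ N1 • ψ a) * (g ^ N2 • ψ b) := by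
        rw [map_mul, smul_mul_smul_comm, pow_add]
      rw [this]
      exact h1.mul h2
  refine ⟨g, hg0, ?_⟩
  intro q hq hqg hunit
  obtain ⟨u, hu⟩ := hunit.exists_right_inv
  obtain ⟨N, hN⟩ := hpow u
  have hq0 : q ≠ 0 := hq.ne_zero
  -- in the field T ⧸ M
  have h1 : algebraMap k[X] (T ⧸ M) q * ψ u = 1 := by
    have := congrArg ψ hu
    rwa [map_mul, map_one, AlgHom.commutes] at this
  have h2 : algebraMap k[X] (T ⧸ M) q * (g ^ N • ψ u) = algebraMap k[X] (T ⧸ M) (g ^ N) := by
    rw [mul_smul_comm, h1, Algebra.smul_def, mul_one]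
  let z : K := algebraMap k[X] K (g ^ N) / algebraMap k[X] K q
  have hqK : algebraMap k[X] K q ≠ 0 := fun h =>
    hq0 (IsFractionRing.injective k[X] K (by rw [h, map_zero]))
  have hqF : algebraMap k[X] (T ⧸ M) q ≠ 0 := fun h => hq0 (hinjF (by rw [h, map_zero]))
  have hz : algebraMap K (T ⧸ M) z = g ^ N • ψ u := by
    rw [map_div₀, ← IsScalarTower.algebraMap_apply, ← IsScalarTower.algebraMap_apply,
      div_eq_iff hqF, mul_comm, h2]
  have hzint : IsIntegral k[X] z := by
    rw [← isIntegral_algHom_iff (IsScalarTower.toAlgHom k[X] K (T ⧸ M))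
      (algebraMap K (T ⧸ M)).injective]
    rw [IsScalarTower.coe_toAlgHom', hz]
    exact hN
  obtain ⟨r, hr⟩ := IsIntegrallyClosed.isIntegral_iff.mp hzint
  have : r * q = g ^ N := by
    apply IsFractionRing.injective k[X] K
    rw [map_mul, hr, div_mul_cancel₀ _ hqK]
  exact hqg (hq.prime.dvd_of_dvd_pow ⟨r, by rw [← this, mul_comm]⟩)

/-- Key finiteness: in a domain `D` of finite type over a field `k`, if `t` is transcendental over
`k` then all irreducible `q ∈ k[X]` outside a finite set (the divisors of some `g ≠ 0`) have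
`q(t)` a non-unit of `D`. -/
theorem exists_ne_zero_forall_irreducible_not_isUnit {k D : Type u} [Field k] [CommRing D]
    [IsDomain D] [Algebra k D] [Algebra.FiniteType k D] (t : D) (ht : Transcendental k t) :
    ∃ g : k[X], g ≠ 0 ∧ ∀ q : k[X], Irreducible q → ¬ q ∣ g → ¬ IsUnit (aeval t q) := by
  letI : Algebra k[X] D := (aeval t).toRingHom.toAlgebra
  have halg : ∀ p : k[X], algebraMap k[X] D p = aeval t p := fun p => rfl
  haveI : IsScalarTower k k[X] D := IsScalarTower.of_algebraMap_eq (fun c => by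
    rw [halg, ← Polynomial.C_eq_algebraMap, aeval_C])
  have hinj : Function.Injective (algebraMap k[X] D) := transcendental_iff_injective.mp ht
  exact aux hinj

/-- For any nonzero `g ∈ k[X]` there is an integer polynomial `h` with nonzero image in `k[X]`
having an irreducible factor `q` (over `k`) not dividing `g`. -/
theorem exists_int_poly_irreducible_factor {k : Type u} [Field k] (g : k[X]) (hg : g ≠ 0) :
    ∃ (h : ℤ[X]) (q : k[X]), h.map (Int.castRingHom k) ≠ 0 ∧ Irreducible q ∧
      q ∣ h.map (Int.castRingHom k) ∧ ¬ q ∣ g := by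
  classical
  let Alg : k[X] → Prop := fun q =>
    ∃ H : ℤ[X], H.map (Int.castRingHom k) ≠ 0 ∧ q ∣ H.map (Int.castRingHom k)
  have key : ∀ g : k[X], g ≠ 0 → ∃ G : ℤ[X], G.map (Int.castRingHom k) ≠ 0 ∧
      ∀ q, Irreducible q → q ∣ g → Alg q → q ∣ G.map (Int.castRingHom k) := by
    intro g
    induction g using UniqueFactorizationMonoid.induction_on_prime with
    | h₁ => intro h; exact absurd rfl h
    | h₂ x hx =>
      intro _
      exact ⟨1, by simp, fun q hq hqx _ => absurd (isUnit_of_dvd_unit hqx hx) hq.not_isUnit⟩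
    | h₃ a p ha hp ih =>
      intro _
      obtain ⟨Ga, hGa0, hGa⟩ := ih ha
      by_cases hpA : Alg p
      · obtain ⟨H, hH0, hH⟩ := hpA
        refine ⟨Ga * H, by rw [Polynomial.map_mul]; exact mul_ne_zero hGa0 hH0, ?_⟩
        intro q hq hqpa hqA
        rw [Polynomial.map_mul]
        rcases hq.prime.dvd_or_dvd hqpa with h | h
        · exact dvd_mul_of_dvd_right (h.trans hH) _
        · exact dvd_mul_of_dvd_left (hGa q hq h hqA) _
      · refine ⟨Ga, hGa0, ?_⟩
        intro q hq hqpa hqA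
        rcases hq.prime.dvd_or_dvd hqpa with h | h
        · exfalso
          have hpq : p ∣ q := hq.dvd_symm hp.irreducible h
          obtain ⟨H, hH0, hH⟩ := hqA
          exact hpA ⟨H, hH0, hpq.trans hH⟩
        · exact hGa q hq h hqA
  obtain ⟨G, hG0, hG⟩ := key g hg
  let h : ℤ[X] := 1 + X * G
  have hmap : h.map (Int.castRingHom k) = 1 + X * G.map (Int.castRingHom k) := by
    simp [h]
  have hdeg : (h.map (Int.castRingHom k)).natDegree = (G.map (Int.castRingHom k)).natDegree + 1 := by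
    rw [hmap, natDegree_add_eq_right_of_natDegree_lt, natDegree_X_mul hG0]
    rw [natDegree_one, natDegree_X_mul hG0]
    omega
  have hne : h.map (Int.castRingHom k) ≠ 0 := by
    intro h0
    rw [h0, natDegree_zero] at hdeg
    omega
  have hnu : ¬ IsUnit (h.map (Int.castRingHom k)) := by
    intro hu
    have := natDegree_eq_zero_of_isUnit hu
    omega
  obtain ⟨q, hq, hqh⟩ := WfDvdMonoid.exists_irreducible_factor hnu hne
  refine ⟨h, q, hne, hq, hqh, ?_⟩
  intro hqg
  have h1 := hG q hq hqg ⟨h, hne, hqh⟩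
  have h2 : q ∣ 1 := by
    have := dvd_sub hqh (dvd_mul_of_dvd_right h1 X)
    rwa [hmap, add_sub_cancel_right] at this
  exact hq.not_isUnit (isUnit_of_dvd_one h2)

/-- A field mapping into a domain of finite type over `k₂` has image integral over `k₂`. -/
theorem isIntegral_of_field_hom {k₁ k₂ D : Type u} [Field k₁] [Field k₂] [CommRing D] [IsDomain D]
    [Algebra k₂ D] [Algebra.FiniteType k₂ D] (φ : k₁ →+* D) (c : k₁) : IsIntegral k₂ (φ c) := by
  rw [← isAlgebraic_iff_isIntegral]
  by_contra htr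
  have ht : Transcendental k₂ (φ c) := htr
  obtain ⟨g, hg0, hg⟩ := exists_ne_zero_forall_irreducible_not_isUnit (φ c) ht
  obtain ⟨h, q, hne, hq, hqh, hqg⟩ := exists_int_poly_irreducible_factor g hg0
  apply hg q hq hqg
  have e1 : aeval (φ c) (h.map (Int.castRingHom k₂)) = aeval (φ c) h := by
    rw [← algebraMap_int_eq, aeval_map_algebraMap]
  have e2 : aeval (φ c) h = φ (aeval c h) := by
    rw [aeval_def, aeval_def, hom_eval₂]
    congr 1
    exact RingHom.ext_int _ _
  have hne' : aeval c h ≠ 0 := by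
    intro h0
    apply hne
    apply transcendental_iff.mp ht
    rw [e1, e2, h0, map_zero]
  have hu : IsUnit (aeval (φ c) (h.map (Int.castRingHom k₂))) := by
    rw [e1, e2]
    exact (IsUnit.mk0 _ hne').map φ
  obtain ⟨r, hr⟩ := hqh
  rw [hr, map_mul] at hu
  exact isUnit_of_mul_isUnit_left hu

/-- Over a domain: integrality over one base field implies integrality over the other. -/
theorem isIntegralElem_domain {k₁ k₂ D : Type u} [Field k₁] [Field k₂] [CommRing D] [IsDomain D]
    (φ₁ : k₁ →+* D) (φ₂ : k₂ →+* D) (h₂ : φ₂.FiniteType) (x : D) (hx : φ₁.IsIntegralElem x) :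
    φ₂.IsIntegralElem x := by
  letI := φ₂.toAlgebra
  haveI : Algebra.FiniteType k₂ D := h₂
  change IsIntegral k₂ x
  let S := integralClosure k₂ D
  have hS : ∀ c, φ₁ c ∈ S := fun c => isIntegral_of_field_hom φ₁ c
  let φ₁' : k₁ →+* S := φ₁.codRestrict S hS
  obtain ⟨P, hPm, hP⟩ := hx
  have hxS : IsIntegral S x := by
    refine ⟨P.map φ₁', hPm.map _, ?_⟩
    rw [eval₂_map]
    exact hP
  exact isIntegral_trans x hxS

/-- integral elements push forward along ring homs -/
theorem isIntegralElem_map {R A B : Type*} [CommRing R] [CommRing A] [CommRing B] (φ : R →+* A)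
    (f : A →+* B) {x : A} (hx : φ.IsIntegralElem x) : (f.comp φ).IsIntegralElem (f x) := by
  obtain ⟨P, hm, hP⟩ := hx
  exact ⟨P, hm, by rw [← hom_eval₂, hP, map_zero]⟩

/-- Over a reduced ring of finite type over `k₂`: integrality over `k₁` implies integrality over
`k₂`. -/
theorem isIntegralElem_reduced {k₁ k₂ A : Type u} [Field k₁] [Field k₂] [CommRing A] [IsReduced A]
    (φ₁ : k₁ →+* A) (φ₂ : k₂ →+* A) (h₂ : φ₂.FiniteType) (x : A) (hx : φ₁.IsIntegralElem x) :
    φ₂.IsIntegralElem x := by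
  classical
  haveI : IsNoetherianRing A := by
    letI := φ₂.toAlgebra
    haveI : Algebra.FiniteType k₂ A := h₂
    exact Algebra.FiniteType.isNoetherianRing k₂ A
  have hfin : (minimalPrimes A).Finite := minimalPrimes.finite_of_isNoetherianRing A
  have key : ∀ p ∈ minimalPrimes A, ∃ Q : k₂[X], Q.Monic ∧ eval₂ φ₂ x Q ∈ p := by
    intro p hp
    haveI : p.IsPrime := hp.1.1
    obtain ⟨Q, hQm, hQ⟩ := isIntegralElem_domain ((Ideal.Quotient.mk p).comp φ₁)
      ((Ideal.Quotient.mk p).comp φ₂)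
      ((RingHom.FiniteType.of_surjective _ Ideal.Quotient.mk_surjective).comp h₂)
      (Ideal.Quotient.mk p x) (isIntegralElem_map φ₁ _ hx)
    refine ⟨Q, hQm, ?_⟩
    rw [← Ideal.Quotient.eq_zero_iff_mem, hom_eval₂]
    exact hQ
  choose! Q hQm hQ using key
  refine ⟨∏ p ∈ hfin.toFinset, Q p,
    monic_prod_of_monic _ _ (fun p hp => hQm p (hfin.mem_toFinset.mp hp)), ?_⟩
  have hmem : eval₂ φ₂ x (∏ p ∈ hfin.toFinset, Q p) ∈ sInf (minimalPrimes A) := by
    rw [Ideal.mem_sInf]
    intro p hp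
    rw [eval₂_finsetProd]
    exact Ideal.mem_of_dvd _ (Finset.dvd_prod_of_mem _ (hfin.mem_toFinset.mpr hp)) (hQ p hp)
  change _ ∈ sInf (⊥ : Ideal A).minimalPrimes at hmem
  rw [Ideal.sInf_minimalPrimes] at hmem
  have : (⊥ : Ideal A).radical = ⊥ := by
    have h := nilradical_eq_zero A
    exact h
  rw [this] at hmem
  exact hmem

/-- polynomial expressions in an integral element are integral -/
theorem isIntegralElem_eval₂ {R A : Type*} [CommRing R] [CommRing A] (φ : R →+* A) (x : A)
    (hx : φ.IsIntegralElem x) (Q : R[X]) : φ.IsIntegralElem (eval₂ φ x Q) := by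
  letI := φ.toAlgebra
  change IsIntegral R (aeval x Q)
  have h1 : aeval x Q ∈ Algebra.adjoin R {x} := aeval_mem_adjoin_singleton R x
  have h2 : Algebra.adjoin R {x} ≤ integralClosure R A :=
    Algebra.adjoin_le (Set.singleton_subset_iff.mpr hx)
  exact h2 h1

/-- In a reduced ring, an element integral over a field generates the same ideal as an
idempotent. -/
theorem exists_idempotent_of_isIntegralElem {k A : Type*} [Field k] [CommRing A] [IsReduced A]
    (φ : k →+* A) (y : A) (hy : φ.IsIntegralElem y) :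
    ∃ e a b : A, e * e = e ∧ y = a * e ∧ e = b * y := by
  obtain ⟨P, hPm, hP⟩ := hy
  have hP0 : P ≠ 0 := hPm.ne_zero
  obtain ⟨P', hPP', hP'⟩ := Polynomial.exists_eq_pow_rootMultiplicity_mul_and_not_dvd P hP0 (0 : k)
  have hc : P'.coeff 0 ≠ 0 := by
    intro h0
    apply hP'
    rw [C_0, sub_zero]
    exact X_dvd_iff.mpr h0
  have h1 : y ^ (P.rootMultiplicity 0) * eval₂ φ y P' = 0 := by
    have := hP
    rw [hPP', C_0, sub_zero, eval₂_mul, eval₂_pow, eval₂_X] at this
    exact this
  have h2 : y * eval₂ φ y P' = 0 := by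
    rcases Nat.eq_zero_or_pos (P.rootMultiplicity 0) with hn | hn
    · rw [hn, pow_zero, one_mul] at h1
      rw [h1, mul_zero]
    · have hnil : IsNilpotent (y * eval₂ φ y P') := by
        refine ⟨P.rootMultiplicity 0, ?_⟩
        obtain ⟨m, hm⟩ : ∃ m, P.rootMultiplicity 0 = m + 1 := ⟨P.rootMultiplicity 0 - 1, by omega⟩
        rw [mul_pow]
        nth_rewrite 2 [hm]
        rw [pow_succ, ← mul_assoc, mul_comm (y ^ _) (eval₂ φ y P' ^ m), mul_assoc, h1, mul_zero]
      exact hnil.eq_zero
  have hw : eval₂ φ y P' = eval₂ φ y (divX P') * y + φ (P'.coeff 0) := by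
    conv_lhs => rw [← divX_mul_X_add P']
    rw [eval₂_add, eval₂_mul, eval₂_X, eval₂_C]
  have hcc : φ (P'.coeff 0)⁻¹ * φ (P'.coeff 0) = 1 := by
    rw [← map_mul, inv_mul_cancel₀ hc, map_one]
  refine ⟨-(φ (P'.coeff 0)⁻¹ * eval₂ φ y (divX P')) * y, y,
    -(φ (P'.coeff 0)⁻¹ * eval₂ φ y (divX P')), ?_, ?_, rfl⟩
  · linear_combination (φ (P'.coeff 0)⁻¹ ^ 2 * eval₂ φ y (divX P')) * h2
      - (φ (P'.coeff 0)⁻¹ ^ 2 * eval₂ φ y (divX P') * y) * hw
      - (φ (P'.coeff 0)⁻¹ * eval₂ φ y (divX P') * y) * hcc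
  · linear_combination (φ (P'.coeff 0)⁻¹) * h2 - (φ (P'.coeff 0)⁻¹ * y) * hw - y * hcc

end Groth.Agent.H47.FieldIndep
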