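import Mathlib
import Groth.Prelude.Def_CAlg2
import Groth.Prelude.Def_EGA4b
import Groth.Agent.S2730
import Groth.Agent.H47.FieldBC

/-! (ASC) for S4884: ascent of geometric unibranchness along a localized normal Noetherian model. -/

set_option autoImplicit false
universe u
open TensorProduct IsLocalRing

namespace Groth.Agent.H47.GU10ASC

section Abstract

variable {S R C₀ C : Type u} [CommRing S] [CommRing R] [Algebra S R] [CommRing C₀] [Algebra S C₀]
  [CommRing C] [Algebra R C] [Algebra C₀ C] [Algebra S C] [IsScalarTower S R C]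
  [IsScalarTower S C₀ C] [Algebra.IsPushout S R C₀ C]

set_option maxHeartbeats 1600000 in
/-- `B ⊗[A] A'` localized at the prime induced by `q` is the local ring of `C` at `q`, when
`A, B, A'` are localizations of `S, R, C₀` mapping compatibly to `D = C_q`. -/
theorem exists_prime_equiv
    (A B A' D : Type u) [CommRing A] [CommRing B] [CommRing A'] [CommRing D] [IsLocalRing D]
    [IsLocalRing B]
    [Algebra S A] [Algebra A B] [Algebra A A'] [Algebra R B] [Algebra C₀ A'] [Algebra C D]
    [Algebra S B] [IsScalarTower S A B] [IsScalarTower S R B]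
    [Algebra S A'] [IsScalarTower S A A'] [IsScalarTower S C₀ A']
    (MS : Submonoid S) [IsLocalization MS A] (MR : Submonoid R) [IsLocalization MR B]
    (M₀ : Submonoid C₀) [IsLocalization M₀ A']
    (q : Ideal C) [q.IsPrime] [IsLocalization.AtPrime D q]
    (β : B →+* D) (hβ : ∀ r, β (algebraMap R B r) = algebraMap C D (algebraMap R C r))
    (hβloc : IsLocalHom β)
    (α' : A' →+* D) (hα' : ∀ c, α' (algebraMap C₀ A' c) = algebraMap C D (algebraMap C₀ C c)) :
    ∃ (q' : Ideal (B ⊗[A] A')) (_ : q'.IsPrime),
      q'.comap (algebraMap B (B ⊗[A] A')) = maximalIdeal B ∧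
      Nonempty (Localization.AtPrime q' ≃+* D) := by
  classical
  letI algAD : Algebra A D := (β.comp (algebraMap A B)).toAlgebra
  let βA : B →ₐ[A] D := { β with commutes' := fun a => rfl }
  have hcompat : ∀ a : A, α' (algebraMap A A' a) = β (algebraMap A B a) := by
    have h := IsLocalization.ringHom_ext MS
      (j := (α'.comp (algebraMap A A'))) (k := (β.comp (algebraMap A B))) (RingHom.ext fun s => by
        simp only [RingHom.comp_apply]
        rw [← IsScalarTower.algebraMap_apply S A A', IsScalarTower.algebraMap_apply S C₀ A', hα',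
          ← IsScalarTower.algebraMap_apply S C₀ C, ← IsScalarTower.algebraMap_apply S A B,
          IsScalarTower.algebraMap_apply S R B, hβ, ← IsScalarTower.algebraMap_apply S R C])
    exact fun a => RingHom.congr_fun h a
  let α'A : A' →ₐ[A] D := { α' with commutes' := hcompat }
  let Φ : B ⊗[A] A' →ₐ[A] D := Algebra.TensorProduct.productMap βA α'A
  have hΦl : ∀ b : B, Φ (b ⊗ₜ[A] (1 : A')) = β b := fun b =>
    Algebra.TensorProduct.productMap_left_apply βA α'A b
  have hΦr : ∀ a' : A', Φ ((1 : B) ⊗ₜ[A] a') = α' a' := fun a' =>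
    Algebra.TensorProduct.productMap_right_apply βA α'A a'
  let q' : Ideal (B ⊗[A] A') := (maximalIdeal D).comap Φ.toRingHom
  haveI hq'prime : q'.IsPrime := Ideal.comap_isPrime _ _
  have hq'mem : ∀ t : B ⊗[A] A', t ∈ q' ↔ ¬ IsUnit (Φ t) := fun t => by
    change Φ t ∈ maximalIdeal D ↔ _
    rw [IsLocalRing.mem_maximalIdeal, mem_nonunits_iff]
  refine ⟨q', hq'prime, ?_, ?_⟩
  · ext b
    rw [Ideal.mem_comap, hq'mem, Algebra.TensorProduct.algebraMap_apply, Algebra.algebraMap_self,
      RingHom.id_apply, hΦl, IsLocalRing.mem_maximalIdeal, mem_nonunits_iff]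
    haveI := hβloc
    exact not_congr (isUnit_map_iff β b)
  -- the map `C → B ⊗[A] A'`
  letI algST : Algebra S (B ⊗[A] A') := Algebra.compHom (B ⊗[A] A') (algebraMap S A)
  have hST : ∀ s : S, algebraMap S (B ⊗[A] A') s = algebraMap A (B ⊗[A] A') (algebraMap S A s) :=
    fun s => rfl
  let f : R →ₐ[S] B ⊗[A] A' :=
    { toRingHom := (Algebra.TensorProduct.includeLeftRingHom : B →+* B ⊗[A] A').comp
        (algebraMap R B)
      commutes' := fun s => by
        change (algebraMap R B (algebraMap S R s)) ⊗ₜ[A] (1 : A') = _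
        rw [hST, Algebra.TensorProduct.algebraMap_apply, ← IsScalarTower.algebraMap_apply S R B,
          IsScalarTower.algebraMap_apply S A B] }
  let g : C₀ →ₐ[S] B ⊗[A] A' :=
    { toRingHom := (Algebra.TensorProduct.includeRight : A' →ₐ[A] B ⊗[A] A').toRingHom.comp
        (algebraMap C₀ A')
      commutes' := fun s => by
        change (1 : B) ⊗ₜ[A] (algebraMap C₀ A' (algebraMap S C₀ s)) = _
        rw [hST, Algebra.TensorProduct.algebraMap_apply, ← IsScalarTower.algebraMap_apply S C₀ A',
          IsScalarTower.algebraMap_apply S A A', Algebra.algebraMap_eq_smul_one (A := A'),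
          TensorProduct.tmul_smul, Algebra.algebraMap_eq_smul_one (A := B),
          TensorProduct.smul_tmul'] }
  have hf : ∀ r : R, f r = (algebraMap R B r) ⊗ₜ[A] (1 : A') := fun r => rfl
  have hg : ∀ c : C₀, g c = (1 : B) ⊗ₜ[A] (algebraMap C₀ A' c) := fun c => rfl
  let γ : C →ₐ[S] B ⊗[A] A' := Algebra.pushoutDesc C f g (fun _ _ => mul_comm _ _)
  have hγl : ∀ r : R, γ (algebraMap R C r) = (algebraMap R B r) ⊗ₜ[A] (1 : A') := fun r => by
    rw [← hf]; exact Algebra.pushoutDesc_left C f g _ r
  have hγr : ∀ c : C₀, γ (algebraMap C₀ C c) = (1 : B) ⊗ₜ[A] (algebraMap C₀ A' c) := fun c => by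
    rw [← hg]; exact Algebra.pushoutDesc_right C f g _ c
  have hΦγ : ∀ c : C, Φ (γ c) = algebraMap C D c := by
    intro c
    have hbc : IsBaseChange R (IsScalarTower.toAlgHom S C₀ C).toLinearMap :=
      (Algebra.IsPushout.out : IsBaseChange R (IsScalarTower.toAlgHom S C₀ C).toLinearMap)
    refine hbc.inductionOn c (fun c => Φ (γ c) = algebraMap C D c) ?_ ?_ ?_ ?_
    · simp
    · intro c₀
      change Φ (γ (algebraMap C₀ C c₀)) = algebraMap C D (algebraMap C₀ C c₀)
      rw [hγr, hΦr, hα']
    · intro r n hn
      rw [Algebra.smul_def, map_mul, map_mul, map_mul, hn, hγl, hΦl, hβ]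
    · intro x y hx hy
      rw [map_add, map_add, map_add, hx, hy]
  -- the two maps
  have hunitΘ : ∀ s : q.primeCompl,
      IsUnit (((algebraMap (B ⊗[A] A') (Localization.AtPrime q')).comp γ.toRingHom) s) := by
    intro s
    change IsUnit (algebraMap (B ⊗[A] A') (Localization.AtPrime q') (γ s))
    rw [IsLocalization.AtPrime.isUnit_to_map_iff (Localization.AtPrime q') q']
    change γ s ∉ q'
    rw [hq'mem, not_not, hΦγ]
    exact IsLocalization.map_units D s
  let Θ : D →+* Localization.AtPrime q' := IsLocalization.lift (M := q.primeCompl) hunitΘ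
  have hΘ : ∀ c : C, Θ (algebraMap C D c) =
      algebraMap (B ⊗[A] A') (Localization.AtPrime q') (γ c) := fun c =>
    IsLocalization.lift_eq hunitΘ c
  have hunitΨ : ∀ t : q'.primeCompl, IsUnit (Φ.toRingHom t) := by
    intro t
    have : (t : B ⊗[A] A') ∉ q' := t.2
    rw [hq'mem, not_not] at this
    exact this
  let Ψ : Localization.AtPrime q' →+* D := IsLocalization.lift (M := q'.primeCompl) hunitΨ
  have hΨ : ∀ t : B ⊗[A] A', Ψ (algebraMap (B ⊗[A] A') (Localization.AtPrime q') t) = Φ t :=
    fun t => IsLocalization.lift_eq hunitΨ t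
  have h1 : Ψ.comp Θ = RingHom.id D := by
    refine IsLocalization.ringHom_ext q.primeCompl (RingHom.ext fun c => ?_)
    simp only [RingHom.comp_apply, RingHom.id_apply]
    rw [hΘ, hΨ, hΦγ]
  have hB : ∀ b : B, Θ (β b) =
      algebraMap (B ⊗[A] A') (Localization.AtPrime q') (b ⊗ₜ[A] (1 : A')) := by
    have h := IsLocalization.ringHom_ext MR
      (j := Θ.comp β) (k := (algebraMap (B ⊗[A] A') (Localization.AtPrime q')).comp
        (Algebra.TensorProduct.includeLeftRingHom : B →+* B ⊗[A] A'))
      (RingHom.ext fun r => by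
        simp only [RingHom.comp_apply]
        rw [hβ, hΘ, hγl]
        rfl)
    exact fun b => RingHom.congr_fun h b
  have hA' : ∀ a' : A', Θ (α' a') =
      algebraMap (B ⊗[A] A') (Localization.AtPrime q') ((1 : B) ⊗ₜ[A] a') := by
    have h := IsLocalization.ringHom_ext M₀
      (j := Θ.comp α') (k := (algebraMap (B ⊗[A] A') (Localization.AtPrime q')).comp
        (Algebra.TensorProduct.includeRight : A' →ₐ[A] B ⊗[A] A').toRingHom)
      (RingHom.ext fun c => by
        simp only [RingHom.comp_apply]
        rw [hα', hΘ, hγr]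
        rfl)
    exact fun a' => RingHom.congr_fun h a'
  have h2 : Θ.comp Ψ = RingHom.id (Localization.AtPrime q') := by
    refine IsLocalization.ringHom_ext q'.primeCompl (RingHom.ext fun t => ?_)
    simp only [RingHom.comp_apply, RingHom.id_apply]
    rw [hΨ]
    induction t using TensorProduct.induction_on with
    | zero => simp
    | tmul b a' =>
      have hba : b ⊗ₜ[A] a' = (b ⊗ₜ[A] (1 : A')) * ((1 : B) ⊗ₜ[A] a') := by
        rw [Algebra.TensorProduct.tmul_mul_tmul, mul_one, one_mul]
      rw [hba, map_mul, map_mul, map_mul, hΦl, hΦr, hB, hA']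
    | add x y hx hy => rw [map_add, map_add, map_add, hx, hy]
  exact ⟨RingEquiv.ofRingHom Ψ Θ h1 h2⟩

end Abstract

set_option maxHeartbeats 1600000 in
/-- (ASC) ascent of geometric unibranchness along the localized normal model. -/
theorem isGeomUnibranch_of_isNormalHom_model {S R C₀ C : Type u} [CommRing S] [CommRing R]
    [Algebra S R] [CommRing C₀] [Algebra S C₀] [CommRing C] [Algebra R C] [Algebra C₀ C]
    [Algebra S C] [IsScalarTower S R C] [IsScalarTower S C₀ C] [Algebra.IsPushout S R C₀ C]
    [IsNoetherianRing S] [IsNoetherianRing C₀] (q : Ideal C) [q.IsPrime]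
    (hNH :
      letI : Algebra
          (Localization.AtPrime ((q.comap (algebraMap C₀ C)).comap (algebraMap S C₀)))
          (Localization.AtPrime (q.comap (algebraMap C₀ C))) :=
        (Localization.localRingHom ((q.comap (algebraMap C₀ C)).comap (algebraMap S C₀))
          (q.comap (algebraMap C₀ C)) (algebraMap S C₀) rfl).toAlgebra
      EGA4.IsNormalHom
        (Localization.AtPrime ((q.comap (algebraMap C₀ C)).comap (algebraMap S C₀)))
        (Localization.AtPrime (q.comap (algebraMap C₀ C))))
    (hR : CAlg2.IsGeomUnibranch (Localization.AtPrime (q.comap (algebraMap R C)))) :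
    CAlg2.IsGeomUnibranch (Localization.AtPrime q) := by
  letI algAA' : Algebra
      (Localization.AtPrime ((q.comap (algebraMap C₀ C)).comap (algebraMap S C₀)))
      (Localization.AtPrime (q.comap (algebraMap C₀ C))) :=
    (Localization.localRingHom ((q.comap (algebraMap C₀ C)).comap (algebraMap S C₀))
      (q.comap (algebraMap C₀ C)) (algebraMap S C₀) rfl).toAlgebra
  have hp : (q.comap (algebraMap C₀ C)).comap (algebraMap S C₀) =
      (q.comap (algebraMap R C)).comap (algebraMap S R) := by
    rw [Ideal.comap_comap, Ideal.comap_comap, ← IsScalarTower.algebraMap_eq S C₀ C,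
      ← IsScalarTower.algebraMap_eq S R C]
  letI algAB : Algebra
      (Localization.AtPrime ((q.comap (algebraMap C₀ C)).comap (algebraMap S C₀)))
      (Localization.AtPrime (q.comap (algebraMap R C))) :=
    (Localization.localRingHom ((q.comap (algebraMap C₀ C)).comap (algebraMap S C₀))
      (q.comap (algebraMap R C)) (algebraMap S R) hp).toAlgebra
  haveI tSAB : IsScalarTower S
      (Localization.AtPrime ((q.comap (algebraMap C₀ C)).comap (algebraMap S C₀)))
      (Localization.AtPrime (q.comap (algebraMap R C))) :=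
    IsScalarTower.of_algebraMap_eq fun s => by
      rw [IsScalarTower.algebraMap_apply S R (Localization.AtPrime (q.comap (algebraMap R C)))]
      exact (Localization.localRingHom_to_map _ _ _ hp s).symm
  haveI tSAA' : IsScalarTower S
      (Localization.AtPrime ((q.comap (algebraMap C₀ C)).comap (algebraMap S C₀)))
      (Localization.AtPrime (q.comap (algebraMap C₀ C))) :=
    IsScalarTower.of_algebraMap_eq fun s => by
      rw [IsScalarTower.algebraMap_apply S C₀ (Localization.AtPrime (q.comap (algebraMap C₀ C)))]
      exact (Localization.localRingHom_to_map _ _ _ rfl s).symm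
  haveI : IsNoetherianRing
      (Localization.AtPrime ((q.comap (algebraMap C₀ C)).comap (algebraMap S C₀))) :=
    IsLocalization.isNoetherianRing
      ((q.comap (algebraMap C₀ C)).comap (algebraMap S C₀)).primeCompl _ inferInstance
  haveI : IsNoetherianRing (Localization.AtPrime (q.comap (algebraMap C₀ C))) :=
    IsLocalization.isNoetherianRing (q.comap (algebraMap C₀ C)).primeCompl _ inferInstance
  obtain ⟨q', hq'prime, hq', ⟨e⟩⟩ := exists_prime_equiv (S := S) (R := R) (C₀ := C₀) (C := C)
    (Localization.AtPrime ((q.comap (algebraMap C₀ C)).comap (algebraMap S C₀)))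
    (Localization.AtPrime (q.comap (algebraMap R C)))
    (Localization.AtPrime (q.comap (algebraMap C₀ C)))
    (Localization.AtPrime q)
    ((q.comap (algebraMap C₀ C)).comap (algebraMap S C₀)).primeCompl
    (q.comap (algebraMap R C)).primeCompl
    (q.comap (algebraMap C₀ C)).primeCompl
    q
    (Localization.localRingHom (q.comap (algebraMap R C)) q (algebraMap R C) rfl)
    (fun r => Localization.localRingHom_to_map _ _ _ rfl r)
    (Localization.isLocalHom_localRingHom _ _ _ rfl)
    (Localization.localRingHom (q.comap (algebraMap C₀ C)) q (algebraMap C₀ C) rfl)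
    (fun c => Localization.localRingHom_to_map _ _ _ rfl c)
  haveI := hq'prime
  have h := (Groth.Agent.S2730.result
    (Localization.AtPrime ((q.comap (algebraMap C₀ C)).comap (algebraMap S C₀)))
    (Localization.AtPrime (q.comap (algebraMap C₀ C))) hNH
    (Localization.AtPrime (q.comap (algebraMap R C))) hR q' hq').1
  exact Groth.Agent.H47.FieldBC.isGeomUnibranch_of_ringEquiv e.symm h

end Groth.Agent.H47.GU10ASC
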