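import Mathlib
import Groth.Prelude.Def_CAlg2
import Groth.Prelude.Def_EGA4b
import Groth.Prelude.Def_Found
import Groth.Agent.H47.GNAtDefs
import Groth.Agent.H48.FlatLimit6
import Groth.Agent.H34.NormalFibres
import Groth.Agent.H51.GU10_D
import Groth.Agent.H84.GU10_EXC
import Groth.Agent.H20.GU10_CF
import Groth.Agent.H47.GU10ASC

/-! Ring-level core of S4884: flat finitely presented `R → C`, `R_p` geometrically unibranch,
fibre geometrically normal at `q` ⇒ `C_q` geometrically unibranch. -/

set_option autoImplicit false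
universe u
open TensorProduct IsLocalRing
open Groth.Agent.H47.GNAtDefs

namespace Groth.Agent.H47.GU10

attribute [local instance] Algebra.TensorProduct.rightAlgebra

/-- Noetherian-model case. -/
theorem core {S R C₀ C : Type u} [CommRing S] [CommRing R] [Algebra S R] [CommRing C₀]
    [Algebra S C₀] [CommRing C] [Algebra R C] [Algebra C₀ C] [Algebra S C] [IsScalarTower S R C]
    [IsScalarTower S C₀ C] [Algebra.IsPushout S R C₀ C] [Algebra.FiniteType ℤ S]
    [Algebra.FinitePresentation S C₀] [Module.Flat S C₀] (q : Ideal C) [q.IsPrime]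
    (hR : CAlg2.IsGeomUnibranch (Localization.AtPrime (q.comap (algebraMap R C))))
    (hGN₀ : GNAt S (q.comap (algebraMap C₀ C))) :
    CAlg2.IsGeomUnibranch (Localization.AtPrime q) := by
  haveI : IsNoetherianRing S := Algebra.FiniteType.isNoetherianRing ℤ S
  haveI : IsNoetherianRing C₀ := Algebra.FiniteType.isNoetherianRing S C₀
  letI algAA' : Algebra
      (Localization.AtPrime ((q.comap (algebraMap C₀ C)).comap (algebraMap S C₀)))
      (Localization.AtPrime (q.comap (algebraMap C₀ C))) :=
    (Localization.localRingHom ((q.comap (algebraMap C₀ C)).comap (algebraMap S C₀))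
      (q.comap (algebraMap C₀ C)) (algebraMap S C₀) rfl).toAlgebra
  obtain ⟨hNag, hG⟩ := Groth.Agent.H84.GU10_EXC.nagata_gring_localization_of_finiteType_int S
    ((q.comap (algebraMap C₀ C)).comap (algebraMap S C₀))
  have hcl := Groth.Agent.H20.GU10_CF.isGeomNormal_closedFibre_of_gnAt (q.comap (algebraMap C₀ C)) hGN₀
  haveI : IsLocalHom (algebraMap
      (Localization.AtPrime ((q.comap (algebraMap C₀ C)).comap (algebraMap S C₀)))
      (Localization.AtPrime (q.comap (algebraMap C₀ C)))) :=
    Localization.isLocalHom_localRingHom _ _ _ rfl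
  haveI : Module.Flat
      (Localization.AtPrime ((q.comap (algebraMap C₀ C)).comap (algebraMap S C₀)))
      (Localization.AtPrime (q.comap (algebraMap C₀ C))) :=
    RingHom.Flat.localRingHom (f := algebraMap S C₀)
      ((RingHom.flat_algebraMap_iff).mpr inferInstance) (q.comap (algebraMap C₀ C))
      ((q.comap (algebraMap C₀ C)).comap (algebraMap S C₀)) rfl
  have hNH := Groth.Agent.H34.NormalFibres.isNormalHom_of_nagata_gring
    (Localization.AtPrime ((q.comap (algebraMap C₀ C)).comap (algebraMap S C₀)))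
    (Localization.AtPrime (q.comap (algebraMap C₀ C))) hNag hG hcl
  exact Groth.Agent.H47.GU10ASC.isGeomUnibranch_of_isNormalHom_model q hNH hR

/-- Ring-level form of EGA IV 6.15.10 over an arbitrary base. -/
theorem isGeomUnibranch_of_flat_of_gnAt {R C : Type u} [CommRing R] [CommRing C] [Algebra R C]
    [Algebra.FinitePresentation R C] [Module.Flat R C] (q : Ideal C) [q.IsPrime]
    (hR : CAlg2.IsGeomUnibranch (Localization.AtPrime (q.comap (algebraMap R C))))
    (hGN : GNAt R q) : CAlg2.IsGeomUnibranch (Localization.AtPrime q) := by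
  obtain ⟨A₀, B₀, _, _, algA₀R, algA₀B₀, hft, hfp, hfl, ⟨e⟩⟩ :=
    Groth.Agent.H48.FlatLimit.exists_model_flat R C
  letI algB₀C : Algebra B₀ C :=
    (e.symm.toRingHom.comp (algebraMap B₀ (R ⊗[A₀] B₀))).toAlgebra
  letI algA₀C : Algebra A₀ C := ((algebraMap R C).comp (algebraMap A₀ R)).toAlgebra
  haveI : IsScalarTower A₀ R C := .of_algebraMap_eq fun _ => rfl
  haveI : IsScalarTower A₀ B₀ C := .of_algebraMap_eq fun s => by
    change algebraMap R C (algebraMap A₀ R s) = e.symm (algebraMap B₀ (R ⊗[A₀] B₀) (algebraMap A₀ B₀ s))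
    rw [← e.symm.commutes, ← IsScalarTower.algebraMap_apply A₀ B₀ (R ⊗[A₀] B₀),
      ← IsScalarTower.algebraMap_apply A₀ R (R ⊗[A₀] B₀)]
  haveI : Algebra.IsPushout A₀ R B₀ C :=
    Algebra.IsPushout.of_equiv (h := (inferInstance : Algebra.IsPushout A₀ R B₀ (R ⊗[A₀] B₀)))
      e.symm rfl
  have hGN₀ := Groth.Agent.H51.GU10D.gnAt_descend (S := A₀) (A := R) (C₀ := B₀) (C := C) q hGN
  exact core q hR hGN₀

end Groth.Agent.H47.GU10
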