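import Groth.Agent.H47.Hens

/-!
# The henselization `H R p`: local, henselian, universal property
-/

set_option autoImplicit false
universe u
open CategoryTheory CategoryTheory.Limits TensorProduct

namespace Groth.Agent.H47.Hens

open EtPt

variable (R : Type u) [CommRing R] (p : Ideal R) [p.IsPrime]

theorem isUnit_of_ε_ne_zero (x : H R p) (hx : ε R p x ≠ 0) : IsUnit x := by
  obtain ⟨X, a, rfl⟩ := exists_rep R p x
  rw [ε_ι] at hx
  haveI : Algebra.Etale X.A (Localization.Away a) := Algebra.Etale.of_isLocalizationAway a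
  have hu : ∀ y : Submonoid.powers a, IsUnit (X.χ.toRingHom y) := by
    rintro ⟨_, n, rfl⟩
    show IsUnit (X.χ (a ^ n))
    rw [map_pow]
    exact (IsUnit.mk0 _ hx).pow n
  obtain ⟨Z, f, j, hj, -⟩ := exists_obj_over X (Localization.Away a) (IsLocalization.lift hu)
    (fun b => IsLocalization.lift_eq hu b)
  rw [← ι_map R p f, ← hj]
  exact ((IsLocalization.Away.algebraMap_isUnit a).map j).map (ι R p Z)

noncomputable instance : Nontrivial (H R p) :=
  ⟨⟨0, 1, fun h => by
    have := congrArg (ε R p) h
    rw [map_zero, map_one] at this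
    exact zero_ne_one this⟩⟩

noncomputable instance : IsLocalRing (H R p) :=
  IsLocalRing.of_nonunits_add (by
    intro a b ha hb
    rw [mem_nonunits_iff] at ha hb ⊢
    intro hab
    have ha' : ε R p a = 0 := by
      by_contra h
      exact ha (isUnit_of_ε_ne_zero R p a h)
    have hb' : ε R p b = 0 := by
      by_contra h
      exact hb (isUnit_of_ε_ne_zero R p b h)
    have := hab.map (ε R p)
    rw [map_add, ha', hb', add_zero] at this
    exact not_isUnit_zero this)

theorem mem_maximalIdeal_iff (x : H R p) :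
    x ∈ IsLocalRing.maximalIdeal (H R p) ↔ ε R p x = 0 := by
  rw [IsLocalRing.mem_maximalIdeal, mem_nonunits_iff]
  constructor
  · intro hx
    by_contra h
    exact hx (isUnit_of_ε_ne_zero R p x h)
  · intro hx hu
    have := hu.map (ε R p)
    rw [hx] at this
    exact not_isUnit_zero this

noncomputable instance : HenselianLocalRing (H R p) where
  is_henselian f hf a₀ h₁ h₂ := by
    classical
    rw [mem_maximalIdeal_iff] at h₁
    have h₂' : ε R p (f.derivative.eval a₀) ≠ 0 := (h₂.map (ε R p)).ne_zero
    obtain ⟨X, hX⟩ := exists_rep_finset R p (insert a₀ f.coeffs)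
    obtain ⟨a, rfl⟩ := hX a₀ (Finset.mem_insert_self _ _)
    have hlift : f ∈ Polynomial.lifts (ι R p X) := by
      rw [Polynomial.lifts_iff_coeffs_subset_range]
      intro c hc
      obtain ⟨b, hb⟩ := hX c (Finset.mem_insert_of_mem hc)
      exact ⟨b, hb⟩
    obtain ⟨fX, rfl, -, hfX⟩ := Polynomial.lifts_and_natDegree_eq_and_monic hlift hf
    rw [Polynomial.eval_map, Polynomial.eval₂_at_apply, ε_ι] at h₁
    rw [Polynomial.derivative_map, Polynomial.eval_map, Polynomial.eval₂_at_apply, ε_ι] at h₂'
    let P : StandardEtalePair X.A :=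
      { f := fX, monic_f := hfX, g := Polynomial.derivative fX, cond := ⟨1, 0, 1, by simp⟩ }
    letI : Algebra X.A p.ResidueField := X.χ.toRingHom.toAlgebra
    have hmap : P.HasMap (X.χ a) := by
      constructor
      · show Polynomial.aeval (X.χ a) fX = 0
        have : Polynomial.aeval (X.χ a) fX = X.χ (fX.eval a) := by
          rw [Polynomial.aeval_def]
          exact Polynomial.eval₂_at_apply X.χ.toRingHom a
        rw [this, h₁]
      · show IsUnit (Polynomial.aeval (X.χ a) (Polynomial.derivative fX))
        have : Polynomial.aeval (X.χ a) (Polynomial.derivative fX) =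
            X.χ ((Polynomial.derivative fX).eval a) := by
          rw [Polynomial.aeval_def]
          exact Polynomial.eval₂_at_apply X.χ.toRingHom a
        rw [this]
        exact IsUnit.mk0 _ h₂'
    obtain ⟨Z, u, j, hj, hjχ⟩ := exists_obj_over X P.Ring (P.lift (X.χ a) hmap).toRingHom
      (fun b => (P.lift (X.χ a) hmap).commutes b)
    refine ⟨ι R p Z (j P.X), ?_, ?_⟩
    · show Polynomial.eval (ι R p Z (j P.X)) (fX.map (ι R p X)) = 0
      have hcomp : ι R p X = ((ι R p Z).comp j).comp (algebraMap X.A P.Ring) :=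
        RingHom.ext fun b => by
          show ι R p X b = ι R p Z (j (algebraMap X.A P.Ring b))
          rw [hj, ι_map]
      have h3 : ι R p Z (j (Polynomial.eval₂ (algebraMap X.A P.Ring) P.X fX)) =
          Polynomial.eval₂ (((ι R p Z).comp j).comp (algebraMap X.A P.Ring))
            (ι R p Z (j P.X)) fX :=
        Polynomial.hom_eval₂ fX (algebraMap X.A P.Ring) ((ι R p Z).comp j) P.X
      have hroot : Polynomial.eval₂ (algebraMap X.A P.Ring) P.X fX = 0 := P.hasMap_X.1
      rw [Polynomial.eval_map, hcomp, ← h3, hroot, map_zero, map_zero]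
    · rw [mem_maximalIdeal_iff, map_sub, ε_ι, ε_ι, hjχ]
      show (P.lift (X.χ a) hmap) P.X - X.χ a = 0
      rw [P.lift_X, sub_self]

theorem exists_mul_mem_map {A : Type u} [CommRing A] [Algebra R A]
    [Algebra.FormallyUnramified R A] [Algebra.EssFiniteType R A] (q : Ideal A) [q.IsPrime]
    (hq : q.comap (algebraMap R A) = p) (a : A) (ha : a ∈ q) :
    ∃ e ∉ q, e * a ∈ p.map (algebraMap R A) := by
  haveI : q.LiesOver p := ⟨hq.symm⟩
  letI := Localization.AtPrime.algebraOfLiesOver p q
  haveI : Algebra.FormallyUnramified A (Localization.AtPrime q) :=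
    .of_isLocalization q.primeCompl
  haveI : Algebra.IsUnramifiedAt R q := Algebra.FormallyUnramified.comp R A _
  have h := ((Algebra.isUnramifiedAt_iff_map_eq R p q).mp inferInstance).2
  have ha' : algebraMap A (Localization.AtPrime q) a ∈
      IsLocalRing.maximalIdeal (Localization.AtPrime q) :=
    (IsLocalization.AtPrime.to_map_mem_maximal_iff _ q a).mpr ha
  rw [← h, IsScalarTower.algebraMap_eq R A (Localization.AtPrime q), ← Ideal.map_map,
    IsLocalization.algebraMap_mem_map_algebraMap_iff q.primeCompl] at ha'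
  obtain ⟨e, he, hea⟩ := ha'
  exact ⟨e, he, hea⟩

theorem mem_map_of_ε_eq_zero (x : H R p) (hx : ε R p x = 0) :
    x ∈ p.map (algebraMap R (H R p)) := by
  obtain ⟨X, a, rfl⟩ := exists_rep R p x
  rw [ε_ι] at hx
  haveI : (RingHom.ker X.χ.toRingHom).IsPrime := RingHom.ker_isPrime _
  have hq : (RingHom.ker X.χ.toRingHom).comap (algebraMap R X.A) = p := by
    ext r
    simp only [Ideal.mem_comap, RingHom.mem_ker]
    rw [show X.χ.toRingHom (algebraMap R X.A r) = algebraMap R p.ResidueField r from
      X.χ.commutes r, Ideal.algebraMap_residueField_eq_zero]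
  obtain ⟨e, he, hea⟩ := exists_mul_mem_map R p (RingHom.ker X.χ.toRingHom) hq a
    (RingHom.mem_ker.mpr hx)
  have hunit : IsUnit (ι R p X e) := isUnit_of_ε_ne_zero R p _ (by
    rw [ε_ι]
    exact fun h => he (RingHom.mem_ker.mpr h))
  have hmem : ι R p X (e * a) ∈ p.map (algebraMap R (H R p)) := by
    have := Ideal.mem_map_of_mem (ιₐ R p X).toRingHom hea
    have hc : (ιₐ R p X).toRingHom.comp (algebraMap R X.A) = algebraMap R (H R p) :=
      RingHom.ext fun r => ι_algebraMap R p X r
    rw [Ideal.map_map, hc] at this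
    exact this
  rw [map_mul] at hmem
  exact (Ideal.unit_mul_mem_iff_mem _ hunit).mp hmem

theorem maximalIdeal_eq_map :
    IsLocalRing.maximalIdeal (H R p) = p.map (algebraMap R (H R p)) := by
  apply le_antisymm
  · intro x hx
    exact mem_map_of_ε_eq_zero R p x ((mem_maximalIdeal_iff R p x).mp hx)
  · rw [Ideal.map_le_iff_le_comap]
    intro r hr
    rw [Ideal.mem_comap, mem_maximalIdeal_iff, ε_algebraMap, Ideal.algebraMap_residueField_eq_zero]
    exact hr

theorem exists_frac (z : p.ResidueField) : ∃ (r s : R), s ∉ p ∧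
    z * algebraMap R p.ResidueField s = algebraMap R p.ResidueField r := by
  obtain ⟨y, rfl⟩ := IsLocalRing.residue_surjective (R := Localization.AtPrime p) z
  obtain ⟨⟨r, s⟩, hrs⟩ := IsLocalization.surj p.primeCompl y
  refine ⟨r, s, s.2, ?_⟩
  have := congrArg (IsLocalRing.residue (Localization.AtPrime p)) hrs
  rw [map_mul] at this
  exact this

/-- The universal property of `H R p`. -/
theorem existsUnique_desc {T : Type u} [CommRing T] [HenselianLocalRing T] (f : R →+* T)
    (hf : (IsLocalRing.maximalIdeal T).comap f = p) :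
    ∃! g : H R p →+* T, g.comp (algebraMap R (H R p)) = f := by
  classical
  letI : Algebra R T := f.toAlgebra
  have hmem : ∀ x : R, f x ∈ IsLocalRing.maximalIdeal T ↔ x ∈ p := fun x => by
    rw [← hf]
    rfl
  let κf : p.ResidueField →+* IsLocalRing.ResidueField T :=
    Ideal.ResidueField.lift p ((IsLocalRing.residue T).comp f)
      (fun x hx => by
        rw [RingHom.mem_ker, RingHom.comp_apply, IsLocalRing.residue_eq_zero_iff]
        exact (hmem x).mpr hx)
      (fun x hx => by
        rw [Submonoid.mem_comap, IsUnit.mem_submonoid_iff, RingHom.comp_apply]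
        refine IsUnit.mk0 _ (fun h => hx ?_)
        rw [IsLocalRing.residue_eq_zero_iff] at h
        exact (hmem x).mp h)
  have hκf : ∀ r : R, κf (algebraMap R p.ResidueField r) = IsLocalRing.residue T (f r) :=
    fun r => Ideal.ResidueField.lift_algebraMap _ _ _ _ r
  let ρ : ∀ X : EtPt R p, X.A →ₐ[R] IsLocalRing.ResidueField T := fun X =>
    { toRingHom := κf.comp X.χ.toRingHom
      commutes' := fun r => by
        show κf (X.χ (algebraMap R X.A r)) = algebraMap R (IsLocalRing.ResidueField T) r
        rw [X.χ.commutes, hκf]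
        rfl }
  have hφ : ∀ X : EtPt R p, ∃ φ : X.A →ₐ[R] T, ∀ c, IsLocalRing.residue T (φ c) = ρ X c :=
    fun X => Groth.Agent.H14.exists_lift_of_etale (ρ X)
  choose φ hφ using hφ
  have huniq : ∀ (X : EtPt R p) (ψ : X.A →ₐ[R] T),
      (∀ c, IsLocalRing.residue T (ψ c) = ρ X c) → ψ = φ X := fun X ψ hψ =>
    Groth.Agent.S2782.algHom_eq_of_residue_eq ψ (φ X) (fun x => (hψ x).trans (hφ X x).symm)
  have hnat : ∀ (X Y : EtPt R p) (u : X ⟶ Y),
      ((φ Y).toRingHom).comp u.f.toRingHom = (φ X).toRingHom := by
    intro X Y u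
    have := huniq X ((φ Y).comp u.f) (fun c => by
      show IsLocalRing.residue T (φ Y (u.f c)) = κf (X.χ c)
      rw [hφ Y]
      show κf (Y.χ (u.f c)) = κf (X.χ c)
      rw [show Y.χ (u.f c) = X.χ c from AlgHom.congr_fun u.w c])
    exact congrArg AlgHom.toRingHom this
  refine ⟨desc R p (fun X => (φ X).toRingHom) hnat, ?_, ?_⟩
  · refine RingHom.ext fun r => ?_
    show desc R p _ hnat (algebraMap R (H R p) r) = f r
    rw [← ι_algebraMap R p (X₀ R p) r, desc_ι]
    exact (φ _).commutes r
  · intro g' hg'
    have hg'max : ∀ x ∈ p.map (algebraMap R (H R p)), g' x ∈ IsLocalRing.maximalIdeal T := by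
      intro x hx
      have := Ideal.mem_map_of_mem g' hx
      rw [Ideal.map_map, hg'] at this
      have hle : p.map f ≤ IsLocalRing.maximalIdeal T := by
        rw [Ideal.map_le_iff_le_comap, hf]
      exact hle this
    apply hom_ext
    intro X a
    rw [desc_ι]
    let ψ : X.A →ₐ[R] T :=
      { toRingHom := g'.comp (ι R p X)
        commutes' := fun r => by
          show g' (ι R p X (algebraMap R X.A r)) = f r
          rw [ι_algebraMap]
          exact RingHom.congr_fun hg' r }
    have key : ∀ c : X.A, IsLocalRing.residue T (ψ c) = ρ X c := by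
      intro c
      show IsLocalRing.residue T (g' (ι R p X c)) = κf (X.χ c)
      obtain ⟨r, s, hs, hrs⟩ := exists_frac R p (X.χ c)
      have hd0 : ε R p (ι R p X (algebraMap R X.A s * c - algebraMap R X.A r)) = 0 := by
        rw [ε_ι, map_sub, map_mul, AlgHom.commutes, AlgHom.commutes, mul_comm, hrs, sub_self]
      have hdm := hg'max _ (mem_map_of_ε_eq_zero R p _ hd0)
      rw [map_sub, map_mul, ι_algebraMap, ι_algebraMap, map_sub, map_mul,
        show g' (algebraMap R (H R p) s) = f s from RingHom.congr_fun hg' s,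
        show g' (algebraMap R (H R p) r) = f r from RingHom.congr_fun hg' r,
        ← IsLocalRing.residue_eq_zero_iff, map_sub, map_mul, sub_eq_zero] at hdm
      have h1 : κf (X.χ c) * IsLocalRing.residue T (f s) = IsLocalRing.residue T (f r) := by
        rw [← hκf s, ← hκf r, ← map_mul, hrs]
      have hs0 : IsLocalRing.residue T (f s) ≠ 0 := fun h =>
        hs ((hmem s).mp ((IsLocalRing.residue_eq_zero_iff _).mp h))
      apply mul_right_cancel₀ hs0
      rw [h1, mul_comm, hdm]
    exact AlgHom.congr_fun (huniq X ψ key) a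

end Groth.Agent.H47.Hens
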