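import Mathlib
import Groth.Agent.S9469
import Groth.Agent.H14.HenselLift

/-!
# The henselian local ring attached to a ring and a point with values in a field

For a commutative ring `R` and a field `K` which is an `R`-algebra, we consider the (small)
category `EtPt R K` of étale `R`-algebras `A` (presented as quotients of polynomial rings) together
with an `R`-algebra map `χ : A → K`. It is filtered, and the colimit `H R K` of the underlying
rings is a henselian local ring. For `K` a separable closure of the residue field of a local ring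
`R` this is the strict henselization.
-/

set_option autoImplicit false
universe u
open CategoryTheory CategoryTheory.Limits TensorProduct

namespace Groth.Agent.H47.HensK

/-- Étale `R`-algebras with a `K`-point, presented as quotients of polynomial rings. -/
structure EtPt (R : Type u) [CommRing R] (K : Type u) [Field K] [Algebra R K] : Type u where
  n : ℕ
  I : Ideal (MvPolynomial (Fin n) R)
  etale : Algebra.Etale R (MvPolynomial (Fin n) R ⧸ I)
  χ : (MvPolynomial (Fin n) R ⧸ I) →ₐ[R] K

namespace EtPt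

variable {R : Type u} [CommRing R] {K : Type u} [Field K] [Algebra R K]

/-- The underlying algebra. -/
abbrev A (X : EtPt R K) : Type u := MvPolynomial (Fin X.n) R ⧸ X.I

instance (X : EtPt R K) : Algebra.Etale R X.A := X.etale

/-- Morphisms: algebra maps compatible with the points. -/
@[ext]
structure Hom (X Y : EtPt R K) where
  f : X.A →ₐ[R] Y.A
  w : Y.χ.comp f = X.χ

noncomputable instance : Category (EtPt R K) where
  Hom X Y := EtPt.Hom X Y
  id X := ⟨AlgHom.id R X.A, AlgHom.comp_id _⟩
  comp f g := ⟨g.f.comp f.f, by rw [← AlgHom.comp_assoc, g.w, f.w]⟩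
  id_comp f := Hom.ext (AlgHom.comp_id _)
  comp_id f := Hom.ext (AlgHom.id_comp _)
  assoc f g h := Hom.ext (AlgHom.comp_assoc _ _ _).symm

theorem comp_f {X Y Z : EtPt R K} (f : X ⟶ Y) (g : Y ⟶ Z) : (f ≫ g).f = g.f.comp f.f := rfl

/-- Every étale algebra with a point is isomorphic to an object of `EtPt`. -/
theorem exists_obj (A : Type u) [CommRing A] [Algebra R A] [Algebra.Etale R A]
    (χ : A →ₐ[R] K) :
    ∃ (X : EtPt R K) (e : A ≃ₐ[R] X.A), X.χ.comp e.toAlgHom = χ := by
  obtain ⟨n, f, hf, -⟩ := Algebra.FinitePresentation.out (R := R) (A := A)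
  let e := Ideal.quotientKerAlgEquivOfSurjective hf
  refine ⟨⟨n, RingHom.ker f, Algebra.Etale.of_equiv e.symm, χ.comp e.toAlgHom⟩, e.symm, ?_⟩
  ext a
  simp

/-- An étale algebra over an object, with a compatible point, gives a new object. -/
theorem exists_obj_over (X : EtPt R K) (B : Type u) [CommRing B] [Algebra X.A B]
    [Algebra.Etale X.A B] (χ' : B →+* K)
    (hχ' : ∀ a, χ' (algebraMap X.A B a) = X.χ a) :
    ∃ (Z : EtPt R K) (f : X ⟶ Z) (j : B →+* Z.A),
      (∀ a, j (algebraMap X.A B a) = f.f a) ∧ (∀ b, Z.χ (j b) = χ' b) := by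
  letI : Algebra R B := ((algebraMap X.A B).comp (algebraMap R X.A)).toAlgebra
  haveI := IsScalarTower.of_algebraMap_eq (R := R) (S := X.A) (A := B) (fun _ => rfl)
  haveI : Algebra.Etale R B := Algebra.Etale.comp R X.A B
  let χ'' : B →ₐ[R] K :=
    { toRingHom := χ'
      commutes' := fun r => by
        show χ' (algebraMap X.A B (algebraMap R X.A r)) = _
        rw [hχ', X.χ.commutes] }
  obtain ⟨Z, e, he⟩ := exists_obj B χ''
  refine ⟨Z, ⟨e.toAlgHom.comp (IsScalarTower.toAlgHom R X.A B), ?_⟩, e.toAlgHom.toRingHom,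
    fun a => rfl, fun b => AlgHom.congr_fun he b⟩
  rw [← AlgHom.comp_assoc, he]
  exact AlgHom.ext fun a => hχ' a

theorem cocone_objs (X Y : EtPt R K) : ∃ (Z : EtPt R K) (_ : X ⟶ Z) (_ : Y ⟶ Z), True := by
  haveI : Algebra.Etale X.A (X.A ⊗[R] Y.A) := inferInstance
  haveI : Algebra.Etale R (X.A ⊗[R] Y.A) := Algebra.Etale.comp R X.A _
  obtain ⟨Z, e, he⟩ := exists_obj (X.A ⊗[R] Y.A)
    (Algebra.TensorProduct.lift X.χ Y.χ (fun _ _ => Commute.all _ _))
  refine ⟨Z, ⟨e.toAlgHom.comp Algebra.TensorProduct.includeLeft, ?_⟩,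
    ⟨e.toAlgHom.comp Algebra.TensorProduct.includeRight, ?_⟩, trivial⟩
  · rw [← AlgHom.comp_assoc, he]
    exact AlgHom.ext fun a => by simp
  · rw [← AlgHom.comp_assoc, he]
    exact AlgHom.ext fun a => by simp

theorem cocone_maps {X Y : EtPt R K} (f g : X ⟶ Y) :
    ∃ (Z : EtPt R K) (h : Y ⟶ Z), f ≫ h = g ≫ h := by
  obtain ⟨e', he', hK⟩ :=
    Groth.Agent.S9469.exists_idempotent_coequalizer (R := R) X.A Y.A f.f g.f
  set K : Ideal Y.A := Ideal.span (Set.range fun a : X.A => f.f a - g.f a) with hKdef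
  have hkerK : RingHom.ker (algebraMap Y.A (Y.A ⧸ K)) = Ideal.span {1 - e'} := by
    rw [← hK]
    exact Ideal.mk_ker
  haveI := IsLocalization.away_of_isIdempotentElem (R := Y.A) (S := Y.A ⧸ K) he' hkerK
    Ideal.Quotient.mk_surjective
  haveI : Algebra.Etale Y.A (Y.A ⧸ K) := Algebra.Etale.of_isLocalizationAway e'
  haveI : Algebra.Etale R (Y.A ⧸ K) := Algebra.Etale.comp R Y.A _
  have hker : ∀ x ∈ K, Y.χ x = 0 := by
    intro x hx
    have hle : K ≤ RingHom.ker Y.χ.toRingHom := by
      rw [hKdef, Ideal.span_le]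
      rintro _ ⟨a, rfl⟩
      rw [SetLike.mem_coe, RingHom.mem_ker, map_sub, sub_eq_zero]
      exact (AlgHom.congr_fun f.w a).trans (AlgHom.congr_fun g.w a).symm
    exact hle hx
  obtain ⟨Z, e, he⟩ := exists_obj (Y.A ⧸ K) (Ideal.Quotient.liftₐ K Y.χ hker)
  refine ⟨Z, ⟨e.toAlgHom.comp (Ideal.Quotient.mkₐ R K), ?_⟩, ?_⟩
  · rw [← AlgHom.comp_assoc, he]
    exact AlgHom.ext fun a => rfl
  · apply Hom.ext
    refine AlgHom.ext fun a => ?_
    show e (Ideal.Quotient.mk K (f.f a)) = e (Ideal.Quotient.mk K (g.f a))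
    congr 1
    rw [Ideal.Quotient.eq]
    exact Ideal.subset_span ⟨a, rfl⟩

instance : Nonempty (EtPt R K) := by
  obtain ⟨X, -, -⟩ := exists_obj (K := K) R (Algebra.ofId R K)
  exact ⟨X⟩

instance : IsFiltered (EtPt R K) :=
  haveI : IsFilteredOrEmpty (EtPt R K) := ⟨cocone_objs, fun _ _ f g => cocone_maps f g⟩
  ⟨⟩

end EtPt

open EtPt

variable (R : Type u) [CommRing R] (K : Type u) [Field K] [Algebra R K]

/-- The diagram of underlying rings. -/
noncomputable def F : EtPt R K ⥤ CommRingCat.{u} where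
  obj X := CommRingCat.of X.A
  map f := CommRingCat.ofHom f.f.toRingHom
  map_id _ := rfl
  map_comp _ _ := rfl

/-- The colimit ring. -/
def H : Type u := (colimit (F R K) : CommRingCat.{u})

noncomputable instance : CommRing (H R K) :=
  inferInstanceAs (CommRing (colimit (F R K) : CommRingCat.{u}))

/-- The structure maps of the colimit. -/
noncomputable def ι (X : EtPt R K) : X.A →+* H R K := (colimit.ι (F R K) X).hom

theorem ι_map {X Y : EtPt R K} (f : X ⟶ Y) (a : X.A) : ι R K Y (f.f a) = ι R K X a := by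
  have h := congrArg (fun g : (F R K).obj X ⟶ colimit (F R K) => g.hom a) (colimit.w (F R K) f)
  exact h

theorem exists_rep (x : H R K) : ∃ (X : EtPt R K) (a : X.A), ι R K X a = x := by
  obtain ⟨X, a, h⟩ := Concrete.colimit_exists_rep (F R K) x
  exact ⟨X, a, h⟩

theorem ι_eq_iff {X Y : EtPt R K} (a : X.A) (b : Y.A) :
    ι R K X a = ι R K Y b ↔ ∃ (Z : EtPt R K) (f : X ⟶ Z) (g : Y ⟶ Z), f.f a = g.f b :=
  Concrete.colimit_rep_eq_iff_exists (F R K) (i := X) (j := Y) a b

/-- The cocone attached to a compatible family of ring maps. -/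
noncomputable def descCocone {T : Type u} [CommRing T] (φ : ∀ X : EtPt R K, X.A →+* T)
    (hφ : ∀ (X Y : EtPt R K) (f : X ⟶ Y), (φ Y).comp f.f.toRingHom = φ X) : Cocone (F R K) where
  pt := CommRingCat.of T
  ι :=
    { app := fun X => CommRingCat.ofHom (φ X)
      naturality := fun X Y f => by
        apply CommRingCat.hom_ext
        apply RingHom.ext
        intro a
        exact RingHom.congr_fun (hφ X Y f) a }

/-- Maps out of the colimit. -/
noncomputable def desc {T : Type u} [CommRing T] (φ : ∀ X : EtPt R K, X.A →+* T)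
    (hφ : ∀ (X Y : EtPt R K) (f : X ⟶ Y), (φ Y).comp f.f.toRingHom = φ X) : H R K →+* T :=
  (colimit.desc (F R K) (descCocone R K φ hφ)).hom

theorem desc_ι {T : Type u} [CommRing T] (φ : ∀ X : EtPt R K, X.A →+* T)
    (hφ : ∀ (X Y : EtPt R K) (f : X ⟶ Y), (φ Y).comp f.f.toRingHom = φ X) (X : EtPt R K)
    (a : X.A) : desc R K φ hφ (ι R K X a) = φ X a := by
  have h := congrArg (fun g : (F R K).obj X ⟶ CommRingCat.of T => g.hom a)
    (colimit.ι_desc (descCocone R K φ hφ) X)
  exact h

theorem hom_ext {T : Type u} [CommRing T] {g g' : H R K →+* T}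
    (h : ∀ (X : EtPt R K) (a : X.A), g (ι R K X a) = g' (ι R K X a)) : g = g' := by
  ext x
  obtain ⟨X, a, rfl⟩ := exists_rep R K x
  exact h X a

theorem exists_rep_finset (s : Finset (H R K)) :
    ∃ X : EtPt R K, ∀ x ∈ s, ∃ a : X.A, ι R K X a = x := by
  classical
  induction s using Finset.induction_on with
  | empty => exact ⟨Classical.arbitrary _, by simp⟩
  | insert x s hx ih =>
    obtain ⟨X, hX⟩ := ih
    obtain ⟨Y, a, rfl⟩ := exists_rep R K x
    obtain ⟨Z, f, g, -⟩ := cocone_objs X Y
    refine ⟨Z, fun y hy => ?_⟩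
    rcases Finset.mem_insert.mp hy with rfl | hy
    · exact ⟨g.f a, ι_map R K g a⟩
    · obtain ⟨b, rfl⟩ := hX y hy
      exact ⟨f.f b, ι_map R K f b⟩

/-- The canonical point of the colimit. -/
noncomputable def ε : H R K →+* K :=
  desc R K (fun X => X.χ.toRingHom) (fun X Y f => RingHom.ext fun a => AlgHom.congr_fun f.w a)

theorem ε_ι (X : EtPt R K) (a : X.A) : ε R K (ι R K X a) = X.χ a := desc_ι R K _ _ X a

/-- A base object, used to define the algebra structure. -/
noncomputable def X₀ : EtPt R K := Classical.arbitrary _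

noncomputable instance : Algebra R (H R K) :=
  ((ι R K (X₀ R K)).comp (algebraMap R (X₀ R K).A)).toAlgebra

theorem ι_algebraMap (X : EtPt R K) (r : R) :
    ι R K X (algebraMap R X.A r) = algebraMap R (H R K) r := by
  obtain ⟨Z, f, g, -⟩ := cocone_objs X (X₀ R K)
  show _ = ι R K (X₀ R K) (algebraMap R _ r)
  rw [← ι_map R K f, ← ι_map R K g, f.f.commutes, g.f.commutes]

/-- The structure maps as algebra maps. -/
noncomputable def ιₐ (X : EtPt R K) : X.A →ₐ[R] H R K :=
  { ι R K X with commutes' := ι_algebraMap R K X }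

theorem ε_algebraMap (r : R) : ε R K (algebraMap R (H R K) r) = algebraMap R K r := by
  rw [← ι_algebraMap R K (X₀ R K), ε_ι, AlgHom.commutes]

end Groth.Agent.H47.HensK
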