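import Groth.Agent.H47.HensK
import Groth.Agent.H47.Hens5
import Groth.Prelude.Def_PBC

/-!
# The ring `H R K`: local, henselian, flat, reduced, formally étale, ind-étale
-/

set_option autoImplicit false
universe u
open CategoryTheory CategoryTheory.Limits TensorProduct

namespace Groth.Agent.H47.HensK

open EtPt

variable (R : Type u) [CommRing R] (K : Type u) [Field K] [Algebra R K]

theorem isUnit_of_ε_ne_zero (x : H R K) (hx : ε R K x ≠ 0) : IsUnit x := by
  obtain ⟨X, a, rfl⟩ := exists_rep R K x
  rw [ε_ι] at hx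
  haveI : Algebra.Etale X.A (Localization.Away a) := Algebra.Etale.of_isLocalizationAway a
  have hu : ∀ y : Submonoid.powers a, IsUnit (X.χ.toRingHom y) := by
    rintro ⟨_, n, rfl⟩
    show IsUnit (X.χ (a ^ n))
    rw [map_pow]
    exact (IsUnit.mk0 _ hx).pow n
  obtain ⟨Z, f, j, hj, -⟩ := exists_obj_over X (Localization.Away a) (IsLocalization.lift hu)
    (fun b => IsLocalization.lift_eq hu b)
  rw [← ι_map R K f, ← hj]
  exact ((IsLocalization.Away.algebraMap_isUnit a).map j).map (ι R K Z)

noncomputable instance : Nontrivial (H R K) :=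
  ⟨⟨0, 1, fun h => by
    have := congrArg (ε R K) h
    rw [map_zero, map_one] at this
    exact zero_ne_one this⟩⟩

noncomputable instance : IsLocalRing (H R K) :=
  IsLocalRing.of_nonunits_add (by
    intro a b ha hb
    rw [mem_nonunits_iff] at ha hb ⊢
    intro hab
    have ha' : ε R K a = 0 := by
      by_contra h
      exact ha (isUnit_of_ε_ne_zero R K a h)
    have hb' : ε R K b = 0 := by
      by_contra h
      exact hb (isUnit_of_ε_ne_zero R K b h)
    have := hab.map (ε R K)
    rw [map_add, ha', hb', add_zero] at this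
    exact not_isUnit_zero this)

theorem mem_maximalIdeal_iff (x : H R K) :
    x ∈ IsLocalRing.maximalIdeal (H R K) ↔ ε R K x = 0 := by
  rw [IsLocalRing.mem_maximalIdeal, mem_nonunits_iff]
  constructor
  · intro hx
    by_contra h
    exact hx (isUnit_of_ε_ne_zero R K x h)
  · intro hx hu
    have := hu.map (ε R K)
    rw [hx] at this
    exact not_isUnit_zero this

instance isLocalHom_ε : IsLocalHom (ε R K) :=
  ⟨fun x hx => isUnit_of_ε_ne_zero R K x hx.ne_zero⟩

noncomputable instance : HenselianLocalRing (H R K) where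
  is_henselian f hf a₀ h₁ h₂ := by
    classical
    rw [mem_maximalIdeal_iff] at h₁
    have h₂' : ε R K (f.derivative.eval a₀) ≠ 0 := (h₂.map (ε R K)).ne_zero
    obtain ⟨X, hX⟩ := exists_rep_finset R K (insert a₀ f.coeffs)
    obtain ⟨a, rfl⟩ := hX a₀ (Finset.mem_insert_self _ _)
    have hlift : f ∈ Polynomial.lifts (ι R K X) := by
      rw [Polynomial.lifts_iff_coeffs_subset_range]
      intro c hc
      obtain ⟨b, hb⟩ := hX c (Finset.mem_insert_of_mem hc)
      exact ⟨b, hb⟩
    obtain ⟨fX, rfl, -, hfX⟩ := Polynomial.lifts_and_natDegree_eq_and_monic hlift hf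
    rw [Polynomial.eval_map, Polynomial.eval₂_at_apply, ε_ι] at h₁
    rw [Polynomial.derivative_map, Polynomial.eval_map, Polynomial.eval₂_at_apply, ε_ι] at h₂'
    let P : StandardEtalePair X.A :=
      { f := fX, monic_f := hfX, g := Polynomial.derivative fX, cond := ⟨1, 0, 1, by simp⟩ }
    letI : Algebra X.A K := X.χ.toRingHom.toAlgebra
    have hmap : P.HasMap (X.χ a) := by
      constructor
      · show Polynomial.aeval (X.χ a) fX = 0
        have : Polynomial.aeval (X.χ a) fX = X.χ (fX.eval a) := by
          rw [Polynomial.aeval_def]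
          exact Polynomial.eval₂_at_apply X.χ.toRingHom a
        rw [this, h₁]
      · show IsUnit (Polynomial.aeval (X.χ a) (Polynomial.derivative fX))
        have : Polynomial.aeval (X.χ a) (Polynomial.derivative fX) =
            X.χ ((Polynomial.derivative fX).eval a) := by
          rw [Polynomial.aeval_def]
          exact Polynomial.eval₂_at_apply X.χ.toRingHom a
        rw [this]
        exact IsUnit.mk0 _ h₂'
    obtain ⟨Z, u, j, hj, hjχ⟩ := exists_obj_over X P.Ring (P.lift (X.χ a) hmap).toRingHom
      (fun b => (P.lift (X.χ a) hmap).commutes b)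
    refine ⟨ι R K Z (j P.X), ?_, ?_⟩
    · show Polynomial.eval (ι R K Z (j P.X)) (fX.map (ι R K X)) = 0
      have hcomp : ι R K X = ((ι R K Z).comp j).comp (algebraMap X.A P.Ring) :=
        RingHom.ext fun b => by
          show ι R K X b = ι R K Z (j (algebraMap X.A P.Ring b))
          rw [hj, ι_map]
      have h3 : ι R K Z (j (Polynomial.eval₂ (algebraMap X.A P.Ring) P.X fX)) =
          Polynomial.eval₂ (((ι R K Z).comp j).comp (algebraMap X.A P.Ring))
            (ι R K Z (j P.X)) fX :=
        Polynomial.hom_eval₂ fX (algebraMap X.A P.Ring) ((ι R K Z).comp j) P.X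
      have hroot : Polynomial.eval₂ (algebraMap X.A P.Ring) P.X fX = 0 := P.hasMap_X.1
      rw [Polynomial.eval_map, hcomp, ← h3, hroot, map_zero, map_zero]
    · rw [mem_maximalIdeal_iff, map_sub, ε_ι, ε_ι, hjχ]
      show (P.lift (X.χ a) hmap) P.X - X.χ a = 0
      rw [P.lift_X, sub_self]

theorem mem_map_of_ε_eq_zero (x : H R K) (hx : ε R K x = 0) :
    x ∈ (RingHom.ker (algebraMap R K)).map (algebraMap R (H R K)) := by
  obtain ⟨X, a, rfl⟩ := exists_rep R K x
  rw [ε_ι] at hx
  haveI : (RingHom.ker (algebraMap R K)).IsPrime := RingHom.ker_isPrime _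
  haveI : (RingHom.ker X.χ.toRingHom).IsPrime := RingHom.ker_isPrime _
  have hq : (RingHom.ker X.χ.toRingHom).comap (algebraMap R X.A) =
      RingHom.ker (algebraMap R K) := by
    ext r
    simp only [Ideal.mem_comap, RingHom.mem_ker]
    rw [show X.χ.toRingHom (algebraMap R X.A r) = algebraMap R K r from X.χ.commutes r]
  obtain ⟨e, he, hea⟩ := Groth.Agent.H47.Hens.exists_mul_mem_map R (RingHom.ker (algebraMap R K))
    (RingHom.ker X.χ.toRingHom) hq a (RingHom.mem_ker.mpr hx)
  have hunit : IsUnit (ι R K X e) := isUnit_of_ε_ne_zero R K _ (by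
    rw [ε_ι]
    exact fun h => he (RingHom.mem_ker.mpr h))
  have hmem : ι R K X (e * a) ∈ (RingHom.ker (algebraMap R K)).map (algebraMap R (H R K)) := by
    have := Ideal.mem_map_of_mem (ιₐ R K X).toRingHom hea
    have hc : (ιₐ R K X).toRingHom.comp (algebraMap R X.A) = algebraMap R (H R K) :=
      RingHom.ext fun r => ι_algebraMap R K X r
    rw [Ideal.map_map, hc] at this
    exact this
  rw [map_mul] at hmem
  exact (Ideal.unit_mul_mem_iff_mem _ hunit).mp hmem

theorem maximalIdeal_eq_map :
    IsLocalRing.maximalIdeal (H R K) =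
      (RingHom.ker (algebraMap R K)).map (algebraMap R (H R K)) := by
  apply le_antisymm
  · intro x hx
    exact mem_map_of_ε_eq_zero R K x ((mem_maximalIdeal_iff R K x).mp hx)
  · rw [Ideal.map_le_iff_le_comap]
    intro r hr
    rw [Ideal.mem_comap, mem_maximalIdeal_iff, ε_algebraMap]
    exact RingHom.mem_ker.mp hr

/-! ### Flatness -/

theorem ιₐ_comp {X Z : EtPt R K} (u : X ⟶ Z) : (ιₐ R K Z).comp u.f = ιₐ R K X :=
  AlgHom.ext (ι_map R K u)

theorem exists_rep_tensor {N : Type u} [AddCommGroup N] [Module R N] (z : N ⊗[R] H R K) :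
    ∃ (X : EtPt R K) (zX : N ⊗[R] X.A), (ιₐ R K X).toLinearMap.lTensor N zX = z := by
  induction z using TensorProduct.induction_on with
  | zero => exact ⟨Classical.arbitrary _, 0, map_zero _⟩
  | tmul n h =>
    obtain ⟨X, a, rfl⟩ := exists_rep R K h
    exact ⟨X, n ⊗ₜ a, rfl⟩
  | add x y hx hy =>
    obtain ⟨X, zX, rfl⟩ := hx
    obtain ⟨Y, zY, rfl⟩ := hy
    obtain ⟨Z, u, v, -⟩ := cocone_objs X Y
    refine ⟨Z, u.f.toLinearMap.lTensor N zX + v.f.toLinearMap.lTensor N zY, ?_⟩
    rw [map_add, ← LinearMap.lTensor_comp_apply, ← LinearMap.lTensor_comp_apply,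
      ← AlgHom.comp_toLinearMap, ← AlgHom.comp_toLinearMap, ιₐ_comp, ιₐ_comp]

instance flat : Module.Flat R (H R K) := by
  rw [Module.Flat.iff_lift_lsmul_comp_subtype_injective]
  intro I hI
  rw [injective_iff_map_eq_zero]
  intro z hz
  obtain ⟨X, zX, rfl⟩ := exists_rep_tensor R K z
  rw [Groth.Agent.H47.Hens.lift_lsmul_natural I (ιₐ R K X).toLinearMap zX] at hz
  have hz' : ι R K X (TensorProduct.lift ((LinearMap.lsmul R X.A).comp I.subtype) zX) =
      ι R K X 0 := by
    rw [map_zero]
    exact hz
  obtain ⟨Z, u, v, huv⟩ := (ι_eq_iff R K _ _).mp hz'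
  rw [map_zero] at huv
  have h2 := Groth.Agent.H47.Hens.lift_lsmul_natural I u.f.toLinearMap zX
  have hflat : Function.Injective
      (TensorProduct.lift ((LinearMap.lsmul R Z.A).comp I.subtype)) :=
    (Module.Flat.iff_lift_lsmul_comp_subtype_injective.mp inferInstance) hI
  have h3 : u.f.toLinearMap.lTensor I zX = 0 := by
    apply hflat
    rw [h2, map_zero]
    exact huv
  rw [← ιₐ_comp R K u, AlgHom.comp_toLinearMap, LinearMap.lTensor_comp_apply, h3, map_zero]

/-! ### Reducedness and the nilradical -/

theorem isReduced_H [IsReduced R] : IsReduced (H R K) := by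
  constructor
  rintro x ⟨n, hn⟩
  obtain ⟨X, a, rfl⟩ := exists_rep R K x
  have h0 : ι R K X (a ^ n) = ι R K X 0 := by rw [map_pow, hn, map_zero]
  obtain ⟨Z, u, v, huv⟩ := (ι_eq_iff R K _ _).mp h0
  rw [map_zero, map_pow] at huv
  haveI : IsReduced Z.A := Groth.Agent.S9407.result R Z.A
  have : u.f a = 0 := IsNilpotent.eq_zero ⟨n, huv⟩
  rw [← ι_map R K u, this, map_zero]

/-- The nilradical of a smooth algebra is contained in the extension of the nilradical. -/
theorem nilradical_le_map_of_smooth (R B : Type u) [CommRing R] [CommRing B] [Algebra R B]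
    [Algebra.Smooth R B] : nilradical B ≤ (nilradical R).map (algebraMap R B) := by
  intro b hb
  have hrad : (nilradical R).IsRadical := Ideal.radical_isRadical ⊥
  have : IsReduced (R ⧸ nilradical R) := (Ideal.isRadical_iff_quotient_reduced _).mp hrad
  have : IsReduced ((R ⧸ nilradical R) ⊗[R] B) :=
    Groth.Agent.S9407.result (R ⧸ nilradical R) _
  have h1 : IsNilpotent ((1 : R ⧸ nilradical R) ⊗ₜ[R] b) := by
    obtain ⟨n, hn⟩ := mem_nilradical.mp hb
    exact ⟨n, by rw [Algebra.TensorProduct.tmul_pow, hn, tmul_zero]⟩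
  have h2 := h1.eq_zero
  have h3 : Algebra.TensorProduct.quotIdealMapEquivQuotTensor B (nilradical R)
      (Ideal.Quotient.mk _ b) = 0 := h2
  have h4 := (EmbeddingLike.map_eq_zero_iff
    (f := Algebra.TensorProduct.quotIdealMapEquivQuotTensor B (nilradical R))).mp h3
  exact Ideal.Quotient.eq_zero_iff_mem.mp h4

theorem nilradical_H :
    nilradical (H R K) = (nilradical R).map (algebraMap R (H R K)) := by
  apply le_antisymm
  · intro x hx
    obtain ⟨n, hn⟩ := mem_nilradical.mp hx
    obtain ⟨X, a, rfl⟩ := exists_rep R K x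
    have h0 : ι R K X (a ^ n) = ι R K X 0 := by rw [map_pow, hn, map_zero]
    obtain ⟨Z, u, v, huv⟩ := (ι_eq_iff R K _ _).mp h0
    rw [map_zero, map_pow] at huv
    have hb : u.f a ∈ nilradical Z.A := mem_nilradical.mpr ⟨n, huv⟩
    have hb' := nilradical_le_map_of_smooth R Z.A hb
    rw [← ι_map R K u]
    have := Ideal.mem_map_of_mem (ιₐ R K Z).toRingHom hb'
    have hc : (ιₐ R K Z).toRingHom.comp (algebraMap R Z.A) = algebraMap R (H R K) :=
      RingHom.ext fun r => ι_algebraMap R K Z r
    rw [Ideal.map_map, hc] at this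
    exact this
  · rw [Ideal.map_le_iff_le_comap]
    intro r hr
    exact mem_nilradical.mpr ((mem_nilradical.mp hr).map _)

/-- Transfer of the nilradical statement along an isomorphism. -/
theorem nilradical_eq_map_of_algEquiv {R H S : Type u} [CommRing R] [CommRing H] [CommRing S]
    [Algebra R H] [Algebra R S] (e : H ≃ₐ[R] S)
    (h : nilradical H = (nilradical R).map (algebraMap R H)) :
    (nilradical R).map (algebraMap R S) = nilradical S := by
  apply le_antisymm
  · rw [Ideal.map_le_iff_le_comap]
    intro r hr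
    exact mem_nilradical.mpr ((mem_nilradical.mp hr).map _)
  · intro y hy
    have h1 : e.symm y ∈ nilradical H := mem_nilradical.mpr ((mem_nilradical.mp hy).map e.symm)
    rw [h] at h1
    have h2 := Ideal.mem_map_of_mem e.toAlgHom.toRingHom h1
    have hc : e.toAlgHom.toRingHom.comp (algebraMap R H) = algebraMap R S :=
      RingHom.ext fun r => e.commutes r
    rw [Ideal.map_map, hc] at h2
    have h5 : e.toAlgHom.toRingHom (e.symm y) = y := e.apply_symm_apply y
    rw [h5] at h2
    exact h2

/-! ### Formally étale -/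

theorem formallyEtale_H : Algebra.FormallyEtale R (H R K) := by
  rw [Algebra.FormallyEtale.iff_comp_bijective]
  intro B _ _ I hI
  constructor
  · intro g₁ g₂ h
    have key : ∀ X : EtPt R K, g₁.comp (ιₐ R K X) = g₂.comp (ιₐ R K X) := fun X =>
      Algebra.FormallyUnramified.comp_injective I hI (by
        show (Ideal.Quotient.mkₐ R I).comp (g₁.comp (ιₐ R K X)) =
          (Ideal.Quotient.mkₐ R I).comp (g₂.comp (ιₐ R K X))
        rw [← AlgHom.comp_assoc, ← AlgHom.comp_assoc]
        exact congrArg (fun t => t.comp (ιₐ R K X)) h)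
    refine AlgHom.ext fun x => ?_
    obtain ⟨X, a, rfl⟩ := exists_rep R K x
    exact AlgHom.congr_fun (key X) a
  · intro g
    have hl : ∀ X : EtPt R K, ∃ l : X.A →ₐ[R] B,
        (Ideal.Quotient.mkₐ R I).comp l = g.comp (ιₐ R K X) := fun X =>
      (Algebra.FormallyEtale.comp_bijective R X.A I hI).2 _
    choose l hl using hl
    have hnat : ∀ (X Y : EtPt R K) (u : X ⟶ Y),
        ((l Y).toRingHom).comp u.f.toRingHom = (l X).toRingHom := by
      intro X Y u
      have : (l Y).comp u.f = l X := Algebra.FormallyUnramified.comp_injective I hI (by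
        show (Ideal.Quotient.mkₐ R I).comp ((l Y).comp u.f) = (Ideal.Quotient.mkₐ R I).comp (l X)
        rw [← AlgHom.comp_assoc, hl, hl, AlgHom.comp_assoc, ιₐ_comp])
      exact congrArg AlgHom.toRingHom this
    let G : H R K →ₐ[R] B :=
      { toRingHom := desc R K (fun X => (l X).toRingHom) hnat
        commutes' := fun r => by
          show desc R K _ hnat (algebraMap R (H R K) r) = algebraMap R B r
          rw [← ι_algebraMap R K (X₀ R K) r, desc_ι]
          exact (l _).commutes r }
    refine ⟨G, AlgHom.ext fun x => ?_⟩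
    obtain ⟨X, a, rfl⟩ := exists_rep R K x
    show Ideal.Quotient.mk I (desc R K _ hnat (ι R K X a)) = g (ι R K X a)
    rw [desc_ι]
    exact AlgHom.congr_fun (hl X) a

/-! ### Ind-étale presentation -/

section IndEtale

variable (S : Type u) [CommRing S] [Algebra R S]

/-- The diagram of étale algebras under `R`. -/
noncomputable def D : EtPt R K ⥤ Under (CommRingCat.of R) where
  obj X := Under.mk (CommRingCat.ofHom (algebraMap R X.A))
  map {X Y} f := Under.homMk (CommRingCat.ofHom f.f.toRingHom) (by
    apply CommRingCat.hom_ext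
    apply RingHom.ext
    intro r
    exact f.f.commutes r)
  map_id X := by
    apply Under.UnderMorphism.ext
    rfl
  map_comp f g := by
    apply Under.UnderMorphism.ext
    rfl

/-- The cocone with point `S`. -/
noncomputable def cocone (e : H R K ≃ₐ[R] S) : Cocone (D R K) where
  pt := Under.mk (CommRingCat.ofHom (algebraMap R S))
  ι :=
    { app := fun X => Under.homMk (CommRingCat.ofHom (e.toAlgHom.comp (ιₐ R K X)).toRingHom) (by
        apply CommRingCat.hom_ext
        apply RingHom.ext
        intro r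
        exact (e.toAlgHom.comp (ιₐ R K X)).commutes r)
      naturality := fun X Y f => by
        apply Under.UnderMorphism.ext
        apply CommRingCat.hom_ext
        apply RingHom.ext
        intro a
        show e (ι R K Y (f.f a)) = e (ι R K X a)
        rw [ι_map] }

theorem compat (s : Cocone (D R K)) (X Y : EtPt R K) (f : X ⟶ Y) :
    ((s.ι.app Y).right.hom : Y.A →+* s.pt.right).comp f.f.toRingHom =
      ((s.ι.app X).right.hom : X.A →+* s.pt.right) :=
  congrArg (fun t => t.right.hom) (s.w f)

/-- The map out of `S` induced by a cocone. -/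
noncomputable def descHom (e : H R K ≃ₐ[R] S) (s : Cocone (D R K)) : S →+* s.pt.right :=
  (desc R K (T := s.pt.right) (fun X => ((s.ι.app X).right.hom : X.A →+* s.pt.right))
    (compat R K s)).comp e.symm.toAlgHom.toRingHom

theorem descHom_apply (e : H R K ≃ₐ[R] S) (s : Cocone (D R K)) (X : EtPt R K) (a : X.A) :
    descHom R K S e s (e (ι R K X a)) = (s.ι.app X).right.hom a := by
  show desc R K _ _ (e.symm (e (ι R K X a))) = _
  rw [AlgEquiv.symm_apply_apply, desc_ι]
  rfl

theorem descHom_algebraMap (e : H R K ≃ₐ[R] S) (s : Cocone (D R K)) (r : R) :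
    descHom R K S e s (algebraMap R S r) = s.pt.hom.hom r := by
  rw [← e.commutes, ← ι_algebraMap R K (X₀ R K), descHom_apply]
  exact congrArg (fun t => t.hom r) (Under.w (s.ι.app (X₀ R K)))

/-- The cocone is a colimit. -/
noncomputable def isColimit (e : H R K ≃ₐ[R] S) : IsColimit (cocone R K S e) where
  desc s := Under.homMk (CommRingCat.ofHom (descHom R K S e s)) (by
    apply CommRingCat.hom_ext
    apply RingHom.ext
    intro r
    exact descHom_algebraMap R K S e s r)
  fac s X := by
    apply Under.UnderMorphism.ext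
    apply CommRingCat.hom_ext
    apply RingHom.ext
    intro a
    exact descHom_apply R K S e s X a
  uniq s m hm := by
    apply Under.UnderMorphism.ext
    apply CommRingCat.hom_ext
    apply RingHom.ext
    intro y
    obtain ⟨X, a, ha⟩ := exists_rep R K (e.symm y)
    have hy : y = e (ι R K X a) := by rw [ha, AlgEquiv.apply_symm_apply]
    rw [hy]
    show m.right.hom (e (ι R K X a)) = descHom R K S e s (e (ι R K X a))
    rw [descHom_apply]
    exact congrArg (fun t => t.right.hom a) (hm X)

theorem isIndEtale_of_algEquiv (e : H R K ≃ₐ[R] S) : EtPBC.IsIndEtale R S := by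
  refine ⟨EtPt R K, inferInstance, inferInstance, D R K, cocone R K S e, isColimit R K S e, ?_,
    ⟨Iso.refl _⟩⟩
  intro X
  have heq : (algebraMap R X.A).toAlgebra = (inferInstance : Algebra R X.A) :=
    Algebra.algebra_ext _ _ (fun r => rfl)
  show @Algebra.Etale R X.A _ _ (algebraMap R X.A).toAlgebra
  rw [heq]
  infer_instance

end IndEtale

end Groth.Agent.H47.HensK
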