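import Groth.Agent.H47.HensSpecialize

/-!
# Maps from a strict henselization with prescribed residue point

Existence and uniqueness of `R`-algebra maps `H R K → T` (`T` henselian local, along an arbitrary
ring map `R → T`) with prescribed composite to the residue field of `T`; the same for strict
henselizations.
-/

set_option autoImplicit false
universe u
open CategoryTheory CategoryTheory.Limits TensorProduct

namespace Groth.Agent.H47.HensSpecialize

open Groth.Agent.H47.HensK EtPt IsLocalRing

section General

variable (R : Type u) [CommRing R] (K : Type u) [Field K] [Algebra R K]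

/-- Maps out of `H R K` into a henselian local ring are determined by, and exist for, any
prescribed point with values in the residue field. -/
theorem existsUnique_desc_of_point {T : Type u} [CommRing T] [HenselianLocalRing T] (f : R →+* T)
    (σ : H R K →+* ResidueField T)
    (hσ : ∀ r : R, σ (algebraMap R (H R K) r) = residue T (f r)) :
    ∃! g : H R K →+* T, g.comp (algebraMap R (H R K)) = f ∧ ∀ x, residue T (g x) = σ x := by
  classical
  let _ : Algebra R T := f.toAlgebra
  let ρ : ∀ X : EtPt R K, X.A →ₐ[R] ResidueField T := fun X =>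
    { toRingHom := σ.comp (ι R K X)
      commutes' := fun r => by
        show σ (ι R K X (algebraMap R X.A r)) = algebraMap R (ResidueField T) r
        rw [ι_algebraMap, hσ]
        rfl }
  have hφ : ∀ X : EtPt R K, ∃ φ : X.A →ₐ[R] T, ∀ c, residue T (φ c) = ρ X c :=
    fun X => Groth.Agent.H14.exists_lift_of_etale (ρ X)
  choose φ hφ using hφ
  have huniq : ∀ (X : EtPt R K) (ψ : X.A →ₐ[R] T),
      (∀ c, residue T (ψ c) = ρ X c) → ψ = φ X := fun X ψ hψ =>
    Groth.Agent.S2782.algHom_eq_of_residue_eq ψ (φ X) (fun x => (hψ x).trans (hφ X x).symm)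
  have hnat : ∀ (X Y : EtPt R K) (u : X ⟶ Y),
      ((φ Y).toRingHom).comp u.f.toRingHom = (φ X).toRingHom := by
    intro X Y u
    have := huniq X ((φ Y).comp u.f) (fun c => by
      show residue T (φ Y (u.f c)) = σ (ι R K X c)
      rw [hφ Y]
      show σ (ι R K Y (u.f c)) = _
      rw [ι_map])
    exact congrArg AlgHom.toRingHom this
  refine ⟨desc R K (fun X => (φ X).toRingHom) hnat, ⟨?_, ?_⟩, ?_⟩
  · refine RingHom.ext fun r => ?_
    show desc R K _ hnat (algebraMap R (H R K) r) = f r
    rw [← ι_algebraMap R K (X₀ R K) r, desc_ι]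
    exact (φ _).commutes r
  · intro x
    obtain ⟨X, a, rfl⟩ := exists_rep R K x
    rw [desc_ι]
    exact hφ X a
  · rintro g' ⟨hg'1, hg'2⟩
    apply hom_ext
    intro X a
    rw [desc_ι]
    let ψ : X.A →ₐ[R] T :=
      { toRingHom := g'.comp (ι R K X)
        commutes' := fun r => by
          show g' (ι R K X (algebraMap R X.A r)) = f r
          rw [ι_algebraMap]
          exact RingHom.congr_fun hg'1 r }
    exact AlgHom.congr_fun (huniq X ψ (fun c => hg'2 (ι R K X c))) a

end General

/-- For any ring map `f : A → B` of local rings and strict henselizations `R`, `R'`, the ring maps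
`R → R'` over `f` correspond bijectively to the ring maps `R → κ(R')` over `f` (composition with
the residue map). -/
theorem existsUnique_map_strictHenselization_of_point (A B : Type u) [CommRing A] [IsLocalRing A]
    [CommRing B] [IsLocalRing B] (f : A →+* B)
    (R : Type u) [CommRing R] [IsLocalRing R] [Algebra A R] [IsLocalHom (algebraMap A R)]
    [Hensel.IsStrictHenselization A R]
    (R' : Type u) [CommRing R'] [IsLocalRing R'] [Algebra B R'] [IsLocalHom (algebraMap B R')]
    [Hensel.IsStrictHenselization B R']
    (σ : R →+* ResidueField R')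
    (hσ : σ.comp (algebraMap A R) = (residue R').comp ((algebraMap B R').comp f)) :
    ∃! φ : R →+* R', φ.comp (algebraMap A R) = (algebraMap B R').comp f ∧
      (residue R').comp φ = σ := by
  haveI : HenselianLocalRing R' := Hensel.IsStrictHenselization.henselian (R := B)
  obtain ⟨e⟩ := exists_algEquiv_Hsh A R
  obtain ⟨g, ⟨hg1, hg2⟩, hg3⟩ := existsUnique_desc_of_point A (Ksep A)
    ((algebraMap B R').comp f) (σ.comp e.toAlgHom.toRingHom) (fun a => by
      show σ (e (algebraMap A (Hsh A) a)) = _
      rw [e.commutes]
      exact RingHom.congr_fun hσ a)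
  refine ⟨g.comp e.symm.toAlgHom.toRingHom, ⟨?_, ?_⟩, ?_⟩
  · refine RingHom.ext fun a => ?_
    show g (e.symm (algebraMap A R a)) = _
    rw [e.symm.commutes]
    exact RingHom.congr_fun hg1 a
  · refine RingHom.ext fun y => ?_
    show residue R' (g (e.symm y)) = σ y
    rw [hg2]
    show σ (e (e.symm y)) = σ y
    rw [e.apply_symm_apply]
  · rintro φ' ⟨h1, h2⟩
    have := hg3 (φ'.comp e.toAlgHom.toRingHom) ⟨?_, ?_⟩
    · refine RingHom.ext fun y => ?_
      show φ' y = g (e.symm y)
      rw [← this]
      show φ' y = φ' (e (e.symm y))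
      rw [e.apply_symm_apply]
    · refine RingHom.ext fun a => ?_
      show φ' (e (algebraMap A (Hsh A) a)) = _
      rw [e.commutes]
      exact RingHom.congr_fun h1 a
    · intro y
      exact RingHom.congr_fun h2 (e y)

end Groth.Agent.H47.HensSpecialize
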