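import Groth.Agent.H47.HensTensor3

/-!
# `Bsh ⊗[Ash] Csh → Dsh` is bijective when `Bsh` is integral over `Ash`
-/

set_option autoImplicit false
set_option linter.style.haveILetI false
set_option linter.unusedSectionVars false
set_option linter.unusedVariables false
universe u
open TensorProduct IsLocalRing

namespace Groth.Agent.H47.HensTensor

section TensorBij

variable (A B C : Type u) [CommRing A] [CommRing B] [CommRing C] [Algebra A B] [Algebra A C]
  (pB : Ideal B) [pB.IsPrime] (pC : Ideal C) [pC.IsPrime]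
  (pD : Ideal (B ⊗[A] C)) [pD.IsPrime]
  (Ash : Type u) [CommRing Ash] [IsLocalRing Ash] [Algebra A Ash]
  (Bsh : Type u) [CommRing Bsh] [IsLocalRing Bsh] [Algebra (Localization.AtPrime pB) Bsh]
  [IsLocalHom (algebraMap (Localization.AtPrime pB) Bsh)]
  [Hensel.IsStrictHenselization (Localization.AtPrime pB) Bsh] [Algebra B Bsh]
  [IsScalarTower B (Localization.AtPrime pB) Bsh] [Algebra A Bsh] [IsScalarTower A B Bsh]
  [Algebra Ash Bsh] [IsScalarTower A Ash Bsh] [IsLocalHom (algebraMap Ash Bsh)]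
  (Csh : Type u) [CommRing Csh] [IsLocalRing Csh] [Algebra (Localization.AtPrime pC) Csh]
  [IsLocalHom (algebraMap (Localization.AtPrime pC) Csh)]
  [Hensel.IsStrictHenselization (Localization.AtPrime pC) Csh] [Algebra C Csh]
  [IsScalarTower C (Localization.AtPrime pC) Csh] [Algebra A Csh] [IsScalarTower A C Csh]
  [Algebra Ash Csh] [IsScalarTower A Ash Csh] [IsLocalHom (algebraMap Ash Csh)]
  (Dsh : Type u) [CommRing Dsh] [IsLocalRing Dsh] [Algebra (Localization.AtPrime pD) Dsh]
  [IsLocalHom (algebraMap (Localization.AtPrime pD) Dsh)]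
  [Hensel.IsStrictHenselization (Localization.AtPrime pD) Dsh] [Algebra (B ⊗[A] C) Dsh]
  [IsScalarTower (B ⊗[A] C) (Localization.AtPrime pD) Dsh]
  [Algebra Bsh Dsh] [IsLocalHom (algebraMap Bsh Dsh)] [Algebra B Dsh] [IsScalarTower B Bsh Dsh]
  [IsScalarTower B (B ⊗[A] C) Dsh]
  [Algebra Csh Dsh] [IsLocalHom (algebraMap Csh Dsh)]
  (hC : ∀ c : C, algebraMap Csh Dsh (algebraMap C Csh c) = algebraMap (B ⊗[A] C) Dsh (1 ⊗ₜ[A] c))
  [Algebra Ash Dsh] [IsScalarTower Ash Bsh Dsh] [IsScalarTower Ash Csh Dsh]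

/-- The comparison map with the factors swapped. -/
noncomputable abbrev thetaC : Csh ⊗[Ash] Bsh →ₐ[Ash] Dsh :=
  Algebra.TensorProduct.lift (IsScalarTower.toAlgHom Ash Csh Dsh)
    (IsScalarTower.toAlgHom Ash Bsh Dsh) (fun _ _ => Commute.all _ _)

include pB pC pD hC in
theorem bijective_thetaC [IsSepClosed (ResidueField Ash)] [Algebra.IsIntegral Ash Bsh] :
    Function.Bijective (thetaC Ash Bsh Csh Dsh) := by
  classical
  have hΘl : ∀ c : Csh, thetaC Ash Bsh Csh Dsh (c ⊗ₜ 1) = algebraMap Csh Dsh c := fun c => by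
    rw [Algebra.TensorProduct.lift_tmul, map_one, mul_one]
    rfl
  have hΘr : ∀ b : Bsh, thetaC Ash Bsh Csh Dsh (1 ⊗ₜ b) = algebraMap Bsh Dsh b := fun b => by
    rw [Algebra.TensorProduct.lift_tmul, map_one, one_mul]
    rfl
  haveI : Nontrivial (Csh ⊗[Ash] Bsh) := (thetaC Ash Bsh Csh Dsh).toRingHom.domain_nontrivial
  haveI : Algebra.IsAlgebraic (ResidueField Ash) (ResidueField Bsh) := by
    haveI : Algebra.IsIntegral (ResidueField Ash) (ResidueField Bsh) :=
      inferInstanceAs (Algebra.IsIntegral (Ash ⧸ maximalIdeal Ash) (Bsh ⧸ maximalIdeal Bsh))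
    exact Algebra.IsIntegral.isAlgebraic
  haveI : IsPurelyInseparable (ResidueField Ash) (ResidueField Bsh) := inferInstance
  haveI hML : IsLocalRing (Csh ⊗[Ash] Bsh) := isLocalRing_tensor Ash Bsh Csh
  haveI : HenselianLocalRing Csh :=
    Hensel.IsStrictHenselization.henselian (R := Localization.AtPrime pC)
  haveI : HenselianLocalRing Dsh :=
    Hensel.IsStrictHenselization.henselian (R := Localization.AtPrime pD)
  haveI hMH : HenselianLocalRing (Csh ⊗[Ash] Bsh) :=
    Groth.Agent.H3.henselianLocalRing_of_isIntegral_of_isLocalRing Csh (Csh ⊗[Ash] Bsh)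
  haveI hCM : IsLocalHom (algebraMap Csh (Csh ⊗[Ash] Bsh)) :=
    isLocalHom_algebraMap_of_isIntegral Csh _
  haveI : IsSepClosed (ResidueField Csh) :=
    (Hensel.IsStrictHenselization.isSepClosure (R := Localization.AtPrime pC)
      (S := Csh)).sep_closed
  haveI : Algebra.IsAlgebraic (ResidueField Csh) (ResidueField (Csh ⊗[Ash] Bsh)) := by
    haveI : Algebra.IsIntegral (ResidueField Csh) (ResidueField (Csh ⊗[Ash] Bsh)) :=
      inferInstanceAs (Algebra.IsIntegral (Csh ⧸ maximalIdeal Csh)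
        ((Csh ⊗[Ash] Bsh) ⧸ maximalIdeal (Csh ⊗[Ash] Bsh)))
    exact Algebra.IsIntegral.isAlgebraic
  haveI : IsSepClosed (ResidueField (Csh ⊗[Ash] Bsh)) :=
    Algebra.IsAlgebraic.isSepClosed (F := ResidueField Csh)
      (E := ResidueField (Csh ⊗[Ash] Bsh))
  -- the comparison map is local
  have hcompC : (thetaC Ash Bsh Csh Dsh).toRingHom.comp
      (algebraMap Csh (Csh ⊗[Ash] Bsh)) = algebraMap Csh Dsh := by
    refine RingHom.ext fun c => ?_
    rw [RingHom.comp_apply, algebraMap_left_apply]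
    exact hΘl c
  have hcmCD : (maximalIdeal Dsh).comap (algebraMap Csh Dsh) = maximalIdeal Csh :=
    ((IsLocalRing.local_hom_TFAE (algebraMap Csh Dsh)).out 0 4).mp
      ‹IsLocalHom (algebraMap Csh Dsh)›
  haveI hΘloc : IsLocalHom (thetaC Ash Bsh Csh Dsh).toRingHom := by
    refine ((IsLocalRing.local_hom_TFAE (thetaC Ash Bsh Csh Dsh).toRingHom).out 0 4).mpr ?_
    haveI hprime : ((maximalIdeal Dsh).comap (thetaC Ash Bsh Csh Dsh).toRingHom).IsPrime :=
      Ideal.comap_isPrime _ _
    have hmax : ((maximalIdeal Dsh).comap (thetaC Ash Bsh Csh Dsh).toRingHom).IsMaximal := by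
      refine Ideal.isMaximal_of_isIntegral_of_isMaximal_comap (R := Csh) _ ?_
      rw [Ideal.comap_comap, hcompC, hcmCD]
      exact maximalIdeal.isMaximal Csh
    exact IsLocalRing.eq_maximalIdeal hmax
  -- the two inclusions
  let kC : Csh →+* Csh ⊗[Ash] Bsh :=
    (Algebra.TensorProduct.includeLeft : Csh →ₐ[Ash] Csh ⊗[Ash] Bsh).toRingHom
  let kB : Bsh →+* Csh ⊗[Ash] Bsh :=
    (Algebra.TensorProduct.includeRight : Bsh →ₐ[Ash] Csh ⊗[Ash] Bsh).toRingHom
  have hkC : (thetaC Ash Bsh Csh Dsh).toRingHom.comp kC = algebraMap Csh Dsh :=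
    RingHom.ext fun c => hΘl c
  have hkB : (thetaC Ash Bsh Csh Dsh).toRingHom.comp kB = algebraMap Bsh Dsh :=
    RingHom.ext fun b => hΘr b
  haveI hkCloc : IsLocalHom kC := by
    haveI : IsLocalHom ((thetaC Ash Bsh Csh Dsh).toRingHom.comp kC) := by
      rw [hkC]
      infer_instance
    exact isLocalHom_of_comp kC (thetaC Ash Bsh Csh Dsh).toRingHom
  haveI hkBloc : IsLocalHom kB := by
    haveI : IsLocalHom ((thetaC Ash Bsh Csh Dsh).toRingHom.comp kB) := by
      rw [hkB]
      infer_instance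
    exact isLocalHom_of_comp kB (thetaC Ash Bsh Csh Dsh).toRingHom
  -- the map from `B ⊗[A] C`
  let fB : B →ₐ[A] Csh ⊗[Ash] Bsh :=
    { toRingHom := kB.comp (algebraMap B Bsh)
      commutes' := fun a => by
        show (1 : Csh) ⊗ₜ[Ash] algebraMap B Bsh (algebraMap A B a) =
          algebraMap A (Csh ⊗[Ash] Bsh) a
        rw [Algebra.TensorProduct.algebraMap_apply, ← IsScalarTower.algebraMap_apply A B Bsh,
          IsScalarTower.algebraMap_apply A Ash Bsh, ← tmul_one_eq_one_tmul,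
          ← IsScalarTower.algebraMap_apply A Ash Csh] }
  let fC : C →ₐ[A] Csh ⊗[Ash] Bsh :=
    { toRingHom := kC.comp (algebraMap C Csh)
      commutes' := fun a => by
        show (algebraMap C Csh (algebraMap A C a)) ⊗ₜ[Ash] (1 : Bsh) =
          algebraMap A (Csh ⊗[Ash] Bsh) a
        rw [Algebra.TensorProduct.algebraMap_apply, ← IsScalarTower.algebraMap_apply A C Csh] }
  let δ₀ : B ⊗[A] C →+* Csh ⊗[Ash] Bsh :=
    (Algebra.TensorProduct.lift fB fC (fun _ _ => Commute.all _ _)).toRingHom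
  have hδl : ∀ b : B, δ₀ (b ⊗ₜ 1) = (1 : Csh) ⊗ₜ[Ash] algebraMap B Bsh b := fun b => by
    show Algebra.TensorProduct.lift fB fC _ (b ⊗ₜ 1) = _
    rw [Algebra.TensorProduct.lift_tmul, map_one, mul_one]
    rfl
  have hδr : ∀ c : C, δ₀ (1 ⊗ₜ c) = (algebraMap C Csh c) ⊗ₜ[Ash] (1 : Bsh) := fun c => by
    show Algebra.TensorProduct.lift fB fC _ (1 ⊗ₜ c) = _
    rw [Algebra.TensorProduct.lift_tmul, map_one, one_mul]
    rfl
  have hΘδ : (thetaC Ash Bsh Csh Dsh).toRingHom.comp δ₀ = algebraMap (B ⊗[A] C) Dsh := by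
    apply ringHom_ext_tensor
    · intro b
      rw [RingHom.comp_apply, hδl]
      show thetaC Ash Bsh Csh Dsh (1 ⊗ₜ _) = _
      rw [hΘr, ← IsScalarTower.algebraMap_apply B Bsh Dsh,
        IsScalarTower.algebraMap_apply B (B ⊗[A] C) Dsh, Algebra.TensorProduct.algebraMap_apply,
        Algebra.algebraMap_self_apply]
    · intro c
      rw [RingHom.comp_apply, hδr]
      show thetaC Ash Bsh Csh Dsh (_ ⊗ₜ 1) = _
      rw [hΘl, hC]
  have hcomapD : (maximalIdeal Dsh).comap (algebraMap (B ⊗[A] C) Dsh) = pD :=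
    comap_maximalIdeal_eq pD Dsh
  have hΘcomap : (maximalIdeal Dsh).comap (thetaC Ash Bsh Csh Dsh).toRingHom =
      maximalIdeal (Csh ⊗[Ash] Bsh) :=
    ((IsLocalRing.local_hom_TFAE (thetaC Ash Bsh Csh Dsh).toRingHom).out 0 4).mp hΘloc
  have hδcomap : (maximalIdeal (Csh ⊗[Ash] Bsh)).comap δ₀ = pD := by
    rw [← hΘcomap, Ideal.comap_comap, hΘδ, hcomapD]
  -- residue fields
  have hunitD : ∀ s : pD.primeCompl, IsUnit (δ₀ s) := fun s =>
    IsLocalRing.notMem_maximalIdeal.mp
      (fun h => s.2 (hδcomap.le (show (s : B ⊗[A] C) ∈ Ideal.comap δ₀ _ from h)))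
  letI algDM : Algebra (Localization.AtPrime pD) (Csh ⊗[Ash] Bsh) :=
    (IsLocalization.lift hunitD).toAlgebra
  haveI : IsLocalHom (algebraMap (Localization.AtPrime pD) (Csh ⊗[Ash] Bsh)) :=
    isLocalHom_lift_of_comap_eq pD δ₀ hδcomap hunitD
  letI algMD : Algebra (Csh ⊗[Ash] Bsh) Dsh := (thetaC Ash Bsh Csh Dsh).toRingHom.toAlgebra
  haveI : IsLocalHom (algebraMap (Csh ⊗[Ash] Bsh) Dsh) := hΘloc
  haveI : IsScalarTower (Localization.AtPrime pD) (Csh ⊗[Ash] Bsh) Dsh :=
    IsScalarTower.of_algebraMap_eq (fun x => by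
      have h : (algebraMap (Csh ⊗[Ash] Bsh) Dsh).comp
          (algebraMap (Localization.AtPrime pD) (Csh ⊗[Ash] Bsh)) =
          algebraMap (Localization.AtPrime pD) Dsh := by
        apply IsLocalization.ringHom_ext pD.primeCompl
        refine RingHom.ext fun d => ?_
        rw [RingHom.comp_apply, RingHom.comp_apply, RingHom.comp_apply]
        show thetaC Ash Bsh Csh Dsh (IsLocalization.lift hunitD (algebraMap _ _ d)) = _
        rw [IsLocalization.lift_eq,
          ← IsScalarTower.algebraMap_apply (B ⊗[A] C) (Localization.AtPrime pD) Dsh]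
        exact RingHom.congr_fun hΘδ d
      exact (RingHom.congr_fun h x).symm)
  haveI : Algebra.IsSeparable (ResidueField (Localization.AtPrime pD)) (ResidueField Dsh) :=
    (Hensel.IsStrictHenselization.isSepClosure (R := Localization.AtPrime pD)
      (S := Dsh)).separable
  have hbij : Function.Bijective
      (algebraMap (ResidueField (Csh ⊗[Ash] Bsh)) (ResidueField Dsh)) :=
    bijective_algebraMap_residueField (Localization.AtPrime pD) (Csh ⊗[Ash] Bsh) Dsh
  let e := RingEquiv.ofBijective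
    (algebraMap (ResidueField (Csh ⊗[Ash] Bsh)) (ResidueField Dsh)) hbij
  have he : ∀ x : Csh ⊗[Ash] Bsh,
      e (residue _ x) = residue Dsh (thetaC Ash Bsh Csh Dsh x) := fun x => rfl
  -- the inverse
  obtain ⟨Λ, ⟨hΛ1, hΛ2⟩, -⟩ := existsUnique_of_comap_eq pD Dsh (T := Csh ⊗[Ash] Bsh) δ₀
    hδcomap e.symm.toRingHom (fun d => by
      show e.symm (residue Dsh (algebraMap (B ⊗[A] C) Dsh d)) = residue _ (δ₀ d)
      rw [← RingHom.congr_fun hΘδ d, RingHom.comp_apply]
      exact e.symm_apply_apply (residue _ (δ₀ d)))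
  have hCpart : Λ.comp (algebraMap Csh Dsh) = kC := by
    have hkCcm : (maximalIdeal (Csh ⊗[Ash] Bsh)).comap kC = maximalIdeal Csh :=
      ((IsLocalRing.local_hom_TFAE kC).out 0 4).mp hkCloc
    have huC : (maximalIdeal (Csh ⊗[Ash] Bsh)).comap (kC.comp (algebraMap C Csh)) = pC := by
      rw [← Ideal.comap_comap, hkCcm, comap_maximalIdeal_eq pC Csh]
    have hex := existsUnique_of_comap_eq pC Csh (T := Csh ⊗[Ash] Bsh)
      (kC.comp (algebraMap C Csh)) huC (ResidueField.map kC)
      (fun c => by rw [ResidueField.map_residue]; rfl)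
    refine hex.unique ⟨?_, ?_⟩ ⟨rfl, fun x => (ResidueField.map_residue kC x).symm⟩
    · refine RingHom.ext fun c => ?_
      rw [RingHom.comp_apply, RingHom.comp_apply, hC, ← RingHom.comp_apply Λ, hΛ1, hδr]
      rfl
    · intro x
      rw [RingHom.comp_apply, hΛ2, ResidueField.map_residue]
      show e.symm (residue Dsh (algebraMap Csh Dsh x)) = residue _ (kC x)
      rw [← hΘl x]
      exact e.symm_apply_apply (residue _ (kC x))
  have hBpart : Λ.comp (algebraMap Bsh Dsh) = kB := by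
    have hkBcm : (maximalIdeal (Csh ⊗[Ash] Bsh)).comap kB = maximalIdeal Bsh :=
      ((IsLocalRing.local_hom_TFAE kB).out 0 4).mp hkBloc
    have huB : (maximalIdeal (Csh ⊗[Ash] Bsh)).comap (kB.comp (algebraMap B Bsh)) = pB := by
      rw [← Ideal.comap_comap, hkBcm, comap_maximalIdeal_eq pB Bsh]
    have hex := existsUnique_of_comap_eq pB Bsh (T := Csh ⊗[Ash] Bsh)
      (kB.comp (algebraMap B Bsh)) huB (ResidueField.map kB)
      (fun b => by rw [ResidueField.map_residue]; rfl)
    refine hex.unique ⟨?_, ?_⟩ ⟨rfl, fun x => (ResidueField.map_residue kB x).symm⟩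
    · refine RingHom.ext fun b => ?_
      rw [RingHom.comp_apply, RingHom.comp_apply, ← IsScalarTower.algebraMap_apply B Bsh Dsh,
        IsScalarTower.algebraMap_apply B (B ⊗[A] C) Dsh, Algebra.TensorProduct.algebraMap_apply,
        Algebra.algebraMap_self_apply, ← RingHom.comp_apply Λ, hΛ1, hδl]
      rfl
    · intro x
      rw [RingHom.comp_apply, hΛ2, ResidueField.map_residue]
      show e.symm (residue Dsh (algebraMap Bsh Dsh x)) = residue _ (kB x)
      rw [← hΘr x]
      exact e.symm_apply_apply (residue _ (kB x))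
  have hleft : ∀ x, Λ (thetaC Ash Bsh Csh Dsh x) = x := by
    have h : Λ.comp (thetaC Ash Bsh Csh Dsh).toRingHom = RingHom.id _ := by
      apply ringHom_ext_tensor
      · intro c
        show Λ (thetaC Ash Bsh Csh Dsh (c ⊗ₜ 1)) = c ⊗ₜ 1
        rw [hΘl]
        exact RingHom.congr_fun hCpart c
      · intro b
        show Λ (thetaC Ash Bsh Csh Dsh (1 ⊗ₜ b)) = 1 ⊗ₜ b
        rw [hΘr]
        exact RingHom.congr_fun hBpart b
    exact fun x => RingHom.congr_fun h x
  have hright : ∀ y, thetaC Ash Bsh Csh Dsh (Λ y) = y := by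
    have hex := existsUnique_of_comap_eq pD Dsh (T := Dsh) (algebraMap (B ⊗[A] C) Dsh) hcomapD
      (RingHom.id _) (fun d => rfl)
    have h : (thetaC Ash Bsh Csh Dsh).toRingHom.comp Λ = RingHom.id Dsh := by
      refine hex.unique ⟨?_, ?_⟩ ⟨RingHom.id_comp _, fun x => rfl⟩
      · rw [RingHom.comp_assoc, hΛ1, hΘδ]
      · intro y
        show residue Dsh (thetaC Ash Bsh Csh Dsh (Λ y)) = residue Dsh y
        rw [← he, hΛ2]
        exact e.apply_symm_apply _
    exact fun y => RingHom.congr_fun h y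
  exact Function.bijective_iff_has_inverse.mpr ⟨Λ, hleft, hright⟩

include pB pC pD hC in
theorem bijective_theta [IsSepClosed (ResidueField Ash)] [Algebra.IsIntegral Ash Bsh] :
    Function.Bijective (Algebra.TensorProduct.lift (IsScalarTower.toAlgHom Ash Bsh Dsh)
      (IsScalarTower.toAlgHom Ash Csh Dsh) (fun _ _ => Commute.all _ _)) := by
  have h : ∀ x : Bsh ⊗[Ash] Csh,
      Algebra.TensorProduct.lift (IsScalarTower.toAlgHom Ash Bsh Dsh)
        (IsScalarTower.toAlgHom Ash Csh Dsh) (fun _ _ => Commute.all _ _) x =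
      thetaC Ash Bsh Csh Dsh (Algebra.TensorProduct.comm Ash Bsh Csh x) := by
    intro x
    induction x using TensorProduct.induction_on with
    | zero => rw [map_zero, map_zero, map_zero]
    | tmul b c =>
      rw [Algebra.TensorProduct.lift_tmul, Algebra.TensorProduct.comm_tmul,
        Algebra.TensorProduct.lift_tmul, mul_comm]
    | add x y hx hy => rw [map_add, map_add, map_add, hx, hy]
  have h2 : ⇑(Algebra.TensorProduct.lift (IsScalarTower.toAlgHom Ash Bsh Dsh)
      (IsScalarTower.toAlgHom Ash Csh Dsh) (fun _ _ => Commute.all _ _)) =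
      ⇑(thetaC Ash Bsh Csh Dsh) ∘ ⇑(Algebra.TensorProduct.comm Ash Bsh Csh) := funext h
  rw [h2]
  exact (bijective_thetaC A B C pB pC pD Ash Bsh Csh Dsh hC).comp
    (Algebra.TensorProduct.comm Ash Bsh Csh).bijective

end TensorBij

end Groth.Agent.H47.HensTensor
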