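import Mathlib
import Groth.Agent.H10.WEtField

/-!
# Idempotents of the generic fibre of a weakly étale algebra over a valuation ring

If `V` is a valuation ring and `B` a weakly étale `V`-algebra, every idempotent of `B ⊗ Frac V`
comes from `B`. We state this inside `B`: if `b * b = s • b` with `s ≠ 0` then `b ∈ s B`.
-/

set_option autoImplicit false
universe u
open TensorProduct

namespace Groth.Agent.H47.OlivierVal

/-- Purity of the kernel of the multiplication map of a weakly étale algebra. -/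
theorem exists_eq_mul_of_weaklyEtale {R S : Type*} [CommRing R] [CommRing S] [Algebra R S]
    [Algebra.WeaklyEtale R S] (x : S ⊗[R] S) (hx : Algebra.TensorProduct.lmul' R x = 0) :
    ∃ y : S ⊗[R] S, Algebra.TensorProduct.lmul' R y = 0 ∧ x = x * y := by
  have hs : Function.Surjective (Algebra.TensorProduct.lmul' R (S := S)).toRingHom := fun b =>
    ⟨1 ⊗ₜ b, by simp⟩
  exact Groth.Agent.H10.WEtField.exists_eq_mul_of_flat_surjective
    (Algebra.TensorProduct.lmul' R (S := S)).toRingHom (Algebra.WeaklyEtale.flat_lmul' R S) hs hx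

section

variable {V : Type*} [CommRing V] [IsDomain V] {B : Type*} [CommRing B] [Algebra V B]
  [Module.Flat V B]

theorem smul_eq_zero_of_flat {v : V} (hv : v ≠ 0) {x : B} (h : v • x = 0) : x = 0 := by
  have hr : v ∈ nonZeroDivisors V := mem_nonZeroDivisors_of_ne_zero hv
  exact Module.Flat.isSMulRegular_of_nonZeroDivisors hr (by simpa using h)

/-- The annihilator-type ideal `{z | z * b = 0}`. -/
def annIdeal (b : B) : Ideal B := LinearMap.ker (LinearMap.mulRight B b)

theorem mem_annIdeal {b z : B} : z ∈ annIdeal b ↔ z * b = 0 := by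
  simp [annIdeal, LinearMap.mem_ker]

variable [ValuationRing V]

theorem flat_quotient_annIdeal (b : B) : Module.Flat V (B ⧸ annIdeal b) := by
  rw [Module.Flat.flat_iff_torsion_eq_bot_of_isBezout, eq_bot_iff]
  rintro x ⟨⟨v, hv⟩, hvx⟩
  obtain ⟨z, rfl⟩ := Ideal.Quotient.mk_surjective x
  have hv0 : v ≠ 0 := nonZeroDivisors.ne_zero hv
  have h1 : Ideal.Quotient.mk (annIdeal b) (v • z) = 0 := by
    have : (v • (Ideal.Quotient.mk (annIdeal b) z) : B ⧸ annIdeal b) =
        Ideal.Quotient.mk (annIdeal b) (v • z) := rfl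
    rw [← this]
    exact hvx
  rw [Ideal.Quotient.eq_zero_iff_mem, mem_annIdeal, smul_mul_assoc] at h1
  have h2 : z * b = 0 := smul_eq_zero_of_flat hv0 h1
  show Ideal.Quotient.mk (annIdeal b) z = 0
  rw [Ideal.Quotient.eq_zero_iff_mem, mem_annIdeal]
  exact h2

theorem mul_mk_injective {b : B} {s : V} (hs : s ≠ 0) (hb : b * b = s • b) :
    Function.Injective (LinearMap.mulLeft V (Ideal.Quotient.mk (annIdeal b) b)) := by
  rw [injective_iff_map_eq_zero]
  intro x hx
  obtain ⟨z, rfl⟩ := Ideal.Quotient.mk_surjective x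
  rw [LinearMap.mulLeft_apply, ← map_mul, Ideal.Quotient.eq_zero_iff_mem, mem_annIdeal] at hx
  have h1 : s • (z * b) = 0 := by
    rw [← mul_smul_comm, ← hb, ← mul_assoc, mul_comm z b]
    exact hx
  rw [Ideal.Quotient.eq_zero_iff_mem, mem_annIdeal]
  exact smul_eq_zero_of_flat hs h1

end

/-- **Key lemma over valuation rings.** -/
theorem exists_eq_smul_of_valuationRing {V : Type u} [CommRing V] [IsDomain V] [ValuationRing V]
    {B : Type u} [CommRing B] [Algebra V B] [Algebra.WeaklyEtale V B]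
    (b : B) (s : V) (hs : s ≠ 0) (hb : b * b = s • b) : ∃ z : B, b = s • z := by
  classical
  set b' : B := s • (1 : B) - b with hb'
  have hbb' : b * b' = 0 := by
    rw [hb', mul_sub, hb, mul_smul_comm, mul_one, sub_self]
  have hb'b' : b' * b' = s • b' := by
    rw [hb', sub_mul, mul_sub, mul_sub, hb, smul_sub]
    simp only [smul_mul_assoc, mul_smul_comm, one_mul, mul_one, smul_smul]
    abel
  set K₁ : Ideal B := annIdeal b with hK₁
  set K₂ : Ideal B := annIdeal b' with hK₂
  by_cases htop : K₁ ⊔ K₂ = ⊤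
  · have h1 : (1 : B) ∈ K₁ ⊔ K₂ := htop ▸ Submodule.mem_top
    obtain ⟨z₁, hz₁, z₂, hz₂, h12⟩ := Submodule.mem_sup.mp h1
    rw [mem_annIdeal] at hz₁ hz₂
    refine ⟨z₂, ?_⟩
    have e1 : b = z₂ * b := by
      calc b = (z₁ + z₂) * b := by rw [h12, one_mul]
        _ = z₂ * b := by rw [add_mul, hz₁, zero_add]
    have e2 : z₂ * b = s • z₂ := by
      have : z₂ * (s • (1 : B) - b) = 0 := hz₂
      rw [mul_sub, mul_smul_comm, mul_one, sub_eq_zero] at this
      exact this.symm
    rw [← e2]
    exact e1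
  · exfalso
    obtain ⟨n, hn, hle⟩ := Ideal.exists_le_maximal _ htop
    have hle₁ : K₁ ≤ n := le_sup_left.trans hle
    have hle₂ : K₂ ≤ n := le_sup_right.trans hle
    haveI : Module.Flat V (B ⧸ K₁) := flat_quotient_annIdeal b
    haveI : Module.Flat V (B ⧸ K₂) := flat_quotient_annIdeal b'
    let T := (B ⧸ K₁) ⊗[V] (B ⧸ K₂)
    let π : B ⊗[V] B →ₐ[V] T :=
      Algebra.TensorProduct.map (Ideal.Quotient.mkₐ V K₁) (Ideal.Quotient.mkₐ V K₂)
    let ε : T →ₐ[V] B ⧸ n :=
      Algebra.TensorProduct.productMap (Ideal.Quotient.factorₐ V hle₁)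
        (Ideal.Quotient.factorₐ V hle₂)
    have hεπ : ε.comp π = (Ideal.Quotient.mkₐ V n).comp (Algebra.TensorProduct.lmul' V) := by
      apply Algebra.TensorProduct.ext'
      intro x y
      show ε (π (x ⊗ₜ[V] y)) = Ideal.Quotient.mk n (Algebra.TensorProduct.lmul' V (x ⊗ₜ[V] y))
      rw [Algebra.TensorProduct.map_tmul, Algebra.TensorProduct.productMap_apply_tmul,
        Algebra.TensorProduct.lmul'_apply_tmul, map_mul]
      rfl
    -- the element x and purity
    set x : B ⊗[V] B := b ⊗ₜ 1 - 1 ⊗ₜ b with hx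
    have hxJ : Algebra.TensorProduct.lmul' V x = 0 := by simp [hx]
    obtain ⟨y, hyJ, hxy⟩ := exists_eq_mul_of_weaklyEtale x hxJ
    set c : B ⊗[V] B := 1 - y with hc
    have hcx : c * x = 0 := by
      rw [hc, sub_mul, one_mul, mul_comm y x, ← hxy, sub_self]
    have hcbb : c * (b ⊗ₜ[V] b') = 0 := by
      have h2 : x * ((1 : B) ⊗ₜ[V] b') = b ⊗ₜ[V] b' := by
        rw [hx, sub_mul, Algebra.TensorProduct.tmul_mul_tmul, Algebra.TensorProduct.tmul_mul_tmul,
          one_mul, mul_one, one_mul, hbb', tmul_zero, sub_zero]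
      rw [← h2, ← mul_assoc, hcx, zero_mul]
    -- pass to T
    have hπc : π c * ((Ideal.Quotient.mk K₁ b) ⊗ₜ[V] (Ideal.Quotient.mk K₂ b')) = 0 := by
      have := congrArg π hcbb
      rw [map_mul, map_zero, Algebra.TensorProduct.map_tmul] at this
      exact this
    have hinj₁ : Function.Injective
        ((LinearMap.mulLeft V (Ideal.Quotient.mk K₁ b)).rTensor (B ⧸ K₂)) :=
      Module.Flat.rTensor_preserves_injective_linearMap _ (mul_mk_injective hs hb)
    have hinj₂ : Function.Injective
        ((LinearMap.mulLeft V (Ideal.Quotient.mk K₂ b')).lTensor (B ⧸ K₁)) :=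
      Module.Flat.lTensor_preserves_injective_linearMap _ (mul_mk_injective hs hb'b')
    have hmul₁ : ∀ t : T, (LinearMap.mulLeft V (Ideal.Quotient.mk K₁ b)).rTensor (B ⧸ K₂) t =
        ((Ideal.Quotient.mk K₁ b) ⊗ₜ[V] (1 : B ⧸ K₂)) * t := by
      intro t
      induction t using TensorProduct.induction_on with
      | zero => simp
      | tmul u v =>
        rw [LinearMap.rTensor_tmul, LinearMap.mulLeft_apply,
          Algebra.TensorProduct.tmul_mul_tmul, one_mul]
      | add t₁ t₂ h₁ h₂ => rw [map_add, h₁, h₂, mul_add]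
    have hmul₂ : ∀ t : T, (LinearMap.mulLeft V (Ideal.Quotient.mk K₂ b')).lTensor (B ⧸ K₁) t =
        ((1 : B ⧸ K₁) ⊗ₜ[V] (Ideal.Quotient.mk K₂ b')) * t := by
      intro t
      induction t using TensorProduct.induction_on with
      | zero => simp
      | tmul u v =>
        rw [LinearMap.lTensor_tmul, LinearMap.mulLeft_apply,
          Algebra.TensorProduct.tmul_mul_tmul, one_mul]
      | add t₁ t₂ h₁ h₂ => rw [map_add, h₁, h₂, mul_add]
    have hπc0 : π c = 0 := by
      apply hinj₂
      rw [map_zero, hmul₂]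
      apply hinj₁
      rw [map_zero, hmul₁, ← mul_assoc, Algebra.TensorProduct.tmul_mul_tmul, mul_one, one_mul,
        mul_comm]
      exact hπc
    have h1 : ε (π c) = 1 := by
      have := AlgHom.congr_fun hεπ c
      rw [AlgHom.comp_apply] at this
      rw [this, AlgHom.comp_apply, hc, map_sub, map_one, hyJ, sub_zero, map_one]
    rw [hπc0, map_zero] at h1
    haveI := hn
    exact zero_ne_one h1

end Groth.Agent.H47.OlivierVal
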