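import Groth.Agent.H47.HensK3
import Groth.Agent.H47.OlivierVal

/-!
# The (strict) henselization is weakly étale
-/

set_option autoImplicit false
universe u
open CategoryTheory CategoryTheory.Limits TensorProduct

namespace Groth.Agent.H47.HensK

open EtPt

section Colimit

variable (R : Type u) [CommRing R] (K : Type u) [Field K] [Algebra R K]

/-- The maps `X.A ⊗ X.A → H ⊗ H`. -/
noncomputable def μ (X : EtPt R K) : X.A ⊗[R] X.A →ₐ[R] H R K ⊗[R] H R K :=
  Algebra.TensorProduct.map (ιₐ R K X) (ιₐ R K X)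

theorem μ_tmul (X : EtPt R K) (a b : X.A) :
    μ R K X (a ⊗ₜ[R] b) = ι R K X a ⊗ₜ[R] ι R K X b := rfl

theorem μ_map {X Z : EtPt R K} (u : X ⟶ Z) (t : X.A ⊗[R] X.A) :
    μ R K Z (Algebra.TensorProduct.map u.f u.f t) = μ R K X t := by
  have : (μ R K Z).comp (Algebra.TensorProduct.map u.f u.f) = μ R K X := by
    apply Algebra.TensorProduct.ext'
    intro a b
    rw [AlgHom.comp_apply, Algebra.TensorProduct.map_tmul, μ_tmul, μ_tmul, ι_map, ι_map]
  exact AlgHom.congr_fun this t

theorem lmul'_μ (X : EtPt R K) (t : X.A ⊗[R] X.A) :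
    Algebra.TensorProduct.lmul' R (μ R K X t) = ι R K X (Algebra.TensorProduct.lmul' R t) := by
  have : (Algebra.TensorProduct.lmul' R).comp (μ R K X) =
      (ιₐ R K X).comp (Algebra.TensorProduct.lmul' R) := by
    apply Algebra.TensorProduct.ext'
    intro a b
    rw [AlgHom.comp_apply, AlgHom.comp_apply, μ_tmul, Algebra.TensorProduct.lmul'_apply_tmul,
      Algebra.TensorProduct.lmul'_apply_tmul, map_mul]
    rfl
  exact AlgHom.congr_fun this t

theorem lmul'_map {X Z : EtPt R K} (u : X ⟶ Z) (t : X.A ⊗[R] X.A) :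
    Algebra.TensorProduct.lmul' R (Algebra.TensorProduct.map u.f u.f t) =
      u.f (Algebra.TensorProduct.lmul' R t) := by
  have : (Algebra.TensorProduct.lmul' R).comp (Algebra.TensorProduct.map u.f u.f) =
      u.f.comp (Algebra.TensorProduct.lmul' R) := by
    apply Algebra.TensorProduct.ext'
    intro a b
    rw [AlgHom.comp_apply, AlgHom.comp_apply, Algebra.TensorProduct.map_tmul,
      Algebra.TensorProduct.lmul'_apply_tmul, Algebra.TensorProduct.lmul'_apply_tmul, map_mul]
  exact AlgHom.congr_fun this t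

theorem exists_rep_tensor₂ (x : H R K ⊗[R] H R K) :
    ∃ (X : EtPt R K) (t : X.A ⊗[R] X.A), μ R K X t = x := by
  classical
  induction x using TensorProduct.induction_on with
  | zero => exact ⟨Classical.arbitrary _, 0, map_zero _⟩
  | tmul h₁ h₂ =>
    obtain ⟨X, hX⟩ := exists_rep_finset R K {h₁, h₂}
    obtain ⟨a₁, rfl⟩ := hX h₁ (by simp)
    obtain ⟨a₂, rfl⟩ := hX h₂ (by simp)
    exact ⟨X, a₁ ⊗ₜ a₂, rfl⟩
  | add x y hx hy =>
    obtain ⟨X, tX, rfl⟩ := hx
    obtain ⟨Y, tY, rfl⟩ := hy
    obtain ⟨Z, u, v, -⟩ := cocone_objs X Y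
    exact ⟨Z, Algebra.TensorProduct.map u.f u.f tX + Algebra.TensorProduct.map v.f v.f tY,
      by rw [map_add, μ_map, μ_map]⟩

/-- The colimit `H R K` of étale algebras is weakly étale over `R`. -/
theorem weaklyEtale_H : Algebra.WeaklyEtale R (H R K) := by
  refine ⟨inferInstance, ?_⟩
  apply Groth.Agent.H10.WEtField.flat_of_forall_exists_eq_mul
  · intro h
    exact ⟨h ⊗ₜ 1, by simp⟩
  · intro x hx
    obtain ⟨X, t, rfl⟩ := exists_rep_tensor₂ R K x
    have h0 : ι R K X (Algebra.TensorProduct.lmul' R t) = ι R K X 0 := by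
      rw [map_zero, ← lmul'_μ]
      exact hx
    obtain ⟨Z, u, v, huv⟩ := (ι_eq_iff R K _ _).mp h0
    rw [map_zero] at huv
    have h1 : Algebra.TensorProduct.lmul' R (Algebra.TensorProduct.map u.f u.f t) = 0 := by
      rw [lmul'_map, huv]
    obtain ⟨y', hy', hty⟩ := Groth.Agent.H47.OlivierVal.exists_eq_mul_of_weaklyEtale _ h1
    refine ⟨μ R K Z y', ?_, ?_⟩
    · show Algebra.TensorProduct.lmul' R (μ R K Z y') = 0
      rw [lmul'_μ, hy', map_zero]
    · rw [← μ_map R K u t, ← map_mul, ← hty]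

end Colimit

/-- Weakly étale algebras transport along algebra isomorphisms. -/
theorem weaklyEtale_of_algEquiv {R S S' : Type*} [CommRing R] [CommRing S] [CommRing S']
    [Algebra R S] [Algebra R S'] [Algebra.WeaklyEtale R S] (e : S ≃ₐ[R] S') :
    Algebra.WeaklyEtale R S' := by
  refine ⟨Module.Flat.of_linearEquiv e.symm.toLinearEquiv, ?_⟩
  have h : Algebra.TensorProduct.lmul' R (S := S') =
      (e.toAlgHom.comp (Algebra.TensorProduct.lmul' R (S := S))).comp
        (Algebra.TensorProduct.congr e.symm e.symm).toAlgHom := by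
    apply Algebra.TensorProduct.ext'
    intro a b
    simp
  have h' : (Algebra.TensorProduct.lmul' R (S := S')).toRingHom =
      (e.toAlgHom.toRingHom.comp (Algebra.TensorProduct.lmul' R (S := S)).toRingHom).comp
        (Algebra.TensorProduct.congr e.symm e.symm).toAlgHom.toRingHom := by
    rw [h]
    rfl
  show (Algebra.TensorProduct.lmul' R (S := S')).toRingHom.Flat
  rw [h']
  refine RingHom.Flat.comp (RingHom.Flat.of_bijective
    (Algebra.TensorProduct.congr e.symm e.symm).bijective) ?_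
  exact RingHom.Flat.comp (Algebra.WeaklyEtale.flat_lmul' R S)
    (RingHom.Flat.of_bijective e.bijective)

/-- Any strict henselization is weakly étale. -/
theorem weaklyEtale_of_isStrictHenselization (R S : Type u) [CommRing R] [IsLocalRing R]
    [CommRing S] [IsLocalRing S] [Algebra R S] [IsLocalHom (algebraMap R S)]
    [Hensel.IsStrictHenselization R S] : Algebra.WeaklyEtale R S := by
  obtain ⟨e⟩ := exists_algEquiv_Hsh R S
  haveI : Algebra.WeaklyEtale R (Hsh R) := weaklyEtale_H R (Ksep R)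
  exact weaklyEtale_of_algEquiv e

end Groth.Agent.H47.HensK
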