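import Mathlib
import Groth.Prelude.Def_EtCore
import Groth.Agent.H4.NormalConst
import Groth.Agent.H75.NC_TOP

set_option autoImplicit false
open CategoryTheory CategoryTheory.Limits AlgebraicGeometry Opposite
universe u

namespace Groth.Agent.H47.NCMain

open Groth.Agent.H4 Groth.Agent.H4.SkyH1 Groth.Agent.H4.GenStalk Groth.Agent.H4.NormalConst

section LC

variable {Y : Scheme.{u}}

/-- a common refinement of two étale neighbourhoods of a point, keeping track of the point -/
theorem exists_common_ref' {T V₁ V₂ : Y.Etale} (k₁ : V₁ ⟶ T) (k₂ : V₂ ⟶ T) (v₁ : V₁.left)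
    (v₂ : V₂.left) (h : k₁.left.base v₁ = k₂.left.base v₂) :
    ∃ (W : Y.Etale) (p₁ : W ⟶ V₁) (p₂ : W ⟶ V₂) (w : W.left), p₁ ≫ k₁ = p₂ ≫ k₂ ∧
      p₁.left.base w = v₁ ∧ p₂.left.base w = v₂ := by
  let W : Y.Etale := Scheme.Etale.mk (pullback.fst k₁.left k₂.left ≫ V₁.hom)
  have hc : pullback.snd k₁.left k₂.left ≫ V₂.hom = pullback.fst k₁.left k₂.left ≫ V₁.hom := by
    have h1 : k₁.left ≫ T.hom = V₁.hom := MorphismProperty.Over.w k₁
    have h2 : k₂.left ≫ T.hom = V₂.hom := MorphismProperty.Over.w k₂
    rw [← h1, ← h2, ← Category.assoc, ← Category.assoc, pullback.condition]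
  let p₁ : W ⟶ V₁ := MorphismProperty.Over.homMk (pullback.fst k₁.left k₂.left) rfl trivial
  let p₂ : W ⟶ V₂ := MorphismProperty.Over.homMk (pullback.snd k₁.left k₂.left) hc trivial
  obtain ⟨w, hw1, hw2⟩ :=
    Scheme.Pullback.exists_preimage_pullback (f := k₁.left) (g := k₂.left) v₁ v₂ h
  refine ⟨W, p₁, p₂, w, ?_, hw1, hw2⟩
  apply MorphismProperty.Over.Hom.ext
  exact pullback.condition

/-- the "value function" of a section of a constant sheaf -/
theorem exists_locallyConstant_section (T : Y.Etale) (A : AddCommGrpCat.{u + 1})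
    (t : ToType ((cs (X := Y) A).obj.obj (op T))) :
    ∃ ax : T.left → ToType A, IsLocallyConstant ax ∧
      ∀ (T' : Y.Etale) (k : T' ⟶ T) (a : ToType A),
        (∀ x : T'.left, ax (k.left.base x) = a) →
        ((cs (X := Y) A).obj.map k.op).hom t = (etaU A T').hom a := by
  choose Vx kx vx ax hvx hax using fun x : T.left => exists_const_nbhd A T t x
  have key : ∀ (x y : T.left) (v : (Vx x).left), (kx x).left.base v = y → ax x = ax y := by
    intro x y v hv
    obtain ⟨W, p₁, p₂, w, hp⟩ :=
      exists_common_ref (kx x) (kx y) v (vx y) (hv.trans (hvx y).symm)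
    apply etaU_injective A W w
    have h1 : ((cs (X := Y) A).obj.map (p₁ ≫ kx x).op).hom t = (etaU A W).hom (ax x) := by
      rw [← map_comp_apply _ (kx x) p₁ t, hax x]
      exact congrArg (fun f => f.hom (ax x)) (etaU_map A p₁)
    have h2 : ((cs (X := Y) A).obj.map (p₂ ≫ kx y).op).hom t = (etaU A W).hom (ax y) := by
      rw [← map_comp_apply _ (kx y) p₂ t, hax y]
      exact congrArg (fun f => f.hom (ax y)) (etaU_map A p₂)
    rw [← h1, ← h2, hp]
  have hlc : IsLocallyConstant ax := by
    rw [IsLocallyConstant.iff_exists_open]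
    intro x
    refine ⟨Set.range (kx x).left.base, (kx x).left.isOpenMap.isOpen_range, ⟨vx x, hvx x⟩, ?_⟩
    rintro _ ⟨v, rfl⟩
    exact (key x _ v rfl).symm
  refine ⟨ax, hlc, ?_⟩
  intro T' k a hka
  apply eq_of_locally_eq (cs (X := Y) A) T'
  intro b
  obtain ⟨W, p₁, p₂, w, hp, -, hw2⟩ :=
    exists_common_ref' (kx (k.left.base b)) k (vx (k.left.base b)) b (hvx (k.left.base b))
  refine ⟨W, p₂, w, hw2, ?_⟩
  · show ((cs (X := Y) A).obj.map p₂.op).hom (((cs (X := Y) A).obj.map k.op).hom t) =
      ((cs (X := Y) A).obj.map p₂.op).hom ((etaU A T').hom a)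
    rw [map_comp_apply _ k p₂ t, ← hp, ← map_comp_apply _ (kx (k.left.base b)) p₁ t,
      hax (k.left.base b), hka b]
    exact (congrArg (fun f => f.hom a) (etaU_map A p₁)).trans
      (congrArg (fun f => f.hom a) (etaU_map A p₂)).symm

end LC

section Unit

/-- `X` normal, `j : U ⟶ X` a quasi-compact open immersion with dense image: the unit
`const_X M ⟶ j_* j^* const_X M` is an isomorphism. -/
theorem isIso_unit_const_of_dense (X U : Scheme.{u})
    (hX : ∀ x : X, IsDomain (X.presheaf.stalk x) ∧ IsIntegrallyClosed (X.presheaf.stalk x))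
    (j : U ⟶ X) [IsOpenImmersion j] [QuasiCompact j] (hj : Dense (Set.range j))
    (M : Type) [AddCommGroup M] :
    IsIso ((EtCoh.pullPushAdj j).unit.app (EtCoh.const X M)) := by
  let A : AddCommGrpCat.{u + 1} := AddCommGrpCat.of (ULift.{u + 1} M)
  have hne : ∀ (V : X.Etale) (_ : V.left), ∃ _ : ((EtCoh.bc j).obj V).left, True := by
    intro V v
    have hopen : IsOpen (Set.range V.hom.base) := V.hom.isOpenMap.isOpen_range
    obtain ⟨x, ⟨v', hv'⟩, ⟨y, hy⟩⟩ := hj.inter_open_nonempty _ hopen ⟨_, ⟨v, rfl⟩⟩
    obtain ⟨w, -, -⟩ := Scheme.Pullback.exists_preimage_pullback (f := V.hom) (g := j) v' y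
      (hv'.trans hy.symm)
    exact ⟨w, trivial⟩
  have hθ := theta_const j M
  haveI : Mono (theta j M) := by
    haveI : ∀ T, Mono ((theta j M).hom.app T) := by
      intro T
      induction T using Opposite.rec with
      | _ V =>
        apply (AddCommGrpCat.mono_iff_injective _).2
        apply (injective_iff_map_eq_zero _).2
        intro s hs
        apply eq_of_locally_eq (cs (X := X) A) V
        intro v
        obtain ⟨V', k, v', a, hv', ha⟩ := exists_const_nbhd A V s v
        refine ⟨V', k, v', hv', ?_⟩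
        have hn := congrArg (fun f => f.hom s) ((theta j M).hom.naturality k.op)
        have hs' : ((theta j M).hom.app (op V)).hom s =
            (0 : ToType (((EtCoh.push j).obj (EtCoh.const U M)).obj.obj (op V))) := hs
        have h2 : ((theta j M).hom.app (op V')).hom ((etaU A V').hom a) = 0 := by
          rw [← ha]
          refine hn.trans ?_
          show (((EtCoh.push j).obj (EtCoh.const U M)).obj.map k.op).hom
            (((theta j M).hom.app (op V)).hom s) = 0
          rw [hs']
          exact map_zero _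
        rw [hθ] at h2
        obtain ⟨w, -⟩ := hne V' v'
        have ha0 : a = 0 := etaU_injective A _ w (h2.trans (map_zero _).symm)
        show ((cs (X := X) A).obj.map k.op).hom s = ((cs (X := X) A).obj.map k.op).hom 0
        rw [ha, ha0, map_zero, map_zero]
    haveI : Mono (theta j M).hom := NatTrans.mono_of_mono_app _
    exact Sheaf.Hom.mono_of_presheaf_mono _ _ _
  haveI : Sheaf.IsLocallySurjective (theta j M) := by
    constructor
    intro V t
    apply mem_smallEtaleTopology_of_forall
    intro v
    let T : U.Etale := (EtCoh.bc j).obj V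
    let p : T.left ⟶ V.left := pullback.fst V.hom j
    haveI : IsOpenImmersion p := MorphismProperty.pullback_fst _ _ ‹IsOpenImmersion j›
    haveI : QuasiCompact p := MorphismProperty.pullback_fst _ _ ‹QuasiCompact j›
    have hd : Dense (Set.range p.base) := by
      have hr : Set.range p.base = V.hom.base ⁻¹' Set.range j.base :=
        Scheme.Pullback.range_fst V.hom j
      rw [hr]
      exact hj.preimage V.hom.isOpenMap
    have hdom : ∀ y : V.left, IsDomain (V.left.presheaf.stalk y) := fun y =>
      (Groth.Agent.H68.FEtNormal.normal_stalk_of_etale V.hom y (hX _).1 (hX _).2).1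
    let t₀ : ToType ((cs (X := U) A).obj.obj (op T)) := t
    obtain ⟨ax, hlc, hax⟩ := exists_locallyConstant_section T A t₀
    obtain ⟨O, a, hvO, hOa⟩ :=
      Groth.Agent.H75.NC_TOP.exists_nbhd_const p hd hdom ax hlc v
    let V'' : X.Etale := res V O
    let k : V'' ⟶ V := resMap V O
    let T'' : U.Etale := (EtCoh.bc j).obj V''
    let t' : ToType ((cs (X := U) A).obj.obj (op T'')) :=
      (((EtCoh.push j).obj (EtCoh.const U M)).obj.map k.op).hom t
    have ha : t' = (etaU A T'').hom a := by
      apply hax T'' ((EtCoh.bc j).map k) a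
      intro x
      apply hOa
      have hw := (EtCoh.isPullback_bc_map j k).w
      have h1 : p.base (((EtCoh.bc j).map k).left.base x) =
          k.left.base ((pullback.fst V''.hom j).base x) := by
        exact congrArg (fun f => f.base x) hw
      rw [h1, resMap_left]
      exact ((pullback.fst V''.hom j).base x).2
    refine ⟨V'', k, ⟨v, hvO⟩, ⟨(etaU A V'').hom a, ?_⟩, rfl⟩
    exact (hθ V'' a).trans ha.symm
  haveI : Epi (theta j M) := Sheaf.epi_of_isLocallySurjective _
  haveI : IsIso (theta j M) := isIso_of_mono_of_epi _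
  have h : IsIso ((EtCoh.pullPushAdj j).unit.app (EtCoh.const X M) ≫
      (EtCoh.push j).map (EtCore.pullConst j M).hom) := by
    change IsIso (theta j M)
    infer_instance
  exact IsIso.of_isIso_comp_right ((EtCoh.pullPushAdj j).unit.app (EtCoh.const X M))
    ((EtCoh.push j).map (EtCore.pullConst j M).hom)

end Unit

end Groth.Agent.H47.NCMain
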