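import Mathlib
import Groth.Prelude

/-!
# Normality along a principal prime divisor (no Noetherian hypotheses)

* `mem_range_of_isIntegral_away`: if `π` is a non-zero-divisor of `S` with `S/πS` reduced then `S`
  is integrally closed in `S[1/π]`.
* `isDomain_away_of_isNormalRing`: if `S` is local, `π ∈ 𝔪` a non-zero-divisor with `πS` prime and
  `S[1/π]` a normal ring, then `S[1/π]` is a domain.  (`π`-adic separatedness is NOT assumed, and is
  false in the applications.)
-/

set_option autoImplicit false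
set_option maxHeartbeats 400000
set_option linter.unusedVariables false
set_option linter.unusedSectionVars false
set_option linter.style.haveILetI false

universe u

namespace Groth.Agent.H47.NormalDVR

open Polynomial

/-- If `π` is a non-zero-divisor and `(π)` is a radical ideal, then `S` is integrally closed in
`S[1/π]`. -/
theorem mem_range_of_isIntegral_away {S T : Type*} [CommRing S] [CommRing T] [Algebra S T]
    (π : S) [IsLocalization.Away π T] (hπ : π ∈ nonZeroDivisors S)
    (hrad : (Ideal.span {π}).IsRadical) (y : T) (hy : IsIntegral S y) :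
    y ∈ (algebraMap S T).range := by
  have hinj : Function.Injective (algebraMap S T) :=
    IsLocalization.injective T (M := Submonoid.powers π) (Submonoid.powers_le.mpr hπ)
  have hu : IsUnit (algebraMap S T π) := IsLocalization.Away.algebraMap_isUnit π
  obtain ⟨p, hp, hpy⟩ := hy
  have key : ∀ n : ℕ, ∀ c : S, y * (algebraMap S T π) ^ n = algebraMap S T c →
      y ∈ (algebraMap S T).range := by
    intro n
    induction n with
    | zero =>
      intro c hc
      exact ⟨c, by rw [← hc, pow_zero, mul_one]⟩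
    | succ n ih =>
      intro c hc
      have h1 : Polynomial.eval₂ (algebraMap S T) (algebraMap S T (π ^ (n + 1)) * y)
          (p.scaleRoots (π ^ (n + 1))) = 0 := by
        rw [Polynomial.scaleRoots_eval₂_mul, hpy, mul_zero]
      have h2 : algebraMap S T (π ^ (n + 1)) * y = algebraMap S T c := by
        rw [map_pow, mul_comm]; exact hc
      rw [h2, Polynomial.eval₂_at_apply] at h1
      have h3 : Polynomial.eval c (p.scaleRoots (π ^ (n + 1))) = 0 :=
        hinj (by rw [h1, map_zero])
      have hlead : (p.scaleRoots (π ^ (n + 1))).coeff p.natDegree = 1 := by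
        rw [Polynomial.coeff_scaleRoots, hp.coeff_natDegree, Nat.sub_self, pow_zero, mul_one]
      have h4 : c ^ p.natDegree ∈ Ideal.span {π} := by
        rw [Polynomial.eval_eq_sum_range, Polynomial.natDegree_scaleRoots,
          Finset.sum_range_succ, hlead, one_mul] at h3
        have h5 : c ^ p.natDegree = - ∑ i ∈ Finset.range p.natDegree,
            (p.scaleRoots (π ^ (n + 1))).coeff i * c ^ i := eq_neg_of_add_eq_zero_right h3
        rw [h5]
        refine (Ideal.neg_mem_iff _).mpr (Ideal.sum_mem _ fun i hi => ?_)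
        rw [Polynomial.coeff_scaleRoots]
        have hi' : i < p.natDegree := Finset.mem_range.mp hi
        have hdvd : π ∣ (π ^ (n + 1)) ^ (p.natDegree - i) :=
          dvd_pow (dvd_pow_self π (Nat.succ_ne_zero n)) (Nat.sub_ne_zero_of_lt hi')
        exact Ideal.mul_mem_right _ _
          (Ideal.mul_mem_left _ _ (Ideal.mem_span_singleton.mpr hdvd))
      have h5 : c ∈ Ideal.span {π} :=
        hrad (show c ∈ (Ideal.span {π}).radical from ⟨p.natDegree, h4⟩)
      obtain ⟨c', rfl⟩ := Ideal.mem_span_singleton'.mp h5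
      apply ih c'
      apply hu.mul_right_cancel
      rw [mul_assoc, ← pow_succ, hc, map_mul]
  obtain ⟨n, c, hc⟩ := IsLocalization.Away.surj π y
  exact key n c hc

/-- Let `S` be a local ring and `π ∈ 𝔪` a non-zero-divisor with `(π)` prime.  If `S[1/π]` is a
normal ring (all its local rings are integrally closed domains), then `S[1/π]` is a domain. -/
theorem isDomain_away_of_isNormalRing {S T : Type u} [CommRing S] [CommRing T] [Algebra S T]
    [IsLocalRing S] (π : S) [IsLocalization.Away π T] (hπ : π ∈ nonZeroDivisors S)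
    (hπm : π ∈ IsLocalRing.maximalIdeal S) (hprime : (Ideal.span {π}).IsPrime)
    (hT : EGA4.IsNormalRing T) : IsDomain T := by
  classical
  have hinj : Function.Injective (algebraMap S T) :=
    IsLocalization.injective T (M := Submonoid.powers π) (Submonoid.powers_le.mpr hπ)
  have hu : IsUnit (algebraMap S T π) := IsLocalization.Away.algebraMap_isUnit π
  haveI : Nontrivial T := hinj.nontrivial
  have hπnu : ¬ IsUnit π := (IsLocalRing.mem_maximalIdeal π).mp hπm
  let JS : Ideal S := ⨅ n : ℕ, Ideal.span {π ^ n}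
  have hJS_mem : ∀ x, x ∈ JS ↔ ∀ n : ℕ, π ^ n ∣ x := by
    intro x
    simp only [JS, Ideal.mem_iInf, Ideal.mem_span_singleton]
  have hdiv : ∀ x ∈ JS, ∃ y ∈ JS, x = π * y := by
    intro x hx
    obtain ⟨y, hy⟩ := (hJS_mem x).mp hx 1
    rw [pow_one] at hy
    refine ⟨y, (hJS_mem y).mpr fun n => ?_, hy⟩
    obtain ⟨z, hz⟩ := (hJS_mem x).mp hx (n + 1)
    refine ⟨z, ?_⟩
    have h : π * y = π * (π ^ n * z) := by rw [← hy, hz, pow_succ']; ring
    exact (mul_cancel_left_mem_nonZeroDivisors hπ).mp h
  have hdivn : ∀ n : ℕ, ∀ x ∈ JS, ∃ y ∈ JS, x = π ^ n * y := by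
    intro n
    induction n with
    | zero => intro x hx; exact ⟨x, hx, by rw [pow_zero, one_mul]⟩
    | succ n ih =>
      intro x hx
      obtain ⟨y, hy, rfl⟩ := ih x hx
      obtain ⟨z, hz, rfl⟩ := hdiv y hy
      exact ⟨z, hz, by rw [pow_succ]; ring⟩
  have hJSle : JS ≤ IsLocalRing.maximalIdeal S := by
    intro x hx
    obtain ⟨y, hy⟩ := (hJS_mem x).mp hx 1
    rw [hy, pow_one]
    exact Ideal.mul_mem_right _ _ hπm
  have hpow_notin : ∀ n : ℕ, π ^ n ∉ JS := by
    intro n hn
    obtain ⟨z, hz⟩ := (hJS_mem _).mp hn (n + 1)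
    have h1 : π ^ n * 1 = π ^ n * (π * z) := by
      calc π ^ n * 1 = π ^ n := mul_one _
        _ = π ^ (n + 1) * z := hz
        _ = π ^ n * (π * z) := by rw [pow_succ]; ring
    have h2 : (1 : S) = π * z := (mul_cancel_left_mem_nonZeroDivisors (pow_mem hπ n)).mp h1
    exact hπnu ⟨⟨π, z, h2.symm, by rw [mul_comm]; exact h2.symm⟩, rfl⟩
  have hJSprime : JS.IsPrime := by
    refine ⟨?_, ?_⟩
    · intro htop
      exact hpow_notin 0 (by rw [htop]; trivial)
    · intro a b hab
      by_contra hcon
      rw [not_or] at hcon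
      obtain ⟨ha, hb⟩ := hcon
      have hsplit : ∀ c : S, c ∉ JS → ∃ (i : ℕ) (c' : S), c = π ^ i * c' ∧ ¬ π ∣ c' := by
        intro c hc
        have hex : ∃ n : ℕ, ¬ π ^ n ∣ c := by
          by_contra h
          rw [not_exists] at h
          exact hc ((hJS_mem c).mpr fun n => not_not.mp (h n))
        have hspec := Nat.find_spec hex
        have h0 : Nat.find hex ≠ 0 := by
          intro h0
          rw [h0, pow_zero] at hspec
          exact hspec (one_dvd c)
        obtain ⟨i, hi⟩ := Nat.exists_eq_succ_of_ne_zero h0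
        have hic : π ^ i ∣ c := by
          by_contra h
          exact Nat.find_min hex (m := i) (by omega) h
        obtain ⟨c', rfl⟩ := hic
        refine ⟨i, c', rfl, ?_⟩
        rintro ⟨w, rfl⟩
        apply hspec
        rw [hi]
        exact ⟨w, by rw [pow_succ]; ring⟩
      obtain ⟨i, a', rfl, ha'⟩ := hsplit a ha
      obtain ⟨j, b', rfl, hb'⟩ := hsplit b hb
      obtain ⟨z, hz⟩ := (hJS_mem _).mp hab (i + j + 1)
      have h1 : π ^ (i + j) * (a' * b') = π ^ (i + j) * (π * z) := by
        calc π ^ (i + j) * (a' * b') = π ^ i * a' * (π ^ j * b') := by rw [pow_add]; ring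
          _ = π ^ (i + j + 1) * z := hz
          _ = π ^ (i + j) * (π * z) := by rw [pow_succ]; ring
      have h2 : a' * b' = π * z := (mul_cancel_left_mem_nonZeroDivisors (pow_mem hπ _)).mp h1
      have h3 : a' * b' ∈ Ideal.span {π} := Ideal.mem_span_singleton.mpr ⟨z, h2⟩
      rcases hprime.mem_or_mem h3 with h | h
      · exact ha' (Ideal.mem_span_singleton.mp h)
      · exact hb' (Ideal.mem_span_singleton.mp h)
  have hdisj : Disjoint (Submonoid.powers π : Set S) (JS : Set S) := by
    rw [Set.disjoint_left]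
    rintro _ ⟨n, rfl⟩ hn
    exact hpow_notin n hn
  set JT : Ideal T := JS.map (algebraMap S T) with hJTdef
  haveI hJTprime : JT.IsPrime :=
    IsLocalization.isPrime_of_isPrime_disjoint (Submonoid.powers π) T JS hJSprime hdisj
  have hJT : ∀ v ∈ JT, ∃ j ∈ JS, algebraMap S T j = v := by
    intro v hv
    obtain ⟨⟨⟨j, hj⟩, ⟨m, hm⟩⟩, hvm⟩ :=
      (IsLocalization.mem_map_algebraMap_iff (Submonoid.powers π) T).mp hv
    obtain ⟨n, rfl⟩ := hm
    obtain ⟨j', hj', rfl⟩ := hdivn n j hj
    refine ⟨j', hj', ?_⟩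
    have hun : IsUnit (algebraMap S T (π ^ n)) := by rw [map_pow]; exact hu.pow n
    apply hun.mul_right_cancel
    simp only at hvm
    rw [hvm, map_mul, mul_comm]
  -- the key claim
  have claim : ∀ a b : T, a * b = 0 → (∃ w : T, w ∉ JT ∧ w * a = 0) → a = 0 := by
    rintro a b hab ⟨w, hwJ, hwa⟩
    let annA : Ideal T := LinearMap.ker (LinearMap.toSpanSingleton T T a)
    let annB : Ideal T := LinearMap.ker (LinearMap.toSpanSingleton T T b)
    have hannA : ∀ x, x ∈ annA ↔ x * a = 0 := by
      intro x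
      simp only [annA, LinearMap.mem_ker, LinearMap.toSpanSingleton_apply, smul_eq_mul]
    have hannB : ∀ x, x ∈ annB ↔ x * b = 0 := by
      intro x
      simp only [annB, LinearMap.mem_ker, LinearMap.toSpanSingleton_apply, smul_eq_mul]
    have htop : annA ⊔ (annB ⊓ JT) = ⊤ := by
      by_contra hne
      obtain ⟨𝔱, h𝔱max, hle⟩ := Ideal.exists_le_maximal _ hne
      haveI := h𝔱max.isPrime
      obtain ⟨hdom, -⟩ := hT 𝔱
      haveI := hdom
      have hA𝔱 : annA ≤ 𝔱 := le_trans le_sup_left hle
      have hBJ𝔱 : annB ⊓ JT ≤ 𝔱 := le_trans le_sup_right hle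
      have hfa : algebraMap T (Localization.AtPrime 𝔱) a ≠ 0 := by
        intro h0
        obtain ⟨⟨x, hx⟩, hxa⟩ := (IsLocalization.map_eq_zero_iff 𝔱.primeCompl _ a).mp h0
        exact hx (hA𝔱 ((hannA x).mpr hxa))
      have hfb : algebraMap T (Localization.AtPrime 𝔱) b = 0 := by
        have h0 : algebraMap T (Localization.AtPrime 𝔱) a * algebraMap T (Localization.AtPrime 𝔱) b
            = 0 := by rw [← map_mul, hab, map_zero]
        exact (mul_eq_zero.mp h0).resolve_left hfa
      obtain ⟨⟨x, hx⟩, hxb⟩ := (IsLocalization.map_eq_zero_iff 𝔱.primeCompl _ b).mp hfb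
      have hJ𝔱 : JT ≤ 𝔱 := by
        intro v hv
        have hxv : x * v ∈ annB ⊓ JT :=
          ⟨(hannB _).mpr (by rw [mul_right_comm, hxb, zero_mul]), Ideal.mul_mem_left _ _ hv⟩
        exact (h𝔱max.isPrime.mem_or_mem (hBJ𝔱 hxv)).resolve_left hx
      have hfw : algebraMap T (Localization.AtPrime 𝔱) w = 0 := by
        have h0 : algebraMap T (Localization.AtPrime 𝔱) w * algebraMap T (Localization.AtPrime 𝔱) a
            = 0 := by rw [← map_mul, hwa, map_zero]
        exact (mul_eq_zero.mp h0).resolve_right hfa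
      obtain ⟨⟨x', hx'⟩, hxw⟩ := (IsLocalization.map_eq_zero_iff 𝔱.primeCompl _ w).mp hfw
      have hmem : x' * w ∈ JT := by rw [hxw]; exact JT.zero_mem
      rcases hJTprime.mem_or_mem hmem with h | h
      · exact hx' (hJ𝔱 h)
      · exact hwJ h
    have h1 : (1 : T) ∈ annA ⊔ (annB ⊓ JT) := by rw [htop]; trivial
    obtain ⟨u, hu', v, hv, huv⟩ := Submodule.mem_sup.mp h1
    obtain ⟨j, hj, rfl⟩ := hJT v hv.2
    have hjnu : j ∈ nonunits S := (IsLocalRing.mem_maximalIdeal j).mp (hJSle hj)
    have hunit : IsUnit (1 - j) := IsLocalRing.isUnit_one_sub_self_of_mem_nonunits j hjnu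
    have hueq : u = algebraMap S T (1 - j) := by
      rw [map_sub, map_one, ← huv]; ring
    have huu : IsUnit u := by rw [hueq]; exact hunit.map _
    exact (huu.mul_right_eq_zero).mp ((hannA u).mp hu')
  haveI : NoZeroDivisors T := by
    refine ⟨fun {a b} hab => ?_⟩
    obtain ⟨hdom, -⟩ := hT JT
    haveI := hdom
    have h0 : algebraMap T (Localization.AtPrime JT) a * algebraMap T (Localization.AtPrime JT) b
        = 0 := by rw [← map_mul, hab, map_zero]
    rcases mul_eq_zero.mp h0 with h | h
    · obtain ⟨⟨w, hw⟩, hwa⟩ := (IsLocalization.map_eq_zero_iff JT.primeCompl _ a).mp h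
      exact Or.inl (claim a b hab ⟨w, hw, hwa⟩)
    · obtain ⟨⟨w, hw⟩, hwb⟩ := (IsLocalization.map_eq_zero_iff JT.primeCompl _ b).mp h
      exact Or.inr (claim b a (by rw [mul_comm]; exact hab) ⟨w, hw, hwb⟩)
  exact NoZeroDivisors.to_isDomain T

end Groth.Agent.H47.NormalDVR
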