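import Mathlib
import Groth.Prelude
import Groth.Agent.S9412
import Groth.Agent.H25.NormalElem
import Groth.Agent.H47.NormalDVR

/-!
# A ring is normal if it is normal modulo a non-zero-divisor and after inverting it

`isNormalRing_of_quotient_of_away`: `ϖ` a non-zero-divisor of `R`, `R/ϖR` normal and `R[1/ϖ]`
normal imply `R` normal.  No Noetherian hypothesis.
-/

set_option autoImplicit false
set_option maxHeartbeats 400000
set_option linter.unusedVariables false
set_option linter.unusedSectionVars false
set_option linter.style.haveILetI false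

universe u

namespace Groth.Agent.H47.NormalDVR

open Groth.Agent.H25.NormalElem

/-- A local ring `S` with a non-zero-divisor `π ∈ 𝔪` such that `(π)` is prime and `S[1/π]` is a
normal ring is an integrally closed domain. -/
theorem isDomain_isIntegrallyClosed_of_away {S : Type u} [CommRing S] [IsLocalRing S] (π : S)
    (hπ : π ∈ nonZeroDivisors S) (hπm : π ∈ IsLocalRing.maximalIdeal S)
    (hprime : (Ideal.span {π}).IsPrime) (T : Type u) [CommRing T] [Algebra S T]
    [IsLocalization.Away π T] (hT : EGA4.IsNormalRing T) :
    IsDomain S ∧ IsIntegrallyClosed S := by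
  have hinj : Function.Injective (algebraMap S T) :=
    IsLocalization.injective T (M := Submonoid.powers π) (Submonoid.powers_le.mpr hπ)
  haveI hTdom : IsDomain T := isDomain_away_of_isNormalRing π hπ hπm hprime hT
  haveI hTic : IsIntegrallyClosed T :=
    IsIntegrallyClosed.of_localization_maximal (fun p _ hp => (hT p).2)
  haveI hSdom : IsDomain S := hinj.isDomain (algebraMap S T)
  refine ⟨hSdom, ?_⟩
  -- `T` embeds in `Frac S`
  have hunits : ∀ y : Submonoid.powers π, IsUnit (algebraMap S (FractionRing S) y) := by
    rintro ⟨_, n, rfl⟩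
    have hne : π ^ n ≠ 0 := nonZeroDivisors.ne_zero (pow_mem hπ n)
    exact IsUnit.mk0 _ (fun h0 => hne
      ((IsFractionRing.injective S (FractionRing S)) (h0.trans (map_zero _).symm)))
  letI : Algebra T (FractionRing S) :=
    (IsLocalization.lift (M := Submonoid.powers π) (S := T) hunits).toAlgebra
  haveI : IsScalarTower S T (FractionRing S) :=
    IsScalarTower.of_algebraMap_eq (fun x => (IsLocalization.lift_eq hunits x).symm)
  haveI : IsFractionRing T (FractionRing S) :=
    IsFractionRing.isFractionRing_of_isDomain_of_isLocalization (Submonoid.powers π) T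
      (FractionRing S)
  rw [isIntegrallyClosed_iff (FractionRing S)]
  intro x hx
  have hxT : IsIntegral T x := hx.tower_top
  obtain ⟨t, rfl⟩ := (isIntegrallyClosed_iff (FractionRing S)).mp hTic hxT
  have htS : IsIntegral S t :=
    (isIntegral_algebraMap_iff (IsFractionRing.injective T (FractionRing S))).mp hx
  obtain ⟨s, rfl⟩ := mem_range_of_isIntegral_away π hπ hprime.isRadical t htS
  exact ⟨s, (IsScalarTower.algebraMap_apply S T (FractionRing S) s)⟩

/-- If `ϖ` is a non-zero-divisor of `R` such that `R/ϖR` and `R[1/ϖ]` are normal rings, then `R`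
is a normal ring. -/
theorem isNormalRing_of_quotient_of_away {R : Type u} [CommRing R] (ϖ : R)
    (hϖ : ϖ ∈ nonZeroDivisors R) (hq : EGA4.IsNormalRing (R ⧸ Ideal.span {ϖ}))
    (R' : Type u) [CommRing R'] [Algebra R R'] [IsLocalization.Away ϖ R']
    (ha : EGA4.IsNormalRing R') : EGA4.IsNormalRing R := by
  intro P hP
  by_cases hmem : ϖ ∈ P
  · -- the divisor passes through `P`
    let S := Localization.AtPrime P
    let ϖS : S := algebraMap R S ϖ
    have hϖS : ϖS ∈ nonZeroDivisors S :=
      IsLocalization.map_nonZeroDivisors_le P.primeCompl S (Submonoid.mem_map_of_mem _ hϖ)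
    have hϖm : ϖS ∈ IsLocalRing.maximalIdeal S :=
      (IsLocalization.AtPrime.to_map_mem_maximal_iff S P ϖ).mpr hmem
    -- membership in `(ϖS)`
    have hspan : Ideal.span {ϖS} = (Ideal.span {ϖ}).map (algebraMap R S) := by
      rw [Ideal.map_span, Set.image_singleton]
    have hmemS : ∀ r : R, algebraMap R S r ∈ Ideal.span {ϖS} ↔
        ∃ t : R, t ∉ P ∧ t * r ∈ Ideal.span {ϖ} := by
      intro r
      rw [hspan]
      constructor
      · intro h
        obtain ⟨⟨⟨i, hi⟩, ⟨m, hm⟩⟩, him⟩ :=
          (IsLocalization.mem_map_algebraMap_iff P.primeCompl S).mp h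
        simp only at him
        rw [← map_mul] at him
        obtain ⟨⟨c, hc⟩, hcm⟩ := (IsLocalization.eq_iff_exists P.primeCompl S).mp him
        simp only at hcm
        refine ⟨c * m, fun h' => (hP.mem_or_mem h').elim hc hm, ?_⟩
        have : c * m * r = c * i := by rw [← hcm]; ring
        rw [this]
        exact Ideal.mul_mem_left _ _ hi
      · rintro ⟨t, ht, htr⟩
        have hut : IsUnit (algebraMap R S t) :=
          IsLocalization.map_units S (⟨t, ht⟩ : P.primeCompl)
        have h1 : algebraMap R S t * algebraMap R S r ∈ (Ideal.span {ϖ}).map (algebraMap R S) := by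
          rw [← map_mul]; exact Ideal.mem_map_of_mem _ htr
        obtain ⟨u, hu⟩ := hut
        have h2 : algebraMap R S r = ↑u⁻¹ * (algebraMap R S t * algebraMap R S r) := by
          rw [← mul_assoc, ← hu, Units.inv_mul, one_mul]
        rw [h2]
        exact Ideal.mul_mem_left _ _ h1
    -- `(ϖS)` is prime
    have hle : Ideal.span {ϖ} ≤ P := (Ideal.span_singleton_le_iff_mem P).mpr hmem
    let Rbar := R ⧸ Ideal.span {ϖ}
    let mkq : R →+* Rbar := Ideal.Quotient.mk (Ideal.span {ϖ})
    let Pbar : Ideal Rbar := P.map mkq
    have hmksurj : Function.Surjective mkq := Ideal.Quotient.mk_surjective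
    haveI hPbar : Pbar.IsPrime :=
      Ideal.map_isPrime_of_surjective hmksurj (by rw [Ideal.mk_ker]; exact hle)
    have hPbar_comap : Pbar.comap mkq = P := by
      rw [Ideal.comap_map_of_surjective mkq hmksurj]
      have : Ideal.comap mkq ⊥ = Ideal.span {ϖ} := by
        rw [← RingHom.ker_eq_comap_bot, Ideal.mk_ker]
      rw [this]
      exact sup_eq_left.mpr hle
    have hmem_Pbar : ∀ t : R, mkq t ∈ Pbar ↔ t ∈ P := by
      intro t
      rw [← Ideal.mem_comap, hPbar_comap]
    have hprime : (Ideal.span {ϖS}).IsPrime := by
      obtain ⟨hdom, -⟩ := hq Pbar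
      haveI := hdom
      refine ⟨?_, ?_⟩
      · intro htop
        have : Ideal.span {ϖS} ≤ IsLocalRing.maximalIdeal S :=
          (Ideal.span_singleton_le_iff_mem _).mpr hϖm
        rw [htop] at this
        exact (IsLocalRing.maximalIdeal.isMaximal S).ne_top (top_le_iff.mp this)
      · intro x y hxy
        obtain ⟨r, s, rfl⟩ := IsLocalization.exists_mk'_eq P.primeCompl x
        obtain ⟨r', s', rfl⟩ := IsLocalization.exists_mk'_eq P.primeCompl y
        rw [← IsLocalization.mk'_mul, IsLocalization.mk'_mem_iff] at hxy
        rw [IsLocalization.mk'_mem_iff, IsLocalization.mk'_mem_iff]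
        obtain ⟨t, ht, htrr⟩ := (hmemS (r * r')).mp hxy
        have h0 : mkq t * (mkq r * mkq r') = 0 := by
          rw [← map_mul, ← map_mul]
          exact Ideal.Quotient.eq_zero_iff_mem.mpr htrr
        have htb : mkq t ∉ Pbar := fun h => ht ((hmem_Pbar t).mp h)
        have hut : IsUnit (algebraMap Rbar (Localization.AtPrime Pbar) (mkq t)) :=
          IsLocalization.map_units _ (⟨mkq t, htb⟩ : Pbar.primeCompl)
        have h1 : algebraMap Rbar (Localization.AtPrime Pbar) (mkq r) *
            algebraMap Rbar (Localization.AtPrime Pbar) (mkq r') = 0 := by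
          have := congrArg (algebraMap Rbar (Localization.AtPrime Pbar)) h0
          rw [map_mul, map_mul, map_zero] at this
          exact (hut.mul_right_eq_zero).mp this
        have hfin : ∀ r₀ : R, algebraMap Rbar (Localization.AtPrime Pbar) (mkq r₀) = 0 →
            algebraMap R S r₀ ∈ Ideal.span {ϖS} := by
          intro r₀ h
          obtain ⟨⟨w, hw⟩, hwr⟩ := (IsLocalization.map_eq_zero_iff Pbar.primeCompl _ _).mp h
          obtain ⟨w₀, rfl⟩ := hmksurj w
          refine (hmemS r₀).mpr ⟨w₀, fun h' => hw ((hmem_Pbar w₀).mpr h'), ?_⟩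
          simp only at hwr
          rw [← map_mul] at hwr
          exact Ideal.Quotient.eq_zero_iff_mem.mp hwr
        rcases mul_eq_zero.mp h1 with h | h
        · exact Or.inl (hfin r h)
        · exact Or.inr (hfin r' h)
    -- `S[1/ϖS]` is a localization of `R'`, hence normal
    let T := Localization.Away ϖS
    haveI hlocT : IsLocalization
        (IsLocalization.localizationLocalizationSubmodule P.primeCompl (Submonoid.powers ϖS)) T :=
      IsLocalization.localization_localization_isLocalization P.primeCompl (Submonoid.powers ϖS) T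
    have hMle : Submonoid.powers ϖ ≤
        IsLocalization.localizationLocalizationSubmodule P.primeCompl (Submonoid.powers ϖS) := by
      rintro _ ⟨n, rfl⟩
      rw [IsLocalization.mem_localizationLocalizationSubmodule]
      exact ⟨⟨ϖS ^ n, n, rfl⟩, 1, by simp [ϖS]⟩
    have hunits : ∀ y : Submonoid.powers ϖ, IsUnit (algebraMap R T y) := fun y =>
      IsLocalization.map_units T (⟨y, hMle y.2⟩ :
        IsLocalization.localizationLocalizationSubmodule P.primeCompl (Submonoid.powers ϖS))
    letI : Algebra R' T := (IsLocalization.lift (M := Submonoid.powers ϖ) (S := R') hunits).toAlgebra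
    haveI : IsScalarTower R R' T :=
      IsScalarTower.of_algebraMap_eq (fun x => (IsLocalization.lift_eq hunits x).symm)
    haveI := IsLocalization.isLocalization_of_submonoid_le R' T (Submonoid.powers ϖ) _ hMle
    have hTn : EGA4.IsNormalRing T :=
      Groth.Agent.S9412.isNormalRing_of_isLocalization
        ((IsLocalization.localizationLocalizationSubmodule P.primeCompl
          (Submonoid.powers ϖS)).map (algebraMap R R')) T ha
    exact isDomain_isIntegrallyClosed_of_away ϖS hϖS hϖm hprime T hTn
  · -- `ϖ` is invertible at `P`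
    have hMle : Submonoid.powers ϖ ≤ P.primeCompl := by
      rintro _ ⟨n, rfl⟩
      exact fun h => hmem (hP.mem_of_pow_mem n h)
    have hunits : ∀ y : Submonoid.powers ϖ,
        IsUnit (algebraMap R (Localization.AtPrime P) y) := fun y =>
      IsLocalization.map_units (Localization.AtPrime P) (⟨y, hMle y.2⟩ : P.primeCompl)
    letI : Algebra R' (Localization.AtPrime P) :=
      (IsLocalization.lift (M := Submonoid.powers ϖ) (S := R') hunits).toAlgebra
    haveI : IsScalarTower R R' (Localization.AtPrime P) :=
      IsScalarTower.of_algebraMap_eq (fun x => (IsLocalization.lift_eq hunits x).symm)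
    haveI := IsLocalization.isLocalization_of_submonoid_le R' (Localization.AtPrime P)
      (Submonoid.powers ϖ) P.primeCompl hMle
    have hN : EGA4.IsNormalRing (Localization.AtPrime P) :=
      Groth.Agent.S9412.isNormalRing_of_isLocalization
        (P.primeCompl.map (algebraMap R R')) _ ha
    exact isDomain_isIntegrallyClosed_of_isLocalRing _ hN

end Groth.Agent.H47.NormalDVR
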