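import Groth.Agent.H47.OlivierIdem
import Groth.Agent.H47.Unibranch
import Groth.Agent.S9404
import Groth.Agent.H10.WEtField

/-!
# Olivier's theorem

A weakly étale local algebra over a strictly henselian local ring is trivial.
-/

set_option autoImplicit false
universe u
open TensorProduct IsLocalRing

namespace Groth.Agent.H47.Olivier

open Groth.Agent.H47.OlivierIdem

/-- Idempotents in a local ring are trivial. -/
theorem eq_zero_or_one_of_mul_self {R : Type*} [CommRing R] [IsLocalRing R] {z : R}
    (hz : z * z = z) : z = 0 ∨ z = 1 := by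
  rcases IsLocalRing.isUnit_or_isUnit_one_sub_self z with h | h
  · right
    have h1 : z * (z - 1) = 0 := by rw [mul_sub, hz, mul_one, sub_self]
    exact sub_eq_zero.mp (h.mul_right_eq_zero.mp h1)
  · left
    have h1 : (1 - z) * z = 0 := by rw [sub_mul, hz, one_mul, sub_self]
    exact h.mul_right_eq_zero.mp h1

/-- A separable element over an algebraically closed field in an algebra with only trivial
idempotents is a scalar. -/
theorem exists_algebraMap_eq_of_isSeparable {L E : Type*} [Field L] [IsAlgClosed L] [CommRing E]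
    [Nontrivial E] [Algebra L E] (hidem : ∀ e : E, e * e = e → e = 0 ∨ e = 1) (c : E)
    (hc : IsSeparable L c) : ∃ l, algebraMap L E l = c := by
  classical
  have hint : IsIntegral L c := hc.isIntegral
  set g := minpoly L c with hg
  have hgm : g.Monic := minpoly.monic hint
  have hg0 : g ≠ 0 := hgm.ne_zero
  have hdeg : g.degree ≠ 0 := by
    have := minpoly.degree_pos hint
    exact this.ne'
  obtain ⟨α, hα⟩ := IsAlgClosed.exists_root g hdeg
  obtain ⟨h, hh⟩ := Polynomial.dvd_iff_isRoot.mpr hα
  have hh0 : h ≠ 0 := by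
    rintro rfl
    rw [mul_zero] at hh
    exact hg0 hh
  have hsep : (( Polynomial.X - Polynomial.C α) * h).Separable := by
    rw [← hh]
    exact hc
  obtain ⟨u, v, huv⟩ := hsep.isCoprime
  have hg_c : Polynomial.aeval c g = 0 := minpoly.aeval L c
  set U := Polynomial.aeval c u
  set V := Polynomial.aeval c v
  set H := Polynomial.aeval c h
  have h1 : U * (c - algebraMap L E α) + V * H = 1 := by
    have := congrArg (Polynomial.aeval c) huv
    simpa using this
  have h2 : (c - algebraMap L E α) * H = 0 := by
    have := hg_c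
    rw [hh] at this
    simpa using this
  have hε : (V * H) * (V * H) = V * H := by
    have h3 : (V * H) * (U * (c - algebraMap L E α)) = 0 := by
      calc (V * H) * (U * (c - algebraMap L E α))
          = V * U * ((c - algebraMap L E α) * H) := by ring
        _ = 0 := by rw [h2, mul_zero]
    calc (V * H) * (V * H) = (V * H) * (1 - U * (c - algebraMap L E α)) := by
          rw [← h1]; ring
      _ = V * H := by rw [mul_sub, h3, mul_one, sub_zero]
  rcases hidem _ hε with h0 | h1'
  · exfalso
    rw [h0, add_zero] at h1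
    have hH : H = 0 := by
      calc H = H * (U * (c - algebraMap L E α)) := by rw [h1, mul_one]
        _ = U * ((c - algebraMap L E α) * H) := by ring
        _ = 0 := by rw [h2, mul_zero]
    have hdvd : g ∣ h := minpoly.dvd L c hH
    have hle := Polynomial.natDegree_le_of_dvd hdvd hh0
    have hnat : g.natDegree = 1 + h.natDegree := by
      rw [hh, Polynomial.natDegree_mul (Polynomial.X_sub_C_ne_zero α) hh0,
        Polynomial.natDegree_X_sub_C]
    omega
  · refine ⟨α, ?_⟩
    have : c - algebraMap L E α = 0 := by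
      calc c - algebraMap L E α = (c - algebraMap L E α) * (V * H) := by rw [h1', mul_one]
        _ = V * ((c - algebraMap L E α) * H) := by ring
        _ = 0 := by rw [h2, mul_zero]
    exact (sub_eq_zero.mp this).symm

section Generic

variable {A' : Type u} [CommRing A'] [IsDomain A'] {L : Type u} [Field L] [Algebra A' L]
  [IsFractionRing A' L] [IsIntegrallyClosed A'] {B' : Type u} [CommRing B'] [IsLocalRing B']
  [Algebra A' B'] [Algebra.WeaklyEtale A' B']

theorem exists_rep (c : L ⊗[A'] B') :
    ∃ (s : A') (b' : B'), s ≠ 0 ∧ c = (algebraMap A' L s)⁻¹ ⊗ₜ[A'] b' := by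
  induction c using TensorProduct.induction_on with
  | zero => exact ⟨1, 0, one_ne_zero, by simp⟩
  | tmul l b' =>
    obtain ⟨a, s, hs, rfl⟩ := IsFractionRing.div_surjective (A := A') l
    refine ⟨s, a • b', nonZeroDivisors.ne_zero hs, ?_⟩
    rw [TensorProduct.tmul_smul, TensorProduct.smul_tmul', Algebra.smul_def, div_eq_mul_inv]
  | add c₁ c₂ h₁ h₂ =>
    obtain ⟨s₁, b₁, hs₁, rfl⟩ := h₁
    obtain ⟨s₂, b₂, hs₂, rfl⟩ := h₂
    have hs₁' : algebraMap A' L s₁ ≠ 0 := fun h =>
      hs₁ (IsFractionRing.injective A' L (by rw [h, map_zero]))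
    have hs₂' : algebraMap A' L s₂ ≠ 0 := fun h =>
      hs₂ (IsFractionRing.injective A' L (by rw [h, map_zero]))
    refine ⟨s₁ * s₂, s₂ • b₁ + s₁ • b₂, mul_ne_zero hs₁ hs₂, ?_⟩
    rw [TensorProduct.tmul_add, TensorProduct.tmul_smul, TensorProduct.tmul_smul,
      TensorProduct.smul_tmul', TensorProduct.smul_tmul', Algebra.smul_def, Algebra.smul_def,
      map_mul]
    congr 2 <;> field_simp

theorem idempotent_trivial (e : L ⊗[A'] B') (he : e * e = e) : e = 0 ∨ e = 1 := by
  obtain ⟨s, b', hs, rfl⟩ := exists_rep e
  have hsL : algebraMap A' L s ≠ 0 := fun h =>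
    hs (IsFractionRing.injective A' L (by rw [h, map_zero]))
  have hinj : Function.Injective (Algebra.TensorProduct.includeRight : B' →ₐ[A'] L ⊗[A'] B') :=
    Algebra.TensorProduct.includeRight_injective (R := A') (A := L) (B := B')
      (IsFractionRing.injective A' L)
  have key : ∀ x y : B', (algebraMap A' L s)⁻¹ ⊗ₜ[A'] x = (algebraMap A' L s)⁻¹ ⊗ₜ[A'] y →
      x = y := by
    intro x y hxy
    apply hinj
    show (1 : L) ⊗ₜ[A'] x = (1 : L) ⊗ₜ[A'] y
    have := congrArg (fun t => ((algebraMap A' L s) ⊗ₜ[A'] (1 : B')) * t) hxy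
    simpa [Algebra.TensorProduct.tmul_mul_tmul, mul_inv_cancel₀ hsL] using this
  have h1 : b' * b' = s • b' := by
    apply key
    rw [TensorProduct.tmul_smul, TensorProduct.smul_tmul', Algebra.smul_def,
      mul_inv_cancel₀ hsL]
    have := congrArg (fun t => ((algebraMap A' L s) ⊗ₜ[A'] (1 : B')) * t) he
    simp only [Algebra.TensorProduct.tmul_mul_tmul, one_mul, ← mul_assoc,
      mul_inv_cancel₀ hsL] at this
    rw [← this]
  obtain ⟨z, rfl⟩ := exists_eq_smul_of_isIntegrallyClosed L b' s hs h1
  have h2 : (algebraMap A' L s)⁻¹ ⊗ₜ[A'] (s • z) = (1 : L) ⊗ₜ[A'] z := by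
    rw [TensorProduct.tmul_smul, TensorProduct.smul_tmul', Algebra.smul_def, mul_inv_cancel₀ hsL]
  rw [h2] at he ⊢
  have hz : z * z = z := by
    apply hinj
    show (1 : L) ⊗ₜ[A'] (z * z) = (1 : L) ⊗ₜ[A'] z
    rw [← he, Algebra.TensorProduct.tmul_mul_tmul, one_mul]
  rcases eq_zero_or_one_of_mul_self hz with rfl | rfl
  · left; rw [TensorProduct.tmul_zero]
  · right; rfl

theorem surjective_algebraMap_generic [IsAlgClosed L] [Nontrivial (L ⊗[A'] B')] :
    Function.Surjective (algebraMap L (L ⊗[A'] B')) := fun c =>
  exists_algebraMap_eq_of_isSeparable idempotent_trivial c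
    (Groth.Agent.H10.WEtField.isSeparable_of_weaklyEtale c)

end Generic

section Main

variable {A B : Type u} [CommRing A] [CommRing B] [HenselianLocalRing A] [IsLocalRing B]
  [IsSepClosed (ResidueField A)] [Algebra A B] [IsLocalHom (algebraMap A B)]
  [Algebra.WeaklyEtale A B]

/-- Geometric fibres of `A → B` are trivial. -/
theorem surjective_algebraMap_algebraicClosure (p : Ideal A) [p.IsPrime] :
    Function.Surjective (algebraMap (AlgebraicClosure p.ResidueField)
      (AlgebraicClosure p.ResidueField ⊗[A] B)) := by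
  classical
  haveI : Algebra.IsAlgebraic (A ⧸ p) (AlgebraicClosure p.ResidueField) :=
    (IsFractionRing.comap_isAlgebraic_iff (A := A ⧸ p) (K := p.ResidueField)
      (C := AlgebraicClosure p.ResidueField)).mpr inferInstance
  have hinj₀ : Function.Injective (algebraMap (A ⧸ p) (AlgebraicClosure p.ResidueField)) := by
    rw [IsScalarTower.algebraMap_eq (A ⧸ p) p.ResidueField (AlgebraicClosure p.ResidueField)]
    exact (algebraMap p.ResidueField (AlgebraicClosure p.ResidueField)).injective.comp
      (IsFractionRing.injective (A ⧸ p) p.ResidueField)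
  haveI : IsFractionRing (integralClosure (A ⧸ p) (AlgebraicClosure p.ResidueField))
      (AlgebraicClosure p.ResidueField) :=
    integralClosure.isFractionRing_of_algebraic (A := A ⧸ p)
      (L := AlgebraicClosure p.ResidueField)
      (fun x hx => hinj₀ (by rw [hx, map_zero]))
  haveI : IsIntegrallyClosed (integralClosure (A ⧸ p) (AlgebraicClosure p.ResidueField)) :=
    (isIntegrallyClosed_iff_isIntegrallyClosedIn (AlgebraicClosure p.ResidueField)).mpr
      inferInstance
  haveI : Algebra.IsIntegral A (A ⧸ p) :=
    Algebra.isIntegral_of_surjective Ideal.Quotient.mk_surjective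
  have hAint : Algebra.IsIntegral A
      (integralClosure (A ⧸ p) (AlgebraicClosure p.ResidueField)) :=
    Algebra.IsIntegral.trans (A ⧸ p)
  haveI := hAint
  haveI : IsLocalRing (integralClosure (A ⧸ p) (AlgebraicClosure p.ResidueField)) :=
    Groth.Agent.H47.Unibranch.isLocalRing_of_isIntegral_of_isDomain A _
  haveI : IsLocalHom (algebraMap A
      (integralClosure (A ⧸ p) (AlgebraicClosure p.ResidueField))) := ⟨fun a ha => by
    by_contra hna
    have h1 : a ∈ maximalIdeal A := (mem_maximalIdeal a).mpr hna
    have h2 : (maximalIdeal (integralClosure (A ⧸ p) (AlgebraicClosure p.ResidueField))).comap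
        (algebraMap A (integralClosure (A ⧸ p) (AlgebraicClosure p.ResidueField))) =
        maximalIdeal A :=
      IsLocalRing.eq_maximalIdeal (Ideal.isMaximal_comap_of_isIntegral_of_isMaximal (R := A)
        (S := integralClosure (A ⧸ p) (AlgebraicClosure p.ResidueField))
        (maximalIdeal (integralClosure (A ⧸ p) (AlgebraicClosure p.ResidueField))))
    rw [← h2, Ideal.mem_comap] at h1
    exact (mem_maximalIdeal _).mp h1 ha⟩
  haveI : Algebra.IsIntegral (ResidueField A)
      (ResidueField (integralClosure (A ⧸ p) (AlgebraicClosure p.ResidueField))) := ⟨fun x => by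
    obtain ⟨y, rfl⟩ := residue_surjective x
    obtain ⟨q, hq, hqy⟩ := hAint.isIntegral y
    refine ⟨q.map (residue A), hq.map _, ?_⟩
    rw [Polynomial.eval₂_map]
    have : (algebraMap (ResidueField A)
        (ResidueField (integralClosure (A ⧸ p) (AlgebraicClosure p.ResidueField)))).comp
        (residue A) = (residue _).comp (algebraMap A
          (integralClosure (A ⧸ p) (AlgebraicClosure p.ResidueField))) := rfl
    rw [this, ← Polynomial.hom_eval₂, hqy, map_zero]⟩
  obtain ⟨hloc, -, -⟩ := Groth.Agent.S9404.result A B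
    (integralClosure (A ⧸ p) (AlgebraicClosure p.ResidueField)) (Or.inl inferInstance)
  haveI := hloc
  haveI : IsLocalRing ((integralClosure (A ⧸ p) (AlgebraicClosure p.ResidueField)) ⊗[A] B) :=
    (Algebra.TensorProduct.comm A B
      (integralClosure (A ⧸ p) (AlgebraicClosure p.ResidueField))).toRingEquiv.isLocalRing
  let e₁ := Algebra.TensorProduct.cancelBaseChange A
    (integralClosure (A ⧸ p) (AlgebraicClosure p.ResidueField))
    (AlgebraicClosure p.ResidueField) (AlgebraicClosure p.ResidueField) B
  haveI : Module.FaithfullyFlat A B := Module.FaithfullyFlat.of_flat_of_isLocalHom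
  haveI : Nontrivial (AlgebraicClosure p.ResidueField ⊗[A] B) :=
    Module.FaithfullyFlat.rTensor_nontrivial A B (AlgebraicClosure p.ResidueField)
  haveI : Nontrivial (AlgebraicClosure p.ResidueField ⊗[integralClosure (A ⧸ p)
      (AlgebraicClosure p.ResidueField)]
      ((integralClosure (A ⧸ p) (AlgebraicClosure p.ResidueField)) ⊗[A] B)) :=
    e₁.toEquiv.nontrivial
  intro x
  obtain ⟨l, hl⟩ := surjective_algebraMap_generic
    (A' := integralClosure (A ⧸ p) (AlgebraicClosure p.ResidueField))
    (L := AlgebraicClosure p.ResidueField)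
    (B' := (integralClosure (A ⧸ p) (AlgebraicClosure p.ResidueField)) ⊗[A] B) (e₁.symm x)
  refine ⟨l, ?_⟩
  have := congrArg e₁ hl
  rw [e₁.apply_symm_apply, e₁.commutes] at this
  exact this

end Main

end Groth.Agent.H47.Olivier
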