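import Groth.Agent.H47.OlivierVal

/-!
# Idempotents of the generic fibre of a weakly étale algebra over a normal domain

If `A` is an integrally closed domain with fraction field `L` and `B` is a weakly étale
`A`-algebra, then every idempotent of `L ⊗ B` comes from `B`. We state this inside `B`:
if `b * b = s • b` with `s ≠ 0` then `b ∈ s B`. The proof reduces to valuation rings through a
Zorn argument on integrally closed subalgebras of `L`.
-/

set_option autoImplicit false
universe u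
open TensorProduct

namespace Groth.Agent.H47.OlivierIdem

open Groth.Agent.H47.OlivierVal

section TS

variable {A : Type u} [CommRing A] {L : Type u} [Field L] [Algebra A L]
  {B : Type u} [CommRing B] [Algebra A B]

variable (B) in
/-- The image of `N ⊗ B` in `L ⊗ B`. -/
def TS (N : Submodule A L) : Submodule A (L ⊗[A] B) :=
  LinearMap.range (LinearMap.rTensor B N.subtype)

theorem tmul_mem_TS {N : Submodule A L} {l : L} (hl : l ∈ N) (b : B) : l ⊗ₜ[A] b ∈ TS B N :=
  ⟨(⟨l, hl⟩ : N) ⊗ₜ[A] b, rfl⟩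

theorem TS_mono {N N' : Submodule A L} (h : N ≤ N') : TS B N ≤ TS B N' := by
  rintro _ ⟨z, rfl⟩
  refine ⟨LinearMap.rTensor B (Submodule.inclusion h) z, ?_⟩
  rw [← LinearMap.comp_apply, ← LinearMap.rTensor_comp]
  rfl

theorem TS_induction {N : Submodule A L} {P : L ⊗[A] B → Prop} (h0 : P 0)
    (ht : ∀ l ∈ N, ∀ b : B, P (l ⊗ₜ[A] b)) (ha : ∀ x y, P x → P y → P (x + y))
    {x : L ⊗[A] B} (hx : x ∈ TS B N) : P x := by
  obtain ⟨z, rfl⟩ := hx
  induction z using TensorProduct.induction_on with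
  | zero => simpa using h0
  | tmul n b => exact ht n.1 n.2 b
  | add z₁ z₂ h₁ h₂ => rw [map_add]; exact ha _ _ h₁ h₂

theorem TS_inf [Module.Flat A B] (N₁ N₂ : Submodule A L) :
    TS B N₁ ⊓ TS B N₂ ≤ TS B (N₁ ⊓ N₂) := by
  rintro x ⟨⟨z₁, rfl⟩, hx₂⟩
  -- the map `g : N₁ → L ⧸ N₂`
  let g : N₁ →ₗ[A] L ⧸ N₂ := N₂.mkQ.comp N₁.subtype
  have hz₁ : LinearMap.rTensor B g z₁ = 0 := by
    rw [LinearMap.rTensor_comp, LinearMap.comp_apply]
    have : LinearMap.rTensor B N₁.subtype z₁ ∈ LinearMap.ker (LinearMap.rTensor B N₂.mkQ) := by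
      rw [rTensor_mkQ]
      exact hx₂
    exact this
  have hex := Module.Flat.rTensor_exact B (N := ↥(LinearMap.ker g)) (N' := ↥N₁)
      (N'' := L ⧸ N₂) (f := (LinearMap.ker g).subtype) (g := g)
      (LinearMap.exact_subtype_ker_map g)
  obtain ⟨z₀, hz₀⟩ := (hex z₁).mp hz₁
  -- `ker g → N₁ ⊓ N₂`
  let j : LinearMap.ker g →ₗ[A] (N₁ ⊓ N₂ : Submodule A L) :=
    LinearMap.codRestrict (N₁ ⊓ N₂) (N₁.subtype.comp (LinearMap.ker g).subtype) (by
      rintro ⟨⟨n, hn⟩, hker⟩
      refine ⟨hn, ?_⟩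
      have : N₂.mkQ n = 0 := hker
      rwa [Submodule.mkQ_apply, Submodule.Quotient.mk_eq_zero] at this)
  refine ⟨LinearMap.rTensor B j z₀, ?_⟩
  rw [← hz₀, ← LinearMap.comp_apply, ← LinearMap.comp_apply, ← LinearMap.rTensor_comp,
    ← LinearMap.rTensor_comp]
  rfl

end TS

section Chains

variable {A : Type u} [CommRing A] {L : Type u} [Field L] [Algebra A L]
  {B : Type u} [CommRing B] [Algebra A B]

/-- A subalgebra of `L` is integrally closed in `L`. -/
def IC (R : Subalgebra A L) : Prop := ∀ y : L, IsIntegral R y → y ∈ R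

theorem mem_of_mem_sSup_chain {c : Set (Subalgebra A L)} (hc : IsChain (· ≤ ·) c)
    (hne : c.Nonempty) {y : L} (hy : y ∈ sSup c) : ∃ R ∈ c, y ∈ R := by
  haveI : Nonempty c := hne.to_subtype
  have hdir : Directed (· ≤ ·) (fun i : c => (i : Subalgebra A L)) :=
    hc.directedOn.directed_val
  rw [sSup_eq_iSup'] at hy
  have h1 := Subalgebra.coe_iSup_of_directed hdir
  have hy' : y ∈ ((⨆ i : c, (i : Subalgebra A L) : Subalgebra A L) : Set L) := hy
  rw [h1, Set.mem_iUnion] at hy'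
  obtain ⟨i, hi⟩ := hy'
  exact ⟨i.1, i.2, hi⟩

theorem exists_mem_chain_of_finset {c : Set (Subalgebra A L)} (hc : IsChain (· ≤ ·) c)
    (hne : c.Nonempty) (s : Finset L) (hs : ∀ y ∈ s, y ∈ sSup c) :
    ∃ R ∈ c, ∀ y ∈ s, y ∈ R := by
  classical
  induction s using Finset.induction_on with
  | empty =>
    obtain ⟨R, hR⟩ := hne
    exact ⟨R, hR, by simp⟩
  | insert a s ha ih =>
    obtain ⟨R₁, hR₁, h₁⟩ := ih (fun y hy => hs y (Finset.mem_insert_of_mem hy))
    obtain ⟨R₂, hR₂, h₂⟩ := mem_of_mem_sSup_chain hc hne (hs a (Finset.mem_insert_self a s))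
    rcases hc.total hR₁ hR₂ with h | h
    · refine ⟨R₂, hR₂, fun y hy => ?_⟩
      rcases Finset.mem_insert.mp hy with rfl | hy
      · exact h₂
      · exact h (h₁ y hy)
    · refine ⟨R₁, hR₁, fun y hy => ?_⟩
      rcases Finset.mem_insert.mp hy with rfl | hy
      · exact h h₂
      · exact h₁ y hy

theorem IC_sSup {c : Set (Subalgebra A L)} (hc : IsChain (· ≤ ·) c) (hne : c.Nonempty)
    (hIC : ∀ R ∈ c, IC R) : IC (sSup c) := by
  classical
  intro y hy
  obtain ⟨p, hp, hpy⟩ := hy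
  obtain ⟨R, hR, hcoef⟩ := exists_mem_chain_of_finset hc hne
    (p.support.image (fun i => ((p.coeff i : (sSup c : Subalgebra A L)) : L))) (by
      intro z hz
      obtain ⟨i, -, rfl⟩ := Finset.mem_image.mp hz
      exact (p.coeff i).2)
  have hRle : R ≤ sSup c := le_sSup hR
  let ι : R →+* (sSup c : Subalgebra A L) := (Subalgebra.inclusion hRle).toRingHom
  have hl : p ∈ Polynomial.lifts ι := by
    rw [Polynomial.lifts_iff_coeff_lifts]
    intro n
    by_cases hn : n ∈ p.support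
    · exact ⟨⟨_, hcoef _ (Finset.mem_image_of_mem _ hn)⟩, Subtype.ext rfl⟩
    · rw [Polynomial.notMem_support_iff.mp hn]
      exact ⟨0, map_zero _⟩
  obtain ⟨q, hq, -, hqm⟩ := Polynomial.lifts_and_natDegree_eq_and_monic hl hp
  have hint : IsIntegral R y := by
    refine ⟨q, hqm, ?_⟩
    have h2 : Polynomial.eval₂ (algebraMap (sSup c : Subalgebra A L) L) y (q.map ι) = 0 := by
      rw [hq]
      exact hpy
    rw [Polynomial.eval₂_map] at h2
    exact h2
  exact hRle (hIC R hR y hint)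

theorem TS_sSup {c : Set (Subalgebra A L)} (hc : IsChain (· ≤ ·) c) (hne : c.Nonempty)
    {x : L ⊗[A] B} (hx : x ∈ TS B (Subalgebra.toSubmodule (sSup c))) :
    ∃ R ∈ c, x ∈ TS B (Subalgebra.toSubmodule R) := by
  refine TS_induction (P := fun x => ∃ R ∈ c, x ∈ TS B (Subalgebra.toSubmodule R)) ?_ ?_ ?_ hx
  · obtain ⟨R, hR⟩ := hne
    exact ⟨R, hR, zero_mem _⟩
  · intro l hl b
    obtain ⟨R, hR, hlR⟩ := mem_of_mem_sSup_chain hc hne hl
    exact ⟨R, hR, tmul_mem_TS hlR b⟩
  · rintro x y ⟨R₁, hR₁, h₁⟩ ⟨R₂, hR₂, h₂⟩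
    rcases hc.total hR₁ hR₂ with h | h
    · exact ⟨R₂, hR₂, add_mem (TS_mono (fun z hz => h hz) h₁) h₂⟩
    · exact ⟨R₁, hR₁, add_mem h₁ (TS_mono (fun z hz => h hz) h₂)⟩

/-- The integral closure of a subalgebra of `L`, as an `A`-subalgebra. -/
noncomputable def icl (S : Subalgebra A L) : Subalgebra A L :=
  (integralClosure S L).restrictScalars A

theorem mem_icl {S : Subalgebra A L} {y : L} : y ∈ icl S ↔ IsIntegral S y := Iff.rfl

theorem le_icl (S : Subalgebra A L) : S ≤ icl S := fun y hy =>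
  mem_icl.mpr (isIntegral_algebraMap (R := S) (x := ⟨y, hy⟩))

theorem IC_icl (S : Subalgebra A L) : IC (icl S) := by
  intro y hy
  rw [mem_icl]
  have h1 : IsIntegral (integralClosure S L) y := hy
  exact isIntegral_trans y h1

end Chains

section Main

variable {A : Type u} [CommRing A] [IsDomain A] {L : Type u} [Field L] [Algebra A L]
  {B : Type u} [CommRing B] [Algebra A B] [Algebra.WeaklyEtale A B]

/-- The valuation ring case, transported to `L ⊗ B`. -/
theorem mem_TS_of_valuationSubring (hinj : Function.Injective (algebraMap A L))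
    (V : ValuationSubring L) (hAV : ∀ a, algebraMap A L a ∈ V) (N : Submodule A L)
    (hN : ∀ v ∈ V, v ∈ N) (b : B) (s : A) (hs : s ≠ 0) (hb : b * b = s • b) :
    (algebraMap A L s)⁻¹ ⊗ₜ[A] b ∈ TS B N := by
  letI algV : Algebra A V := (RingHom.codRestrict (algebraMap A L) V.toSubring hAV).toAlgebra
  haveI : IsScalarTower A V L := IsScalarTower.of_algebraMap_eq fun _ => rfl
  have hsL : algebraMap A L s ≠ 0 := fun h => hs (hinj (by rw [h, map_zero]))
  let sV : V := algebraMap A V s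
  have hsV : sV ≠ 0 := fun h => hsL (congrArg Subtype.val h)
  let β : V ⊗[A] B := 1 ⊗ₜ b
  have hβ : β * β = sV • β := by
    show ((1 : V) ⊗ₜ[A] b) * (1 ⊗ₜ b) = sV • ((1 : V) ⊗ₜ[A] b)
    rw [Algebra.TensorProduct.tmul_mul_tmul, one_mul, hb, TensorProduct.tmul_smul,
      TensorProduct.smul_tmul', TensorProduct.smul_tmul', Algebra.smul_def, smul_eq_mul]
  obtain ⟨z, hz⟩ := exists_eq_smul_of_valuationRing β sV hsV hβ
  let ψ : V ⊗[A] B →ₐ[A] L ⊗[A] B :=
    Algebra.TensorProduct.map (IsScalarTower.toAlgHom A V L) (AlgHom.id A B)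
  have hψ : ∀ w : V ⊗[A] B, ψ w ∈ TS B N := by
    intro w
    induction w using TensorProduct.induction_on with
    | zero => rw [map_zero]; exact zero_mem _
    | tmul v b' => exact tmul_mem_TS (hN v.1 v.2) b'
    | add z₁ z₂ h₁ h₂ => rw [map_add]; exact add_mem h₁ h₂
  have hψz : ψ z ∈ TS B N := hψ z
  have h1 : ψ β = (1 : L) ⊗ₜ[A] b := by
    show ψ ((1 : V) ⊗ₜ[A] b) = _
    rw [Algebra.TensorProduct.map_tmul, map_one]
    rfl
  have h2 : ψ (sV • z) = ((algebraMap A L s) ⊗ₜ[A] (1 : B)) * ψ z := by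
    rw [Algebra.smul_def, map_mul, Algebra.TensorProduct.algebraMap_apply,
      Algebra.TensorProduct.map_tmul, map_one]
    rfl
  have h3 : (algebraMap A L s)⁻¹ ⊗ₜ[A] b = ψ z := by
    have : (algebraMap A L s)⁻¹ ⊗ₜ[A] b =
        (((algebraMap A L s)⁻¹ ⊗ₜ[A] (1 : B)) : L ⊗[A] B) * ((1 : L) ⊗ₜ[A] b) := by
      rw [Algebra.TensorProduct.tmul_mul_tmul, mul_one, one_mul]
    rw [this, ← h1, hz, h2, ← mul_assoc, Algebra.TensorProduct.tmul_mul_tmul, mul_one,
      inv_mul_cancel₀ hsL]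
    exact one_mul _
  rw [h3]
  exact hψz

variable (L) in
/-- **Idempotents of the generic fibre of a weakly étale algebra over a normal domain come from
the algebra.** -/
theorem exists_eq_smul_of_isIntegrallyClosed [IsFractionRing A L] [IsIntegrallyClosed A] (b : B) (s : A) (hs : s ≠ 0)
    (hb : b * b = s • b) : ∃ z : B, b = s • z := by
  classical
  have hinj : Function.Injective (algebraMap A L) := IsFractionRing.injective A L
  have hsL : algebraMap A L s ≠ 0 := fun h => hs (hinj (by rw [h, map_zero]))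
  set e : L ⊗[A] B := (algebraMap A L s)⁻¹ ⊗ₜ[A] b with he
  -- Step A
  have hA : e ∈ TS B (Subalgebra.toSubmodule (⊥ : Subalgebra A L)) → ∃ z : B, b = s • z := by
    intro hmem
    have h1 : ∃ z : B, e = (1 : L) ⊗ₜ[A] z := by
      refine TS_induction (P := fun x => ∃ z : B, x = (1 : L) ⊗ₜ[A] z) ⟨0, by simp⟩ ?_ ?_ hmem
      · intro l hl b'
        obtain ⟨a, rfl⟩ := Algebra.mem_bot.mp hl
        refine ⟨a • b', ?_⟩
        rw [Algebra.algebraMap_eq_smul_one, TensorProduct.smul_tmul]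
      · rintro x y ⟨z₁, rfl⟩ ⟨z₂, rfl⟩
        exact ⟨z₁ + z₂, by rw [TensorProduct.tmul_add]⟩
    obtain ⟨z, hz⟩ := h1
    refine ⟨z, ?_⟩
    have h2 : ((algebraMap A L s) ⊗ₜ[A] (1 : B)) * e = (1 : L) ⊗ₜ[A] b := by
      rw [he, Algebra.TensorProduct.tmul_mul_tmul, one_mul, mul_inv_cancel₀ hsL]
    have h3 : ((algebraMap A L s) ⊗ₜ[A] (1 : B)) * ((1 : L) ⊗ₜ[A] z) = (1 : L) ⊗ₜ[A] (s • z) := by
      rw [Algebra.TensorProduct.tmul_mul_tmul, mul_one, one_mul, Algebra.algebraMap_eq_smul_one,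
        TensorProduct.smul_tmul]
    rw [hz, h3] at h2
    exact (Algebra.TensorProduct.includeRight_injective (R := A) (A := L) (B := B) hinj h2).symm
  by_contra hcon
  have hbot : e ∉ TS B (Subalgebra.toSubmodule (⊥ : Subalgebra A L)) := fun h => hcon (hA h)
  -- Step B
  have hICbot : IC (⊥ : Subalgebra A L) := by
    intro y hy
    haveI : Algebra.IsIntegral A (⊥ : Subalgebra A L) := ⟨by
      rintro ⟨x, hx⟩
      obtain ⟨a, rfl⟩ := Algebra.mem_bot.mp hx
      exact isIntegral_algebraMap (R := A) (A := (⊥ : Subalgebra A L)) (x := a)⟩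
    have h1 : IsIntegral A y := isIntegral_trans y hy
    obtain ⟨a, rfl⟩ := IsIntegrallyClosed.algebraMap_eq_of_integral h1
    exact Subalgebra.algebraMap_mem _ a
  -- Step C: Zorn
  let Sg : Set (Subalgebra A L) := {R | IC R ∧ e ∉ TS B (Subalgebra.toSubmodule R)}
  obtain ⟨R, -, ⟨hRIC, hRe⟩, hRmax⟩ := zorn_le_nonempty₀ Sg (by
    intro c hcS hc y hy
    have hne : c.Nonempty := ⟨y, hy⟩
    refine ⟨sSup c, ⟨IC_sSup hc hne (fun R hR => (hcS hR).1), fun hmem => ?_⟩,
      fun z hz => le_sSup hz⟩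
    obtain ⟨R, hR, hR'⟩ := TS_sSup hc hne hmem
    exact (hcS hR).2 hR') ⊥ ⟨hICbot, hbot⟩
  -- Step D: R is a valuation ring
  have hval : ∀ x : L, x ∈ R ∨ x⁻¹ ∈ R := by
    intro x
    by_contra hx
    push_neg at hx
    obtain ⟨hx₁, hx₂⟩ := hx
    have key : ∀ t : L, t ∉ R →
        e ∈ TS B (Subalgebra.toSubmodule (icl (Algebra.adjoin A ((R : Set L) ∪ {t})))) := by
      intro t ht
      by_contra hnot
      have hle : R ≤ icl (Algebra.adjoin A ((R : Set L) ∪ {t})) := fun y hy =>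
        le_icl _ (Algebra.subset_adjoin (Set.mem_union_left _ hy))
      have := hRmax ⟨IC_icl _, hnot⟩ hle
      exact ht (this (le_icl _ (Algebra.subset_adjoin (Set.mem_union_right _ rfl))))
    have h12 := TS_inf (B := B) _ _ ⟨key x hx₁, key x⁻¹ hx₂⟩
    refine hRe (TS_mono ?_ h12)
    rintro y ⟨hy₁, hy₂⟩
    by_contra hyR
    haveI : IsIntegrallyClosedIn R.toSubring L :=
      isIntegrallyClosedIn_iff.mpr ⟨Subtype.val_injective, fun {y} hy => ⟨⟨y, hRIC y hy⟩, rfl⟩⟩
    obtain ⟨V, hRV, hyV⟩ := Subring.exists_le_valuationSubring_of_isIntegrallyClosedIn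
      (R := R.toSubring) hyR
    haveI : IsIntegrallyClosedIn V.toSubring L := inferInstanceAs (IsIntegrallyClosedIn V L)
    let V' : Subalgebra A L :=
      { V.toSubring with algebraMap_mem' := fun a => hRV (R.algebraMap_mem a) }
    have hmem : ∀ t : L, t ∈ V → y ∈ icl (Algebra.adjoin A ((R : Set L) ∪ {t})) → y ∈ V := by
      intro t ht hy
      have hadj : Algebra.adjoin A ((R : Set L) ∪ {t}) ≤ V' := by
        apply Algebra.adjoin_le
        rintro w (hw | hw)
        · exact hRV hw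
        · rw [Set.mem_singleton_iff.mp hw]
          exact ht
      have hle := (Subring.integralClosure_le_iff
        (R := Algebra.adjoin A ((R : Set L) ∪ {t})) (A := L) (T := V.toSubring)).mpr
        (fun r => hadj r.2)
      exact hle hy
    rcases V.mem_or_inv_mem x with hxV | hxV
    · exact hyV (hmem x hxV hy₁)
    · exact hyV (hmem x⁻¹ hxV hy₂)
  -- Step E
  let V₀ : ValuationSubring L := { R.toSubring with mem_or_inv_mem' := hval }
  exact hRe (mem_TS_of_valuationSubring hinj V₀ (fun a => R.algebraMap_mem a)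
    (Subalgebra.toSubmodule R) (fun v hv => hv) b s hs hb)

end Main

end Groth.Agent.H47.OlivierIdem
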