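import Mathlib
import Groth.Agent.H47.HensCompletion
import Groth.Agent.H47.StrictQuot
import Groth.Agent.S2747

/-!
# The strict henselization of `A` is a strict henselization of the henselization of `A`
-/

set_option autoImplicit false
set_option linter.style.haveILetI false
set_option linter.unusedSectionVars false
universe u
open IsLocalRing

namespace Groth.Agent.H47.StrictOverHens

section Main

variable (A Ah Ash : Type u) [CommRing A] [IsLocalRing A]
  [CommRing Ah] [IsLocalRing Ah] [Algebra A Ah] [IsLocalHom (algebraMap A Ah)]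
  [Hensel.IsHenselization A Ah]
  [CommRing Ash] [IsLocalRing Ash] [Algebra A Ash] [IsLocalHom (algebraMap A Ash)]
  [Hensel.IsStrictHenselization A Ash] [Algebra Ah Ash] [IsScalarTower A Ah Ash]

include A in
theorem isLocalHom : IsLocalHom (algebraMap Ah Ash) := by
  refine ((IsLocalRing.local_hom_TFAE (algebraMap Ah Ash)).out 0 2).mpr ?_
  rw [← (Groth.Agent.H47.HensNoeth.isIndEtaleLocal_of_isHenselization A Ah).map_max,
    Ideal.map_map, ← IsScalarTower.algebraMap_eq,
    (Groth.Agent.H47.HensNoeth.isIndEtaleLocal_of_isStrictHenselization A Ash).map_max]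

include A in
theorem flat : Module.Flat Ah Ash :=
  haveI : Module.Flat A Ash :=
    (Groth.Agent.H47.HensNoeth.isIndEtaleLocal_of_isStrictHenselization A Ash).flat
  Groth.Agent.H47.HensCompletion.flat_of_rep
    (Groth.Agent.H47.HensNoeth.isIndEtaleLocal_of_isHenselization A Ah).rep Ash

include A in
theorem isStrictHenselization [IsLocalHom (algebraMap Ah Ash)] :
    Hensel.IsStrictHenselization Ah Ash := by
  haveI hh : HenselianLocalRing Ash := Hensel.IsStrictHenselization.henselian (R := A)
  have hsc : IsSepClosure (ResidueField A) (ResidueField Ash) :=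
    Hensel.IsStrictHenselization.isSepClosure
  refine ⟨hh, ?_, ?_⟩
  · haveI := hsc.separable
    exact ⟨hsc.sep_closed, Algebra.isSeparable_tower_top_of_isSeparable (ResidueField A)
      (ResidueField Ah) (ResidueField Ash)⟩
  · intro T _ _ f _ τ hτ
    haveI : IsLocalHom (f.comp (algebraMap A Ah)) := RingHom.isLocalHom_comp _ _
    have hτ' : τ.comp (ResidueField.map (algebraMap A Ash)) =
        ResidueField.map (f.comp (algebraMap A Ah)) := by
      ext x
      obtain ⟨a, rfl⟩ := residue_surjective x
      have h1 := RingHom.congr_fun hτ (residue Ah (algebraMap A Ah a))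
      rw [RingHom.comp_apply, ResidueField.map_residue, ResidueField.map_residue,
        ← IsScalarTower.algebraMap_apply] at h1
      rw [RingHom.comp_apply, ResidueField.map_residue, ResidueField.map_residue, h1]
      rfl
    obtain ⟨g, ⟨hg1, hg2⟩, hguniq⟩ := Hensel.IsStrictHenselization.universal (R := A) (S := Ash) T
      (f.comp (algebraMap A Ah)) τ hτ'
    have hgf : g.comp (algebraMap Ah Ash) = f := by
      obtain ⟨g0, -, hg0u⟩ := Hensel.IsHenselization.universal (R := A) (S := Ah) T
        (f.comp (algebraMap A Ah)) inferInstance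
      have h1 : g.comp (algebraMap Ah Ash) = g0 := hg0u _ (by
        show (g.comp (algebraMap Ah Ash)).comp (algebraMap A Ah) = f.comp (algebraMap A Ah)
        rw [RingHom.comp_assoc, ← IsScalarTower.algebraMap_eq]
        exact hg1)
      have h2 : f = g0 := hg0u _ rfl
      rw [h1, h2]
    refine ⟨g, ⟨hgf, hg2⟩, ?_⟩
    rintro g' ⟨hg'1, hg'2⟩
    apply hguniq
    refine ⟨?_, hg'2⟩
    rw [IsScalarTower.algebraMap_eq A Ah Ash, ← RingHom.comp_assoc, hg'1]

end Main

end Groth.Agent.H47.StrictOverHens
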