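import Mathlib
import Groth.Agent.H47.StrictOverHens
import Groth.Agent.H47.UnibranchStrict
import Groth.Agent.S9237
import Groth.Agent.S9238
import Groth.Agent.S9236

/-!
# Purely inseparable residue fields of the normalization and extension of minimal primes
-/

set_option autoImplicit false
set_option linter.style.haveILetI false
set_option linter.unusedSectionVars false
universe u
open IsLocalRing

namespace Groth.Agent.H47.PIBranch

section Transport

/-- The residue fields at maximal ideals of `N` are purely inseparable over the image of `A`. -/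
def PICond {A N : Type*} [CommRing A] [CommRing N] (r : A →+* N) : Prop :=
  ∀ (M : Ideal N) [M.IsMaximal], ∀ x : N ⧸ M,
    ∃ n : ℕ, x ^ (ringExpChar (N ⧸ M)) ^ n ∈ ((Ideal.Quotient.mk M).comp r).range

theorem PICond.of_ringEquiv {A N N' : Type*} [CommRing A] [CommRing N] [CommRing N']
    (e : N ≃+* N') (r : A →+* N) (r' : A →+* N') (h : ∀ a, e (r a) = r' a)
    (H : PICond r) : PICond r' := by
  intro M' hM' x'
  haveI hM : (M'.comap (e : N →+* N')).IsMaximal :=
    Ideal.comap_isMaximal_of_surjective _ e.surjective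
  have hmap : M' = (M'.comap (e : N →+* N')).map (e : N →+* N') :=
    (Ideal.map_comap_of_surjective _ e.surjective M').symm
  let ē : N ⧸ M'.comap (e : N →+* N') ≃+* N' ⧸ M' := Ideal.quotientEquiv _ M' e hmap
  obtain ⟨x, rfl⟩ := ē.surjective x'
  obtain ⟨n, a, ha⟩ := H (M'.comap (e : N →+* N')) x
  haveI : ExpChar (N' ⧸ M') (ringExpChar (N ⧸ M'.comap (e : N →+* N'))) :=
    RingHom.expChar (ē.symm : N' ⧸ M' →+* N ⧸ M'.comap (e : N →+* N')) ē.symm.injective _
  have hp : ringExpChar (N' ⧸ M') = ringExpChar (N ⧸ M'.comap (e : N →+* N')) :=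
    ringExpChar.eq _ _
  refine ⟨n, a, ?_⟩
  rw [hp, ← map_pow, ← ha, RingHom.comp_apply, RingHom.comp_apply, ← h a]
  rfl

theorem exists_integralClosure_equiv {A B K L : Type*} [CommRing A] [CommRing B] [CommRing K]
    [CommRing L] [Algebra A K] [IsFractionRing A K] [Algebra B L] [IsFractionRing B L]
    (φ : A ≃+* B) :
    ∃ e : integralClosure A K ≃+* integralClosure B L,
      ∀ a, e (algebraMap A _ a) = algebraMap B _ (φ a) := by
  let ψ : K ≃+* L := IsFractionRing.ringEquivOfRingEquiv φ
  have hψ : ∀ a, ψ (algebraMap A K a) = algebraMap B L (φ a) :=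
    IsFractionRing.ringEquivOfRingEquiv_algebraMap φ
  have hψ' : ∀ b, ψ.symm (algebraMap B L b) = algebraMap A K (φ.symm b) := by
    intro b
    rw [RingEquiv.symm_apply_eq, hψ, RingEquiv.apply_symm_apply]
  have hmap : ∀ x : K, IsIntegral A x → IsIntegral B (ψ x) := fun x hx =>
    IsIntegral.map_of_comp_eq (φ : A →+* B) (ψ : K →+* L) (by
      ext a
      exact (hψ a).symm) hx
  have hmap' : ∀ y : L, IsIntegral B y → IsIntegral A (ψ.symm y) := fun y hy =>
    IsIntegral.map_of_comp_eq (φ.symm : B →+* A) (ψ.symm : L →+* K) (by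
      ext b
      exact (hψ' b).symm) hy
  refine ⟨{ toFun := fun x => ⟨ψ x.1, hmap x.1 x.2⟩
            invFun := fun y => ⟨ψ.symm y.1, hmap' y.1 y.2⟩
            left_inv := fun x => Subtype.ext (ψ.symm_apply_apply _)
            right_inv := fun y => Subtype.ext (ψ.apply_symm_apply _)
            map_mul' := fun x y => Subtype.ext (map_mul ψ _ _)
            map_add' := fun x y => Subtype.ext (map_add ψ _ _) }, ?_⟩
  intro a
  exact Subtype.ext (hψ a)

end Transport

section Count

theorem card_sigma_eq_iff {ι : Type*} [Finite ι] (E : ι → Type*) (hne : ∀ i, Nonempty (E i)) :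
    ENat.card (Σ i, E i) = ENat.card ι ↔ ∀ i, Subsingleton (E i) := by
  constructor
  · intro hcard
    have hfin : Finite (Σ i, E i) := by
      rw [← ENat.card_lt_top, hcard, ENat.card_lt_top]
      infer_instance
    have hnat : Nat.card (Σ i, E i) = Nat.card ι := by
      rw [ENat.card_eq_coe_natCard, ENat.card_eq_coe_natCard] at hcard
      exact_mod_cast hcard
    obtain ⟨eq⟩ := Finite.card_eq.mp hnat
    have hsurj : Function.Surjective (fun x : Σ i, E i => x.1) := fun i =>
      ⟨⟨i, Classical.choice (hne i)⟩, rfl⟩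
    have hinj : Function.Injective (fun x : Σ i, E i => x.1) :=
      (Finite.injective_iff_surjective_of_equiv eq).mpr hsurj
    intro i
    refine ⟨fun x y => ?_⟩
    have h1 : (⟨i, x⟩ : Σ i, E i) = ⟨i, y⟩ := hinj rfl
    exact eq_of_heq (Sigma.mk.inj h1).2
  · intro hsub
    haveI : ∀ i, Unique (E i) := fun i =>
      @Unique.mk' _ ⟨Classical.choice (hne i)⟩ (hsub i)
    exact ENat.card_congr (Equiv.sigmaUnique ι E)

theorem injective_of_card_eq {α β : Type*} [Finite β] (f : α → β) (hf : Function.Surjective f)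
    (hcard : ENat.card α = ENat.card β) : Function.Injective f := by
  have hfin : Finite α := by
    rw [← ENat.card_lt_top, hcard, ENat.card_lt_top]
    infer_instance
  have hnat : Nat.card α = Nat.card β := by
    rw [ENat.card_eq_coe_natCard, ENat.card_eq_coe_natCard] at hcard
    exact_mod_cast hcard
  obtain ⟨eq⟩ := Finite.card_eq.mp hnat
  exact (Finite.injective_iff_surjective_of_equiv eq).mpr hf

end Count

section Radical

variable (R S : Type u) [CommRing R] [IsLocalRing R] [CommRing S] [IsLocalRing S]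
  [Algebra R S] [IsLocalHom (algebraMap R S)] [Hensel.IsStrictHenselization R S]

theorem isRadical_map (𝔭 : Ideal R) [𝔭.IsPrime] : (𝔭.map (algebraMap R S)).IsRadical := by
  have hI : 𝔭 ≤ maximalIdeal R := IsLocalRing.le_maximalIdeal (Ideal.IsPrime.ne_top inferInstance)
  have hJ : 𝔭.map (algebraMap R S) ≤ maximalIdeal S :=
    Groth.Agent.H47.Unibranch.map_le_maximalIdeal R S hI
  haveI : IsLocalRing (R ⧸ 𝔭) := Groth.Agent.H47.Unibranch.isLocalRing_quotient _
    (fun h => (maximalIdeal.isMaximal R).ne_top (top_le_iff.mp (h ▸ hI)))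
  haveI : IsLocalRing (S ⧸ 𝔭.map (algebraMap R S)) :=
    Groth.Agent.H47.Unibranch.isLocalRing_quotient _
      (fun h => (maximalIdeal.isMaximal S).ne_top (top_le_iff.mp (h ▸ hJ)))
  haveI : IsLocalHom (algebraMap (R ⧸ 𝔭) (S ⧸ 𝔭.map (algebraMap R S))) :=
    Groth.Agent.H47.Unibranch.isLocalHom_quotient_map R S _
  haveI : Hensel.IsStrictHenselization (R ⧸ 𝔭) (S ⧸ 𝔭.map (algebraMap R S)) :=
    Groth.Agent.H47.StrictQuot.isStrictHenselization_quotient 𝔭
  haveI : IsReduced (S ⧸ 𝔭.map (algebraMap R S)) :=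
    (Groth.Agent.S2747.result (R ⧸ 𝔭) (S ⧸ 𝔭.map (algebraMap R S))).mpr inferInstance
  exact (Ideal.isRadical_iff_quotient_reduced _).mpr inferInstance

theorem eq_map_comap_of_injOn [Module.Flat R S]
    (hinj : Set.InjOn (Ideal.comap (algebraMap R S)) (minimalPrimes S)) {Q : Ideal S}
    (hQ : Q ∈ minimalPrimes S) :
    Q = (Q.comap (algebraMap R S)).map (algebraMap R S) := by
  have h𝔭 := Groth.Agent.H47.HensCompletion.comap_mem_minimalPrimes (S := R) hQ
  haveI : (Q.comap (algebraMap R S)).IsPrime := h𝔭.1.1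
  have hrad : ((Q.comap (algebraMap R S)).map (algebraMap R S)).IsRadical := isRadical_map R S _
  have hall : ∀ Q' ∈ ((Q.comap (algebraMap R S)).map (algebraMap R S)).minimalPrimes, Q' = Q := by
    intro Q' hQ'
    obtain ⟨h1, h2⟩ := Groth.Agent.H47.HensCompletion.minimalPrimes_map_subset h𝔭 hQ'
    exact hinj h1 hQ h2
  have hle : (Q.comap (algebraMap R S)).map (algebraMap R S) ≤ Q := Ideal.map_comap_le
  haveI : Q.IsPrime := hQ.1.1
  obtain ⟨Q', hQ', -⟩ := Ideal.exists_minimalPrimes_le hle
  have hQmem : Q ∈ ((Q.comap (algebraMap R S)).map (algebraMap R S)).minimalPrimes :=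
    hall Q' hQ' ▸ hQ'
  have hset : ((Q.comap (algebraMap R S)).map (algebraMap R S)).minimalPrimes = {Q} :=
    Set.eq_singleton_iff_unique_mem.mpr ⟨hQmem, hall⟩
  rw [← hrad.radical, ← Ideal.sInf_minimalPrimes, hset, sInf_singleton]

end Radical

section Main

variable (A Ah Ash : Type u) [CommRing A] [IsLocalRing A] [IsReduced A] [IsNoetherianRing A]
  [CommRing Ah] [IsLocalRing Ah] [Algebra A Ah] [IsLocalHom (algebraMap A Ah)]
  [Hensel.IsHenselization A Ah]
  [CommRing Ash] [IsLocalRing Ash] [Algebra A Ash] [IsLocalHom (algebraMap A Ash)]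
  [Hensel.IsStrictHenselization A Ash] [Algebra Ah Ash] [IsScalarTower A Ah Ash]

theorem main :
    PICond (algebraMap A (integralClosure A (FractionRing A))) ↔
      (∀ Q ∈ minimalPrimes Ash, Q = Ideal.map (algebraMap Ah Ash) (Q.comap (algebraMap Ah Ash))) := by
  classical
  have hindh := Groth.Agent.H47.HensNoeth.isIndEtaleLocal_of_isHenselization A Ah
  have hinds := Groth.Agent.H47.HensNoeth.isIndEtaleLocal_of_isStrictHenselization A Ash
  haveI : IsNoetherianRing Ah := hindh.isNoetherianRing
  haveI : IsNoetherianRing Ash := hinds.isNoetherianRing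
  haveI : IsLocalHom (algebraMap Ah Ash) := Groth.Agent.H47.StrictOverHens.isLocalHom A Ah Ash
  haveI : Module.Flat Ah Ash := Groth.Agent.H47.StrictOverHens.flat A Ah Ash
  haveI : Module.FaithfullyFlat Ah Ash := Module.FaithfullyFlat.of_flat_of_isLocalHom
  haveI : Hensel.IsStrictHenselization Ah Ash :=
    Groth.Agent.H47.StrictOverHens.isStrictHenselization A Ah Ash
  have hfinA : (minimalPrimes A).Finite := minimalPrimes.finite_of_isNoetherianRing A
  haveI : Finite (minimalPrimes Ah) := (minimalPrimes.finite_of_isNoetherianRing Ah).to_subtype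
  haveI : Finite (minimalPrimes Ash) := (minimalPrimes.finite_of_isNoetherianRing Ash).to_subtype
  have hb : ENat.card (minimalPrimes Ah) = ENat.card (MaximalSpectrum (CAlg2.normRed A)) := by
    rw [Groth.Agent.S9237.result A Ah]
    unfold Brnch.numBranches
    rw [if_pos hfinA]
  have hg : ENat.card (minimalPrimes Ash) =
      ENat.card (Σ m' : MaximalSpectrum (CAlg2.normRed A), Brnch.Emb A m') := by
    rw [Groth.Agent.S9238.result A Ash]
    unfold Brnch.numGeomBranches
    rw [if_pos hfinA]
  haveI : Finite (MaximalSpectrum (CAlg2.normRed A)) := by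
    rw [← ENat.card_lt_top, ← hb, ENat.card_lt_top]
    infer_instance
  let F : minimalPrimes Ash → minimalPrimes Ah := fun P =>
    ⟨P.1.comap (algebraMap Ah Ash), Groth.Agent.H47.HensCompletion.comap_mem_minimalPrimes P.2⟩
  have hF : Function.Surjective F := by
    rintro ⟨q, hq⟩
    obtain ⟨P, hP, hPq⟩ :=
      Groth.Agent.H47.HensCompletion.exists_minimalPrimes_comap_eq (T := Ash) hq
    exact ⟨⟨P, hP⟩, Subtype.ext hPq⟩
  -- the isomorphism with `normRed`
  have hbij : Function.Bijective (Ideal.Quotient.mk (nilradical A)) := by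
    refine ⟨?_, Ideal.Quotient.mk_surjective⟩
    rw [RingHom.injective_iff_ker_eq_bot, Ideal.mk_ker, nilradical_eq_zero]
    rfl
  let φ : A ≃+* CAlg2.red A := RingEquiv.ofBijective (Ideal.Quotient.mk (nilradical A)) hbij
  obtain ⟨e, he⟩ := exists_integralClosure_equiv (K := FractionRing A)
    (L := FractionRing (CAlg2.red A)) φ
  let rA' : A →+* CAlg2.normRed A :=
    (algebraMap (CAlg2.red A) (CAlg2.normRed A)).comp (Ideal.Quotient.mk (nilradical A))
  have he1 : ∀ a, e (algebraMap A (integralClosure A (FractionRing A)) a) = rA' a := he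
  have he2 : ∀ a, e.symm (rA' a) = algebraMap A (integralClosure A (FractionRing A)) a := by
    intro a
    rw [← he1 a, e.symm_apply_apply]
  have step1 : PICond (algebraMap A (integralClosure A (FractionRing A))) ↔ PICond rA' :=
    ⟨PICond.of_ringEquiv e _ _ he1, PICond.of_ringEquiv e.symm _ _ he2⟩
  have step2 : PICond rA' ↔ ∀ m' : MaximalSpectrum (CAlg2.normRed A),
      Subsingleton (Brnch.Emb A m') := by
    constructor
    · intro H m'
      haveI := m'.isMaximal
      exact (Groth.Agent.S9236.emb_props A m').2.mpr (H m'.asIdeal)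
    · intro H M hM
      exact (Groth.Agent.S9236.emb_props A ⟨M, hM⟩).2.mp (H ⟨M, hM⟩)
  have step3 : (∀ m' : MaximalSpectrum (CAlg2.normRed A), Subsingleton (Brnch.Emb A m')) ↔
      ENat.card (Σ m' : MaximalSpectrum (CAlg2.normRed A), Brnch.Emb A m') =
        ENat.card (MaximalSpectrum (CAlg2.normRed A)) :=
    (card_sigma_eq_iff _ (fun m' => (Groth.Agent.S9236.emb_props A m').1)).symm
  have step4 : ENat.card (minimalPrimes Ash) = ENat.card (minimalPrimes Ah) ↔
      Function.Injective F :=
    ⟨injective_of_card_eq F hF, fun hinj => ENat.card_congr (Equiv.ofBijective F ⟨hinj, hF⟩)⟩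
  have step5 : Function.Injective F ↔
      (∀ Q ∈ minimalPrimes Ash,
        Q = Ideal.map (algebraMap Ah Ash) (Q.comap (algebraMap Ah Ash))) := by
    constructor
    · intro hinj Q hQ
      apply eq_map_comap_of_injOn Ah Ash ?_ hQ
      intro Q₁ h₁ Q₂ h₂ h12
      exact congrArg Subtype.val (hinj (a₁ := ⟨Q₁, h₁⟩) (a₂ := ⟨Q₂, h₂⟩) (Subtype.ext h12))
    · intro H P₁ P₂ h12
      apply Subtype.ext
      have h12' : P₁.1.comap (algebraMap Ah Ash) = P₂.1.comap (algebraMap Ah Ash) :=
        congrArg Subtype.val h12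
      rw [H P₁.1 P₁.2, H P₂.1 P₂.2, h12']
  rw [step1, step2, step3, ← hg, ← hb, step4, step5]

end Main

end Groth.Agent.H47.PIBranch
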