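import Mathlib
import Groth.Agent.H47.DimOneComp

/-!
# Disconnections of the punctured spectrum along `B₁ → B₂` (helper47)

For a flat local homomorphism `B₁ → B₂` of Noetherian local rings with `B₁` henselian,
`𝔪₁ B₂ = 𝔪₂` and trivial residue field extension (e.g. henselization → completion), the punctured
spectrum of `B₂` is disconnected iff that of `B₁` is.
-/

set_option autoImplicit false
universe u

open IsLocalRing Polynomial TensorProduct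

namespace Groth.Agent.H47.PuncDisc

open Groth.Agent.H47.DimOneBranch Groth.Agent.H47.DimOneComp

/-- A disconnection of the punctured spectrum of a local ring, in terms of ideals. -/
def Disc (R : Type*) [CommRing R] [IsLocalRing R] : Prop :=
  ∃ I J : Ideal R,
    (∀ P : Ideal R, P.IsPrime → P ≠ maximalIdeal R → I ≤ P ∨ J ≤ P) ∧
    (∀ P : Ideal R, P.IsPrime → I ≤ P → J ≤ P → P = maximalIdeal R) ∧
    (∃ P : Ideal R, P.IsPrime ∧ P ≠ maximalIdeal R ∧ I ≤ P) ∧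
    (∃ P : Ideal R, P.IsPrime ∧ P ≠ maximalIdeal R ∧ J ≤ P)

theorem isPreconnected_punctured_iff (R : Type*) [CommRing R] [IsLocalRing R] :
    IsPreconnected ({closedPoint R}ᶜ : Set (PrimeSpectrum R)) ↔ ¬ Disc R := by
  have hcp : ∀ x : PrimeSpectrum R, x ∈ ({closedPoint R}ᶜ : Set (PrimeSpectrum R)) ↔
      x.asIdeal ≠ maximalIdeal R := by
    intro x
    rw [Set.mem_compl_iff, Set.mem_singleton_iff, not_iff_not]
    constructor
    · intro h; rw [h]; rfl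
    · intro h; exact PrimeSpectrum.ext h
  have hz : ∀ (I : Ideal R) (x : PrimeSpectrum R),
      x ∈ PrimeSpectrum.zeroLocus (I : Set R) ↔ I ≤ x.asIdeal := fun I x => by
    rw [PrimeSpectrum.mem_zeroLocus, SetLike.coe_subset_coe]
  constructor
  · rintro hpre ⟨I, J, h1, h2, ⟨P₁, hP₁, hne₁, hI⟩, ⟨P₂, hP₂, hne₂, hJ⟩⟩
    rw [isPreconnected_closed_iff] at hpre
    obtain ⟨x, hxs, hxI, hxJ⟩ := hpre (PrimeSpectrum.zeroLocus I) (PrimeSpectrum.zeroLocus J)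
      (PrimeSpectrum.isClosed_zeroLocus _) (PrimeSpectrum.isClosed_zeroLocus _)
      (by
        intro x hx
        rcases h1 x.asIdeal x.isPrime ((hcp x).mp hx) with h | h
        · exact Or.inl ((hz I x).mpr h)
        · exact Or.inr ((hz J x).mpr h))
      ⟨⟨P₁, hP₁⟩, (hcp _).mpr hne₁, (hz I _).mpr hI⟩
      ⟨⟨P₂, hP₂⟩, (hcp _).mpr hne₂, (hz J _).mpr hJ⟩
    exact (hcp x).mp hxs (h2 x.asIdeal x.isPrime ((hz I x).mp hxI) ((hz J x).mp hxJ))
  · intro hnd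
    rw [isPreconnected_closed_iff]
    intro t t' ht ht' hcov hne hne'
    by_contra hemp
    apply hnd
    obtain ⟨I, rfl⟩ := (PrimeSpectrum.isClosed_iff_zeroLocus_ideal _).mp ht
    obtain ⟨J, rfl⟩ := (PrimeSpectrum.isClosed_iff_zeroLocus_ideal _).mp ht'
    refine ⟨I, J, ?_, ?_, ?_, ?_⟩
    · intro P hP hPne
      rcases hcov ((hcp ⟨P, hP⟩).mpr hPne) with h | h
      · exact Or.inl ((hz I _).mp h)
      · exact Or.inr ((hz J _).mp h)
    · intro P hP hIP hJP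
      by_contra hPne
      exact hemp ⟨⟨P, hP⟩, (hcp _).mpr hPne, (hz I _).mpr hIP, (hz J _).mpr hJP⟩
    · obtain ⟨x, hxs, hxI⟩ := hne
      exact ⟨x.asIdeal, x.isPrime, (hcp x).mp hxs, (hz I x).mp hxI⟩
    · obtain ⟨x, hxs, hxJ⟩ := hne'
      exact ⟨x.asIdeal, x.isPrime, (hcp x).mp hxs, (hz J x).mp hxJ⟩

/-- An element outside all minimal primes is regular modulo the nilradical. -/
theorem reg_radical_bot {R : Type*} [CommRing R] (ξ : R) (h : ∀ Q ∈ minimalPrimes R, ξ ∉ Q)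
    (t : R) (ht : ξ * t ∈ (⊥ : Ideal R).radical) : t ∈ (⊥ : Ideal R).radical := by
  rw [← Ideal.sInf_minimalPrimes, Ideal.mem_sInf] at ht ⊢
  intro Q hQ
  exact (hQ.1.1.mem_or_mem (ht hQ)).resolve_left (h Q hQ)

/-- Flat base change of a colon ideal by finitely many elements. -/
theorem mem_map_of_forall_mul_mem {A B : Type u} [CommRing A] [CommRing B] [Algebra A B]
    [Module.Flat A B] (𝔡 : Ideal A) {k : ℕ} (y : Fin k → A) (H : Ideal A)
    (hH : ∀ s, s ∈ H ↔ ∀ i, s * y i ∈ 𝔡) (t : B)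
    (ht : ∀ i, algebraMap A B (y i) * t ∈ 𝔡.map (algebraMap A B)) :
    t ∈ H.map (algebraMap A B) := by
  classical
  obtain ⟨v, hv⟩ : ∃ v : Fin k → A ⧸ 𝔡, v = fun i => Ideal.Quotient.mk 𝔡 (y i) := ⟨_, rfl⟩
  have hsmul : ∀ s : A, s • v = fun i => Ideal.Quotient.mk 𝔡 (s * y i) := by
    intro s
    rw [hv]
    funext i
    rw [Pi.smul_apply, Algebra.smul_def, Ideal.Quotient.algebraMap_eq, map_mul]
  have hex : Function.Exact H.subtype (LinearMap.toSpanSingleton A (Fin k → A ⧸ 𝔡) v) := by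
    intro r
    rw [LinearMap.toSpanSingleton_apply, hsmul]
    constructor
    · intro hr
      have hrH : r ∈ H :=
        (hH r).mpr fun i => Ideal.Quotient.eq_zero_iff_mem.mp (congrFun hr i)
      exact ⟨⟨r, hrH⟩, rfl⟩
    · rintro ⟨⟨r', hr'⟩, rfl⟩
      funext i
      exact Ideal.Quotient.eq_zero_iff_mem.mpr ((hH r').mp hr' i)
  have hex' := Module.Flat.lTensor_exact B hex
  have htv : t ⊗ₜ[A] v = 0 := by
    apply (TensorProduct.piRight A A B (fun _ : Fin k => A ⧸ 𝔡)).injective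
    rw [map_zero]
    funext j
    rw [TensorProduct.piRight_apply, TensorProduct.piRightHom_tmul, Pi.zero_apply, hv]
    have e : Ideal.Quotient.mk 𝔡 (y j) = y j • (1 : A ⧸ 𝔡) := by
      rw [Algebra.smul_def, mul_one, Ideal.Quotient.algebraMap_eq]
    show t ⊗ₜ[A] (Ideal.Quotient.mk 𝔡 (y j)) = 0
    rw [e, TensorProduct.tmul_smul, TensorProduct.smul_tmul', Algebra.smul_def]
    exact Groth.Agent.H47.HensNoeth.tmul_one_eq_zero_of_mem_map 𝔡 (ht j)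
  have h1 : (LinearMap.toSpanSingleton A (Fin k → A ⧸ 𝔡) v).lTensor B (t ⊗ₜ[A] (1 : A)) = 0 := by
    rw [LinearMap.lTensor_tmul, LinearMap.toSpanSingleton_apply, one_smul]; exact htv
  obtain ⟨τ, hτ⟩ := (hex' _).1 h1
  have key : ∀ τ : B ⊗[A] H,
      TensorProduct.rid A B (H.subtype.lTensor B τ) ∈ H.map (algebraMap A B) := by
    intro τ
    induction τ using TensorProduct.induction_on with
    | zero => simp
    | tmul r a =>
      rw [LinearMap.lTensor_tmul, TensorProduct.rid_tmul, Submodule.subtype_apply,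
        Algebra.smul_def]
      exact Ideal.mul_mem_right _ _ (Ideal.mem_map_of_mem _ a.2)
    | add τ τ' h h' =>
      rw [map_add, map_add]; exact Ideal.add_mem _ h h'
  have h2 := key τ
  rw [hτ, TensorProduct.rid_tmul, one_smul] at h2
  exact h2

section Main

variable {B₁ B₂ : Type u} [CommRing B₁] [HenselianLocalRing B₁] [IsNoetherianRing B₁]
  [CommRing B₂] [IsLocalRing B₂] [IsNoetherianRing B₂] [Algebra B₁ B₂]
  [Module.Flat B₁ B₂] [IsLocalHom (algebraMap B₁ B₂)]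

local notation "φ" => algebraMap B₁ B₂

omit [IsNoetherianRing B₁] [IsNoetherianRing B₂] in
/-- Easy direction: a disconnection downstairs extends. -/
theorem disc_map (hmax : (maximalIdeal B₁).map φ = maximalIdeal B₂) (h : Disc B₁) : Disc B₂ := by
  haveI : Module.FaithfullyFlat B₁ B₂ := Module.FaithfullyFlat.of_flat_of_isLocalHom
  obtain ⟨I, J, h1, h2, ⟨P₁, hP₁, hne₁, hI⟩, ⟨P₂, hP₂, hne₂, hJ⟩⟩ := h
  have hkey : ∀ P : Ideal B₂, P.IsPrime → P.comap φ = maximalIdeal B₁ →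
      P = maximalIdeal B₂ := by
    intro P hP hc
    have hle : maximalIdeal B₂ ≤ P := by
      rw [← hmax, Ideal.map_le_iff_le_comap, hc]
    exact ((maximalIdeal.isMaximal B₂).eq_of_le hP.ne_top hle).symm
  have hcm : (maximalIdeal B₂).comap φ = maximalIdeal B₁ :=
    ((maximalIdeal.isMaximal B₁).eq_of_le
      (Ideal.comap_ne_top _ (maximalIdeal.isMaximal B₂).ne_top)
      (by rw [← Ideal.map_le_iff_le_comap, hmax])).symm
  have hlift : ∀ Q : Ideal B₁, Q.IsPrime → Q ≠ maximalIdeal B₁ →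
      ∃ P : Ideal B₂, P.IsPrime ∧ P ≠ maximalIdeal B₂ ∧ P.comap φ = Q := by
    intro Q hQ hne
    obtain ⟨P, hP⟩ := PrimeSpectrum.comap_surjective_of_faithfullyFlat (A := B₁) (B := B₂) ⟨Q, hQ⟩
    have hPQ : P.asIdeal.comap φ = Q := congrArg PrimeSpectrum.asIdeal hP
    refine ⟨P.asIdeal, P.isPrime, ?_, hPQ⟩
    intro hPm
    apply hne
    rw [← hPQ, hPm, hcm]
  refine ⟨I.map φ, J.map φ, ?_, ?_, ?_, ?_⟩
  · intro P hP hPne
    haveI := hP
    have hcp : (P.comap φ).IsPrime := inferInstance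
    have hcne : P.comap φ ≠ maximalIdeal B₁ := fun hc => hPne (hkey P hP hc)
    rcases h1 _ hcp hcne with h | h
    · exact Or.inl (Ideal.map_le_iff_le_comap.mpr h)
    · exact Or.inr (Ideal.map_le_iff_le_comap.mpr h)
  · intro P hP hIP hJP
    haveI := hP
    have hcp : (P.comap φ).IsPrime := inferInstance
    exact hkey P hP (h2 _ hcp (Ideal.map_le_iff_le_comap.mp hIP) (Ideal.map_le_iff_le_comap.mp hJP))
  · obtain ⟨P, hP, hPne, hPQ⟩ := hlift P₁ hP₁ hne₁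
    exact ⟨P, hP, hPne, Ideal.map_le_iff_le_comap.mpr (by rw [hPQ]; exact hI)⟩
  · obtain ⟨P, hP, hPne, hPQ⟩ := hlift P₂ hP₂ hne₂
    exact ⟨P, hP, hPne, Ideal.map_le_iff_le_comap.mpr (by rw [hPQ]; exact hJ)⟩

/-- Hard direction: a disconnection of the punctured spectrum of `B₂` descends to `B₁`. -/
theorem disc_of_disc
    (hmax : (maximalIdeal B₁).map φ = maximalIdeal B₂)
    (hres : ∀ t : B₂, ∃ s : B₁, t - φ s ∈ maximalIdeal B₂)
    (h : Disc B₂) : Disc B₁ := by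
  classical
  haveI : Module.FaithfullyFlat B₁ B₂ := Module.FaithfullyFlat.of_flat_of_isLocalHom
  obtain ⟨I₀, J₀, hd1, hd2, ⟨P₁, hP₁, hP₁ne, hIP₁⟩, ⟨P₂, hP₂, hP₂ne, hJP₂⟩⟩ := h
  have hcontr : ∀ (𝔞 : Ideal B₁) (s : B₁), φ s ∈ 𝔞.map φ → s ∈ 𝔞 := by
    intro 𝔞 s hs
    have h0 := Ideal.mem_comap.mpr hs
    rwa [Ideal.comap_map_eq_self_of_faithfullyFlat] at h0
  have hφm : ∀ z ∈ maximalIdeal B₁, φ z ∈ maximalIdeal B₂ := fun z hz => by
    rw [← hmax]; exact Ideal.mem_map_of_mem _ hz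
  have hkey : ∀ P : Ideal B₂, P.IsPrime → P.comap φ = maximalIdeal B₁ →
      P = maximalIdeal B₂ := by
    intro P hP hc
    have hle : maximalIdeal B₂ ≤ P := by
      rw [← hmax, Ideal.map_le_iff_le_comap, hc]
    exact ((maximalIdeal.isMaximal B₂).eq_of_le hP.ne_top hle).symm
  have hnotmin : maximalIdeal B₁ ∉ minimalPrimes B₁ := by
    intro hmin
    apply hP₁ne
    apply hkey P₁ hP₁
    haveI := hP₁
    have hcp : (P₁.comap φ).IsPrime := inferInstance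
    exact le_antisymm (le_maximalIdeal hcp.ne_top)
      (hmin.2 ⟨hcp, bot_le⟩ (le_maximalIdeal hcp.ne_top))
  have hfin₁ := Ideal.finite_minimalPrimes_of_isNoetherianRing B₁ (⊥ : Ideal B₁)
  obtain ⟨x, hxm, hxQ⟩ : ∃ x ∈ maximalIdeal B₁, ∀ Q ∈ minimalPrimes B₁, x ∉ Q := by
    by_contra hcon
    have hcon' : ∀ z ∈ maximalIdeal B₁, ∃ Q ∈ minimalPrimes B₁, z ∈ Q := by
      intro z hz
      by_contra h
      exact hcon ⟨z, hz, fun Q hQ hzQ => h ⟨Q, hQ, hzQ⟩⟩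
    have hsub : ((maximalIdeal B₁ : Ideal B₁) : Set B₁) ⊆
        ⋃ Q ∈ (hfin₁.toFinset : Set (Ideal B₁)), ((id Q : Ideal B₁) : Set B₁) := by
      intro z hz
      obtain ⟨Q, hQ, hzQ⟩ := hcon' z hz
      exact Set.mem_biUnion (Finset.mem_coe.mpr (hfin₁.mem_toFinset.mpr hQ)) hzQ
    obtain ⟨Q, hQ, hle⟩ := (Ideal.subset_union_prime (f := id) (maximalIdeal B₁)
      (maximalIdeal B₁) (fun i hi _ _ => (hfin₁.mem_toFinset.mp hi).1.1)).mp hsub
    have hQmin : Q ∈ minimalPrimes B₁ := hfin₁.mem_toFinset.mp hQ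
    have hQeq : Q = maximalIdeal B₁ :=
      ((maximalIdeal.isMaximal B₁).eq_of_le hQmin.1.1.ne_top hle).symm
    rw [hQeq] at hQmin
    exact hnotmin hQmin
  have hreg₁ : ∀ t : B₁, x * t ∈ (⊥ : Ideal B₁).radical → t ∈ (⊥ : Ideal B₁).radical :=
    reg_radical_bot x hxQ
  obtain ⟨ξ, hξ⟩ : ∃ ξ : B₂, ξ = φ x := ⟨_, rfl⟩
  have hξm : ξ ∈ maximalIdeal B₂ := by rw [hξ]; exact hφm x hxm
  have hξQ : ∀ Q ∈ minimalPrimes B₂, ξ ∉ Q := by
    intro Q hQ hξQ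
    exact hxQ _ (Groth.Agent.H47.HensCompletion.comap_mem_minimalPrimes hQ)
      (by rw [Ideal.mem_comap, ← hξ]; exact hξQ)
  have hreg₂ : ∀ t : B₂, ξ * t ∈ (⊥ : Ideal B₂).radical → t ∈ (⊥ : Ideal B₂).radical :=
    reg_radical_bot ξ hξQ
  obtain ⟨𝔫₂, h𝔫₂⟩ : ∃ 𝔫₂ : Ideal B₂, 𝔫₂ = (⊥ : Ideal B₂).radical := ⟨_, rfl⟩
  obtain ⟨𝔥, h𝔥⟩ : ∃ 𝔥 : Ideal B₁, 𝔥 = (⊥ : Ideal B₁).radical := ⟨_, rfl⟩
  rw [← h𝔫₂] at hreg₂
  rw [← h𝔥] at hreg₁
  have hreg₁' := mem_of_pow_mul_mem 𝔥 x hreg₁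
  have hreg₂' := mem_of_pow_mul_mem 𝔫₂ ξ hreg₂
  have h𝔫₂P : ∀ P : Ideal B₂, P.IsPrime → 𝔫₂ ≤ P := fun P hP => by
    rw [h𝔫₂]; exact hP.radical_le_iff.mpr bot_le
  have h𝔥P : ∀ P : Ideal B₁, P.IsPrime → 𝔥 ≤ P := fun P hP => by
    rw [h𝔥]; exact hP.radical_le_iff.mpr bot_le
  have hφ𝔥 : ∀ z ∈ 𝔥, φ z ∈ 𝔫₂ := by
    intro z hz
    rw [h𝔥] at hz
    obtain ⟨n, hn⟩ := hz
    rw [h𝔫₂]
    refine ⟨n, ?_⟩
    rw [← map_pow, (Ideal.mem_bot).mp hn, map_zero]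
    exact Ideal.zero_mem _
  -- Step A: normalize the disconnection
  have hI₀m : I₀ ≤ maximalIdeal B₂ := hIP₁.trans (le_maximalIdeal hP₁.ne_top)
  have hIJ₀ : I₀ * J₀ ≤ 𝔫₂ := by
    rw [h𝔫₂, Ideal.radical_eq_sInf]
    refine le_sInf ?_
    rintro P ⟨-, hP⟩
    by_cases hPm : P = maximalIdeal B₂
    · rw [hPm]; exact Ideal.mul_le_inf.trans (inf_le_left.trans hI₀m)
    · rcases hd1 P hP hPm with h | h
      · exact Ideal.mul_le_inf.trans (inf_le_left.trans h)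
      · exact Ideal.mul_le_inf.trans (inf_le_right.trans h)
  obtain ⟨M, hM⟩ := Ideal.exists_radical_pow_le_of_fg (⊥ : Ideal B₂) (IsNoetherian.noetherian _)
  rw [← h𝔫₂] at hM
  obtain ⟨I, hI⟩ : ∃ I : Ideal B₂, I = I₀ ^ (M + 1) := ⟨_, rfl⟩
  obtain ⟨J, hJ⟩ : ∃ J : Ideal B₂, J = J₀ ^ (M + 1) := ⟨_, rfl⟩
  have hIJ : ∀ i ∈ I, ∀ j ∈ J, i * j = 0 := by
    intro i hi j hj
    have h0 : i * j ∈ I * J := Ideal.mul_mem_mul hi hj
    rw [hI, hJ, ← mul_pow] at h0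
    have h1 : (I₀ * J₀) ^ (M + 1) ≤ ⊥ :=
      (Ideal.pow_right_mono hIJ₀ (M + 1)).trans
        ((Ideal.pow_le_pow_right (Nat.le_succ M)).trans hM)
    exact (Ideal.mem_bot).mp (h1 h0)
  have hmrad : maximalIdeal B₂ ≤ (I₀ ⊔ J₀).radical := by
    rw [Ideal.radical_eq_sInf]
    refine le_sInf ?_
    rintro P ⟨hle, hP⟩
    rw [hd2 P hP (le_sup_left.trans hle) (le_sup_right.trans hle)]
  obtain ⟨c₀, hc₀⟩ := Ideal.exists_pow_le_of_le_radical_of_fg hmrad (IsNoetherian.noetherian _)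
  obtain ⟨c, hc⟩ : ∃ c : ℕ, c = c₀ * ((M + 1) + (M + 1)) := ⟨_, rfl⟩
  have hmc : maximalIdeal B₂ ^ c ≤ I ⊔ J := by
    rw [hc, pow_mul, hI, hJ]
    exact (Ideal.pow_right_mono hc₀ _).trans Ideal.sup_pow_add_le_pow_sup_pow
  have hξc : ξ ^ c ∈ I ⊔ J := hmc (Ideal.pow_mem_pow hξm c)
  obtain ⟨a, haI, b, hbJ, hab⟩ := Submodule.mem_sup.mp hξc
  have hab0 : a * b = 0 := hIJ a haI b hbJ
  have ha2 : a * a = ξ ^ c * a := by rw [← hab]; linear_combination (-1 : B₂) * hab0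
  have hb2 : b * b = ξ ^ c * b := by rw [← hab]; linear_combination (-1 : B₂) * hab0
  have hyb : ∀ y ∈ maximalIdeal B₂ ^ c, ∃ w : B₂, y * b = ξ ^ c * w := by
    intro y hy
    obtain ⟨ay, hay, by', hby, hy'⟩ := Submodule.mem_sup.mp (hmc hy)
    have e1 : ay * b = 0 := hIJ ay hay b hbJ
    have e2 : a * by' = 0 := hIJ a haI by' hby
    exact ⟨by', by linear_combination e1 - e2 - b * hy' + by' * hab⟩
  have hb_nn : b ∉ 𝔫₂ := by
    intro hb
    have hJn : J ≤ 𝔫₂ := by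
      intro t ht
      apply hreg₂' c
      have : ξ ^ c * t = b * t := by rw [← hab]; linear_combination hIJ a haI t ht
      rw [this]; exact Ideal.mul_mem_right _ _ hb
    apply hP₁ne
    apply hd2 P₁ hP₁ hIP₁
    haveI := hP₁
    have : J₀ ^ (M + 1) ≤ P₁ := by rw [← hJ]; exact hJn.trans (h𝔫₂P P₁ hP₁)
    exact Ideal.IsPrime.le_of_pow_le this
  have ha_nn : a ∉ 𝔫₂ := by
    intro ha
    have hIn : I ≤ 𝔫₂ := by
      intro t ht
      apply hreg₂' c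
      have : ξ ^ c * t = a * t := by rw [← hab]; linear_combination hIJ t ht b hbJ
      rw [this]; exact Ideal.mul_mem_right _ _ ha
    apply hP₂ne
    refine hd2 P₂ hP₂ ?_ hJP₂
    haveI := hP₂
    have : I₀ ^ (M + 1) ≤ P₂ := by rw [← hI]; exact hIn.trans (h𝔫₂P P₂ hP₂)
    exact Ideal.IsPrime.le_of_pow_le this
  -- Step B: descend `b` modulo `ξ^c`
  obtain ⟨k, y, hy⟩ := Submodule.fg_iff_exists_fin_generating_family.mp
    (IsNoetherian.noetherian (maximalIdeal B₁ ^ c))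
  have hy2 : Ideal.span (Set.range y) = maximalIdeal B₁ ^ c := hy
  obtain ⟨𝔡, h𝔡⟩ : ∃ 𝔡 : Ideal B₁, 𝔡 = Ideal.span {x ^ c} := ⟨_, rfl⟩
  have h𝔡map : 𝔡.map φ = Ideal.span {ξ ^ c} := by
    rw [h𝔡, Ideal.map_span, Set.image_singleton, map_pow, ← hξ]
  obtain ⟨H, hH⟩ : ∃ H : Ideal B₁, H = ⨅ i, colonIdeal 𝔡 (y i) := ⟨_, rfl⟩
  have hHmem : ∀ s, s ∈ H ↔ ∀ i, s * y i ∈ 𝔡 := by
    intro s; rw [hH, Ideal.mem_iInf]; exact Iff.rfl
  have hφpow : ∀ z ∈ maximalIdeal B₁ ^ c, φ z ∈ maximalIdeal B₂ ^ c := by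
    intro z hz
    rw [← hmax, ← Ideal.map_pow]; exact Ideal.mem_map_of_mem _ hz
  have hφy : ∀ i, φ (y i) ∈ maximalIdeal B₂ ^ c := fun i =>
    hφpow _ (by rw [← hy2]; exact Ideal.subset_span ⟨i, rfl⟩)
  have hbH : b ∈ H.map φ := by
    apply mem_map_of_forall_mul_mem 𝔡 y H hHmem b
    intro i
    obtain ⟨w, hw⟩ := hyb _ (hφy i)
    rw [hw, h𝔡map]
    exact Ideal.mul_mem_right _ _ (Ideal.subset_span rfl)
  have hHm : ∀ s' ∈ H, ∀ r ∈ maximalIdeal B₂ ^ c, r * φ s' ∈ Ideal.span {ξ ^ c} := by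
    intro s' hs' r hr
    have hs'y : ∀ z ∈ maximalIdeal B₁ ^ c, z * s' ∈ 𝔡 := by
      intro z hz
      rw [← hy2] at hz
      obtain ⟨e, rfl⟩ := (Submodule.mem_span_range_iff_exists_fun B₁).mp hz
      rw [Finset.sum_mul]
      refine 𝔡.sum_mem fun i _ => ?_
      have : e i • y i * s' = e i * (s' * y i) := by rw [smul_eq_mul]; ring
      rw [this]; exact 𝔡.mul_mem_left _ ((hHmem s').mp hs' i)
    rw [← hmax, ← Ideal.map_pow] at hr
    rw [← h𝔡map]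
    refine Submodule.span_induction (p := fun r _ => r * φ s' ∈ 𝔡.map φ) ?_ ?_ ?_ ?_ hr
    · rintro _ ⟨z, hz, rfl⟩
      rw [← map_mul]; exact Ideal.mem_map_of_mem _ (hs'y z hz)
    · rw [zero_mul]; exact Ideal.zero_mem _
    · intro r₁ r₂ _ _ h₁ h₂
      rw [add_mul]; exact Ideal.add_mem _ h₁ h₂
    · intro τ r₁ _ h₁
      rw [smul_eq_mul, mul_assoc]; exact Ideal.mul_mem_left _ _ h₁
  have happ : ∀ z ∈ H.map φ, ∃ s ∈ H, z - φ s ∈ Ideal.span {ξ ^ c} := by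
    intro z hz
    refine Submodule.span_induction (p := fun z _ => ∃ s ∈ H,
      z - φ s ∈ Ideal.span {ξ ^ c}) ?_ ?_ ?_ ?_ hz
    · rintro _ ⟨μ, hμ, rfl⟩
      exact ⟨μ, hμ, by simp⟩
    · exact ⟨0, H.zero_mem, by simp⟩
    · rintro z₁ z₂ _ _ ⟨s₁, hs₁, h₁⟩ ⟨s₂, hs₂, h₂⟩
      refine ⟨s₁ + s₂, H.add_mem hs₁ hs₂, ?_⟩
      have : z₁ + z₂ - φ (s₁ + s₂) = (z₁ - φ s₁) + (z₂ - φ s₂) := by rw [map_add]; ring
      rw [this]; exact Ideal.add_mem _ h₁ h₂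
    · rintro τ z _ ⟨s', hs', h'⟩
      obtain ⟨sτ, hsτ⟩ := exists_sub_mem_pow hmax hres c τ
      refine ⟨sτ * s', H.mul_mem_left _ hs', ?_⟩
      have : τ • z - φ (sτ * s') = τ * (z - φ s') + (τ - φ sτ) * φ s' := by
        rw [map_mul, smul_eq_mul]; ring
      rw [this]
      exact Ideal.add_mem _ (Ideal.mul_mem_left _ _ h') (hHm s' hs' _ hsτ)
  obtain ⟨β₀, -, hβ₀⟩ := happ b hbH
  obtain ⟨ρ₀, hρ₀⟩ := Ideal.mem_span_singleton'.mp hβ₀
  obtain ⟨s₀, hs₀⟩ := hres ρ₀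
  obtain ⟨β, hβdef⟩ : ∃ β : B₁, β = β₀ + s₀ * x ^ c := ⟨_, rfl⟩
  obtain ⟨ρ', hρ'def⟩ : ∃ ρ' : B₂, ρ' = φ s₀ - ρ₀ := ⟨_, rfl⟩
  have hρ'm : ρ' ∈ maximalIdeal B₂ := by
    have : ρ' = -(ρ₀ - φ s₀) := by rw [hρ'def]; ring
    rw [this]; exact neg_mem hs₀
  have hβ : φ β = b + ξ ^ c * ρ' := by
    rw [hβdef, hρ'def, map_add, map_mul, map_pow, ← hξ]
    linear_combination hρ₀
  -- Step C: a monic quadratic relation over `B₁`
  have hφβ2 : φ β * φ β =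
      (1 + 2 * ρ') * (ξ ^ c * φ β) - ρ' * (1 + ρ') * (ξ ^ c * ξ ^ c) := by
    rw [hβ]; linear_combination hb2
  have hβ2mem : β * β ∈ Ideal.span {x ^ c * β, x ^ c * x ^ c} := by
    apply hcontr
    rw [Ideal.map_span, Set.image_pair, map_mul, map_mul, map_mul, map_pow, ← hξ, hφβ2,
      Ideal.mem_span_pair]
    exact ⟨1 + 2 * ρ', -(ρ' * (1 + ρ')), by ring⟩
  obtain ⟨s, t, hst⟩ := Ideal.mem_span_pair.mp hβ2mem
  have hφst : φ s * (ξ ^ c * φ β) + φ t * (ξ ^ c * ξ ^ c) = φ β * φ β := by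
    have h0 := congrArg φ hst
    rw [map_add, map_mul, map_mul, map_mul, map_mul, map_mul, map_pow, ← hξ] at h0
    exact h0
  -- Step D: reduction of the quadratic modulo the maximal ideal
  obtain ⟨σ, hσ⟩ : ∃ σ : B₂, σ = φ s - 1 - 2 * ρ' := ⟨_, rfl⟩
  obtain ⟨τ, hτ⟩ : ∃ τ : B₂, τ = σ * ρ' + φ t + ρ' * (1 + ρ') := ⟨_, rfl⟩
  have hzero : ξ ^ c * (σ * b + τ * ξ ^ c) = 0 := by
    rw [hτ, hσ]
    linear_combination hφst + hφβ2 - (φ s - 1 - 2 * ρ') * ξ ^ c * hβ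
  have hστ : σ * b + τ * ξ ^ c ∈ 𝔫₂ := by
    apply hreg₂' c
    rw [hzero]; exact 𝔫₂.zero_mem
  have hτm : τ ∈ maximalIdeal B₂ := by
    by_contra hτu
    have hu := IsLocalRing.notMem_maximalIdeal.mp hτu
    apply ha_nn
    have h1 : ξ ^ c * (τ * a) ∈ 𝔫₂ := by
      have : ξ ^ c * (τ * a) = a * (σ * b + τ * ξ ^ c) - σ * (a * b) := by ring
      rw [this, hab0, mul_zero, sub_zero]; exact Ideal.mul_mem_left _ _ hστ
    have h2 := hreg₂' c _ h1
    exact (Ideal.unit_mul_mem_iff_mem _ hu).mp h2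
  have hστm : σ + τ ∈ maximalIdeal B₂ := by
    by_contra hu'
    have hu := IsLocalRing.notMem_maximalIdeal.mp hu'
    apply hb_nn
    have h1 : ξ ^ c * ((σ + τ) * b) ∈ 𝔫₂ := by
      have : ξ ^ c * ((σ + τ) * b) =
          b * (σ * b + τ * ξ ^ c) - σ * (b * b - ξ ^ c * b) := by ring
      rw [this, hb2, sub_self, mul_zero, sub_zero]; exact Ideal.mul_mem_left _ _ hστ
    have h2 := hreg₂' c _ h1
    exact (Ideal.unit_mul_mem_iff_mem _ hu).mp h2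
  have hσm : σ ∈ maximalIdeal B₂ := by
    have : σ = (σ + τ) - τ := by ring
    rw [this]; exact Ideal.sub_mem _ hστm hτm
  have hs1 : s - 1 ∈ maximalIdeal B₁ := by
    rw [mem_maximalIdeal, ← map_mem_nonunits_iff φ, ← mem_maximalIdeal]
    have : φ (s - 1) = σ + 2 * ρ' := by rw [hσ, map_sub, map_one]; ring
    rw [this]; exact Ideal.add_mem _ hσm (Ideal.mul_mem_left _ _ hρ'm)
  have htm : t ∈ maximalIdeal B₁ := by
    rw [mem_maximalIdeal, ← map_mem_nonunits_iff φ, ← mem_maximalIdeal]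
    have : φ t = τ - σ * ρ' - ρ' * (1 + ρ') := by rw [hτ]; ring
    rw [this]
    exact Ideal.sub_mem _ (Ideal.sub_mem _ hτm (Ideal.mul_mem_right _ _ hσm))
      (Ideal.mul_mem_right _ _ hρ'm)
  -- Step E: Hensel
  have hsu : IsUnit s := by
    apply IsLocalRing.notMem_maximalIdeal.mp
    intro hsm
    have h1 : (1 : B₁) ∈ maximalIdeal B₁ := by
      have e : (1 : B₁) = s - (s - 1) := by ring
      rw [e]; exact Ideal.sub_mem _ hsm hs1
    exact (maximalIdeal.isMaximal B₁).ne_top ((Ideal.eq_top_iff_one _).mpr h1)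
  obtain ⟨r₀, hr₀, hr₀m⟩ := HenselianLocalRing.is_henselian (X ^ 2 - (C s * X + C t) : B₁[X])
    (monic_X_pow_sub (lt_of_le_of_lt degree_linear_le (by norm_num))) 0
    (by simpa using htm) (by simpa using hsu)
  have hroot : r₀ ^ 2 - (s * r₀ + t) = 0 := by simpa [IsRoot.def] using hr₀
  have hr₀m' : r₀ ∈ maximalIdeal B₁ := by simpa using hr₀m
  -- Step F: the idempotent-like element
  have hv₀u : IsUnit (s - 2 * r₀) := by
    apply IsLocalRing.notMem_maximalIdeal.mp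
    intro hvm
    have h1 : (1 : B₁) ∈ maximalIdeal B₁ := by
      have e : (1 : B₁) = (s - 2 * r₀) - (s - 1) + 2 * r₀ := by ring
      rw [e]
      exact Ideal.add_mem _ (Ideal.sub_mem _ hvm hs1) (Ideal.mul_mem_left _ _ hr₀m')
    exact (maximalIdeal.isMaximal B₁).ne_top ((Ideal.eq_top_iff_one _).mpr h1)
  obtain ⟨u, hu⟩ := hv₀u
  obtain ⟨w, hwdef⟩ : ∃ w : B₁, w = ↑u⁻¹ := ⟨_, rfl⟩
  have hw : w * (s - 2 * r₀) = 1 := by rw [hwdef, ← hu, Units.inv_mul]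
  obtain ⟨β', hβ'⟩ : ∃ β' : B₁, β' = w * (β - r₀ * x ^ c) := ⟨_, rfl⟩
  have hβ'2 : β' * β' = x ^ c * β' := by
    rw [hβ']
    linear_combination (-(w ^ 2)) * hst + (-(w ^ 2) * (x ^ c) ^ 2) * hroot +
      (w * (β - r₀ * x ^ c) * x ^ c) * hw
  -- Step G
  have hβ'y : ∀ z ∈ maximalIdeal B₁ ^ c, ∃ sz : B₁, z * β' = x ^ c * sz := by
    intro z hz
    obtain ⟨wz, hwz⟩ := hyb _ (hφpow z hz)
    have hmem : z * β' ∈ Ideal.span {x ^ c} := by
      apply hcontr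
      rw [Ideal.map_span, Set.image_singleton, map_pow, ← hξ, Ideal.mem_span_singleton']
      refine ⟨φ w * (wz + φ z * (ρ' - φ r₀)), ?_⟩
      rw [hβ', map_mul, map_mul, map_sub, map_mul, map_pow, ← hξ, hβ]
      linear_combination (-(φ w)) * hwz
    obtain ⟨sz, hsz⟩ := Ideal.mem_span_singleton'.mp hmem
    exact ⟨sz, by rw [← hsz]; ring⟩
  have hNN : ∀ (e κ : B₂), e * e = ξ ^ c * e → κ ∈ maximalIdeal B₂ →
      e - ξ ^ c * κ ∈ 𝔫₂ → e ∈ 𝔫₂ := by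
    intro e κ he hκ hn
    have h1 : ξ ^ c * (ξ ^ c * (κ * (κ - 1))) ∈ 𝔫₂ := by
      have : ξ ^ c * (ξ ^ c * (κ * (κ - 1))) =
          -((e - ξ ^ c * κ) * ((e - ξ ^ c * κ) + 2 * (ξ ^ c * κ) - ξ ^ c)) := by
        linear_combination he
      rw [this]; exact neg_mem (Ideal.mul_mem_right _ _ hn)
    have h2 := hreg₂' c _ (hreg₂' c _ h1)
    have hu : IsUnit (κ - 1) := by
      have h0 := isUnit_one_sub_self_of_mem_nonunits κ ((mem_maximalIdeal _).mp hκ)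
      have e' : κ - 1 = -(1 - κ) := by ring
      rw [e']; exact h0.neg
    have h3 : κ ∈ 𝔫₂ := (Ideal.mul_unit_mem_iff_mem _ hu).mp h2
    have : e = (e - ξ ^ c * κ) + ξ ^ c * κ := by ring
    rw [this]; exact Ideal.add_mem _ hn (Ideal.mul_mem_left _ _ h3)
  -- Step H: the disconnection of the punctured spectrum of `B₁`
  refine ⟨colonIdeal 𝔥 β', colonIdeal 𝔥 (x ^ c - β'), ?_, ?_, ?_, ?_⟩
  · intro P hP _
    by_cases hI' : colonIdeal 𝔥 β' ≤ P
    · exact Or.inl hI'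
    · right
      obtain ⟨t₀, ht₀, ht₀P⟩ := SetLike.not_le_iff_exists.mp hI'
      intro s₁ hs₁
      have h1 : x ^ c * (t₀ * s₁) ∈ 𝔥 := by
        have : x ^ c * (t₀ * s₁) = s₁ * (t₀ * β') + t₀ * (s₁ * (x ^ c - β')) := by ring
        rw [this]
        exact Ideal.add_mem _ (Ideal.mul_mem_left _ _ (mem_colonIdeal.mp ht₀))
          (Ideal.mul_mem_left _ _ (mem_colonIdeal.mp hs₁))
      have h2 := h𝔥P P hP (hreg₁' c _ h1)
      exact (hP.mem_or_mem h2).resolve_left ht₀P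
  · intro P hP hI' hJ'
    have hle : maximalIdeal B₁ ^ c ≤ P := by
      intro z hz
      obtain ⟨sz, hsz⟩ := hβ'y z hz
      have h1 : sz ∈ colonIdeal 𝔥 (x ^ c - β') := by
        rw [mem_colonIdeal]
        apply hreg₁' c
        have : x ^ c * (sz * (x ^ c - β')) = 0 := by
          linear_combination (-(x ^ c - β')) * hsz + (-z) * hβ'2
        rw [this]; exact 𝔥.zero_mem
      have h2 : z - sz ∈ colonIdeal 𝔥 β' := by
        rw [mem_colonIdeal]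
        apply hreg₁' c
        have : x ^ c * ((z - sz) * β') = 0 := by
          linear_combination β' * hsz + (-z) * hβ'2
        rw [this]; exact 𝔥.zero_mem
      have : z = sz + (z - sz) := by ring
      rw [this]; exact P.add_mem (hJ' h1) (hI' h2)
    haveI := hP
    exact ((maximalIdeal.isMaximal B₁).eq_of_le hP.ne_top
      (Ideal.IsPrime.le_of_pow_le hle)).symm
  · by_contra hcon
    have hall : ∀ P : Ideal B₁, P.IsPrime → colonIdeal 𝔥 β' ≤ P → P = maximalIdeal B₁ := by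
      intro P hP hle
      by_contra hne
      exact hcon ⟨P, hP, hne, hle⟩
    have hxrad : x ∈ (colonIdeal 𝔥 β').radical := by
      rw [Ideal.radical_eq_sInf, Ideal.mem_sInf]
      rintro P ⟨hle, hP⟩
      rw [hall P hP hle]; exact hxm
    obtain ⟨n, hn⟩ := hxrad
    have hβ'𝔥 : β' ∈ 𝔥 := hreg₁' n _ (mem_colonIdeal.mp hn)
    apply hb_nn
    have h1 : β - r₀ * x ^ c ∈ 𝔥 := by
      have : β - r₀ * x ^ c = (s - 2 * r₀) * β' := by
        rw [hβ']; linear_combination (-(β - r₀ * x ^ c)) * hw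
      rw [this]; exact Ideal.mul_mem_left _ _ hβ'𝔥
    have h2 := hφ𝔥 _ h1
    refine hNN b (φ r₀ - ρ') hb2 (Ideal.sub_mem _ (hφm _ hr₀m') hρ'm) ?_
    have : b - ξ ^ c * (φ r₀ - ρ') = φ (β - r₀ * x ^ c) := by
      rw [map_sub, map_mul, map_pow, ← hξ, hβ]; ring
    rw [this]; exact h2
  · by_contra hcon
    have hall : ∀ P : Ideal B₁, P.IsPrime → colonIdeal 𝔥 (x ^ c - β') ≤ P →
        P = maximalIdeal B₁ := by
      intro P hP hle
      by_contra hne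
      exact hcon ⟨P, hP, hne, hle⟩
    have hxrad : x ∈ (colonIdeal 𝔥 (x ^ c - β')).radical := by
      rw [Ideal.radical_eq_sInf, Ideal.mem_sInf]
      rintro P ⟨hle, hP⟩
      rw [hall P hP hle]; exact hxm
    obtain ⟨n, hn⟩ := hxrad
    have hx𝔥 : x ^ c - β' ∈ 𝔥 := hreg₁' n _ (mem_colonIdeal.mp hn)
    apply ha_nn
    have h1 : (s - r₀) * x ^ c - β ∈ 𝔥 := by
      have : (s - r₀) * x ^ c - β = (s - 2 * r₀) * (x ^ c - β') := by
        rw [hβ']; linear_combination (β - r₀ * x ^ c) * hw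
      rw [this]; exact Ideal.mul_mem_left _ _ hx𝔥
    have h2 := hφ𝔥 _ h1
    refine hNN a (1 - φ (s - r₀) + ρ') ha2 ?_ ?_
    · have : 1 - φ (s - r₀) + ρ' = -(φ (s - 1)) + φ r₀ + ρ' := by
        rw [map_sub, map_sub, map_one]; ring
      rw [this]
      exact Ideal.add_mem _ (Ideal.add_mem _ (neg_mem (hφm _ hs1)) (hφm _ hr₀m')) hρ'm
    · have : a - ξ ^ c * (1 - φ (s - r₀) + ρ') = φ ((s - r₀) * x ^ c - β) := by
        simp only [map_sub, map_mul, map_pow, ← hξ]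
        rw [hβ]; linear_combination hab
      rw [this]; exact h2

end Main

end Groth.Agent.H47.PuncDisc
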