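import Mathlib
import Groth.Agent.H47.UnibranchStrict
import Groth.Agent.H47.Radicial
import Groth.Agent.H47.FieldBC
import Groth.Agent.H47.HensNoeth3
import Groth.Agent.H47.BranchCount
import Groth.Agent.S2129
import Groth.Agent.S0537
import Groth.Agent.H70.FibreBranchRing

/-!
# Geometric unibranchness and connectedness of punctured strictly henselian spectra (helper47)
-/

set_option autoImplicit false
universe u

open IsLocalRing

namespace Groth.Agent.H47.PuncturedConn

theorem isPrime_nilradical_of_faithfullyFlat (A B : Type*) [CommRing A] [CommRing B] [Algebra A B]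
    [Module.FaithfullyFlat A B] (h : (nilradical B).IsPrime) : (nilradical A).IsPrime :=
  Groth.Agent.H47.Radicial.isPrime_nilradical_of_comap (algebraMap A B) (fun x hx => by
    obtain ⟨n, hn⟩ := hx
    refine ⟨n, FaithfulSMul.algebraMap_injective A B ?_⟩
    rw [map_pow, hn, map_zero]) h

/-- étale ascent of "prime nilradical" from geometric unibranchness of the base local ring -/
theorem isPrime_nilradical_of_etale (A E : Type u) [CommRing A] [CommRing E] [Algebra A E]
    [Algebra.Etale A E] (𝔮 : Ideal A) [𝔮.IsPrime] (qE : Ideal E) [qE.IsPrime] [qE.LiesOver 𝔮]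
    (hGU : CAlg2.IsGeomUnibranch (Localization.AtPrime 𝔮)) :
    (nilradical (Localization.AtPrime qE)).IsPrime := by
  obtain ⟨Ash, _, _, _, _, hA⟩ := Groth.Agent.S0537.result (Localization.AtPrime 𝔮)
  obtain ⟨Bsh, _, _, _, _, hB⟩ := Groth.Agent.S0537.result (Localization.AtPrime qE)
  haveI := hA
  haveI := hB
  haveI : Algebra.Smooth A E := ⟨inferInstance, inferInstance⟩
  have hcard := Groth.Agent.S2129.result (R := A) (S := E) (Ash := Ash) (Bsh := Bsh) qE 𝔮
  have h1 : CAlgX.HasUniqueMinimalPrime Ash :=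
    (Groth.Agent.H47.UnibranchStrict.isGeomUnibranch_iff_hasUniqueMinimalPrime
      (Localization.AtPrime 𝔮) Ash).mp hGU
  have h2 : CAlgX.HasUniqueMinimalPrime Bsh := by
    obtain ⟨p, hp, hpu⟩ := h1
    have hs : minimalPrimes Ash = {p} := by
      ext p'
      exact ⟨fun h => hpu p' h, fun h => by rw [Set.mem_singleton_iff.mp h]; exact hp⟩
    rw [hs, Set.encard_singleton] at hcard
    obtain ⟨p', hp'⟩ := Set.encard_eq_one.mp hcard.symm
    refine ⟨p', by rw [hp']; rfl, fun y hy => ?_⟩
    rw [hp'] at hy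
    exact hy
  have h3 : (nilradical Bsh).IsPrime :=
    (Groth.Agent.H47.Unibranch.isPrime_nilradical_iff Bsh).mpr h2
  haveI : Module.FaithfullyFlat (Localization.AtPrime qE) Bsh :=
    (Groth.Agent.H47.HensNoeth.isIndEtaleLocal_of_isStrictHenselization _ Bsh).faithfullyFlat
  exact isPrime_nilradical_of_faithfullyFlat _ Bsh h3

section Key

variable (A S : Type u) [CommRing A] [IsLocalRing A] [CommRing S] [IsLocalRing S] [Algebra A S]
  [IsLocalHom (algebraMap A S)] [Hensel.IsStrictHenselization A S]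

set_option maxHeartbeats 1600000 in
/-- Two minimal primes of a strict henselization `S` of `A` contained in a prime `Q` coincide as
soon as `A` localized at `Q ∩ A` is geometrically unibranch. -/
theorem minimalPrimes_le_unique (Q : Ideal S) [Q.IsPrime]
    (hGU : CAlg2.IsGeomUnibranch (Localization.AtPrime (Q.comap (algebraMap A S))))
    {P P' : Ideal S} (hP : P ∈ minimalPrimes S) (hP' : P' ∈ minimalPrimes S) (hPQ : P ≤ Q)
    (hP'Q : P' ≤ Q) : P = P' := by
  by_contra hne
  haveI hPp : P.IsPrime := hP.1.1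
  haveI hP'p : P'.IsPrime := hP'.1.1
  have hnle : ¬ P ≤ P' := fun h => hne (le_antisymm h (hP'.2 ⟨hPp, bot_le⟩ h))
  obtain ⟨x, hxP, hxP'⟩ := Set.not_subset.mp hnle
  obtain ⟨s, hsP, n, hsx⟩ := Groth.Agent.H47.BranchCount.exists_mul_pow_eq_zero hP hxP
  have hI := Groth.Agent.H47.HensNoeth.isIndEtaleLocal_of_isStrictHenselization A S
  classical
  obtain ⟨E, _, _, _, φ, hφ⟩ := hI.rep ({s, x} : Finset S)
  obtain ⟨as, has⟩ := hφ s (by simp)
  obtain ⟨ax, hax⟩ := hφ x (by simp)
  letI : Algebra E S := φ.toRingHom.toAlgebra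
  have halg : ∀ e : E, algebraMap E S e = φ e := fun _ => rfl
  haveI : IsScalarTower A E S := IsScalarTower.of_algebraMap_eq (fun a => (φ.commutes a).symm)
  haveI : Module.Flat A S := hI.flat
  haveI : Module.Flat E S := Algebra.FormallyUnramified.flat_of_restrictScalars A E S
  let qE : Ideal E := Q.comap (algebraMap E S)
  haveI : qE.IsPrime := Ideal.comap_isPrime _ _
  haveI : qE.LiesOver (Q.comap (algebraMap A S)) := ⟨by
    rw [Ideal.under_def, Ideal.comap_comap, ← IsScalarTower.algebraMap_eq]⟩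
  have hnil := isPrime_nilradical_of_etale A E (Q.comap (algebraMap A S)) qE hGU
  have hz : algebraMap E S ((as * ax) ^ (n + 1)) = 0 := by
    rw [map_pow, map_mul, halg, halg, has, hax]
    calc (s * x) ^ (n + 1) = s ^ n * x * (s * x ^ n) := by ring
      _ = 0 := by rw [hsx, mul_zero]
  -- flatness: the relation lifts after localizing
  obtain ⟨w, hwq, hwz⟩ : ∃ w : E, w ∉ qE ∧ w * (as * ax) ^ (n + 1) = 0 := by
    have hrel : ∑ i : Fin 1, (fun _ => (as * ax) ^ (n + 1) : Fin 1 → E) i •
        (fun _ => (1 : S) : Fin 1 → S) i = 0 := by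
      simp [Algebra.smul_def, hz]
    obtain ⟨k, a, y, hxy, hfa⟩ := Module.Flat.isTrivialRelation_of_sum_smul_eq_zero (R := E) (M := S) hrel
    by_contra hcon
    push Not at hcon
    have hall : ∀ j, a 0 j ∈ qE := fun j => by
      by_contra h
      refine hcon _ h ?_
      have := hfa j
      simpa [mul_comm] using this
    have h1 : (1 : S) ∈ Q := by
      have := hxy 0
      simp only at this
      rw [this]
      exact Q.sum_mem (fun j _ => by
        rw [Algebra.smul_def]
        exact Q.mul_mem_right _ (hall j))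
    exact (Ideal.IsPrime.ne_top ‹Q.IsPrime›) ((Ideal.eq_top_iff_one _).mpr h1)
  have h0 : algebraMap E (Localization.AtPrime qE) as * algebraMap E (Localization.AtPrime qE) ax ∈
      nilradical (Localization.AtPrime qE) := by
    rw [mem_nilradical]
    refine ⟨n + 1, ?_⟩
    rw [← map_mul, ← map_pow]
    exact (IsLocalization.map_eq_zero_iff qE.primeCompl _ _).mpr ⟨⟨w, hwq⟩, hwz⟩
  have hfin : ∀ (b : E) (t : S) (Pt : Ideal S), Pt.IsPrime → Pt ≤ Q → φ b = t →
      algebraMap E (Localization.AtPrime qE) b ∈ nilradical (Localization.AtPrime qE) →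
      t ∈ Pt := by
    intro b t Pt hPt hPtQ hbt hb
    obtain ⟨k, hk⟩ := mem_nilradical.mp hb
    rw [← map_pow, IsLocalization.map_eq_zero_iff qE.primeCompl] at hk
    obtain ⟨⟨w', hw'⟩, hw'k⟩ := hk
    have h1 : φ w' * t ^ k = 0 := by
      rw [← hbt, ← map_pow, ← map_mul]
      simp only at hw'k
      rw [hw'k, map_zero]
    have hmem : φ w' * t ^ k ∈ Pt := by rw [h1]; exact Pt.zero_mem
    rcases hPt.mem_or_mem hmem with h2 | h2
    · exact absurd (hPtQ h2) hw'
    · exact hPt.mem_of_pow_mem _ h2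
  rcases hnil.mem_or_mem h0 with h | h
  · exact hsP (hfin as s P hPp hPQ has h)
  · exact hxP' (hfin ax x P' hP'p hP'Q hax h)

/-- If `A` is geometrically unibranch and has a non-maximal prime, then the punctured spectrum of
a strict henselization is connected. -/
theorem connectedSpace_punctured (hGU : CAlg2.IsGeomUnibranch A) (𝔮 : Ideal A) [𝔮.IsPrime]
    (h𝔮 : 𝔮 ≠ maximalIdeal A) :
    ConnectedSpace ↥({IsLocalRing.closedPoint S}ᶜ : Set (PrimeSpectrum S)) := by
  obtain ⟨P, hP, hPu⟩ :=
    (Groth.Agent.H47.UnibranchStrict.isGeomUnibranch_iff_hasUniqueMinimalPrime A S).mp hGU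
  have hI := Groth.Agent.H47.HensNoeth.isIndEtaleLocal_of_isStrictHenselization A S
  haveI : Module.FaithfullyFlat A S := hI.faithfullyFlat
  haveI hPp : P.IsPrime := hP.1.1
  obtain ⟨Q, hQ, hQ𝔮⟩ := Ideal.exists_isPrime_liesOver_of_faithfullyFlat (B := S) 𝔮
  have hPle : ∀ Q' : Ideal S, Q'.IsPrime → P ≤ Q' := by
    intro Q' hQ'
    obtain ⟨p, hp, hpQ'⟩ := Ideal.exists_minimalPrimes_le (I := (⊥ : Ideal S)) (J := Q') bot_le
    rw [← hPu p hp]
    exact hpQ'
  have hPm : P ≠ maximalIdeal S := by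
    intro h
    apply h𝔮
    have hQm : Q = maximalIdeal S :=
      ((maximalIdeal.isMaximal S).eq_of_le hQ.ne_top (h ▸ hPle Q hQ)).symm
    rw [hQ𝔮.over, hQm, Ideal.under_def]
    have hT := (IsLocalRing.local_hom_TFAE (algebraMap A S)).out 0 4
    exact hT.mp ‹_›
  let pt : ↥({IsLocalRing.closedPoint S}ᶜ : Set (PrimeSpectrum S)) :=
    ⟨⟨P, hPp⟩, fun h => hPm (congrArg PrimeSpectrum.asIdeal h)⟩
  have huniv : (Set.univ : Set ↥({IsLocalRing.closedPoint S}ᶜ : Set (PrimeSpectrum S))) =
      closure {pt} := by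
    ext q
    simp only [Set.mem_univ, true_iff]
    rw [closure_subtype, Set.image_singleton, PrimeSpectrum.closure_singleton,
      PrimeSpectrum.mem_zeroLocus]
    exact hPle q.1.asIdeal q.1.2
  exact
    { toNonempty := ⟨pt⟩
      isPreconnected_univ := by
        rw [huniv]
        exact isPreconnected_singleton.closure }

end Key

section Converse

/-- transport of the "punctured spectrum of strict henselizations is connected" property along a
ring isomorphism of the base -/
theorem connected_transport {A B : Type u} [CommRing A] [IsLocalRing A] [CommRing B] [IsLocalRing B]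
    (e : B ≃+* A)
    (HB : ∀ (S : Type u) [CommRing S] [IsLocalRing S] [Algebra B S] [IsLocalHom (algebraMap B S)]
      [Hensel.IsStrictHenselization B S],
      ConnectedSpace ↥({IsLocalRing.closedPoint S}ᶜ : Set (PrimeSpectrum S)))
    (S : Type u) [CommRing S] [IsLocalRing S] [Algebra A S] [IsLocalHom (algebraMap A S)]
    [Hensel.IsStrictHenselization A S] :
    ConnectedSpace ↥({IsLocalRing.closedPoint S}ᶜ : Set (PrimeSpectrum S)) := by
  letI : Algebra B S := ((algebraMap A S).comp e.toRingHom).toAlgebra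
  haveI : IsLocalHom e.toRingHom := Groth.Agent.H70.FibreBranchRing.isLocalHom_ringEquiv e
  haveI : IsLocalHom (algebraMap B S) := by
    show IsLocalHom ((algebraMap A S).comp e.toRingHom)
    exact RingHom.isLocalHom_comp _ _
  haveI : Hensel.IsStrictHenselization B S :=
    Groth.Agent.H70.FibreBranchRing.isStrictHenselization_of_ringEquiv e (fun b => rfl)
  exact HB S

variable (R : Type u) [CommRing R] [IsNoetherianRing R]

theorem maximalIdeal_mem_minimalPrimes_of_mem (𝔭 : Ideal R) [𝔭.IsPrime] (h : 𝔭 ∈ minimalPrimes R)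
    (S : Type u) [CommRing S] [IsLocalRing S] [Algebra (Localization.AtPrime 𝔭) S]
    [IsLocalHom (algebraMap (Localization.AtPrime 𝔭) S)]
    [Hensel.IsStrictHenselization (Localization.AtPrime 𝔭) S] :
    maximalIdeal S ∈ minimalPrimes S := by
  have hI := Groth.Agent.H47.HensNoeth.isIndEtaleLocal_of_isStrictHenselization
    (Localization.AtPrime 𝔭) S
  have h1 : ((maximalIdeal S).height : WithBot ℕ∞) = 𝔭.height := by
    rw [IsLocalRing.maximalIdeal_height_eq_ringKrullDim, hI.ringKrullDim_eq,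
      IsLocalization.AtPrime.ringKrullDim_eq_height 𝔭]
  rw [Ideal.height_eq_zero_iff.mpr h] at h1
  exact Ideal.height_eq_zero_iff.mp (WithBot.coe_eq_coe.mp h1)

/-- Ring-level converse: if the punctured spectra of strict henselizations at all non-minimal
primes of a Noetherian ring are connected, all localizations are geometrically unibranch. -/
theorem isGeomUnibranch_atPrime
    (H : ∀ (𝔭 : Ideal R) [𝔭.IsPrime], 𝔭 ∉ minimalPrimes R →
      ∀ (S : Type u) [CommRing S] [IsLocalRing S] [Algebra (Localization.AtPrime 𝔭) S]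
        [IsLocalHom (algebraMap (Localization.AtPrime 𝔭) S)]
        [Hensel.IsStrictHenselization (Localization.AtPrime 𝔭) S],
        ConnectedSpace ↥({IsLocalRing.closedPoint S}ᶜ : Set (PrimeSpectrum S)))
    (𝔭 : Ideal R) [𝔭.IsPrime] : CAlg2.IsGeomUnibranch (Localization.AtPrime 𝔭) := by
  suffices h : ∀ (n : ℕ) (𝔭 : Ideal R) [𝔭.IsPrime], 𝔭.height = n →
      CAlg2.IsGeomUnibranch (Localization.AtPrime 𝔭) by
    obtain ⟨n, hn⟩ := ENat.ne_top_iff_exists.mp
      (Ideal.height_ne_top (I := 𝔭) Ideal.IsPrime.ne_top')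
    exact h n 𝔭 hn.symm
  intro n
  induction n using Nat.strong_induction_on with
  | _ n ih =>
  intro 𝔭 _ hn
  obtain ⟨S, _, _, _, _, hS⟩ := Groth.Agent.S0537.result (Localization.AtPrime 𝔭)
  haveI := hS
  rw [Groth.Agent.H47.UnibranchStrict.isGeomUnibranch_iff_hasUniqueMinimalPrime
    (Localization.AtPrime 𝔭) S]
  have hI := Groth.Agent.H47.HensNoeth.isIndEtaleLocal_of_isStrictHenselization
    (Localization.AtPrime 𝔭) S
  by_cases hm : maximalIdeal S ∈ minimalPrimes S
  · refine ⟨maximalIdeal S, hm, fun P hP => ?_⟩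
    have hle : P ≤ maximalIdeal S := IsLocalRing.le_maximalIdeal hP.1.1.ne_top
    exact le_antisymm hle (hm.2 ⟨hP.1.1, bot_le⟩ hle)
  · have h𝔭 : 𝔭 ∉ minimalPrimes R :=
      fun h => hm (maximalIdeal_mem_minimalPrimes_of_mem R 𝔭 h S)
    haveI hconn := H 𝔭 h𝔭 S
    haveI : IsNoetherianRing S := hI.isNoetherianRing
    have hfin : (minimalPrimes S).Finite := minimalPrimes.finite_of_isNoetherianRing S
    have hGUQ : ∀ (Q : Ideal S) [Q.IsPrime], Q ≠ maximalIdeal S →
        CAlg2.IsGeomUnibranch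
          (Localization.AtPrime (Q.comap (algebraMap (Localization.AtPrime 𝔭) S))) := by
      intro Q hQp hQ
      have h𝔮p : (Q.comap (algebraMap (Localization.AtPrime 𝔭) S)).IsPrime :=
        Ideal.comap_isPrime _ _
      have h𝔮 : Q.comap (algebraMap (Localization.AtPrime 𝔭) S) ≠
          maximalIdeal (Localization.AtPrime 𝔭) := by
        intro h
        apply hQ
        refine ((maximalIdeal.isMaximal S).eq_of_le hQp.ne_top ?_).symm
        rw [← hI.map_max, Ideal.map_le_iff_le_comap, ← h]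
      have h𝔭'p : ((Q.comap (algebraMap (Localization.AtPrime 𝔭) S)).comap
          (algebraMap R (Localization.AtPrime 𝔭))).IsPrime := Ideal.comap_isPrime _ _
      have hlt : (Q.comap (algebraMap (Localization.AtPrime 𝔭) S)).comap
          (algebraMap R (Localization.AtPrime 𝔭)) < 𝔭 := by
        have hle : (Q.comap (algebraMap (Localization.AtPrime 𝔭) S)).comap
            (algebraMap R (Localization.AtPrime 𝔭)) ≤ 𝔭 := by
          conv_rhs => rw [← IsLocalization.AtPrime.under_maximalIdeal (Localization.AtPrime 𝔭) 𝔭]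
          exact Ideal.comap_mono (IsLocalRing.le_maximalIdeal h𝔮p.ne_top)
        refine lt_of_le_of_ne hle (fun heq => h𝔮 ?_)
        have hmc := IsLocalization.map_under 𝔭.primeCompl (Localization.AtPrime 𝔭)
          (Q.comap (algebraMap (Localization.AtPrime 𝔭) S))
        rw [Ideal.under_def, heq, Localization.AtPrime.map_eq_maximalIdeal] at hmc
        exact hmc.symm
      have hht := Ideal.height_strict_mono_of_isPrime hlt
      obtain ⟨m, hm'⟩ := ENat.ne_top_iff_exists.mp
        (Ideal.height_ne_top (I := (Q.comap (algebraMap (Localization.AtPrime 𝔭) S)).comap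
          (algebraMap R (Localization.AtPrime 𝔭))) Ideal.IsPrime.ne_top')
      have hmn : m < n := by
        rw [hn, ← hm'] at hht
        exact_mod_cast hht
      have hGU' := ih m hmn _ hm'.symm
      exact Groth.Agent.H47.FieldBC.isGeomUnibranch_of_ringEquiv
        (IsLocalization.localizationLocalizationAtPrimeIsoLocalization 𝔭.primeCompl
          (Q.comap (algebraMap (Localization.AtPrime 𝔭) S))).symm.toRingEquiv hGU'
    have hKey : ∀ (Q : Ideal S) [Q.IsPrime], Q ≠ maximalIdeal S → ∀ {P P' : Ideal S},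
        P ∈ minimalPrimes S → P' ∈ minimalPrimes S → P ≤ Q → P' ≤ Q → P = P' := by
      intro Q _ hQ P P' hP hP' hPQ hP'Q
      exact minimalPrimes_le_unique (Localization.AtPrime 𝔭) S Q (hGUQ Q hQ) hP hP' hPQ hP'Q
    obtain ⟨P₁, hP₁⟩ : ∃ P₁, P₁ ∈ minimalPrimes S := by
      obtain ⟨p, hp, _⟩ := Ideal.exists_minimalPrimes_le (I := (⊥ : Ideal S))
        (J := maximalIdeal S) bot_le
      exact ⟨p, hp⟩
    refine ⟨P₁, hP₁, fun P hP => ?_⟩
    have hP₁p : P₁.IsPrime := hP₁.1.1
    have hPp : P.IsPrime := hP.1.1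
    have hPm : ∀ P' ∈ minimalPrimes S, P' ≠ maximalIdeal S := fun P' hP' h => hm (h ▸ hP')
    let Z₁ : Set ↥({IsLocalRing.closedPoint S}ᶜ : Set (PrimeSpectrum S)) :=
      Subtype.val ⁻¹' PrimeSpectrum.zeroLocus (P₁ : Set S)
    let Z₂ : Set ↥({IsLocalRing.closedPoint S}ᶜ : Set (PrimeSpectrum S)) :=
      Subtype.val ⁻¹' (⋃ P' ∈ (minimalPrimes S \ {P₁}), PrimeSpectrum.zeroLocus (P' : Set S))
    have hZ₁ : IsClosed Z₁ :=
      (PrimeSpectrum.isClosed_zeroLocus _).preimage continuous_subtype_val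
    have hZ₂ : IsClosed Z₂ :=
      (Set.Finite.isClosed_biUnion (hfin.subset Set.sdiff_subset)
        (fun _ _ => PrimeSpectrum.isClosed_zeroLocus _)).preimage continuous_subtype_val
    have hcompl : Z₁ᶜ = Z₂ := by
      ext q
      have hq : q.1.asIdeal ≠ maximalIdeal S := fun h => q.2 (PrimeSpectrum.ext h)
      simp only [Z₁, Z₂, Set.mem_compl_iff, Set.mem_preimage, PrimeSpectrum.mem_zeroLocus,
        Set.mem_iUnion, SetLike.coe_subset_coe, Set.mem_sdiff, Set.mem_singleton_iff, exists_prop]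
      constructor
      · intro h
        obtain ⟨p, hp, hpq⟩ := Ideal.exists_minimalPrimes_le (I := (⊥ : Ideal S))
          (J := q.1.asIdeal) bot_le
        exact ⟨p, ⟨hp, fun he => h (he ▸ hpq)⟩, hpq⟩
      · rintro ⟨p, ⟨hp, hne⟩, hpq⟩ h
        exact hne (hKey q.1.asIdeal hq hp hP₁ hpq h)
    have hclopen : IsClopen Z₁ := ⟨hZ₁, by rw [← isClosed_compl_iff, hcompl]; exact hZ₂⟩
    have hne : Z₁.Nonempty :=
      ⟨⟨⟨P₁, hP₁p⟩, fun h => hPm P₁ hP₁ (congrArg PrimeSpectrum.asIdeal h)⟩, by
        simp only [Z₁, Set.mem_preimage, PrimeSpectrum.mem_zeroLocus, SetLike.coe_subset_coe]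
        exact le_rfl⟩
    have huniv := hclopen.eq_univ hne
    have hmem : (⟨⟨P, hPp⟩, fun h => hPm P hP (congrArg PrimeSpectrum.asIdeal h)⟩ :
        ↥({IsLocalRing.closedPoint S}ᶜ : Set (PrimeSpectrum S))) ∈ Z₁ := by
      rw [huniv]; trivial
    have hle : P₁ ≤ P := by
      simpa only [Z₁, Set.mem_preimage, PrimeSpectrum.mem_zeroLocus, SetLike.coe_subset_coe]
        using hmem
    exact le_antisymm (hP.2 ⟨hP₁p, bot_le⟩ hle) hle

end Converse

end Groth.Agent.H47.PuncturedConn
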