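import Mathlib

/-!
Finitely presented approximation of vanishing tensors.

* `exists_relations_of_sum_tmul_eq_zero`: a vanishing finite sum of pure tensors vanishes trivially
  after enlarging the left family by finitely many elements.
* `exists_fp_approx`: if `z ∈ A₀ ⊗[R] M` dies in `S ⊗[R] M` along `g₀ : A₀ → S`, it already dies in
  `A₁ ⊗[R] M` for some `A₀ → A₁ → S` with `A₁` of finite presentation over `A₀`.
* `exists_mvPolynomial_lift`: every tensor of `S ⊗[R] N` comes from a polynomial algebra in finitely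
  many variables mapping to `S`.
-/

set_option autoImplicit false
universe u

open TensorProduct

namespace Groth.Agent.H47

/-- A vanishing finite sum of pure tensors vanishes trivially after enlarging the family on the
left by finitely many elements. -/
theorem exists_relations_of_sum_tmul_eq_zero {R : Type*} [CommRing R] {S M : Type*}
    [AddCommGroup S] [Module R S] [AddCommGroup M] [Module R M] {ι : Type*} [Fintype ι]
    (s : ι → S) (m : ι → M) (h : ∑ i, s i ⊗ₜ[R] m i = 0) :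
    ∃ (k : ℕ) (t : ι ⊕ Fin k → S) (l : ℕ) (a : ι ⊕ Fin k → Fin l → R) (y : Fin l → M),
      (∀ i, t (Sum.inl i) = s i) ∧ (∀ i, Sum.elim m (fun _ => 0) i = ∑ j, a i j • y j) ∧
      ∀ j, ∑ i, a i j • t i = 0 := by
  classical
  let N₀ : Submodule R S := Submodule.span R (Set.range s)
  have hN₀ : N₀.FG := Submodule.fg_span (Set.finite_range s)
  have hs : ∀ i, s i ∈ N₀ := fun i => Submodule.subset_span ⟨i, rfl⟩
  let x₀ : N₀ ⊗[R] M := ∑ i, (⟨s i, hs i⟩ : N₀) ⊗ₜ[R] m i
  have hx₀ : N₀.subtype.rTensor M x₀ = N₀.subtype.rTensor M 0 := by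
    simp only [x₀, map_sum, LinearMap.rTensor_tmul, Submodule.subtype_apply, map_zero]
    exact h
  obtain ⟨N', hN', hle, hx⟩ := hN₀.exists_rTensor_fg_inclusion_eq hx₀
  simp only [x₀, map_sum, LinearMap.rTensor_tmul, map_zero] at hx
  haveI : Module.Finite R N' := Module.Finite.iff_fg.mpr hN'
  obtain ⟨k, gens, hgens⟩ := Module.Finite.exists_fin (R := R) (M := N')
  let t : ι ⊕ Fin k → N' := Sum.elim (fun i => N₀.inclusion hle ⟨s i, hs i⟩) gens
  let m' : ι ⊕ Fin k → M := Sum.elim m (fun _ => 0)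
  have ht : Submodule.span R (Set.range t) = ⊤ := by
    rw [eq_top_iff, ← hgens]
    apply Submodule.span_mono
    rintro _ ⟨j, rfl⟩
    exact ⟨Sum.inr j, rfl⟩
  have hsum : ∑ i, t i ⊗ₜ[R] m' i = 0 := by
    rw [Fintype.sum_sum_type]
    simp only [t, m', Sum.elim_inl, Sum.elim_inr, tmul_zero, Finset.sum_const_zero, add_zero]
    exact hx
  obtain ⟨l, a, y, hy, ha⟩ := TensorProduct.vanishesTrivially_of_sum_tmul_eq_zero R ht hsum
  refine ⟨k, fun i => (t i : S), l, a, y, fun i => rfl, hy, fun j => ?_⟩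
  have := congrArg (N'.subtype) (ha j)
  simpa [map_sum] using this

/-- Finitely presented approximation of a vanishing tensor: if `z ∈ A₀ ⊗[R] M` dies in
`S ⊗[R] M`, it already dies in `A₁ ⊗[R] M` for a factorisation `A₀ → A₁ → S` with `A₁` finitely
presented over `A₀`. -/
theorem exists_fp_approx {R : Type u} [CommRing R] {A₀ S : Type u} [CommRing A₀] [CommRing S]
    [Algebra R A₀] [Algebra R S] (g₀ : A₀ →ₐ[R] S) {M : Type u} [AddCommGroup M] [Module R M]
    (z : A₀ ⊗[R] M) (hz : g₀.toLinearMap.rTensor M z = 0) :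
    ∃ (A₁ : Type u) (_ : CommRing A₁) (_ : Algebra R A₁) (φ : A₀ →ₐ[R] A₁) (g : A₁ →ₐ[R] S),
      g.comp φ = g₀ ∧ (Algebra.FinitePresentation R A₀ → Algebra.FinitePresentation R A₁) ∧
      φ.toLinearMap.rTensor M z = 0 := by
  classical
  obtain ⟨T, hT⟩ := TensorProduct.exists_finset z
  let s : T → S := fun i => g₀ i.1.1
  let m : T → M := fun i => i.1.2
  have hsum : ∑ i : T, s i ⊗ₜ[R] m i = 0 := by
    rw [← hz, hT, map_sum, ← Finset.sum_coe_sort T]
    rfl
  obtain ⟨k, t, l, a, y, ht, hy, ha⟩ := exists_relations_of_sum_tmul_eq_zero s m hsum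
  let rel₁ : T → MvPolynomial (T ⊕ Fin k) A₀ :=
    fun i => MvPolynomial.X (Sum.inl i) - MvPolynomial.C i.1.1
  let rel₂ : Fin l → MvPolynomial (T ⊕ Fin k) A₀ :=
    fun j => ∑ i, a i j • (MvPolynomial.X i : MvPolynomial (T ⊕ Fin k) A₀)
  let I : Ideal (MvPolynomial (T ⊕ Fin k) A₀) := Ideal.span (Set.range rel₁ ∪ Set.range rel₂)
  have hI : I.FG := Submodule.fg_span ((Set.finite_range rel₁).union (Set.finite_range rel₂))
  let π : MvPolynomial (T ⊕ Fin k) A₀ →ₐ[R] (MvPolynomial (T ⊕ Fin k) A₀ ⧸ I) :=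
    Ideal.Quotient.mkₐ R I
  have hπ : ∀ p ∈ I, π p = 0 := fun p hp => Ideal.Quotient.eq_zero_iff_mem.mpr hp
  let φ : A₀ →ₐ[R] (MvPolynomial (T ⊕ Fin k) A₀ ⧸ I) :=
    π.comp (IsScalarTower.toAlgHom R A₀ (MvPolynomial (T ⊕ Fin k) A₀))
  let G₀ : MvPolynomial (T ⊕ Fin k) A₀ →ₐ[R] S := MvPolynomial.aevalTower g₀ t
  have hG₀X : ∀ i, G₀ (MvPolynomial.X i) = t i := fun i => MvPolynomial.aevalTower_X g₀ t i
  have hG₀C : ∀ x, G₀ (MvPolynomial.C x) = g₀ x := fun x => MvPolynomial.aevalTower_C g₀ t x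
  have hG₀ : ∀ p ∈ I, G₀ p = 0 := by
    intro p hp
    have hle : I ≤ RingHom.ker G₀.toRingHom := by
      rw [Ideal.span_le]
      rintro _ (⟨i, rfl⟩ | ⟨j, rfl⟩)
      · simp only [SetLike.mem_coe, RingHom.mem_ker, rel₁]
        show G₀ (MvPolynomial.X (Sum.inl i) - MvPolynomial.C i.1.1) = 0
        rw [map_sub, hG₀X, hG₀C, ht, sub_self]
      · simp only [SetLike.mem_coe, RingHom.mem_ker, rel₂]
        show G₀ (∑ i, a i j • (MvPolynomial.X i : MvPolynomial (T ⊕ Fin k) A₀)) = 0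
        rw [map_sum, ← ha j]
        refine Finset.sum_congr rfl fun i _ => ?_
        rw [map_smul, hG₀X]
    exact hle hp
  let g : (MvPolynomial (T ⊕ Fin k) A₀ ⧸ I) →ₐ[R] S := Ideal.Quotient.liftₐ I G₀ hG₀
  have hφC : ∀ x : A₀, φ x = π (MvPolynomial.C x) := fun x => rfl
  refine ⟨MvPolynomial (T ⊕ Fin k) A₀ ⧸ I, inferInstance, inferInstance, φ, g, ?_, ?_, ?_⟩
  · ext x
    show g (φ x) = g₀ x
    rw [hφC]
    show G₀ (MvPolynomial.C x) = g₀ x
    exact hG₀C x
  · intro hfp
    have : Algebra.FinitePresentation A₀ (MvPolynomial (T ⊕ Fin k) A₀ ⧸ I) :=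
      Algebra.FinitePresentation.quotient hI
    exact Algebra.FinitePresentation.trans R A₀ _
  · have hv : TensorProduct.VanishesTrivially R (fun i : T ⊕ Fin k => π (MvPolynomial.X i))
        (Sum.elim m (fun _ => 0)) := by
      refine ⟨l, a, y, hy, fun j => ?_⟩
      have := hπ (rel₂ j) (Ideal.subset_span (Or.inr ⟨j, rfl⟩))
      simpa [rel₂, map_sum] using this
    have h0 := TensorProduct.sum_tmul_eq_zero_of_vanishesTrivially R hv
    rw [Fintype.sum_sum_type] at h0
    simp only [Sum.elim_inl, Sum.elim_inr, tmul_zero, Finset.sum_const_zero, add_zero] at h0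
    rw [hT, map_sum, ← Finset.sum_coe_sort T, ← h0]
    refine Finset.sum_congr rfl fun i _ => ?_
    simp only [LinearMap.rTensor_tmul, AlgHom.toLinearMap_apply]
    congr 1
    have := hπ (rel₁ i) (Ideal.subset_span (Or.inl ⟨i, rfl⟩))
    simp only [rel₁, map_sub, sub_eq_zero] at this
    rw [this]
    exact hφC _

/-- Lifting a tensor (and finitely many prescribed elements) to a polynomial algebra in finitely
many variables. -/
theorem exists_mvPolynomial_lift {R S : Type u} [CommRing R] [CommRing S] [Algebra R S]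
    {N : Type u} [AddCommGroup N] [Module R N] (w : S ⊗[R] N) (U : Finset S) :
    ∃ (σ : Type u) (_ : Finite σ) (g₀ : MvPolynomial σ R →ₐ[R] S)
      (w₀ : MvPolynomial σ R ⊗[R] N),
      g₀.toLinearMap.rTensor N w₀ = w ∧ ∀ u ∈ U, u ∈ Set.range g₀ := by
  classical
  obtain ⟨T, hT⟩ := TensorProduct.exists_finset w
  let V : Finset S := T.image Prod.fst ∪ U
  let g₀ : MvPolynomial V R →ₐ[R] S := MvPolynomial.aeval (fun i : V => (i : S))
  let c : S → MvPolynomial V R := fun u => if h : u ∈ V then MvPolynomial.X ⟨u, h⟩ else 0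
  have hc : ∀ u ∈ V, g₀ (c u) = u := by
    intro u hu
    simp [c, hu, g₀]
  refine ⟨V, inferInstance, g₀, ∑ i ∈ T, c i.1 ⊗ₜ[R] i.2, ?_, ?_⟩
  · rw [hT, map_sum]
    refine Finset.sum_congr rfl fun i hi => ?_
    rw [LinearMap.rTensor_tmul, AlgHom.toLinearMap_apply, hc]
    exact Finset.mem_union_left _ (Finset.mem_image_of_mem _ hi)
  · intro u hu
    exact ⟨c u, hc u (Finset.mem_union_right _ hu)⟩

end Groth.Agent.H47
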