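import Groth.Agent.H47.Olivier2
import Groth.Agent.S2748
import Groth.Agent.H8.WeaklyEtaleLoc
import Groth.Agent.H13.FlatNormal

/-!
# Weakly étale local algebras over normal local domains are normal

Via the strict henselization and Olivier's theorem.
-/

set_option autoImplicit false
universe u
open TensorProduct IsLocalRing

namespace Groth.Agent.H47.WEtNormal

open Groth.Agent.H47.HensK

/-- `includeRight : B → S ⊗[A] B` is flat when `S` is flat over `A`. -/
theorem flat_includeRight (A S B : Type*) [CommRing A] [CommRing S] [CommRing B] [Algebra A S]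
    [Algebra A B] [Module.Flat A S] :
    (Algebra.TensorProduct.includeRight : B →ₐ[A] S ⊗[A] B).toRingHom.Flat := by
  have h1 : (algebraMap B (B ⊗[A] S)).Flat := RingHom.flat_algebraMap_iff.mpr inferInstance
  have h2 : ((Algebra.TensorProduct.comm A B S : B ⊗[A] S ≃ₐ[A] S ⊗[A] B) : B ⊗[A] S →+* S ⊗[A] B).Flat :=
    RingHom.Flat.of_bijective (Algebra.TensorProduct.comm A B S).bijective
  have h3 : (Algebra.TensorProduct.includeRight : B →ₐ[A] S ⊗[A] B).toRingHom =
      ((Algebra.TensorProduct.comm A B S : B ⊗[A] S ≃ₐ[A] S ⊗[A] B) :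
        B ⊗[A] S →+* S ⊗[A] B).comp (algebraMap B (B ⊗[A] S)) := by
    ext b
    simp [Algebra.TensorProduct.algebraMap_apply]
  rw [h3]
  exact h1.comp h2

/-- **Local key lemma**: a weakly étale local algebra over a normal local domain is a normal
domain. -/
theorem isDomain_isIntegrallyClosed_of_local (A B : Type u) [CommRing A] [CommRing B]
    [IsLocalRing A] [IsLocalRing B] [Algebra A B] [IsLocalHom (algebraMap A B)]
    [Algebra.WeaklyEtale A B] [IsDomain A] [IsIntegrallyClosed A] :
    IsDomain B ∧ IsIntegrallyClosed B := by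
  classical
  obtain ⟨hSdom, hSic⟩ := (Groth.Agent.S2748.result A (Hsh A)).mpr ⟨inferInstance, inferInstance⟩
  haveI := hSdom
  haveI := hSic
  have hstr : Hensel.IsStrictHenselization A (Hsh A) := inferInstance
  haveI : HenselianLocalRing (Hsh A) := hstr.henselian
  haveI hsc : IsSepClosure (ResidueField A) (ResidueField (Hsh A)) := hstr.isSepClosure
  haveI : IsSepClosed (ResidueField (Hsh A)) := hsc.sep_closed
  haveI : Algebra.IsSeparable (ResidueField A) (ResidueField (Hsh A)) := hsc.separable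
  -- a common field
  let σ : ResidueField (Hsh A) →ₐ[ResidueField A] AlgebraicClosure (ResidueField B) :=
    IsAlgClosed.lift
  let f₁ : Hsh A →ₐ[A] AlgebraicClosure (ResidueField B) :=
    (σ.restrictScalars A).comp (IsScalarTower.toAlgHom A (Hsh A) (ResidueField (Hsh A)))
  let f₂ : B →ₐ[A] AlgebraicClosure (ResidueField B) :=
    IsScalarTower.toAlgHom A B (AlgebraicClosure (ResidueField B))
  let Φ : Hsh A ⊗[A] B →ₐ[A] AlgebraicClosure (ResidueField B) :=
    Algebra.TensorProduct.productMap f₁ f₂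
  have hf₁ : ∀ a : Hsh A, a ∈ maximalIdeal (Hsh A) → f₁ a = 0 := by
    intro a ha
    show σ (algebraMap (Hsh A) (ResidueField (Hsh A)) a) = 0
    rw [IsLocalRing.ResidueField.algebraMap_eq, (residue_eq_zero_iff a).mpr ha, map_zero]
  have hf₂ : ∀ b : B, b ∈ maximalIdeal B → f₂ b = 0 := by
    intro b hb
    show algebraMap B (AlgebraicClosure (ResidueField B)) b = 0
    rw [IsScalarTower.algebraMap_apply B (ResidueField B) (AlgebraicClosure (ResidueField B)),
      IsLocalRing.ResidueField.algebraMap_eq, (residue_eq_zero_iff b).mpr hb, map_zero]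
  let Q : Ideal (Hsh A ⊗[A] B) := RingHom.ker Φ.toRingHom
  haveI : Q.IsPrime := RingHom.ker_isPrime _
  have hQ₁ : ∀ a : Hsh A, a ∈ maximalIdeal (Hsh A) → (a ⊗ₜ[A] (1 : B)) ∈ Q := by
    intro a ha
    show Φ (a ⊗ₜ[A] (1 : B)) = 0
    rw [Algebra.TensorProduct.productMap_apply_tmul, hf₁ a ha, zero_mul]
  have hQ₂ : ∀ b : B, b ∈ maximalIdeal B → ((1 : Hsh A) ⊗ₜ[A] b) ∈ Q := by
    intro b hb
    show Φ ((1 : Hsh A) ⊗ₜ[A] b) = 0
    rw [Algebra.TensorProduct.productMap_apply_tmul, hf₂ b hb, mul_zero]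
  -- the local ring `C`
  haveI w1 : Algebra.WeaklyEtale (Hsh A ⊗[A] B) (Localization.AtPrime Q) :=
    Groth.Agent.H8.weaklyEtale_of_isLocalization Q.primeCompl _
  haveI w2 : Algebra.WeaklyEtale (Hsh A) (Localization.AtPrime Q) :=
    Algebra.WeaklyEtale.trans (Hsh A) (Hsh A ⊗[A] B) (Localization.AtPrime Q)
  haveI : IsLocalHom (algebraMap (Hsh A) (Localization.AtPrime Q)) := ⟨fun a ha => by
    by_contra hna
    have h1 : a ∈ maximalIdeal (Hsh A) := (mem_maximalIdeal a).mpr hna
    have h4 : algebraMap (Hsh A) (Localization.AtPrime Q) a =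
        algebraMap (Hsh A ⊗[A] B) (Localization.AtPrime Q) (a ⊗ₜ[A] (1 : B)) := by
      rw [IsScalarTower.algebraMap_apply (Hsh A) (Hsh A ⊗[A] B) (Localization.AtPrime Q),
        Algebra.TensorProduct.algebraMap_apply]
      rfl
    rw [h4] at ha
    exact (IsLocalization.AtPrime.isUnit_to_map_iff (Localization.AtPrime Q) Q _).mp ha (hQ₁ a h1)⟩
  have hbij : Function.Bijective (algebraMap (Hsh A) (Localization.AtPrime Q)) :=
    Groth.Agent.H47.Olivier.bijective_algebraMap
  let e : Hsh A ≃+* Localization.AtPrime Q := RingEquiv.ofBijective _ hbij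
  haveI : IsDomain (Localization.AtPrime Q) := e.symm.toMulEquiv.isDomain (Hsh A)
  haveI : IsIntegrallyClosed (Localization.AtPrime Q) := IsIntegrallyClosed.of_equiv e
  -- `B → C`
  let g : B →+* Localization.AtPrime Q :=
    (algebraMap (Hsh A ⊗[A] B) (Localization.AtPrime Q)).comp
      (Algebra.TensorProduct.includeRight : B →ₐ[A] Hsh A ⊗[A] B).toRingHom
  have hg : g.Flat := (flat_includeRight A (Hsh A) B).comp
    (RingHom.flat_algebraMap_iff.mpr (IsLocalization.flat _ Q.primeCompl))
  letI : Algebra B (Localization.AtPrime Q) := g.toAlgebra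
  haveI : Module.Flat B (Localization.AtPrime Q) := hg
  haveI : IsLocalHom (algebraMap B (Localization.AtPrime Q)) := ⟨fun b hb => by
    by_contra hnb
    have h1 : b ∈ maximalIdeal B := (mem_maximalIdeal b).mpr hnb
    have h4 : algebraMap B (Localization.AtPrime Q) b =
        algebraMap (Hsh A ⊗[A] B) (Localization.AtPrime Q) ((1 : Hsh A) ⊗ₜ[A] b) := rfl
    rw [h4] at hb
    exact (IsLocalization.AtPrime.isUnit_to_map_iff (Localization.AtPrime Q) Q _).mp hb (hQ₂ b h1)⟩
  haveI : Module.FaithfullyFlat B (Localization.AtPrime Q) :=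
    Module.FaithfullyFlat.of_flat_of_isLocalHom
  exact Groth.Agent.H13.isDomain_isIntegrallyClosed_of_faithfullyFlat B (Localization.AtPrime Q)

end Groth.Agent.H47.WEtNormal
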