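import Groth.Agent.H47.HshWEt
import Groth.Agent.H47.Olivier2
import Groth.Agent.H47.HensSpecialize
import Groth.Agent.H10.WEtFibre
import Groth.Agent.H3.FlatDescent
import Groth.Agent.S7127

/-!
# Weakly étale local homomorphisms and strict henselizations
-/

set_option autoImplicit false
universe u
open TensorProduct IsLocalRing

namespace Groth.Agent.H47.WEtStrict

open Groth.Agent.H47.HensK

/-- The universal property of a strict henselization transports along algebra isomorphisms. -/
theorem isStrictHenselization_of_algEquiv (A S S' : Type u) [CommRing A] [IsLocalRing A]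
    [CommRing S] [IsLocalRing S] [CommRing S'] [IsLocalRing S'] [Algebra A S] [Algebra A S']
    [IsLocalHom (algebraMap A S)] [IsLocalHom (algebraMap A S')]
    [Hensel.IsStrictHenselization A S] (e : S ≃ₐ[A] S') (hh : HenselianLocalRing S')
    (hs : IsSepClosure (ResidueField A) (ResidueField S')) :
    Hensel.IsStrictHenselization A S' where
  henselian := hh
  isSepClosure := hs
  universal T _ _ f _ τ' hτ' := by
    let e' : S →+* S' := e.toAlgHom.toRingHom
    haveI : IsLocalHom e' := ⟨fun a ha => by
      have := ha.map e.symm.toAlgHom.toRingHom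
      simpa [e'] using this⟩
    let τ : ResidueField S →+* ResidueField T := τ'.comp (ResidueField.map e')
    have hτ : τ.comp (ResidueField.map (algebraMap A S)) = ResidueField.map f := by
      refine RingHom.ext fun z => ?_
      obtain ⟨a, rfl⟩ := residue_surjective z
      have h1 := RingHom.congr_fun hτ' (residue A a)
      simp only [RingHom.comp_apply, ResidueField.map_residue] at h1 ⊢
      show τ' (ResidueField.map e' (residue S (algebraMap A S a))) = _
      rw [ResidueField.map_residue]
      show τ' (residue S' (e (algebraMap A S a))) = _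
      rw [e.commutes]
      exact h1
    obtain ⟨g, ⟨hg1, hg2⟩, hguniq⟩ :=
      Hensel.IsStrictHenselization.universal (R := A) (S := S) T f τ hτ
    refine ⟨g.comp e.symm.toAlgHom.toRingHom, ⟨?_, ?_⟩, ?_⟩
    · refine RingHom.ext fun a => ?_
      show g (e.symm (algebraMap A S' a)) = f a
      rw [e.symm.commutes]
      exact RingHom.congr_fun hg1 a
    · intro x
      show residue T (g (e.symm x)) = τ' (residue S' x)
      rw [hg2]
      show τ' (ResidueField.map e' (residue S (e.symm x))) = _
      rw [ResidueField.map_residue]
      show τ' (residue S' (e (e.symm x))) = _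
      rw [e.apply_symm_apply]
    · rintro g'' ⟨h1, h2⟩
      have h3 : g''.comp e' = g := by
        apply hguniq
        refine ⟨?_, ?_⟩
        · refine RingHom.ext fun a => ?_
          show g'' (e (algebraMap A S a)) = f a
          rw [e.commutes]
          exact RingHom.congr_fun h1 a
        · intro x
          show residue T (g'' (e x)) = τ' (ResidueField.map e' (residue S x))
          rw [h2, ResidueField.map_residue]
          rfl
      refine RingHom.ext fun x => ?_
      show g'' x = g (e.symm x)
      rw [← h3]
      show g'' x = g'' (e (e.symm x))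
      rw [e.apply_symm_apply]

section Forward

variable (A B R : Type u) [CommRing A] [IsLocalRing A] [CommRing B] [IsLocalRing B]
  [Algebra A B] [IsLocalHom (algebraMap A B)] [Algebra.WeaklyEtale A B]
  [CommRing R] [IsLocalRing R] [Algebra B R] [IsLocalHom (algebraMap B R)]
  [Hensel.IsStrictHenselization B R] [Algebra A R] [IsScalarTower A B R]

include B in
theorem isLocalHom_of_tower : IsLocalHom (algebraMap A R) := by
  haveI : IsLocalHom ((algebraMap B R).comp (algebraMap A B)) := RingHom.isLocalHom_comp _ _
  rw [IsScalarTower.algebraMap_eq A B R]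
  infer_instance

include B in
/-- If `A → B` is a weakly étale local homomorphism, every strict henselization of `B` is a strict
henselization of `A`. -/
theorem isStrictHenselization_of_weaklyEtale [IsLocalHom (algebraMap A R)] :
    Hensel.IsStrictHenselization A R := by
  haveI hR : HenselianLocalRing R := Hensel.IsStrictHenselization.henselian (R := B)
  haveI hscB : IsSepClosure (ResidueField B) (ResidueField R) :=
    Hensel.IsStrictHenselization.isSepClosure
  haveI : IsSepClosed (ResidueField R) := hscB.sep_closed
  haveI w1 : Algebra.WeaklyEtale B R := weaklyEtale_of_isStrictHenselization B R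
  haveI w2 : Algebra.WeaklyEtale A R := Algebra.WeaklyEtale.trans A B R
  -- residue field extension is separable
  have hsep : Algebra.IsSeparable (ResidueField A) (ResidueField R) :=
    Groth.Agent.H10.WEtField.isSeparable_of_weaklyEtale_of_fractions (A := A) (B := R)
      (k := ResidueField A) (l := ResidueField R) (fun z => by
        obtain ⟨r, rfl⟩ := residue_surjective z
        exact ⟨r, 1, by rw [map_one, div_one]; rfl⟩)
  have hs : IsSepClosure (ResidueField A) (ResidueField R) := ⟨inferInstance, hsep⟩
  -- the map from the strict henselization of `A`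
  have hstr : Hensel.IsStrictHenselization A (Hsh A) := inferInstance
  haveI : HenselianLocalRing (Hsh A) := hstr.henselian
  haveI hscA : IsSepClosure (ResidueField A) (ResidueField (Hsh A)) := hstr.isSepClosure
  haveI : IsSepClosed (ResidueField (Hsh A)) := hscA.sep_closed
  obtain ⟨g, hg⟩ := Groth.Agent.H47.HensSpecialize.exists_desc_of_isSepClosed A (Ksep A)
    (algebraMap A R)
  letI : Algebra (Hsh A) R := g.toAlgebra
  haveI : IsScalarTower A (Hsh A) R :=
    IsScalarTower.of_algebraMap_eq fun a => (RingHom.congr_fun hg a).symm
  haveI : IsLocalHom (algebraMap (Hsh A) R) := ⟨fun a ha => by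
    by_contra hna
    have h1 : a ∈ maximalIdeal (Hsh A) := (mem_maximalIdeal a).mpr hna
    rw [← map_maximalIdeal_H A (Ksep A)] at h1
    have hle : (maximalIdeal A).map (algebraMap A (Hsh A)) ≤
        (maximalIdeal R).comap (algebraMap (Hsh A) R) := by
      rw [Ideal.map_le_iff_le_comap]
      intro x hx
      rw [Ideal.mem_comap, Ideal.mem_comap, ← IsScalarTower.algebraMap_apply A (Hsh A) R]
      exact (mem_maximalIdeal _).mpr (map_nonunit (algebraMap A R) x hx)
    exact (mem_maximalIdeal _).mp (hle h1) ha⟩
  haveI w3 : Algebra.WeaklyEtale A (Hsh A) := weaklyEtale_H A (Ksep A)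
  haveI w4 : Algebra.WeaklyEtale (Hsh A) R := Groth.Agent.S7127.result A (Hsh A) R
  have hbij : Function.Bijective (algebraMap (Hsh A) R) :=
    Groth.Agent.H47.Olivier.bijective_algebraMap
  let e : Hsh A ≃ₐ[A] R := AlgEquiv.ofBijective (IsScalarTower.toAlgHom A (Hsh A) R) hbij
  exact isStrictHenselization_of_algEquiv A (Hsh A) R e hR hs

end Forward

section Backward

variable (A B R : Type u) [CommRing A] [IsLocalRing A] [CommRing B] [IsLocalRing B]
  [Algebra A B] [IsLocalHom (algebraMap A B)]
  [CommRing R] [IsLocalRing R] [Algebra B R] [IsLocalHom (algebraMap B R)]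
  [Hensel.IsStrictHenselization B R] [Algebra A R] [IsScalarTower A B R]
  [IsLocalHom (algebraMap A R)] [Hensel.IsStrictHenselization A R]

include R in
/-- If a strict henselization of `B` is also a strict henselization of `A`, then `A → B` is
weakly étale. -/
theorem weaklyEtale_of_isStrictHenselization_of_tower : Algebra.WeaklyEtale A B := by
  haveI w1 : Algebra.WeaklyEtale B R := weaklyEtale_of_isStrictHenselization B R
  haveI w2 : Algebra.WeaklyEtale A R := weaklyEtale_of_isStrictHenselization A R
  haveI : Module.FaithfullyFlat B R := Module.FaithfullyFlat.of_flat_of_isLocalHom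
  haveI hflat : Module.Flat A B := Groth.Agent.H3.flat_of_flat_of_faithfullyFlat A B R
  refine ⟨hflat, ?_⟩
  -- flatness of the multiplication map
  have hB : (algebraMap B R).Flat := RingHom.flat_algebraMap_iff.mpr inferInstance
  have hmap : (Algebra.TensorProduct.map (IsScalarTower.toAlgHom A B R)
      (IsScalarTower.toAlgHom A B R)).toRingHom.Flat :=
    RingHom.Flat.tensorProductMap (f := IsScalarTower.toAlgHom A B R)
      (g := IsScalarTower.toAlgHom A B R) hB hB
  have hcomp : ((Algebra.TensorProduct.lmul' A (S := R)).toRingHom.comp
      (Algebra.TensorProduct.map (IsScalarTower.toAlgHom A B R)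
        (IsScalarTower.toAlgHom A B R)).toRingHom).Flat :=
    RingHom.Flat.comp hmap (Algebra.WeaklyEtale.flat_lmul' A R)
  have heq : (Algebra.TensorProduct.lmul' A (S := R)).comp
      (Algebra.TensorProduct.map (IsScalarTower.toAlgHom A B R)
        (IsScalarTower.toAlgHom A B R)) =
      (IsScalarTower.toAlgHom A B R).comp (Algebra.TensorProduct.lmul' A (S := B)) := by
    apply Algebra.TensorProduct.ext'
    intro a b
    simp
  have heq' : (Algebra.TensorProduct.lmul' A (S := R)).toRingHom.comp
      (Algebra.TensorProduct.map (IsScalarTower.toAlgHom A B R)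
        (IsScalarTower.toAlgHom A B R)).toRingHom =
      (algebraMap B R).comp (Algebra.TensorProduct.lmul' A (S := B)).toRingHom := by
    have := congrArg AlgHom.toRingHom heq
    exact this
  rw [heq'] at hcomp
  show (Algebra.TensorProduct.lmul' A (S := B)).toRingHom.Flat
  letI a1 : Algebra (B ⊗[A] B) B := (Algebra.TensorProduct.lmul' A (S := B)).toRingHom.toAlgebra
  letI a2 : Algebra (B ⊗[A] B) R :=
    ((algebraMap B R).comp (Algebra.TensorProduct.lmul' A (S := B)).toRingHom).toAlgebra
  haveI : IsScalarTower (B ⊗[A] B) B R := IsScalarTower.of_algebraMap_eq fun _ => rfl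
  haveI : Module.Flat (B ⊗[A] B) R := hcomp
  exact Groth.Agent.H3.flat_of_flat_of_faithfullyFlat (B ⊗[A] B) B R

end Backward

end Groth.Agent.H47.WEtStrict
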